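import Mathlib
import Cfsg.Agent.Lib.helper84.PrincipalSection
import Cfsg.Agent.Lib.helper79.GaloisChar
import Cfsg.Agent.Lib.helper81.WBO
import Cfsg.Agent.Lib.helper4.CharTheory

/-!
# Principal block and the section of a `p`-element with `p`-nilpotent centralizer (helper4)

* `blockCoeff_principal_of_pNilpotent`: in a group `H` with normal `p`-complement `K`, the
  principal block idempotent is the averaging idempotent of `K`.
* `principal_section_avg`: if `C_G(z)` has a normal `p`-complement `L`, then the characters of the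
  principal block are constant on `z L`, and the others sum to `0` over `z L`.
* `sum_classProd_mul_char`, `sum_classProd_section`: the class algebra constants of `K · K`
  summed over `z L`.
-/

set_option autoImplicit false

namespace Cfsg.Agent.Lib.helper4

open Cfsg Cfsg.Agent.Lib.helper20 Cfsg.Agent.Lib.helper80 Cfsg.Agent.Lib.helper81
  Cfsg.Agent.Lib.helper82 Cfsg.Agent.Lib.helper84
open scoped ComplexConjugate

universe u

section PNilpotent

variable {p : ℕ} [Fact p.Prime] {M : Ideal AlgInt} {H : Type u} [Group H] [Fintype H]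

/-- An element of order prime to `p` lies in the normal `p`-complement. -/
theorem mem_pPrimeCore_of_pRegular {k : ℕ} (hk : (pPrimeCore p H).index = p ^ k) {y : H}
    (hy : ¬ p ∣ orderOf y) : y ∈ pPrimeCore p H := by
  have hp := (Fact.out : p.Prime)
  have hKn : (pPrimeCore p H).Normal := Cfsg.Agent.Lib.helper40.pPrimeCore_normal' p H
  have h1 : y ^ p ^ k ∈ pPrimeCore p H := by
    rw [← hk]
    exact Subgroup.pow_index_mem _ y
  have hcop : Nat.Coprime (p ^ k) (orderOf y) :=
    Nat.Coprime.pow_left k ((Nat.Prime.coprime_iff_not_dvd hp).mpr hy)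
  obtain ⟨m, hm⟩ := exists_pow_eq_self_of_coprime hcop
  rw [← hm]
  exact Subgroup.pow_mem _ h1 m

open Classical in
/-- Characters of the principal block are trivial on the normal `p`-complement. -/
theorem principalBlock_const_on_core (hM : IsPModular p M)
    (hidx : ∃ k : ℕ, (pPrimeCore p H).index = p ^ k) (χ : IrrCharacter H)
    (hχ : χ ∈ principalBlock M H) (n : pPrimeCore p H) :
    (χ : H → ℂ) n = (χ : H → ℂ) 1 := by
  have hKn : (pPrimeCore p H).Normal := Cfsg.Agent.Lib.helper40.pPrimeCore_normal' p H
  have hK0 : (Nat.card (pPrimeCore p H) : ℂ) ≠ 0 := by exact_mod_cast Nat.card_pos.ne'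
  have h1 := (mem_principalBlock_iff_of_pNilpotent hM hidx χ).mp hχ
  obtain ⟨e, he⟩ := classInner_isCharacter_nat
    (Cfsg.Agent.Lib.helper84.isCharacter_restrict (pPrimeCore p H)
      (isCharacter_of_isIrrCharacter χ.2))
    (isCharacter_of_isIrrCharacter (trivChar (pPrimeCore p H)).2)
  have he0 : e ≠ 0 := by
    rintro rfl
    apply h1
    unfold classInner at he
    rw [Nat.cast_zero] at he
    rcases mul_eq_zero.mp he with h | h
    · exact absurd (inv_eq_zero.mp h) hK0
    · rw [← h]
      refine Finset.sum_congr rfl fun n _ => ?_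
      simp
  have hinv : ∀ g : H, cconj (pPrimeCore p H) g
      (trivChar (pPrimeCore p H) : pPrimeCore p H → ℂ) =
      (trivChar (pPrimeCore p H) : pPrimeCore p H → ℂ) := by
    intro g
    funext n
    rw [cconj_apply]
    simp
  have h2 := clifford_invariant (pPrimeCore p H) χ.2 (trivChar (pPrimeCore p H)).2 hinv e he he0
  have h3 := h2 n
  have h4 := h2 1
  simp only [trivChar_apply, mul_one] at h3 h4
  rw [h3]
  exact h4.symm

open Classical in
/-- The principal block idempotent of a group with a normal `p`-complement `K` is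
`|K|⁻¹ ∑_{k ∈ K} k`. -/
theorem blockCoeff_principal_of_pNilpotent (hM : IsPModular p M)
    (hidx : ∃ k : ℕ, (pPrimeCore p H).index = p ^ k) (h : H) :
    blockCoeff (principalBlock M H) h =
      if h ∈ pPrimeCore p H then (Nat.card (pPrimeCore p H) : ℂ)⁻¹ else 0 := by
  have hp := (Fact.out : p.Prime)
  obtain ⟨k, hk⟩ := hidx
  have hKcop := Cfsg.Agent.Lib.helper40.pPrimeCore_card_coprime p H
  have hK0 : (Nat.card (pPrimeCore p H) : ℂ) ≠ 0 := by exact_mod_cast Nat.card_pos.ne'
  by_cases hh : h ∈ pPrimeCore p H
  · rw [if_pos hh, Cfsg.Agent.Lib.helper81.blockCoeff_eq_sum]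
    have h1 := sum_principalBlock_sq_of_pNilpotent hM ⟨k, hk⟩ (1 : H)
      (by rw [orderOf_one]; exact hp.one_lt.ne' ∘ Nat.dvd_one.mp)
    have hreal : ∀ χ : IrrCharacter H, conj ((χ : H → ℂ) 1) = (χ : H → ℂ) 1 := by
      intro χ
      rw [irr_one_eq_charDegree]
      exact Complex.conj_natCast _
    have h2 : ∑ χ : IrrCharacter H, (if χ ∈ principalBlock M H then
        (χ : H → ℂ) 1 * conj ((χ : H → ℂ) h) else 0) =
        ∑ χ : IrrCharacter H, (if χ ∈ principalBlock M H then
          (χ : H → ℂ) 1 * conj ((χ : H → ℂ) 1) else 0) := by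
      refine Finset.sum_congr rfl fun χ _ => ?_
      by_cases hχ : χ ∈ principalBlock M H
      · rw [if_pos hχ, if_pos hχ]
        have := principalBlock_const_on_core hM ⟨k, hk⟩ χ hχ ⟨h, hh⟩
        simp only at this
        rw [this]
      · rw [if_neg hχ, if_neg hχ]
    rw [h2, h1]
    have hcard : Nat.card H = Nat.card (pPrimeCore p H) * p ^ k := by
      rw [← hk, mul_comm]
      exact (Subgroup.index_mul_card _).symm
    have hfac : (Nat.card H).factorization p = k := by
      rw [hcard, Nat.factorization_mul Nat.card_pos.ne' (pow_ne_zero k hp.ne_zero)]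
      simp only [Finsupp.coe_add, Pi.add_apply]
      rw [Nat.factorization_eq_zero_of_not_dvd
        (fun h => (Nat.Prime.coprime_iff_not_dvd hp).mp hKcop.symm h), zero_add,
        hp.factorization_pow]
      simp
    rw [hfac, hcard]
    have hpk : ((p ^ k : ℕ) : ℂ) ≠ 0 := by exact_mod_cast pow_ne_zero k hp.ne_zero
    push_cast at hpk ⊢
    field_simp
  · rw [if_neg hh]
    apply Cfsg.Agent.Lib.helper81.blockCoeff_block_eq_zero_of_singular hM isPBlock_principalBlock
    by_contra hreg
    exact hh (mem_pPrimeCore_of_pRegular hk hreg)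

end PNilpotent

section Section

variable {p : ℕ} [Fact p.Prime] {M : Ideal AlgInt} {G : Type u} [Group G] [Fintype G]

open Classical in
/-- If `C_G(z)` has a normal `p`-complement `L`, then every character of the principal block is
constant on `z L`, and every other irreducible character sums to zero over `z L`. -/
theorem principal_section_avg (hM : IsPModular p M) (z : G) (hz : ∃ k : ℕ, orderOf z = p ^ k)
    (hidx : ∃ k : ℕ, (pPrimeCore p (Subgroup.centralizer ({z} : Set G))).index = p ^ k)
    (ζ : IrrCharacter G) :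
    (ζ ∈ principalBlock M G → ∀ y : pPrimeCore p (Subgroup.centralizer ({z} : Set G)),
      (ζ : G → ℂ) (z * ((y : Subgroup.centralizer ({z} : Set G)) : G)) = (ζ : G → ℂ) z) ∧
    (ζ ∉ principalBlock M G → ∑ y : pPrimeCore p (Subgroup.centralizer ({z} : Set G)),
      (ζ : G → ℂ) (z * ((y : Subgroup.centralizer ({z} : Set G)) : G)) = 0) := by
  have hp := (Fact.out : p.Prime)
  have hK0 : (Nat.card (pPrimeCore p (Subgroup.centralizer ({z} : Set G))) : ℂ) ≠ 0 := by
    exact_mod_cast Nat.card_pos.ne'
  have hKcop := Cfsg.Agent.Lib.helper40.pPrimeCore_card_coprime p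
    (Subgroup.centralizer ({z} : Set G))
  -- the key identity
  have key : ∀ y₀ : pPrimeCore p (Subgroup.centralizer ({z} : Set G)),
      (Nat.card (pPrimeCore p (Subgroup.centralizer ({z} : Set G))) : ℂ)⁻¹ *
        ∑ y : pPrimeCore p (Subgroup.centralizer ({z} : Set G)),
          (ζ : G → ℂ) (z * ((y : Subgroup.centralizer ({z} : Set G)) : G)) =
      if ζ ∈ principalBlock M G then
        (ζ : G → ℂ) (z * ((y₀ : Subgroup.centralizer ({z} : Set G)) : G)) else 0 := by
    intro y₀
    have hy₀ : ¬ p ∣ orderOf (y₀ : Subgroup.centralizer ({z} : Set G)) := by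
      intro hdvd
      have h1 := Subgroup.orderOf_dvd_natCard _ y₀.2
      exact (Nat.Prime.coprime_iff_not_dvd hp).mp hKcop.symm (hdvd.trans h1)
    have h := sum_blockCoeff_principal_section hM z hz
      (y₀ : Subgroup.centralizer ({z} : Set G)) hy₀ ζ
    rw [← h]
    simp_rw [blockCoeff_principal_of_pNilpotent hM hidx, ite_mul, zero_mul]
    rw [← Finset.sum_filter, Finset.mul_sum]
    have hsub : ∀ F : Subgroup.centralizer ({z} : Set G) → ℂ,
        ∑ k ∈ Finset.univ.filter (fun k : Subgroup.centralizer ({z} : Set G) =>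
          k ∈ pPrimeCore p (Subgroup.centralizer ({z} : Set G))), F k =
        ∑ y : pPrimeCore p (Subgroup.centralizer ({z} : Set G)), F y := by
      intro F
      exact Finset.sum_subtype (Finset.univ.filter (fun k : Subgroup.centralizer ({z} : Set G) =>
        k ∈ pPrimeCore p (Subgroup.centralizer ({z} : Set G)))) (fun k => by simp) F
    rw [hsub]
    refine Fintype.sum_equiv (Equiv.mulRight y₀⁻¹) _ _ ?_
    intro y
    simp only [Equiv.coe_mulRight]
    have e : (y : Subgroup.centralizer ({z} : Set G)) =
        ((y * y₀⁻¹ : pPrimeCore p (Subgroup.centralizer ({z} : Set G))) :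
          Subgroup.centralizer ({z} : Set G)) * (y₀ : Subgroup.centralizer ({z} : Set G)) := by
      rw [Subgroup.coe_mul, Subgroup.coe_inv, inv_mul_cancel_right]
    rw [← e]
  constructor
  · intro hζ y
    have h1 := key y
    have h2 := key 1
    rw [if_pos hζ] at h1 h2
    rw [← h1, h2]
    simp
  · intro hζ
    have h1 := key 1
    rw [if_neg hζ] at h1
    rcases mul_eq_zero.mp h1 with h | h
    · exact absurd (inv_eq_zero.mp h) hK0
    · exact h

end Section

section ClassProd

variable {G : Type u} [Group G] [Fintype G]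

open Classical in
/-- The number of ways of writing `g` as a product of two conjugates of `J`. -/
noncomputable def classProd (J g : G) : ℂ :=
  ∑ a : G, if IsConj J a ∧ IsConj J (a⁻¹ * g) then (1 : ℂ) else 0

open Classical in
theorem coeff_classSum_mul (J g : G) :
    (classSum J * classSum J).coeff g = classProd J g := by
  unfold classProd
  rw [MonoidAlgebra.coeff_mul_apply_left, Finsupp.sum_fintype _ _ (fun i => by simp)]
  refine Finset.sum_congr rfl fun a _ => ?_
  rw [coeff_classSum, coeff_classSum]
  by_cases h1 : IsConj J a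
  · by_cases h2 : IsConj J (a⁻¹ * g)
    · rw [if_pos h1, if_pos h2, if_pos ⟨h1, h2⟩, mul_one]
    · rw [if_pos h1, if_neg h2, if_neg (fun h => h2 h.2), mul_zero]
  · rw [if_neg h1, zero_mul, if_neg (fun h => h1 h.1)]

theorem isClassFunction_classProd (J : G) : IsClassFunction G (classProd J) := by
  intro g x
  rw [← coeff_classSum_mul, ← coeff_classSum_mul]
  exact (isCentralElt_iff _).mp ((isCentralElt_classSum J).mul (isCentralElt_classSum J)) g x

/-- `∑_g a_{KKg} χ(g) = χ(1) ω_χ(K)²`. -/
theorem sum_classProd_mul_char (J : G) {χ : G → ℂ} (hχ : IsIrrCharacter G χ) :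
    ∑ g : G, classProd J g * χ g = χ 1 * (centralChar χ J) ^ 2 := by
  have h1 := omega_mul χ hχ (classSum J) (classSum J) (isCentralElt_classSum J)
  rw [omega_classSum χ (isIrrCharacter_conj hχ) J] at h1
  unfold omega at h1
  have h0 : χ 1 ≠ 0 := irr_degree_ne_zero hχ
  rw [div_eq_iff h0] at h1
  simp_rw [coeff_classSum_mul] at h1
  rw [h1]
  ring

open Classical in
/-- The class algebra constants of `K · K` summed over the coset `J L` of the normal
`2`-complement of `C_G(J)`. -/
theorem sum_classProd_section {M : Ideal AlgInt} {p : ℕ} [Fact p.Prime] (hM : IsPModular p M)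
    (J : G) (hJ : ∃ k : ℕ, orderOf J = p ^ k)
    (hidx : ∃ k : ℕ, (pPrimeCore p (Subgroup.centralizer ({J} : Set G))).index = p ^ k) :
    ∑ ρ : pPrimeCore p (Subgroup.centralizer ({J} : Set G)),
      classProd J (J * ((ρ : Subgroup.centralizer ({J} : Set G)) : G)) =
    (Nat.card (pPrimeCore p (Subgroup.centralizer ({J} : Set G))) : ℂ) *
      ∑ χ : IrrCharacter G, (if χ ∈ principalBlock M G then
        (Nat.card G : ℂ)⁻¹ * (conj ((χ : G → ℂ) 1) *
          (centralChar (fun g => conj ((χ : G → ℂ) g)) J) ^ 2) * (χ : G → ℂ) J else 0) := by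
  have hexp := classFunction_eq_sum_irr (isClassFunction_classProd J)
  have hval : ∀ g : G, classProd J g =
      ∑ χ : IrrCharacter G, classInner (classProd J) (χ : G → ℂ) * (χ : G → ℂ) g := by
    intro g
    have := congrFun hexp g
    rw [this]
    simp [Finset.sum_apply]
  have hinner : ∀ χ : IrrCharacter G, classInner (classProd J) (χ : G → ℂ) =
      (Nat.card G : ℂ)⁻¹ * (conj ((χ : G → ℂ) 1) *
        (centralChar (fun g => conj ((χ : G → ℂ) g)) J) ^ 2) := by
    intro χ
    unfold classInner
    rw [sum_classProd_mul_char J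
      (Cfsg.Agent.Lib.helper79.isIrrCharacter_ringHom_comp (starRingEnd ℂ) χ.2)]
  simp_rw [hval]
  rw [Finset.sum_comm, Finset.mul_sum]
  refine Finset.sum_congr rfl fun χ _ => ?_
  rw [← Finset.mul_sum, hinner]
  obtain ⟨h1, h2⟩ := principal_section_avg hM J hJ hidx χ
  by_cases hχ : χ ∈ principalBlock M G
  · rw [if_pos hχ, Finset.sum_congr rfl (fun y _ => h1 hχ y), Finset.sum_const, Finset.card_univ,
      nsmul_eq_mul, ← Nat.card_eq_fintype_card]
    ring
  · rw [if_neg hχ, h2 hχ, mul_zero, mul_zero]

end ClassProd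

end Cfsg.Agent.Lib.helper4
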