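import Mathlib
import Cfsg.Agent.Lib.helper44.SL3Defs

/-!
helper4: S2287 piece C1b (`core1_conj`): conjugating `z₀ = cm (x 1) (y 1)` by `h ^ m * g ^ n`.
-/

set_option autoImplicit false

namespace Cfsg.Agent.Lib.helper44.SL3

open Polynomial

/-- conjugation distributes over the commutator `cm` -/
theorem helper4_conj_cm {G : Type*} [Group G] (t a b : G) :
    t * cm a b * t⁻¹ = cm (t * a * t⁻¹) (t * b * t⁻¹) := by
  unfold cm
  group

/-- iterating a torus action on a root map -/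
theorem helper4_pow_conj {G : Type*} [Group G] {F : Type*} [Field F] (x : F → G) (t : G) (μ : F)
    (ht : ∀ a, t * x a * t⁻¹ = x (μ * a)) (n : ℕ) (a : F) :
    t ^ n * x a * (t ^ n)⁻¹ = x (μ ^ n * a) := by
  induction n generalizing a with
  | zero => simp
  | succ n ih =>
    have h1 : t ^ (n + 1) * x a * (t ^ (n + 1))⁻¹ = t ^ n * (t * x a * t⁻¹) * (t ^ n)⁻¹ := by
      rw [pow_succ]
      group
    rw [h1, ht, ih, pow_succ, mul_assoc]

/-- iterating a trivial torus action on a root map -/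
theorem helper4_pow_conj_fix {G : Type*} [Group G] {F : Type*} (y : F → G) (t : G)
    (ht : ∀ a, t * y a * t⁻¹ = y a) (n : ℕ) (a : F) :
    t ^ n * y a * (t ^ n)⁻¹ = y a := by
  induction n with
  | zero => simp
  | succ n ih =>
    have h1 : t ^ (n + 1) * y a * (t ^ (n + 1))⁻¹ = t ^ n * (t * y a * t⁻¹) * (t ^ n)⁻¹ := by
      rw [pow_succ]
      group
    rw [h1, ht, ih]

/-- the action of `h ^ m * g ^ n` on `x` -/
theorem helper4_hg_x {G : Type*} [Group G] {F : Type*} [Field F] (x y : F → G) (h g d : G)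
    (ω κ : F) (hT : IsTor1 x y h g d ω κ) (m n : ℕ) (a : F) :
    (h ^ m * g ^ n) * x a * (h ^ m * g ^ n)⁻¹ = x (ω ^ m * κ ^ n * a) := by
  have h1 : (h ^ m * g ^ n) * x a * (h ^ m * g ^ n)⁻¹
      = h ^ m * (g ^ n * x a * (g ^ n)⁻¹) * (h ^ m)⁻¹ := by group
  rw [h1, helper4_pow_conj x g κ hT.g_x, helper4_pow_conj x h ω hT.h_x, mul_assoc]

/-- the action of `h ^ m * g ^ n` on `y` -/
theorem helper4_hg_y {G : Type*} [Group G] {F : Type*} [Field F] (x y : F → G) (h g d : G)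
    (ω κ : F) (hT : IsTor1 x y h g d ω κ) (m n : ℕ) (a : F) :
    (h ^ m * g ^ n) * y a * (h ^ m * g ^ n)⁻¹ = y (ω ^ m * a) := by
  have h1 : (h ^ m * g ^ n) * y a * (h ^ m * g ^ n)⁻¹
      = h ^ m * (g ^ n * y a * (g ^ n)⁻¹) * (h ^ m)⁻¹ := by group
  rw [h1, helper4_pow_conj_fix y g hT.g_y, helper4_pow_conj y h ω hT.h_y]

-- C1b
theorem core1_conj {G : Type*} [Group G] {F : Type*} [Field F] (x y : F → G) (h g d : G)
    (ω κ : F) (hT : IsTor1 x y h g d ω κ) (m n : ℕ) :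
    (h ^ m * g ^ n) * cm (x 1) (y 1) * (h ^ m * g ^ n)⁻¹ = cm (x (ω ^ m * κ ^ n)) (y (ω ^ m)) ∧
    Commute d (cm (x (ω ^ m * κ ^ n)) (y (ω ^ m))) := by
  have h1 : (h ^ m * g ^ n) * cm (x 1) (y 1) * (h ^ m * g ^ n)⁻¹
      = cm (x (ω ^ m * κ ^ n)) (y (ω ^ m)) := by
    rw [helper4_conj_cm, helper4_hg_x x y h g d ω κ hT, helper4_hg_y x y h g d ω κ hT, mul_one,
      mul_one]
  refine ⟨h1, ?_⟩
  rw [← h1]
  have hdt : Commute d (h ^ m * g ^ n) :=
    (hT.hd.symm.pow_right m).mul_right (hT.gd.symm.pow_right n)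
  exact (hdt.mul_right hT.z_d).mul_right hdt.inv_right

end Cfsg.Agent.Lib.helper44.SL3
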