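import Mathlib
import Cfsg.Agent.Lib.helper44.SL3Defs
import Cfsg.Agent.Lib.helper4.SL3C1b

/-!
helper4: S2287 piece C1c, core version (`core1_central_core`): the statement of `core1_central`
with the pieces SPAN (`span_mul`) and C1a (`core1_z0`) as hypotheses.
-/

set_option autoImplicit false

namespace Cfsg.Agent.Lib.helper44.SL3

open Polynomial

/-- conjugates of commuting elements commute -/
theorem helper4_commute_conj {G : Type*} [Group G] (t a b : G) (h : Commute a b) :
    Commute (t * a * t⁻¹) (t * b * t⁻¹) := by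
  have h1 : t * a * t⁻¹ * (t * b * t⁻¹) = t * (a * b) * t⁻¹ := by group
  have h2 : t * b * t⁻¹ * (t * a * t⁻¹) = t * (b * a) * t⁻¹ := by group
  show t * a * t⁻¹ * (t * b * t⁻¹) = t * b * t⁻¹ * (t * a * t⁻¹)
  rw [h1, h2, h.eq]

/-- `cm (x a) (y b)` commutes with all `x a'`, `y a'` -/
def helper4_central {G : Type*} [Group G] {F : Type*} (x y : F → G) (a b : F) : Prop :=
  ∀ a', Commute (x a') (cm (x a) (y b)) ∧ Commute (y a') (cm (x a) (y b))

theorem helper4_central_add_left {G : Type*} [Group G] {F : Type*} [Field F] (x y : F → G)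
    (x_add : ∀ a b, x (a + b) = x a * x b) (a a₂ b : F)
    (h1 : helper4_central x y a b) (h2 : helper4_central x y a₂ b) :
    helper4_central x y (a + a₂) b := by
  intro a'
  have e : cm (x (a + a₂)) (y b) = cm (x a₂) (y b) * cm (x a) (y b) := by
    rw [x_add]
    have e1 : cm (x a * x a₂) (y b) = x a * cm (x a₂) (y b) * (x a)⁻¹ * cm (x a) (y b) := by
      unfold cm
      group
    rw [e1, ((h2 a).1).eq, mul_inv_cancel_right]
  rw [e]
  exact ⟨(h2 a').1.mul_right (h1 a').1, (h2 a').2.mul_right (h1 a').2⟩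

theorem helper4_central_add_right {G : Type*} [Group G] {F : Type*} [Field F] (x y : F → G)
    (y_add : ∀ a b, y (a + b) = y a * y b) (a b b₂ : F)
    (h1 : helper4_central x y a b) (h2 : helper4_central x y a b₂) :
    helper4_central x y a (b + b₂) := by
  intro a'
  have e : cm (x a) (y (b + b₂)) = cm (x a) (y b) * cm (x a) (y b₂) := by
    rw [y_add]
    have e1 : cm (x a) (y b * y b₂) = cm (x a) (y b) * (y b * cm (x a) (y b₂) * (y b)⁻¹) := by
      unfold cm
      group
    rw [e1, ((h2 b).2).eq, mul_inv_cancel_right]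
  rw [e]
  exact ⟨(h1 a').1.mul_right (h2 a').1, (h1 a').2.mul_right (h2 a').2⟩

theorem helper4_map_zero {G : Type*} [Group G] {F : Type*} [Field F] (x : F → G)
    (x_add : ∀ a b, x (a + b) = x a * x b) : x 0 = 1 := by
  have h1 := x_add 0 0
  rw [add_zero] at h1
  exact left_eq_mul.1 h1

-- C1c, core version
theorem core1_central_core {G : Type*} [Group G] {F : Type*} [Field F] [Fintype F] {p : ℕ}
    [Fact p.Prime] [Algebra (ZMod p) F] (x y : F → G) (h g d : G) (ω κ : F)
    (hT : IsTor1 x y h g d ω κ) (hκ : Algebra.adjoin (ZMod p) {κ} = ⊤)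
    (hω : Algebra.adjoin (ZMod p) {ω} = ⊤) (hω0 : ω ≠ 0) (hκ0 : κ ≠ 0)
    (hspan : ∀ (μ s : F), Algebra.adjoin (ZMod p) {μ} = ⊤ → ∀ S : Set F, (0 : F) ∈ S →
      (∀ a b, a ∈ S → b ∈ S → a + b ∈ S) → (∀ n : ℕ, s * μ ^ n ∈ S) → ∀ a : F, s * a ∈ S)
    (hz : (∀ a, Commute (x a) (cm (x 1) (y 1))) ∧ (∀ a, Commute (y a) (cm (x 1) (y 1)))) :
    ∀ a b a', Commute (x a') (cm (x a) (y b)) ∧ Commute (y a') (cm (x a) (y b)) := by
  have x0 : x 0 = 1 := helper4_map_zero x hT.x_add
  have y0 : y 0 = 1 := helper4_map_zero y hT.y_add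
  have hbase : ∀ m n : ℕ, helper4_central x y (ω ^ m * κ ^ n) (ω ^ m) := by
    intro m n a'
    obtain ⟨hc, -⟩ := core1_conj x y h g d ω κ hT m n
    rw [← hc]
    constructor
    · have hne : ω ^ m * κ ^ n ≠ 0 := mul_ne_zero (pow_ne_zero _ hω0) (pow_ne_zero _ hκ0)
      have e1 : x a' = (h ^ m * g ^ n) * x ((ω ^ m * κ ^ n)⁻¹ * a') * (h ^ m * g ^ n)⁻¹ := by
        rw [helper4_hg_x x y h g d ω κ hT, ← mul_assoc, mul_inv_cancel₀ hne, one_mul]
      rw [e1]
      exact helper4_commute_conj _ _ _ (hz.1 _)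
    · have hne : ω ^ m ≠ 0 := pow_ne_zero _ hω0
      have e1 : y a' = (h ^ m * g ^ n) * y ((ω ^ m)⁻¹ * a') * (h ^ m * g ^ n)⁻¹ := by
        rw [helper4_hg_y x y h g d ω κ hT, ← mul_assoc, mul_inv_cancel₀ hne, one_mul]
      rw [e1]
      exact helper4_commute_conj _ _ _ (hz.2 _)
  have hP0b : ∀ b, helper4_central x y 0 b := by
    intro b a'
    have e : cm (x 0) (y b) = 1 := by
      unfold cm
      rw [x0]
      group
    rw [e]
    exact ⟨Commute.one_right _, Commute.one_right _⟩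
  have hPa0 : ∀ a, helper4_central x y a 0 := by
    intro a a'
    have e : cm (x a) (y 0) = 1 := by
      unfold cm
      rw [y0]
      group
    rw [e]
    exact ⟨Commute.one_right _, Commute.one_right _⟩
  have hA : ∀ (m : ℕ) (a : F), helper4_central x y a (ω ^ m) := by
    intro m a
    have h5 := hspan κ (ω ^ m) hκ {a | helper4_central x y a (ω ^ m)} (hP0b _)
      (fun a b ha hb => helper4_central_add_left x y hT.x_add a b _ ha hb)
      (fun n => hbase m n) ((ω ^ m)⁻¹ * a)
    rw [← mul_assoc, mul_inv_cancel₀ (pow_ne_zero _ hω0), one_mul] at h5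
    exact h5
  intro a b
  have h6 := hspan ω 1 hω {b | helper4_central x y a b} (hPa0 a)
    (fun b b₂ hb hb₂ => helper4_central_add_right x y hT.y_add a b b₂ hb hb₂)
    (fun n => by rw [one_mul]; exact hA n a) b
  rw [one_mul] at h6
  exact h6

end Cfsg.Agent.Lib.helper44.SL3
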