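import Mathlib
import Cfsg.Agent.Lib.helper44.SL3Defs
import Cfsg.Agent.Lib.helper53.SL3SPAN
import Cfsg.Agent.Lib.helper4.SL3C1cCore

/-!
helper4: S2287 piece C1c (`core1_central`): `cm (x a) (y b)` is central in `⟨x, y⟩`.
Uses SPAN (`span_mul`, helper53) and an own copy of C1a (`helper4_core1_z0`).
-/

set_option autoImplicit false

namespace Cfsg.Agent.Lib.helper44.SL3

open Polynomial

/-- C1a (prefixed copy): `z₀ = cm (x 1) (y 1)` commutes with every `x a`, `y a`. -/
theorem helper4_core1_z0 {G : Type*} [Group G] {F : Type*} [Field F] [Fintype F] {p : ℕ}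
    [Fact p.Prime] [Algebra (ZMod p) F] (x y : F → G) (h g d : G) (ω κ : F)
    (hT : IsTor1 x y h g d ω κ) (hκ : Algebra.adjoin (ZMod p) {κ} = ⊤) :
    (∀ a, Commute (x a) (cm (x 1) (y 1))) ∧ (∀ a, Commute (y a) (cm (x 1) (y 1))) := by
  have x0 : x 0 = 1 := helper4_map_zero x hT.x_add
  have y0 : y 0 = 1 := helper4_map_zero y hT.y_add
  constructor
  · intro a
    have hpow : ∀ n : ℕ, Commute (x (1 * κ ^ n)) (cm (x 1) (y 1)) := by
      intro n
      induction n with
      | zero =>
        rw [pow_zero, mul_one]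
        exact hT.z_x
      | succ n ih =>
        have e1 : x (1 * κ ^ (n + 1)) = d * x (1 * κ ^ n) * d⁻¹ := by
          rw [hT.d_x]
          congr 1
          ring
        have e2 : d * cm (x 1) (y 1) * d⁻¹ = cm (x 1) (y 1) := by
          rw [hT.z_d.eq, mul_inv_cancel_right]
        rw [e1, ← e2]
        exact helper4_commute_conj _ _ _ ih
    have h5 := span_mul κ 1 hκ {a | Commute (x a) (cm (x 1) (y 1))}
      (by
        show Commute (x 0) _
        rw [x0]
        exact Commute.one_left _)
      (fun a b ha hb => by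
        show Commute (x (a + b)) _
        rw [hT.x_add]
        exact Commute.mul_left ha hb) hpow a
    rw [one_mul] at h5
    exact h5
  · intro a
    have hpow : ∀ n : ℕ, Commute (y (1 * κ ^ n)) (cm (x 1) (y 1)) := by
      intro n
      induction n with
      | zero =>
        rw [pow_zero, mul_one]
        exact hT.z_y
      | succ n ih =>
        have e1 : y (1 * κ ^ (n + 1)) = d⁻¹ * y (1 * κ ^ n) * (d⁻¹)⁻¹ := by
          rw [inv_inv, hT.d_y]
          congr 1
          ring
        have e2 : d⁻¹ * cm (x 1) (y 1) * (d⁻¹)⁻¹ = cm (x 1) (y 1) := by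
          rw [hT.z_d.inv_left.eq, mul_inv_cancel_right]
        rw [e1, ← e2]
        exact helper4_commute_conj _ _ _ ih
    have h5 := span_mul κ 1 hκ {a | Commute (y a) (cm (x 1) (y 1))}
      (by
        show Commute (y 0) _
        rw [y0]
        exact Commute.one_left _)
      (fun a b ha hb => by
        show Commute (y (a + b)) _
        rw [hT.y_add]
        exact Commute.mul_left ha hb) hpow a
    rw [one_mul] at h5
    exact h5

-- C1c
theorem core1_central {G : Type*} [Group G] {F : Type*} [Field F] [Fintype F] {p : ℕ}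
    [Fact p.Prime] [Algebra (ZMod p) F] (x y : F → G) (h g d : G) (ω κ : F)
    (hT : IsTor1 x y h g d ω κ) (hκ : Algebra.adjoin (ZMod p) {κ} = ⊤)
    (hω : Algebra.adjoin (ZMod p) {ω} = ⊤) (hω0 : ω ≠ 0) (hκ0 : κ ≠ 0) :
    ∀ a b a', Commute (x a') (cm (x a) (y b)) ∧ Commute (y a') (cm (x a) (y b)) :=
  core1_central_core x y h g d ω κ hT hκ hω hω0 hκ0
    (fun μ s hμ S h0 hadd hpow => span_mul μ s hμ S h0 hadd hpow)
    (helper4_core1_z0 x y h g d ω κ hT hκ)

end Cfsg.Agent.Lib.helper44.SL3
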