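import Mathlib
import Cfsg.Agent.Lib.helper24.SroDefs

/-!
# S5989 piece SIGN (helper4): the spinor sign of an isometry with square `-1`
-/

set_option autoImplicit false
set_option linter.unusedSectionVars false
set_option linter.unusedVariables false

namespace Cfsg.Agent.Lib.helper4.Sro

/-- A permutation `σ` with `σ⁴ = 1` whose square has no fixed point has all cycles of length 4. -/
theorem cycleType_eq_replicate_four {α : Type*} [Fintype α] [DecidableEq α] (σ : Equiv.Perm α)
    (h4 : σ ^ 4 = 1) (hfix : ∀ x, σ (σ x) ≠ x) :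
    σ.cycleType = Multiset.replicate (Multiset.card σ.cycleType) 4 := by
  rw [Multiset.eq_replicate]
  refine ⟨rfl, ?_⟩
  intro n hn
  have hdvd : n ∣ 4 := by
    have h1 := Equiv.Perm.dvd_of_mem_cycleType hn
    exact h1.trans (orderOf_dvd_of_pow_eq_one h4)
  have h2 : 2 ≤ n := Equiv.Perm.two_le_of_mem_cycleType hn
  have hle : n ≤ 4 := Nat.le_of_dvd (by norm_num) hdvd
  have hn24 : n = 2 ∨ n = 4 := by
    interval_cases n
    · left; rfl
    · exfalso; revert hdvd; decide
    · right; rfl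
  rcases hn24 with rfl | rfl
  · exfalso
    obtain ⟨c, τ, hσ, hdisj, hc, hcard⟩ := Equiv.Perm.mem_cycleType_iff.mp hn
    obtain ⟨x, hx⟩ : c.support.Nonempty := by
      rw [← Finset.card_pos, hcard]; norm_num
    have hcx : c x ∈ c.support := Equiv.Perm.apply_mem_support.mpr hx
    have hτ : ∀ y ∈ c.support, τ y = y := by
      intro y hy
      have := hdisj y
      rcases this with h | h
      · exact absurd h (Equiv.Perm.mem_support.mp hy)
      · exact h
    have hswap : c.IsSwap := Equiv.Perm.card_support_eq_two.mp hcard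
    have hc2 : c (c x) = x := by
      obtain ⟨a, b, hab, rfl⟩ := hswap
      exact Equiv.swap_apply_self a b x
    apply hfix x
    rw [hσ, Equiv.Perm.mul_apply, Equiv.Perm.mul_apply, hτ x hx, hτ (c x) hcx, hc2]
  · rfl

/-- A permutation `σ` with `σ⁴ = 1` whose square has no fixed point: `4 ∣ |α|` and
`sign σ = (-1) ^ (|α| / 4)`. -/
theorem sign_of_sq_fpf {α : Type*} [Fintype α] [DecidableEq α] (σ : Equiv.Perm α)
    (h4 : σ ^ 4 = 1) (hfix : ∀ x, σ (σ x) ≠ x) :
    4 ∣ Fintype.card α ∧ Equiv.Perm.sign σ = (-1) ^ (Fintype.card α / 4) := by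
  have hct := cycleType_eq_replicate_four σ h4 hfix
  have hsupp : σ.support = Finset.univ := by
    ext x
    simp only [Equiv.Perm.mem_support, Finset.mem_univ, iff_true]
    intro hx
    apply hfix x
    rw [hx, hx]
  have hsum : σ.cycleType.sum = Fintype.card α := by
    rw [Equiv.Perm.sum_cycleType, hsupp, Finset.card_univ]
  have hsum' : 4 * Multiset.card σ.cycleType = Fintype.card α := by
    rw [← hsum]
    conv_rhs => rw [hct]
    rw [Multiset.sum_replicate, smul_eq_mul, mul_comm]
  refine ⟨⟨_, hsum'.symm⟩, ?_⟩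
  rw [Equiv.Perm.sign_of_cycleType, hsum, ← hsum']
  have hk : 4 * Multiset.card σ.cycleType / 4 = Multiset.card σ.cycleType := by omega
  rw [hk, pow_add, pow_mul]
  norm_num

end Cfsg.Agent.Lib.helper4.Sro

namespace Cfsg.Agent.Lib.helper24

open Module Cfsg.Agent.Lib.helper45 Cfsg.Agent.Lib.helper49

universe u

variable {F : Type u} [Field F] [Fintype F]

/-- An isometry `g` with `g² = -1` acts on the level set `{Q = 1}` with all cycles of length 4:
so `4 ∣ #{Q = 1}` and the spinor sign of `g` is `(-1) ^ (#{Q = 1} / 4)`. -/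
theorem sro_sign_neg {ι : Type} [Fintype ι] [DecidableEq ι] (h2 : (2 : F) ≠ 0)
    (Q : QuadraticForm F (ι → F)) (g : ↥(Cfsg.isometryGroup F ⇑Q))
    (hg : ((g : GL ι F) : Matrix ι ι F) * ((g : GL ι F) : Matrix ι ι F) = -1) :
    4 ∣ Nat.card {v : ι → F // Q v = 1} ∧
      spinorSign (⇑Q) g = (-1) ^ (Nat.card {v : ι → F // Q v = 1} / 4) := by
  classical
  set σ : Equiv.Perm (Level (⇑Q) 1) := permHom (⇑Q) 1 g with hσ
  have hσ2 : ∀ x : Level (⇑Q) 1, (σ (σ x)).1 = -x.1 := by
    intro x
    rw [hσ, permHom_apply, permHom_apply, Matrix.mulVec_mulVec, hg, Matrix.neg_mulVec,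
      Matrix.one_mulVec]
  have hfix : ∀ x : Level (⇑Q) 1, σ (σ x) ≠ x := by
    intro x hx
    have h1 : -x.1 = x.1 := by rw [← hσ2 x, hx]
    have hx0 : x.1 = 0 := by
      have h3 : (2 : F) • x.1 = 0 := by
        rw [two_smul]
        nth_rewrite 1 [← h1]
        exact neg_add_cancel x.1
      rcases smul_eq_zero.mp h3 with h | h
      · exact absurd h h2
      · exact h
    have hQ : Q x.1 = 1 := x.2
    rw [hx0, map_zero] at hQ
    exact zero_ne_one hQ
  have h4 : σ ^ 4 = 1 := by
    ext x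
    apply Subtype.ext
    have e4 : σ ^ 4 = σ * σ * (σ * σ) := by
      rw [show (4 : ℕ) = 2 + 2 from rfl, pow_add, pow_two]
    rw [e4, Equiv.Perm.mul_apply, Equiv.Perm.mul_apply, Equiv.Perm.mul_apply, hσ2, hσ2, neg_neg]
    rfl
  have hmain := Cfsg.Agent.Lib.helper4.Sro.sign_of_sq_fpf σ h4 hfix
  have hcard : Nat.card {v : ι → F // Q v = 1} = Fintype.card (Level (⇑Q) 1) := by
    rw [← Nat.card_eq_fintype_card]
    rfl
  rw [hcard]
  refine ⟨hmain.1, ?_⟩
  have hs : spinorSign (⇑Q) g = Equiv.Perm.sign σ := rfl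
  rw [hs]
  exact hmain.2

end Cfsg.Agent.Lib.helper24
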