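import Mathlib
import Cfsg.Agent.Lib.helper24.SroDefs
import Cfsg.Agent.Lib.helper4.SroSIGN

/-!
# S5989 piece OM, core (helper4): `Ω⁺_{2d}(q)` contains an element of square `-1` iff `d` is even
or `q ≡ 1 (mod 8)` — with the existence piece EX as an explicit hypothesis
-/

set_option autoImplicit false
set_option linter.unusedSectionVars false
set_option linter.unusedVariables false

namespace Cfsg.Agent.Lib.helper4.Sro

/-- powers of odd numbers modulo 8 -/
theorem odd_pow_mod_eight (q d : ℕ) (hq : Odd q) :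
    q ^ d % 8 = 1 ↔ (Even d ∨ q % 8 = 1) := by
  have hq2 : q % 2 = 1 := Nat.odd_iff.mp hq
  have hr : q % 8 = 1 ∨ q % 8 = 3 ∨ q % 8 = 5 ∨ q % 8 = 7 := by omega
  have hsq : q ^ 2 % 8 = 1 := by
    rw [Nat.pow_mod]
    rcases hr with h | h | h | h <;> rw [h]
  rcases Nat.even_or_odd' d with ⟨k, hk | hk⟩
  · have h1 : q ^ d % 8 = 1 := by
      rw [hk, pow_mul, Nat.pow_mod, hsq, one_pow]
      norm_num
    constructor
    · intro _
      exact Or.inl ⟨k, by omega⟩
    · intro _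
      exact h1
  · have h1 : q ^ d % 8 = q % 8 := by
      rw [hk, pow_succ, pow_mul, Nat.mul_mod, Nat.pow_mod (q ^ 2), hsq, one_pow]
      omega
    rw [h1]
    constructor
    · intro h
      exact Or.inr h
    · rintro (⟨j, hj⟩ | h)
      · omega
      · exact h

/-- from `q N = q^d (q^d - 1)`: `8 ∣ N` iff `d` even or `q ≡ 1 (8)` -/
theorem eight_dvd_level (q d N : ℕ) (hq : Odd q) (hN : q * N = q ^ d * (q ^ d - 1)) :
    8 ∣ N ↔ (Even d ∨ q % 8 = 1) := by
  have hcop : Nat.Coprime 8 q := by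
    have : Nat.Coprime 2 q :=
      (Nat.Prime.coprime_iff_not_dvd Nat.prime_two).mpr (fun h => by
        have := Nat.odd_iff.mp hq
        omega)
    exact Nat.Coprime.pow_left 3 this
  have hcop' : Nat.Coprime 8 (q ^ d) := Nat.Coprime.pow_right d hcop
  have hpos : 1 ≤ q ^ d := Nat.one_le_pow _ _ (by
    have := Nat.odd_iff.mp hq
    omega)
  have h1 : 8 ∣ N ↔ 8 ∣ q * N := (Nat.Coprime.dvd_mul_left hcop).symm
  have h2 : 8 ∣ q ^ d * (q ^ d - 1) ↔ 8 ∣ q ^ d - 1 := Nat.Coprime.dvd_mul_left hcop'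
  rw [h1, hN, h2, ← odd_pow_mod_eight q d hq]
  omega

end Cfsg.Agent.Lib.helper4.Sro

namespace Cfsg.Agent.Lib.helper24

open Module Cfsg.Agent.Lib.helper45 Cfsg.Agent.Lib.helper49

universe u

variable {F : Type u} [Field F] [Fintype F]

/-- `2 ≠ 0` in a finite field of odd order -/
theorem sro_two_ne_zero_of_odd (hodd : Odd (Fintype.card F)) : (2 : F) ≠ 0 := by
  intro h
  have hdvd : ringChar F ∣ 2 := by
    apply ringChar.dvd
    exact_mod_cast h
  have hne : ringChar F ≠ 1 := CharP.ringChar_ne_one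
  have h2 : ringChar F = 2 := by
    rcases (Nat.dvd_prime Nat.prime_two).mp hdvd with h1 | h1
    · exact absurd h1 hne
    · exact h1
  have := FiniteField.even_card_of_char_two h2
  have := Nat.odd_iff.mp hodd
  omega

/-- the number of vectors of norm one of the standard hyperbolic form -/
theorem sro_level_plus (d : ℕ) :
    Fintype.card F * Nat.card {v : Fin d ⊕ Fin d → F // plusForm d F v = 1} =
      Fintype.card F ^ d * (Fintype.card F ^ d - 1) := by
  have h := unif_plus_std (F := F) d (1 : F)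
  simp only [one_ne_zero, if_false] at h
  have hpos : 1 ≤ Fintype.card F ^ d := Nat.one_le_pow _ _ Fintype.card_pos
  zify [hpos]
  rw [h]
  ring

/-- PIECE OM, with the existence piece EX as a hypothesis. -/
theorem sro_sq_neg_plus_of (hodd : Odd (Fintype.card F)) (d : ℕ) (hd : 1 ≤ d)
    (hEX : (Even d ∨ Fintype.card F % 4 = 1) →
      ∃ g : ↥(Cfsg.isometryGroup F (Cfsg.quadFormPlus d F)),
        ((g : GL (Fin d ⊕ Fin d) F) : Matrix (Fin d ⊕ Fin d) (Fin d ⊕ Fin d) F) *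
          ((g : GL (Fin d ⊕ Fin d) F) : Matrix (Fin d ⊕ Fin d) (Fin d ⊕ Fin d) F) = -1 ∧
        Matrix.det ((g : GL (Fin d ⊕ Fin d) F) :
          Matrix (Fin d ⊕ Fin d) (Fin d ⊕ Fin d) F) = 1) :
    (∃ x : GL (Fin d ⊕ Fin d) F, x ∈ Cfsg.Geo.omegaGL (Cfsg.quadFormPlus d F) ∧
      (x : Matrix (Fin d ⊕ Fin d) (Fin d ⊕ Fin d) F) *
        (x : Matrix (Fin d ⊕ Fin d) (Fin d ⊕ Fin d) F) = -1) ↔
    (Even d ∨ Fintype.card F % 8 = 1) := by
  classical
  have h2 : (2 : F) ≠ 0 := sro_two_ne_zero_of_odd hodd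
  have hQ : (QuadraticMap.polarBilin (plusForm d F)).Nondegenerate := Cfsg.Agent.Lib.helper42.plusForm_nondegenerate d
  have hlev := sro_level_plus (F := F) d
  have h8 := Cfsg.Agent.Lib.helper4.Sro.eight_dvd_level (Fintype.card F) d _ hodd hlev
  have hsign : ∀ g : ↥(Cfsg.isometryGroup F (Cfsg.quadFormPlus d F)),
      ((g : GL (Fin d ⊕ Fin d) F) : Matrix (Fin d ⊕ Fin d) (Fin d ⊕ Fin d) F) *
        ((g : GL (Fin d ⊕ Fin d) F) : Matrix (Fin d ⊕ Fin d) (Fin d ⊕ Fin d) F) = -1 →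
      (spinorSign (Cfsg.quadFormPlus d F) g = 1 ↔ (Even d ∨ Fintype.card F % 8 = 1)) := by
    intro g hg
    obtain ⟨h4, hs⟩ := sro_sign_neg h2 (plusForm d F) g hg
    have hs' : spinorSign (Cfsg.quadFormPlus d F) g =
        (-1) ^ (Nat.card {v : Fin d ⊕ Fin d → F // plusForm d F v = 1} / 4) := hs
    rw [hs', ← h8]
    have hne : (-1 : ℤˣ) ≠ 1 := by decide
    rw [neg_one_pow_eq_one_iff_even hne]
    obtain ⟨k, hk⟩ := h4
    rw [hk, Nat.mul_div_cancel_left k (by norm_num)]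
    constructor
    · rintro ⟨j, hj⟩
      exact ⟨j, by omega⟩
    · rintro ⟨j, hj⟩
      exact ⟨j, by omega⟩
  have hmem : ∀ g : ↥(Cfsg.isometryGroup F (Cfsg.quadFormPlus d F)),
      g ∈ Cfsg.Omega F (Cfsg.quadFormPlus d F) ↔
        detHom (Cfsg.quadFormPlus d F) g = 1 ∧ spinorSign (Cfsg.quadFormPlus d F) g = 1 :=
    fun g => mem_Omega_iff_det_spinor h2 (plusForm d F) hQ g
  constructor
  · rintro ⟨x, hx, hxx⟩
    obtain ⟨g, hgΩ, rfl⟩ := Subgroup.mem_map.mp hx
    exact (hsign g hxx).mp ((hmem g).mp hgΩ).2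
  · intro h
    have h' : Even d ∨ Fintype.card F % 4 = 1 := by
      rcases h with h | h
      · exact Or.inl h
      · right; omega
    obtain ⟨g, hgg, hdet⟩ := hEX h'
    refine ⟨(g : GL (Fin d ⊕ Fin d) F), ?_, hgg⟩
    refine Subgroup.mem_map.mpr ⟨g, ?_, rfl⟩
    rw [hmem g]
    refine ⟨?_, (hsign g hgg).mpr h⟩
    apply Units.ext
    rw [detHom, MonoidHom.comp_apply, Matrix.GeneralLinearGroup.val_det_apply]
    exact hdet

end Cfsg.Agent.Lib.helper24
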