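import Mathlib
import Cfsg.Agent.Lib.helper24.SroDefs
import Cfsg.Agent.Lib.helper4.SroOMa
import Cfsg.Agent.Lib.helper57.SroEX

/-!
# S5989 piece OM (helper4): `Ω⁺_{2d}(q)` contains an element of square `-1` iff `d` is even or
`q ≡ 1 (mod 8)` — verbatim statement, from the core `sro_sq_neg_plus_of` and helper57's EX
-/

set_option autoImplicit false
set_option linter.unusedSectionVars false
set_option linter.unusedVariables false

namespace Cfsg.Agent.Lib.helper24

open Module Cfsg.Agent.Lib.helper45 Cfsg.Agent.Lib.helper49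

universe u

section plus

variable {F : Type u} [Field F] [Fintype F]

/-- `Ω⁺_{2d}(q)`, `q` odd, contains an element with square `-1` iff `d` is even or
`q ≡ 1 (mod 8)`. -/
theorem sro_sq_neg_plus (hodd : Odd (Fintype.card F)) (d : ℕ) (hd : 1 ≤ d) :
    (∃ x : GL (Fin d ⊕ Fin d) F, x ∈ Cfsg.Geo.omegaGL (Cfsg.quadFormPlus d F) ∧
      (x : Matrix (Fin d ⊕ Fin d) (Fin d ⊕ Fin d) F) *
        (x : Matrix (Fin d ⊕ Fin d) (Fin d ⊕ Fin d) F) = -1) ↔
    (Even d ∨ Fintype.card F % 8 = 1) :=
  sro_sq_neg_plus_of hodd d hd (fun h => sro_sq_neg_plus_exists hodd d h)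

end plus

end Cfsg.Agent.Lib.helper24
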