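import Mathlib
import Cfsg.Agent.Lib.helper24.StsDefs
import Cfsg.Agent.Lib.helper4.SroOM

/-!
helper4: S5973 piece R2NB (`stp_neg_bad`): for `q ≡ 3 (mod 4)` and `d` even, an element of
`Ω⁺_{2d}(q)` with square `-1`; it is not scalar and has no invariant subspace of odd dimension.
-/

set_option autoImplicit false
set_option linter.unusedSectionVars false
set_option linter.unusedVariables false

namespace Cfsg.Agent.Lib.helper24

open Module Cfsg.Agent.Lib.helper45 Cfsg.Agent.Lib.helper49

universe u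

section stpplus

variable {F : Type u} [Field F] [Fintype F]

/-- an endomorphism with square `-1` has no invariant subspace of odd dimension unless `-1` is a
square -/
theorem h4_no_odd_invariant {V : Type*} [AddCommGroup V] [Module F V] [FiniteDimensional F V]
    (T : Module.End F V) (hT : ∀ v, T (T v) = -v) (W : Submodule F V)
    (hW : ∀ w ∈ W, T w ∈ W) (hodd : Odd (finrank F W)) : IsSquare (-1 : F) := by
  let f : Module.End F W := T.restrict hW
  have hff : f * f = (-1 : F) • (1 : Module.End F W) := by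
    ext w
    simp only [Module.End.mul_apply, LinearMap.smul_apply, Module.End.one_apply, neg_smul,
      one_smul, Submodule.coe_neg]
    show T (T (w : V)) = -(w : V)
    exact hT w
  have hdet : LinearMap.det f * LinearMap.det f = -1 := by
    rw [← map_mul, hff, LinearMap.det_smul, map_one, mul_one, hodd.neg_one_pow]
  exact ⟨LinearMap.det f, hdet.symm⟩

/-- `q ≡ 3 (mod 4)`, `d` even: an element `x` of `Ω⁺_{2d}(q)` with `x² = -1`
(`Cfsg.Agent.Lib.helper24.sro_sq_neg_plus`, module `Cfsg.Agent.Lib.helper4.SroOM`); it is not a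
scalar and has no invariant subspace of odd dimension (`det (x|W)² = (-1)^(dim W)`). -/
theorem stp_neg_bad (hodd : Odd (Fintype.card F)) (h4 : Fintype.card F % 4 = 3) (d : ℕ)
    (hd : 4 ≤ d) (hde : Even d) :
    ∃ x : GL (Fin d ⊕ Fin d) F, x ∈ Cfsg.Geo.omegaGL (Cfsg.quadFormPlus d F) ∧
      (x : Matrix (Fin d ⊕ Fin d) (Fin d ⊕ Fin d) F) *
        (x : Matrix (Fin d ⊕ Fin d) (Fin d ⊕ Fin d) F) = -1 ∧
      (∀ z : F, (x : Matrix (Fin d ⊕ Fin d) (Fin d ⊕ Fin d) F) ≠
        z • (1 : Matrix (Fin d ⊕ Fin d) (Fin d ⊕ Fin d) F)) ∧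
      ∀ W : Submodule F (Fin d ⊕ Fin d → F), Odd (finrank F W) →
        W.map (Matrix.toLin' (x : Matrix (Fin d ⊕ Fin d) (Fin d ⊕ Fin d) F)) ≤ W → False := by
  classical
  have hns : ¬ IsSquare (-1 : F) := by
    rw [FiniteField.isSquare_neg_one_iff]
    omega
  obtain ⟨x, hxΩ, hx2⟩ := (sro_sq_neg_plus hodd d (by omega)).2 (Or.inl hde)
  refine ⟨x, hxΩ, hx2, ?_, ?_⟩
  · intro z hz
    rw [hz] at hx2
    apply hns
    refine ⟨z, ?_⟩
    have h1 := congrFun (congrFun hx2 (Sum.inl ⟨0, by omega⟩)) (Sum.inl ⟨0, by omega⟩)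
    simp only [Matrix.mul_smul, Matrix.smul_apply,
      Matrix.one_apply_eq, smul_eq_mul, mul_one, Matrix.neg_apply] at h1
    exact h1.symm
  · intro W hWodd hW
    apply hns
    refine h4_no_odd_invariant (Matrix.toLin' (x : Matrix (Fin d ⊕ Fin d) (Fin d ⊕ Fin d) F)) ?_ W
      (fun w hw => hW (Submodule.mem_map_of_mem hw)) hWodd
    intro v
    rw [Matrix.toLin'_apply, Matrix.toLin'_apply, Matrix.mulVec_mulVec, hx2, Matrix.neg_mulVec,
      Matrix.one_mulVec]

end stpplus

end Cfsg.Agent.Lib.helper24
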