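import Cfsg.Agent.Lib.helper95.APDefs
import Cfsg.Agent.S0547

/-!
helper4: S2276 piece NS (`ns`): a solvable primitive permutation group has prime power degree and the
number of fixed points of each element is `0` or divides the degree (regular minimal normal subgroup,
landed S0547).
-/

set_option autoImplicit false
set_option linter.style.haveILetI false

namespace Cfsg.Agent.Lib.helper95.AP

open Equiv

/-- a finite nontrivial group has a minimal normal subgroup -/
theorem helper4_exists_min_normal {G : Type*} [Group G] [Finite G] [Nontrivial G] :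
    ∃ M : Subgroup G, M.Normal ∧ M ≠ ⊥ ∧
      ∀ K : Subgroup G, K.Normal → K ≤ M → K = ⊥ ∨ K = M := by
  classical
  have hex : ∃ n : ℕ, ∃ M : Subgroup G, M.Normal ∧ M ≠ ⊥ ∧ Nat.card M = n :=
    ⟨Nat.card (⊤ : Subgroup G), ⊤, inferInstance, top_ne_bot, rfl⟩
  obtain ⟨M, hMn, hM0, hMc⟩ := Nat.find_spec hex
  refine ⟨M, hMn, hM0, ?_⟩
  intro K hKn hKM
  by_contra hcon
  push Not at hcon
  obtain ⟨hK0, hKne⟩ := hcon
  have hlt : Nat.card K < Nat.card M := by
    by_contra hnot
    exact hKne (Subgroup.eq_of_le_of_card_ge hKM (not_lt.1 hnot))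
  rw [hMc] at hlt
  exact Nat.find_min hex hlt ⟨K, hKn, hK0, rfl⟩

/-- [NS] a solvable primitive permutation group has prime power degree and every element has
no fixed point or a number of fixed points dividing the degree (uses landed Cfsg.Agent.S0547) -/
theorem ns {m : ℕ} (hm : 2 ≤ m) (H : Subgroup (Perm (Fin m)))
    (hprim : MulAction.IsPreprimitive ↥H (Fin m)) (hsol : Group.IsSolvable ↥H) :
    (∃ r d : ℕ, r.Prime ∧ m = r ^ d) ∧
      ∀ g ∈ H, (Finset.univ.filter (fun z : Fin m => g z = z)).card = 0 ∨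
        (Finset.univ.filter (fun z : Fin m => g z = z)).card ∣ m := by
  classical
  haveI : Nonempty (Fin m) := ⟨⟨0, by omega⟩⟩
  haveI := hsol
  haveI : MulAction.IsPretransitive ↥H (Fin m) := hprim.toIsPretransitive
  haveI hnt : Nontrivial ↥H := by
    obtain ⟨h, hh⟩ := MulAction.exists_smul_eq ↥H (⟨0, by omega⟩ : Fin m) ⟨1, by omega⟩
    refine ⟨⟨h, 1, ?_⟩⟩
    intro h1
    rw [h1, one_smul] at hh
    exact absurd (congrArg Fin.val hh) (by simp)
  obtain ⟨M, hMn, hM0, hmin⟩ := helper4_exists_min_normal (G := ↥H)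
  haveI := hMn
  obtain ⟨htr, hstab, r, d, hr, hd, hcΩ, hcM⟩ := Cfsg.Agent.S0547.result hprim M hM0 hmin
  have hmr : m = r ^ d := by
    rw [← hcΩ, Nat.card_eq_fintype_card, Fintype.card_fin]
  refine ⟨⟨r, d, hr, hmr⟩, ?_⟩
  intro g hg
  by_cases hF : (Finset.univ.filter (fun z : Fin m => g z = z)).card = 0
  · left
    exact hF
  · right
    obtain ⟨ω, hω⟩ : ∃ ω : Fin m, g ω = ω := by
      have hne : (Finset.univ.filter (fun z : Fin m => g z = z)).Nonempty :=
        Finset.card_pos.1 (Nat.pos_of_ne_zero hF)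
      obtain ⟨ω, hω⟩ := hne
      exact ⟨ω, (Finset.mem_filter.1 hω).2⟩
    -- regularity of `M`
    have hreg : ∀ a b : ↥H, a ∈ M → b ∈ M → a • ω = b • ω → a = b := by
      intro a b ha hb hab
      have hw : (⟨a⁻¹ * b, M.mul_mem (M.inv_mem ha) hb⟩ : ↥M) ∈ MulAction.stabilizer ↥M ω := by
        rw [MulAction.mem_stabilizer_iff]
        show (a⁻¹ * b) • ω = ω
        rw [mul_smul, ← hab, inv_smul_smul]
      rw [hstab ω, Subgroup.mem_bot] at hw
      have h2 : a⁻¹ * b = 1 := congrArg Subtype.val hw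
      exact inv_mul_eq_one.1 h2
    have hgω : (⟨g, hg⟩ : ↥H) • ω = ω := hω
    -- the centraliser of `g` in `M`
    obtain ⟨C, hCdef⟩ : ∃ C : Subgroup ↥H,
        C = M ⊓ Subgroup.centralizer {(⟨g, hg⟩ : ↥H)} := ⟨_, rfl⟩
    have hCM : C ≤ M := by
      rw [hCdef]
      exact inf_le_left
    have hCc : ∀ z ∈ C, (⟨g, hg⟩ : ↥H) * z = z * ⟨g, hg⟩ := by
      intro z hz
      rw [hCdef] at hz
      have h2 := (Subgroup.mem_inf.1 hz).2
      rw [Subgroup.mem_centralizer_iff] at h2
      exact h2 _ (Set.mem_singleton _)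
    have hcard : (Finset.univ.filter (fun z : Fin m => g z = z)).card = Nat.card C := by
      rw [← Fintype.card_subtype, ← Nat.card_eq_fintype_card]
      symm
      refine Nat.card_congr (Equiv.ofBijective
        (fun z : C => (⟨(z : ↥H) • ω, ?_⟩ : {x : Fin m // g x = x})) ⟨?_, ?_⟩)
      · show (⟨g, hg⟩ : ↥H) • ((z : ↥H) • ω) = (z : ↥H) • ω
        rw [← mul_smul, hCc z z.2, mul_smul, hgω]
      · intro z z' hzz
        have h2 : (z : ↥H) • ω = (z' : ↥H) • ω := congrArg Subtype.val hzz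
        exact Subtype.ext (hreg _ _ (hCM z.2) (hCM z'.2) h2)
      · rintro ⟨x, hx⟩
        obtain ⟨w, hw⟩ := MulAction.exists_smul_eq ↥M ω x
        have hw' : (w : ↥H) • ω = x := hw
        have hgx : (⟨g, hg⟩ : ↥H) • x = x := hx
        have hconj : (⟨g, hg⟩ : ↥H) * (w : ↥H) * (⟨g, hg⟩ : ↥H)⁻¹ = (w : ↥H) := by
          apply hreg _ _ (hMn.conj_mem _ w.2 _) w.2
          have hginv : (⟨g, hg⟩ : ↥H)⁻¹ • ω = ω := by
            rw [inv_smul_eq_iff, hgω]
          rw [mul_smul, mul_smul, hginv, hw', hgx]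
        have hwC : (w : ↥H) ∈ C := by
          rw [hCdef]
          refine Subgroup.mem_inf.2 ⟨w.2, ?_⟩
          rw [Subgroup.mem_centralizer_iff]
          intro h hh
          rw [Set.mem_singleton_iff] at hh
          subst hh
          exact mul_inv_eq_iff_eq_mul.1 hconj
        exact ⟨⟨(w : ↥H), hwC⟩, Subtype.ext hw'⟩
    rw [hcard]
    have h5 : Nat.card C ∣ Nat.card M := Subgroup.card_dvd_of_le hCM
    rw [hcM, ← hmr] at h5
    exact h5

end Cfsg.Agent.Lib.helper95.AP
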