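import Cfsg.Agent.Lib.helper95.APDefs

/-!
helper4: S2276 piece PORD (`pord`): an element of `p`-power order moves a multiple of `p` points.
-/

set_option autoImplicit false

namespace Cfsg.Agent.Lib.helper95.AP

open Equiv

/-- [PORD] an element of `p`-power order moves a multiple of `p` points -/
theorem pord (p : ℕ) (hp : p.Prime) {α : Type*} [Fintype α] [DecidableEq α] (g : Perm α)
    (h : ∃ k : ℕ, orderOf g = p ^ k) : p ∣ g.support.card := by
  obtain ⟨k, hk⟩ := h
  rw [← Equiv.Perm.sum_cycleType]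
  apply Multiset.dvd_sum
  intro n hn
  have h1 : n ∣ p ^ k := by
    rw [← hk]
    exact Equiv.Perm.dvd_of_mem_cycleType hn
  obtain ⟨j, hj, rfl⟩ := (Nat.dvd_prime_pow hp).1 h1
  have h2 := Equiv.Perm.two_le_of_mem_cycleType hn
  rcases j with _ | j
  · simp at h2
  · exact dvd_pow_self p (Nat.succ_ne_zero j)

end Cfsg.Agent.Lib.helper95.AP
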