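import Mathlib
import Cfsg.Agent.Lib.helper42.AICDefs

/-!
helper4: small general lemmas for the S2202 pieces (B4, C3, Z1).
-/

set_option autoImplicit false

open Cfsg.Agent.Lib.helper42.AIC

namespace Cfsg.Agent.Lib.helper4.AIC

variable {G : Type*} [Group G]

theorem h4_mem_np_iff (P : Sylow 2 G) (g : G) : g ∈ NP P ↔ g • P = P :=
  Sylow.smul_eq_iff_mem_normalizer.symm

theorem h4_mem_smul_iff (P : Sylow 2 G) (g x : G) :
    x ∈ ((g • P : Sylow 2 G) : Subgroup G) ↔ g⁻¹ * x * g ∈ (P : Subgroup G) := by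
  rw [Sylow.coe_subgroup_smul, Subgroup.mem_pointwise_smul_iff_inv_smul_mem]
  simp [MulAut.smul_def]

theorem h4_conj_mem_smul (P : Sylow 2 G) (g : G) {x : G} (hx : x ∈ (P : Subgroup G)) :
    g * x * g⁻¹ ∈ ((g • P : Sylow 2 G) : Subgroup G) := by
  rw [h4_mem_smul_iff]
  have : g⁻¹ * (g * x * g⁻¹) * g = x := by group
  rw [this]; exact hx

theorem h4_conj_mem_cp (P : Sylow 2 G) (g : G) {x : G} (hx : x ∈ CP P) :
    g * x * g⁻¹ ∈ CP (g • P) := by
  rw [Subgroup.mem_centralizer_iff] at hx ⊢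
  intro s hs
  have hs' : g⁻¹ * s * g ∈ (P : Subgroup G) := (h4_mem_smul_iff P g s).1 hs
  have h1 := hx _ hs'
  calc s * (g * x * g⁻¹) = g * ((g⁻¹ * s * g) * x) * g⁻¹ := by group
    _ = g * (x * (g⁻¹ * s * g)) * g⁻¹ := by rw [h1]
    _ = g * x * g⁻¹ * s := by group

theorem h4_cp_le_np (P : Sylow 2 G) {x : G} (hx : x ∈ CP P) : x ∈ NP P :=
  Subgroup.centralizer_le_normalizer _ hx

theorem h4_le_np (P : Sylow 2 G) {x : G} (hx : x ∈ (P : Subgroup G)) : x ∈ NP P :=
  Subgroup.le_normalizer hx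

theorem h4_inv_eq_self {w : G} (hw : orderOf w = 2) : w⁻¹ = w := by
  have h1 : w ^ 2 = 1 := by rw [← hw]; exact pow_orderOf_eq_one w
  rw [inv_eq_iff_mul_eq_one, ← pow_two]; exact h1

theorem h4_mul_self {w : G} (hw : orderOf w = 2) : w * w = 1 := by
  have h1 : w ^ 2 = 1 := by rw [← hw]; exact pow_orderOf_eq_one w
  rw [← pow_two]; exact h1

theorem h4_smul_back {P Q : Sylow 2 G} {w : G} (hw : orderOf w = 2) (h : w • P = Q) : w • Q = P := by
  rw [← h, ← mul_smul, h4_mul_self hw, one_smul]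

/-- an element of even order has a power of order two -/
theorem h4_exists_pow_inv [Finite G] {y : G} (hy : ¬ Odd (orderOf y)) :
    ∃ n : ℕ, orderOf (y ^ n) = 2 := by
  have h0 : orderOf y ≠ 0 := (orderOf_pos y).ne'
  have h2 : 2 ∣ orderOf y := by
    rcases Nat.even_or_odd (orderOf y) with h | h
    · exact even_iff_two_dvd.1 h
    · exact absurd h hy
  exact ⟨orderOf y / 2, orderOf_pow_orderOf_div h0 h2⟩

theorem h4_eq_one_of_odd_of_sq {d : G} (hodd : Odd (orderOf d)) (h : d * d = 1) : d = 1 := by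
  have h1 : orderOf d ∣ 2 := orderOf_dvd_of_pow_eq_one (by rw [pow_two]; exact h)
  have h2 : orderOf d = 1 ∨ orderOf d = 2 := by
    have := Nat.le_of_dvd (by norm_num) h1
    have hpos : 0 < orderOf d := Nat.pos_of_dvd_of_pos h1 (by norm_num)
    interval_cases h3 : orderOf d
    · exact Or.inl rfl
    · exact Or.inr rfl
  rcases h2 with h2 | h2
  · exact orderOf_eq_one_iff.1 h2
  · rw [h2] at hodd; exact absurd hodd (by decide)

/-- an element of a Sylow 2-subgroup is a 2-element -/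
theorem h4_pow_two_pow (P : Sylow 2 G) {x : G} (hx : x ∈ (P : Subgroup G)) :
    ∃ k : ℕ, x ^ (2 ^ k) = 1 := by
  obtain ⟨k, hk⟩ := P.isPGroup' ⟨x, hx⟩
  exact ⟨k, by simpa [Subtype.ext_iff] using hk⟩

end Cfsg.Agent.Lib.helper4.AIC
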