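import Mathlib
import Cfsg.Agent.Lib.helper42.AICDefs
import Cfsg.Agent.Lib.helper4.AIC_Aux

/-!
helper4: core of S2202 piece B4 (`D_fpf`), with the earlier pieces as hypotheses.
-/

set_option autoImplicit false

open Cfsg.Agent.Lib.helper42.AIC

namespace Cfsg.Agent.Lib.helper4.AIC

/-- every element commuting with a non-identity `d ∈ N(P) ∩ N(Q)` has odd order -/
theorem h4_odd_of_comm_D {G : Type*} [Group G] [Finite G]
    (hA10 : ∀ {t : G}, orderOf t = 2 →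
      ∃ R : Sylow 2 G, t ∈ (R : Subgroup G) ∧ Subgroup.centralizer ({t} : Set G) = CP R)
    (hB2 : ∀ (P Q : Sylow 2 G), P ≠ Q → ∀ {x : G}, x ∈ CP P → x ∈ NP Q → x = 1)
    (P Q : Sylow 2 G) (hPQ : P ≠ Q) {d : G} (hd : d ∈ NP P ⊓ NP Q) (hd1 : d ≠ 1)
    {y : G} (hyd : y * d = d * y) : Odd (orderOf y) := by
  by_contra hodd
  obtain ⟨n, hn⟩ := h4_exists_pow_inv hodd
  obtain ⟨R, hjR, hCR⟩ := hA10 hn
  have hdC : d ∈ Subgroup.centralizer ({y ^ n} : Set G) := by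
    rw [Subgroup.mem_centralizer_singleton_iff]
    have : Commute (y ^ n) d := (show Commute y d from hyd).pow_left n
    exact this.eq.symm
  rw [hCR] at hdC
  by_cases hRP : R = P
  · subst hRP
    exact hd1 (hB2 R Q hPQ hdC hd.2)
  · exact hd1 (hB2 R P hRP hdC hd.1)

theorem D_fpf_of {G : Type*} [Group G] [Finite G]
    (hA3 : ∀ (P Q : Sylow 2 G) {x : G}, x ∈ (P : Subgroup G) → x ∈ (Q : Subgroup G) → x ≠ 1 →
      P = Q)
    (hA4 : ∀ (P : Sylow 2 G) {x : G}, x ∈ NP P → ∀ k : ℕ, x ^ (2 ^ k) = 1 →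
      x ∈ (P : Subgroup G))
    (hA10 : ∀ {t : G}, orderOf t = 2 →
      ∃ R : Sylow 2 G, t ∈ (R : Subgroup G) ∧ Subgroup.centralizer ({t} : Set G) = CP R)
    (hO2 : ∀ (D : Subgroup G) (w : G), w * w = 1 → (∀ d ∈ D, w * d * w⁻¹ ∈ D) →
      (∀ d ∈ D, w * d = d * w → d = 1) → ∀ d ∈ D, w * d * w⁻¹ = d⁻¹)
    (hB1 : ∀ (P : Sylow 2 G) {x : G}, Odd (orderOf x) → x ∈ CP P → x ≠ 1 →
      ∀ {h : G}, h * x = x * h → h ∈ NP P)
    (hB2 : ∀ (P Q : Sylow 2 G), P ≠ Q → ∀ {x : G}, x ∈ CP P → x ∈ NP Q → x = 1)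
    (hB3b : ∀ (P Q : Sylow 2 G), P ≠ Q → ∀ {w : G}, orderOf w = 2 → w • P = Q →
      ∀ d ∈ NP P ⊓ NP Q, w * d * w⁻¹ = d⁻¹)
    (hsw : ∀ (P Q : Sylow 2 G), P ≠ Q → ∃ w : G, orderOf w = 2 ∧ w • P = Q)
    (hK : KTI G) (P Q : Sylow 2 G) (hPQ : P ≠ Q) {d : G} (hd : d ∈ NP P ⊓ NP Q) (hd1 : d ≠ 1)
    {c : G} (hc : c ∈ CP P) (hcd : c * d = d * c) : c = 1 := by
  obtain ⟨w, hw, hwP⟩ := hsw P Q hPQ
  have hww : w * w = 1 := h4_mul_self hw
  have hwi : w⁻¹ = w := h4_inv_eq_self hw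
  have hwQ : w • Q = P := h4_smul_back hw hwP
  have hwd : w * d * w⁻¹ = d⁻¹ := hB3b P Q hPQ hw hwP d hd
  have hodd : ∀ {y : G}, y * d = d * y → Odd (orderOf y) :=
    fun {y} hy => h4_odd_of_comm_D hA10 hB2 P Q hPQ hd hd1 hy
  -- `d = w * d⁻¹ * w⁻¹`
  have hd' : d = w * d⁻¹ * w⁻¹ := by
    have h1 : (w * d * w⁻¹)⁻¹ = w * d⁻¹ * w⁻¹ := by group
    rw [← h1, hwd, inv_inv]
  -- w normalizes Y = C(d)
  have hnorm : ∀ y ∈ Subgroup.centralizer ({d} : Set G),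
      w * y * w⁻¹ ∈ Subgroup.centralizer ({d} : Set G) := by
    intro y hy
    rw [Subgroup.mem_centralizer_singleton_iff] at hy ⊢
    have hy' : y * d⁻¹ = d⁻¹ * y := by
      have : Commute y d := hy
      exact this.inv_right.eq
    calc w * y * w⁻¹ * d = w * y * w⁻¹ * (w * d⁻¹ * w⁻¹) := by rw [← hd']
      _ = w * (y * d⁻¹) * w⁻¹ := by group
      _ = w * (d⁻¹ * y) * w⁻¹ := by rw [hy']
      _ = (w * d⁻¹ * w⁻¹) * (w * y * w⁻¹) := by group
      _ = d * (w * y * w⁻¹) := by rw [← hd']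
  -- w is fixed-point-free on Y
  have hfpf : ∀ y ∈ Subgroup.centralizer ({d} : Set G), w * y = y * w → y = 1 := by
    intro y hy hwy
    rw [Subgroup.mem_centralizer_singleton_iff] at hy
    by_contra hy1
    have hyodd : Odd (orderOf y) := hodd hy
    obtain ⟨R, hwR, hCR⟩ := hA10 hw
    have hyR : y ∈ CP R := by
      rw [← hCR, Subgroup.mem_centralizer_singleton_iff]; exact hwy.symm
    have hdR : d ∈ NP R := hB1 R hyodd hyR hy1 hy.symm
    have hRP : R ≠ P := by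
      intro h
      subst h
      have : w • R = R := (h4_mem_np_iff R w).1 (h4_le_np R hwR)
      exact hPQ (this.symm.trans hwP)
    have hv1 : d * w * d⁻¹ ∈ (R : Subgroup G) :=
      ((Subgroup.mem_normalizer_iff (H := (R : Subgroup G))).1 hdR w).1 hwR
    have hv : w * (d * w * d⁻¹) ∈ (R : Subgroup G) := mul_mem hwR hv1
    have hvP : w * (d * w * d⁻¹) ∈ NP P := by
      rw [h4_mem_np_iff, mul_smul, mul_smul, mul_smul]
      have h1 : d⁻¹ • P = P := (h4_mem_np_iff P d⁻¹).1 (inv_mem hd.1)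
      have h2 : d • Q = Q := (h4_mem_np_iff Q d).1 hd.2
      rw [h1, hwP, h2, hwQ]
    obtain ⟨k, hk⟩ := h4_pow_two_pow R hv
    have hvP' : w * (d * w * d⁻¹) ∈ (P : Subgroup G) := hA4 P hvP k hk
    have hv1' : w * (d * w * d⁻¹) = 1 := by
      by_contra hne
      exact hRP (hA3 R P hv hvP' hne)
    -- so d commutes with w
    have h1 : d * w * d⁻¹ = w := by
      have := eq_inv_of_mul_eq_one_right hv1'
      rw [this, hwi]
    have h2 : d * w = w * d := mul_inv_eq_iff_eq_mul.1 h1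
    have hdw : w * d * w⁻¹ = d := by rw [← h2]; group
    have hdd : d * d = 1 := by
      have : d⁻¹ = d := by rw [← hwd, hdw]
      calc d * d = d⁻¹ * d := by rw [this]
        _ = 1 := inv_mul_cancel d
    exact hd1 (h4_eq_one_of_odd_of_sq (hodd rfl) hdd)
  have hinv := hO2 (Subgroup.centralizer ({d} : Set G)) w hww hnorm hfpf
  have hcY : c ∈ Subgroup.centralizer ({d} : Set G) := by
    rw [Subgroup.mem_centralizer_singleton_iff]; exact hcd
  have hc1 : w * c * w⁻¹ = c⁻¹ := hinv c hcY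
  have hcQ : c⁻¹ ∈ CP Q := by
    rw [← hc1, ← hwP]; exact h4_conj_mem_cp P w hc
  have hcQ' : c ∈ CP Q := by simpa using inv_mem hcQ
  exact hK P Q hPQ c (hodd hcd) hc hcQ'

end Cfsg.Agent.Lib.helper4.AIC
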