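import Mathlib
import Cfsg.Agent.Lib.helper42.AICDefs
import Cfsg.Agent.Lib.helper4.AIC_Aux

/-!
helper4: core of S2202 piece C3 (`cent_D_le`), with the earlier pieces as hypotheses.
-/

set_option autoImplicit false

open Cfsg.Agent.Lib.helper42.AIC

namespace Cfsg.Agent.Lib.helper4.AIC

/-- elements of `N(P) ∩ N(Q)`, `P ≠ Q`, have odd order -/
theorem h4_odd_of_mem_D {G : Type*} [Group G] [Finite G]
    (hA3 : ∀ (P Q : Sylow 2 G) {x : G}, x ∈ (P : Subgroup G) → x ∈ (Q : Subgroup G) → x ≠ 1 →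
      P = Q)
    (hA4 : ∀ (P : Sylow 2 G) {x : G}, x ∈ NP P → ∀ k : ℕ, x ^ (2 ^ k) = 1 →
      x ∈ (P : Subgroup G))
    (P Q : Sylow 2 G) (hPQ : P ≠ Q) {d : G} (hd : d ∈ NP P ⊓ NP Q) : Odd (orderOf d) := by
  by_contra hodd
  obtain ⟨n, hn⟩ := h4_exists_pow_inv hodd
  have ht : d ^ n ∈ NP P ⊓ NP Q := pow_mem hd n
  have h2 : (d ^ n) ^ (2 ^ 1) = 1 := by
    rw [pow_one, ← hn]; exact pow_orderOf_eq_one _
  have h1 : d ^ n ≠ 1 := by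
    intro h
    rw [h, orderOf_one] at hn
    exact absurd hn (by norm_num)
  exact hPQ (hA3 P Q (hA4 P ht.1 1 h2) (hA4 Q ht.2 1 h2) h1)

/-- `N(P) ∩ N(Q)` is commutative as soon as an involution inverts it -/
theorem h4_D_comm {G : Type*} [Group G]
    (D : Subgroup G) (w : G) (hinv : ∀ d ∈ D, w * d * w⁻¹ = d⁻¹) :
    ∀ d ∈ D, ∀ e ∈ D, d * e = e * d := by
  intro d hd e he
  have h1 : w * (e * d) * w⁻¹ = (e * d)⁻¹ := hinv _ (mul_mem he hd)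
  have h2 : w * (e * d) * w⁻¹ = (w * e * w⁻¹) * (w * d * w⁻¹) := by group
  rw [h2, hinv d hd, hinv e he] at h1
  have h3 : (e⁻¹ * d⁻¹)⁻¹ = ((e * d)⁻¹)⁻¹ := by rw [h1]
  rw [inv_inv, mul_inv_rev, inv_inv, inv_inv] at h3
  exact h3

theorem cent_D_le_of {G : Type*} [Group G] [Finite G]
    (hA3 : ∀ (P Q : Sylow 2 G) {x : G}, x ∈ (P : Subgroup G) → x ∈ (Q : Subgroup G) → x ≠ 1 →
      P = Q)
    (hA4 : ∀ (P : Sylow 2 G) {x : G}, x ∈ NP P → ∀ k : ℕ, x ^ (2 ^ k) = 1 →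
      x ∈ (P : Subgroup G))
    (hB2 : ∀ (P Q : Sylow 2 G), P ≠ Q → ∀ {x : G}, x ∈ CP P → x ∈ NP Q → x = 1)
    (hB3b : ∀ (P Q : Sylow 2 G), P ≠ Q → ∀ {w : G}, orderOf w = 2 → w • P = Q →
      ∀ d ∈ NP P ⊓ NP Q, w * d * w⁻¹ = d⁻¹)
    (hB4 : ∀ (P Q : Sylow 2 G), P ≠ Q → ∀ {d : G}, d ∈ NP P ⊓ NP Q → d ≠ 1 →
      ∀ {c : G}, c ∈ CP P → c * d = d * c → c = 1)
    (hC1 : ∀ (P Q : Sylow 2 G), P ≠ Q → ∀ {h : G}, h ∈ NP P →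
      ∃ d ∈ NP P ⊓ NP Q, ∃ c ∈ CP P, h = d * c)
    (hsw : ∀ (P Q : Sylow 2 G), P ≠ Q → ∃ w : G, orderOf w = 2 ∧ w • P = Q)
    (hDne : ∀ (P Q : Sylow 2 G), P ≠ Q → ∃ d ∈ NP P ⊓ NP Q, d ≠ 1)
    (P Q : Sylow 2 G) (hPQ : P ≠ Q) {y : G}
    (hy : ∀ d ∈ NP P ⊓ NP Q, y * d = d * y) : y ∈ NP P ⊓ NP Q := by
  obtain ⟨w, hw, hwP⟩ := hsw P Q hPQ
  have hcomm : ∀ d ∈ NP P ⊓ NP Q, ∀ e ∈ NP P ⊓ NP Q, d * e = e * d :=
    h4_D_comm (NP P ⊓ NP Q) w (hB3b P Q hPQ hw hwP)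
  obtain ⟨d0, hd0, hd01⟩ := hDne P Q hPQ
  by_cases hyP : y ∈ NP P
  · obtain ⟨d₁, hd₁, c₁, hc₁, hyd⟩ := hC1 P Q hPQ hyP
    have hc₁' : c₁ = d₁⁻¹ * y := by rw [hyd]; group
    have hcd : c₁ * d0 = d0 * c₁ := by
      have h1 : d₁⁻¹ * d0 = d0 * d₁⁻¹ := hcomm _ (inv_mem hd₁) _ hd0
      calc c₁ * d0 = d₁⁻¹ * (y * d0) := by rw [hc₁']; group
        _ = d₁⁻¹ * (d0 * y) := by rw [hy d0 hd0]
        _ = (d₁⁻¹ * d0) * y := by group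
        _ = (d0 * d₁⁻¹) * y := by rw [h1]
        _ = d0 * c₁ := by rw [hc₁']; group
    have hc1 : c₁ = 1 := hB4 P Q hPQ hd0 hd01 hc₁ hcd
    rw [hyd, hc1, mul_one]; exact hd₁
  · exfalso
    have hQ3 : y • P ≠ P := fun h => hyP ((h4_mem_np_iff P y).2 h)
    obtain ⟨j, hj, hjP⟩ := hsw P (y • P) hQ3.symm
    -- u := y⁻¹ * j normalizes P and inverts D
    have huP : y⁻¹ * j ∈ NP P := by
      rw [h4_mem_np_iff, mul_smul, hjP, inv_smul_smul]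
    have hDQ3 : ∀ d ∈ NP P ⊓ NP Q, d ∈ NP P ⊓ NP (y • P) := by
      intro d hd
      have h1 : d ∈ NP (y • P) := by
        rw [h4_mem_np_iff, ← mul_smul, ← hy d hd, mul_smul, (h4_mem_np_iff P d).1 hd.1]
      exact ⟨hd.1, h1⟩
    have hjinv : ∀ d ∈ NP P ⊓ NP Q, j * d * j⁻¹ = d⁻¹ := fun d hd =>
      hB3b P (y • P) hQ3.symm hj hjP d (hDQ3 d hd)
    have huinv : ∀ d ∈ NP P ⊓ NP Q, (y⁻¹ * j) * d * (y⁻¹ * j)⁻¹ = d⁻¹ := by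
      intro d hd
      have h1 : y * d⁻¹ = d⁻¹ * y := by
        have : Commute y d := hy d hd
        exact this.inv_right.eq
      calc (y⁻¹ * j) * d * (y⁻¹ * j)⁻¹ = y⁻¹ * (j * d * j⁻¹) * y := by group
        _ = y⁻¹ * d⁻¹ * y := by rw [hjinv d hd]
        _ = y⁻¹ * (d⁻¹ * y) := by group
        _ = y⁻¹ * (y * d⁻¹) := by rw [h1]
        _ = d⁻¹ := by group
    obtain ⟨d₁, hd₁, c₁, hc₁, hud⟩ := hC1 P Q hPQ huP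
    have hc₁' : c₁ = d₁⁻¹ * (y⁻¹ * j) := by rw [hud]; group
    -- every element of D squares to one
    have hsq : ∀ d ∈ NP P ⊓ NP Q, d = 1 := by
      intro d hd
      have h1 : c₁ * d * c₁⁻¹ = d⁻¹ := by
        have h2 : d₁⁻¹ * d⁻¹ = d⁻¹ * d₁⁻¹ := hcomm _ (inv_mem hd₁) _ (inv_mem hd)
        calc c₁ * d * c₁⁻¹ = d₁⁻¹ * ((y⁻¹ * j) * d * (y⁻¹ * j)⁻¹) * d₁ := by
              rw [hc₁']; group
          _ = d₁⁻¹ * d⁻¹ * d₁ := by rw [huinv d hd]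
          _ = d⁻¹ * d₁⁻¹ * d₁ := by rw [h2]
          _ = d⁻¹ := by group
      have h3 : d * c₁⁻¹ * d⁻¹ ∈ CP P := by
        have := h4_conj_mem_cp P d (inv_mem hc₁)
        rwa [(h4_mem_np_iff P d).1 hd.1] at this
      have h4 : d⁻¹ * d⁻¹ ∈ CP P := by
        have h5 : d⁻¹ * d⁻¹ = c₁ * (d * c₁⁻¹ * d⁻¹) := by
          calc d⁻¹ * d⁻¹ = (c₁ * d * c₁⁻¹) * d⁻¹ := by rw [h1]
            _ = c₁ * (d * c₁⁻¹ * d⁻¹) := by group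
        rw [h5]; exact mul_mem hc₁ h3
      have h6 : d⁻¹ * d⁻¹ ∈ NP Q := mul_mem (inv_mem hd.2) (inv_mem hd.2)
      have h7 : d⁻¹ * d⁻¹ = 1 := hB2 P Q hPQ h4 h6
      have h8 : d * d = 1 := by
        have : (d⁻¹ * d⁻¹)⁻¹ = 1 := by rw [h7, inv_one]
        rwa [mul_inv_rev, inv_inv] at this
      exact h4_eq_one_of_odd_of_sq (h4_odd_of_mem_D hA3 hA4 P Q hPQ hd) h8
    exact hd01 (hsq d0 hd0)

end Cfsg.Agent.Lib.helper4.AIC
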