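import Mathlib
import Cfsg.Prelude.Def_Characters
import Cfsg.Agent.Lib.helper4.InductionTI
import Cfsg.Agent.Lib.helper4.CharDecomp

set_option autoImplicit false

/-!
# Exceptional characters (helper4 library)

Generalized characters of norm two, and the exceptional characters attached to a
trivial-intersection set.
-/

namespace Cfsg.Agent.Lib.helper4

open scoped ComplexConjugate

universe u

section NormTwo

variable {G : Type u} [Group G] [Fintype G]

/-- A generalized character of norm two vanishing at the identity is the difference of two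
distinct irreducible characters. -/
theorem exists_irr_sub_irr_of_norm_two {θ : G → ℂ} (hθ : Cfsg.IsGeneralizedCharacter G θ)
    (h : Cfsg.classInner θ θ = 2) (h1 : θ 1 = 0) :
    ∃ α β : G → ℂ, Cfsg.IsIrrCharacter G α ∧ Cfsg.IsIrrCharacter G β ∧ α ≠ β ∧ θ = α - β := by
  classical
  have := Fintype.ofFinite (Cfsg.IrrCharacter G)
  obtain ⟨c, hexp, -, hnorm⟩ := exists_int_coeff hθ
  rw [h] at hnorm
  have hsum : ∑ ψ, c ψ ^ 2 = 2 := by exact_mod_cast hnorm.symm
  have hex : ∃ ψ0, c ψ0 ≠ 0 := by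
    by_contra hcon
    push Not at hcon
    simp [hcon] at hsum
  obtain ⟨ψ0, hψ0⟩ := hex
  have hsq_cases : ∀ x : ℤ, x ≠ 0 → x ^ 2 ≤ 2 → x ^ 2 = 1 := by
    intro x hx hle
    have h1 : -1 ≤ x := by nlinarith
    have h2 : x ≤ 1 := by nlinarith
    interval_cases x
    · norm_num
    · exact absurd rfl hx
    · norm_num
  rw [← Finset.add_sum_erase Finset.univ _ (Finset.mem_univ ψ0)] at hsum
  have hnn : 0 ≤ ∑ ψ ∈ Finset.univ.erase ψ0, c ψ ^ 2 :=
    Finset.sum_nonneg fun ψ _ => by positivity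
  have hsq0 : c ψ0 ^ 2 = 1 := hsq_cases _ hψ0 (by omega)
  have hrest : ∑ ψ ∈ Finset.univ.erase ψ0, c ψ ^ 2 = 1 := by omega
  have hex1 : ∃ ψ1 ∈ Finset.univ.erase ψ0, c ψ1 ≠ 0 := by
    by_contra hcon
    push Not at hcon
    rw [Finset.sum_eq_zero (fun ψ hψ => by rw [hcon ψ hψ]; rfl)] at hrest
    omega
  obtain ⟨ψ1, hψ1mem, hψ1⟩ := hex1
  rw [← Finset.add_sum_erase _ _ hψ1mem] at hrest
  have hnn1 : 0 ≤ ∑ ψ ∈ (Finset.univ.erase ψ0).erase ψ1, c ψ ^ 2 :=
    Finset.sum_nonneg fun ψ _ => by positivity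
  have hsq1 : c ψ1 ^ 2 = 1 := hsq_cases _ hψ1 (by omega)
  have hrest2 : ∑ ψ ∈ (Finset.univ.erase ψ0).erase ψ1, c ψ ^ 2 = 0 := by omega
  have hne : ψ1 ≠ ψ0 := (Finset.mem_erase.mp hψ1mem).1
  have hzero : ∀ ψ, ψ ≠ ψ0 → ψ ≠ ψ1 → c ψ = 0 := by
    intro ψ hψ hψ'
    have := (Finset.sum_eq_zero_iff_of_nonneg (fun ψ _ => by positivity)).mp hrest2 ψ
      (Finset.mem_erase.mpr ⟨hψ', Finset.mem_erase.mpr ⟨hψ, Finset.mem_univ _⟩⟩)
    exact pow_eq_zero_iff (two_ne_zero) |>.mp this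
  have hθ' : θ = (c ψ0 : ℂ) • (ψ0 : G → ℂ) + (c ψ1 : ℂ) • (ψ1 : G → ℂ) := by
    rw [hexp, ← Finset.add_sum_erase Finset.univ _ (Finset.mem_univ ψ0),
      ← Finset.add_sum_erase _ _ hψ1mem]
    rw [Finset.sum_eq_zero, add_zero]
    intro ψ hψ
    rw [Finset.mem_erase, Finset.mem_erase] at hψ
    rw [hzero ψ hψ.2.1 hψ.1]; simp
  have hc : ∀ x : ℤ, x ^ 2 = 1 → x = 1 ∨ x = -1 := by
    intro x hx
    have : (x - 1) * (x + 1) = 0 := by ring_nf; omega
    rcases mul_eq_zero.mp this with h | h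
    · left; omega
    · right; omega
  obtain ⟨n0, hn0, hd0⟩ := exists_pos_nat_degree ψ0.2
  obtain ⟨n1, hn1, hd1⟩ := exists_pos_nat_degree ψ1.2
  have hdeg : (c ψ0 : ℂ) * n0 + (c ψ1 : ℂ) * n1 = 0 := by
    have := congrFun hθ' 1
    rw [h1] at this
    simp only [Pi.add_apply, Pi.smul_apply, smul_eq_mul, hd0, hd1] at this
    exact this.symm
  have hdegZ : c ψ0 * n0 + c ψ1 * n1 = 0 := by exact_mod_cast hdeg
  rcases hc _ hsq0 with h0 | h0 <;> rcases hc _ hsq1 with h1' | h1'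
  · rw [h0, h1'] at hdegZ; omega
  · refine ⟨ψ0, ψ1, ψ0.2, ψ1.2, fun h => hne (Subtype.ext h).symm, ?_⟩
    rw [hθ', h0, h1']; simp [sub_eq_add_neg]
  · refine ⟨ψ1, ψ0, ψ1.2, ψ0.2, fun h => hne (Subtype.ext h), ?_⟩
    rw [hθ', h0, h1']; simp [sub_eq_add_neg, add_comm]
  · rw [h0, h1'] at hdegZ; omega

/-- Inner product of two differences of irreducible characters. -/
theorem classInner_irr_sub_irr {a b c d : G → ℂ} (ha : Cfsg.IsIrrCharacter G a)
    (hb : Cfsg.IsIrrCharacter G b) (hc : Cfsg.IsIrrCharacter G c) (hd : Cfsg.IsIrrCharacter G d)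
    [Decidable (a = c)] [Decidable (a = d)] [Decidable (b = c)] [Decidable (b = d)] :
    Cfsg.classInner (a - b) (c - d) =
      (if a = c then 1 else 0) - (if a = d then 1 else 0) - (if b = c then 1 else 0) +
        (if b = d then 1 else 0) := by
  rw [classInner_sub_left, classInner_sub_right, classInner_sub_right, classInner_irr ha hc,
    classInner_irr ha hd, classInner_irr hb hc, classInner_irr hb hd]
  ring

end NormTwo

section TIExc

variable {G : Type u} [Group G] [Fintype G]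

/-- Exceptional characters: `n ≥ 2` distinct irreducible characters of `N_G(S)` of equal degree
vanishing off the trivial-intersection set `S` induce, after taking differences, differences of
`n` distinct irreducible characters of `G` up to a common sign. -/
theorem exceptional_characters (S : Set G)
    (hTI : ∀ g : G, g ∉ Subgroup.normalizer S → ∀ s ∈ S, g * s * g⁻¹ ∈ S → s = 1) (n : ℕ)
    (hn : 2 ≤ n) (χ : Fin n → (Subgroup.normalizer S → ℂ))
    (hirr : ∀ i, Cfsg.IsIrrCharacter (Subgroup.normalizer S) (χ i))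
    (hinj : Function.Injective χ)
    (hvan : ∀ i, ∀ x : Subgroup.normalizer S, (x : G) ∉ S → χ i x = 0)
    (hdeg : ∀ i j, χ i 1 = χ j 1) :
    ∃ ε : ℂ, (ε = 1 ∨ ε = -1) ∧ ∃ θ : Fin n → (G → ℂ), (∀ i, Cfsg.IsIrrCharacter G (θ i)) ∧
      Function.Injective θ ∧ ∀ i j, Cfsg.indFun (Subgroup.normalizer S) (χ i) -
        Cfsg.indFun (Subgroup.normalizer S) (χ j) = ε • (θ i - θ j) := by
  classical
  have := Fintype.ofFinite (Subgroup.normalizer S)
  obtain ⟨i0, i1, h01⟩ : ∃ i0 i1 : Fin n, i1 ≠ i0 :=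
    ⟨⟨0, by omega⟩, ⟨1, by omega⟩, by simp [Fin.ext_iff]⟩
  obtain ⟨I, hI⟩ : ∃ I : Fin n → G → ℂ, I = fun i => Cfsg.indFun (Subgroup.normalizer S) (χ i) :=
    ⟨_, rfl⟩
  obtain ⟨Φ, hΦdef⟩ : ∃ Φ : Fin n → G → ℂ,
      Φ = fun j => Cfsg.indFun (Subgroup.normalizer S) (χ i0 - χ j) := ⟨_, rfl⟩
  have hΦ : ∀ j, Φ j = I i0 - I j := fun j => by rw [hΦdef, hI]; exact indFun_sub _ _ _
  have hgen : ∀ j, Cfsg.IsGeneralizedCharacter G (Φ j) := fun j => by
    rw [hΦdef]
    exact isGeneralizedCharacter_indFun _ ⟨χ i0, χ j, isCharacter_of_isIrrCharacter (hirr i0),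
      isCharacter_of_isIrrCharacter (hirr j), rfl⟩
  have hone : ∀ j, Φ j 1 = 0 := by
    intro j
    rw [hΦdef]
    show Cfsg.indFun (Subgroup.normalizer S) (χ i0 - χ j) 1 = 0
    rw [indFun_one, Pi.sub_apply, hdeg i0 j, sub_self, mul_zero]
  have hinner : ∀ j k, Cfsg.classInner (Φ j) (Φ k) =
      Cfsg.classInner (χ i0 - χ j) (χ i0 - χ k) := by
    intro j k
    rw [hΦdef]
    apply classInner_indFun_TI S hTI
    · exact isClassFunction_sub (isClassFunction_of_isIrrCharacter (hirr i0))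
        (isClassFunction_of_isIrrCharacter (hirr k))
    · intro x hx; rw [Pi.sub_apply, hvan i0 x hx, hvan j x hx, sub_zero]
    · intro x hx; rw [Pi.sub_apply, hvan i0 x hx, hvan k x hx, sub_zero]
    · rw [Pi.sub_apply, hdeg i0 j, sub_self]
  have hinner' : ∀ j k, j ≠ i0 → k ≠ i0 →
      Cfsg.classInner (Φ j) (Φ k) = 1 + if j = k then 1 else 0 := by
    intro j k hj hk
    rw [hinner, classInner_irr_sub_irr (hirr i0) (hirr j) (hirr i0) (hirr k)]
    rw [if_pos rfl, if_neg (fun h => hk (hinj h).symm), if_neg (fun h => hj (hinj h))]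
    by_cases hjk : j = k
    · rw [if_pos hjk, if_pos (by rw [hjk])]; ring
    · rw [if_neg hjk, if_neg (fun h => hjk (hinj h))]; ring
  have hdecomp : ∀ j, ∃ α β : G → ℂ, j ≠ i0 →
      (Cfsg.IsIrrCharacter G α ∧ Cfsg.IsIrrCharacter G β ∧ α ≠ β ∧ Φ j = α - β) := by
    intro j
    by_cases hj : j = i0
    · exact ⟨0, 0, fun h => absurd hj h⟩
    · have h2 : Cfsg.classInner (Φ j) (Φ j) = 2 := by
        rw [hinner' j j hj hj, if_pos rfl]; norm_num
      obtain ⟨α, β, h⟩ := exists_irr_sub_irr_of_norm_two (hgen j) h2 (hone j)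
      exact ⟨α, β, fun _ => h⟩
  choose a b hab using hdecomp
  have ha : ∀ j, j ≠ i0 → Cfsg.IsIrrCharacter G (a j) := fun j hj => (hab j hj).1
  have hb : ∀ j, j ≠ i0 → Cfsg.IsIrrCharacter G (b j) := fun j hj => (hab j hj).2.1
  have hne : ∀ j, j ≠ i0 → a j ≠ b j := fun j hj => (hab j hj).2.2.1
  have hΦab : ∀ j, j ≠ i0 → Φ j = a j - b j := fun j hj => (hab j hj).2.2.2
  have hip : ∀ j k, j ≠ i0 → k ≠ i0 → j ≠ k →
      ((if a j = a k then (1 : ℂ) else 0) - (if a j = b k then 1 else 0) -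
        (if b j = a k then 1 else 0) + (if b j = b k then 1 else 0)) = 1 := by
    intro j k hj hk hjk
    rw [← classInner_irr_sub_irr (ha j hj) (hb j hj) (ha k hk) (hb k hk), ← hΦab j hj,
      ← hΦab k hk, hinner' j k hj hk, if_neg hjk, add_zero]
  have P1 : ∀ j k, j ≠ i0 → k ≠ i0 → j ≠ k → a j = a k ∨ b j = b k := by
    intro j k hj hk hjk
    by_contra hcon
    push Not at hcon
    have h := hip j k hj hk hjk
    rw [if_neg hcon.1, if_neg hcon.2] at h
    split_ifs at h <;> norm_num at h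
  have P2 : ∀ j k, j ≠ i0 → k ≠ i0 → j ≠ k → ¬ (a j = a k ∧ b j = b k) := by
    rintro j k hj hk hjk ⟨h1, h2⟩
    have h := hip j k hj hk hjk
    rw [if_pos h1, if_pos h2, if_neg (fun h => hne k hk (h1.symm.trans h)),
      if_neg (fun h => hne k hk (h.symm.trans h2))] at h
    norm_num at h
  have hdich : (∀ j, j ≠ i0 → a j = a i1) ∨ (∀ j, j ≠ i0 → b j = b i1) := by
    by_contra hcon
    push Not at hcon
    obtain ⟨⟨j, hj0, hja⟩, ⟨k, hk0, hkb⟩⟩ := hcon
    have hj1 : j ≠ i1 := fun h => hja (by rw [h])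
    have hk1 : k ≠ i1 := fun h => hkb (by rw [h])
    have hbj : b i1 = b j := (P1 i1 j h01 hj0 (Ne.symm hj1)).resolve_left (fun h => hja h.symm)
    have hak : a i1 = a k := (P1 i1 k h01 hk0 (Ne.symm hk1)).resolve_right (fun h => hkb h.symm)
    have hjk : j ≠ k := fun h => hja (by rw [h, hak])
    rcases P1 j k hj0 hk0 hjk with h | h
    · exact hja (h.trans hak.symm)
    · exact hkb (h.symm.trans hbj.symm)
  have hfin : ∀ (ε : ℂ) (θ : Fin n → G → ℂ), (∀ j, j ≠ i0 → Φ j = ε • (θ i0 - θ j)) →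
      ∀ i j, I i - I j = ε • (θ i - θ j) := by
    intro ε θ h i j
    have key : ∀ j, I i0 - I j = ε • (θ i0 - θ j) := by
      intro j
      by_cases hj : j = i0
      · rw [hj, sub_self, sub_self, smul_zero]
      · rw [← hΦ, h j hj]
    have h3 : I i - I j = (I i0 - I j) - (I i0 - I i) := by abel
    rw [h3, key i, key j, ← smul_sub]
    congr 1
    abel
  rw [hI] at hfin
  rcases hdich with hA | hB
  · obtain ⟨θ, hθ⟩ : ∃ θ : Fin n → G → ℂ, θ = fun j => if j = i0 then a i1 else b j := ⟨_, rfl⟩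
    have hθ0 : θ i0 = a i1 := by rw [hθ]; exact if_pos rfl
    have hθj : ∀ j, j ≠ i0 → θ j = b j := fun j hj => by rw [hθ]; exact if_neg hj
    refine ⟨1, Or.inl rfl, θ, ?_, ?_, ?_⟩
    · intro j
      by_cases hj : j = i0
      · rw [hj, hθ0]; exact ha i1 h01
      · rw [hθj j hj]; exact hb j hj
    · intro j k hjk
      by_contra hne'
      by_cases hj : j = i0 <;> by_cases hk : k = i0
      · exact hne' (hj.trans hk.symm)
      · rw [hj, hθ0, hθj k hk] at hjk
        exact hne k hk ((hA k hk).trans hjk)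
      · rw [hk, hθ0, hθj j hj] at hjk
        exact hne j hj ((hA j hj).trans hjk.symm)
      · rw [hθj j hj, hθj k hk] at hjk
        exact P2 j k hj hk hne' ⟨(hA j hj).trans (hA k hk).symm, hjk⟩
    · apply hfin
      intro j hj
      rw [one_smul, hθ0, hθj j hj, hΦab j hj, hA j hj]
  · obtain ⟨θ, hθ⟩ : ∃ θ : Fin n → G → ℂ, θ = fun j => if j = i0 then b i1 else a j := ⟨_, rfl⟩
    have hθ0 : θ i0 = b i1 := by rw [hθ]; exact if_pos rfl
    have hθj : ∀ j, j ≠ i0 → θ j = a j := fun j hj => by rw [hθ]; exact if_neg hj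
    refine ⟨-1, Or.inr rfl, θ, ?_, ?_, ?_⟩
    · intro j
      by_cases hj : j = i0
      · rw [hj, hθ0]; exact hb i1 h01
      · rw [hθj j hj]; exact ha j hj
    · intro j k hjk
      by_contra hne'
      by_cases hj : j = i0 <;> by_cases hk : k = i0
      · exact hne' (hj.trans hk.symm)
      · rw [hj, hθ0, hθj k hk] at hjk
        exact hne k hk (hjk.symm.trans (hB k hk).symm)
      · rw [hk, hθ0, hθj j hj] at hjk
        exact hne j hj (hjk.trans (hB j hj).symm)
      · rw [hθj j hj, hθj k hk] at hjk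
        exact P2 j k hj hk hne' ⟨hjk, (hB j hj).trans (hB k hk).symm⟩
    · apply hfin
      intro j hj
      rw [hθ0, hθj j hj, hΦab j hj, hB j hj, neg_smul, one_smul, neg_sub]

end TIExc

end Cfsg.Agent.Lib.helper4
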