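import Mathlib
import Cfsg.Agent.Lib.helper42.AICDefs
import Cfsg.Agent.Lib.helper42.AIC_A
import Cfsg.Agent.Lib.helper4.AIC_Aux

/-!
helper4: S2202 piece KS (`exists_ksub`): the odd-order elements centralizing every Sylow
2-subgroup form a normal subgroup.
-/

set_option autoImplicit false

open Cfsg.Agent.Lib.helper42.AIC

namespace Cfsg.Agent.Lib.helper4.AIC

/-- KS : the subgroup of odd elements centralizing all Sylow 2-subgroups -/
theorem exists_ksub {G : Type*} [Group G] [Finite G] (hA : AIC G) (hnc : NCyc G) :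
    ∃ Z : Subgroup G, Z.Normal ∧ IsKsub Z := by
  have P0 : Sylow 2 G := default
  let Z : Subgroup G :=
    { carrier := {x | Odd (orderOf x) ∧ ∀ P : Sylow 2 G, x ∈ CP P}
      mul_mem' := by
        rintro x y ⟨hxo, hxc⟩ ⟨hyo, hyc⟩
        refine ⟨?_, fun P => mul_mem (hxc P) (hyc P)⟩
        have hcomm : Commute x y := cp_comm hA hnc P0 x (hxc P0) y (hyc P0)
        have hdvd : orderOf (x * y) ∣ Nat.lcm (orderOf x) (orderOf y) := hcomm.orderOf_mul_dvd_lcm
        have hodd : Odd (Nat.lcm (orderOf x) (orderOf y)) := by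
          rw [Nat.odd_iff, ← Nat.two_dvd_ne_zero]
          intro h2
          have h3 : Nat.Coprime 2 (orderOf x) := (Nat.coprime_two_left).2 hxo
          have h4 : Nat.Coprime 2 (orderOf y) := (Nat.coprime_two_left).2 hyo
          have h5 : 2 ∣ orderOf x * orderOf y :=
            dvd_trans h2 (Nat.lcm_dvd_mul (orderOf x) (orderOf y))
          have h6 : 2 ∣ orderOf y := h3.dvd_of_dvd_mul_left h5
          exact absurd (Nat.eq_one_of_dvd_coprimes h4 (dvd_refl 2) h6) (by norm_num)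
        exact hodd.of_dvd_nat hdvd
      one_mem' := by
        refine ⟨by rw [orderOf_one]; exact odd_one, fun P => one_mem _⟩
      inv_mem' := by
        rintro x ⟨hxo, hxc⟩
        exact ⟨by rw [orderOf_inv]; exact hxo, fun P => inv_mem (hxc P)⟩ }
  have hmem : ∀ x : G, x ∈ Z ↔ (Odd (orderOf x) ∧ ∀ P : Sylow 2 G, x ∈ CP P) := fun x => Iff.rfl
  refine ⟨Z, ⟨?_⟩, hmem⟩
  intro x hx g
  rw [hmem] at hx ⊢
  obtain ⟨hxo, hxc⟩ := hx
  refine ⟨?_, fun P => ?_⟩
  · have h1 : g * x * g⁻¹ = MulAut.conj g x := by simp [MulAut.conj_apply]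
    rw [h1, MulEquiv.orderOf_eq]; exact hxo
  · have h2 := h4_conj_mem_cp (g⁻¹ • P) g (hxc (g⁻¹ • P))
    rwa [smul_inv_smul] at h2

end Cfsg.Agent.Lib.helper4.AIC
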