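import Mathlib
import Cfsg.Agent.Lib.helper42.AICDefs

/-!
helper4: S2202 pieces SUB1 (`aic_sub`), SUB2 (`ncyc_sub`), SUB3 (`cp_sub`): passage to subgroups.
-/

set_option autoImplicit false

open Cfsg.Agent.Lib.helper42.AIC

namespace Cfsg.Agent.Lib.helper4.AIC

/-- SUB1 -/
theorem aic_sub {G : Type*} [Group G] (hA : AIC G) (M : Subgroup G) : AIC ↥M := by
  intro t ht
  have ht' : orderOf (t : G) = 2 := by rw [Subgroup.orderOf_coe]; exact ht
  have hcomm := hA (t : G) ht'
  rw [isMulCommutative_iff]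
  rintro ⟨x, hx⟩ ⟨y, hy⟩
  rw [Subgroup.mem_centralizer_singleton_iff] at hx hy
  have hx' : (x : G) ∈ Subgroup.centralizer ({(t : G)} : Set G) := by
    rw [Subgroup.mem_centralizer_singleton_iff]
    have := congrArg Subtype.val hx
    simpa using this
  have hy' : (y : G) ∈ Subgroup.centralizer ({(t : G)} : Set G) := by
    rw [Subgroup.mem_centralizer_singleton_iff]
    have := congrArg Subtype.val hy
    simpa using this
  have h1 : (⟨(x : G), hx'⟩ : Subgroup.centralizer ({(t : G)} : Set G)) * ⟨(y : G), hy'⟩ =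
      ⟨(y : G), hy'⟩ * ⟨(x : G), hx'⟩ := mul_comm' _ _
  have h2 : (x : G) * (y : G) = (y : G) * (x : G) := congrArg Subtype.val h1
  apply Subtype.ext
  apply Subtype.ext
  exact h2

/-- SUB2 -/
theorem ncyc_sub {G : Type*} [Group G] [Finite G] (hnc : NCyc G) (M : Subgroup G) (P : Sylow 2 G)
    (hPM : (P : Subgroup G) ≤ M) : NCyc ↥M := by
  intro P' hcyc
  have e1 : ↥(P' : Subgroup M) ≃* ↥((P.subtype hPM : Sylow 2 M) : Subgroup M) :=
    Sylow.equiv P' (P.subtype hPM)
  have e2 : ↥((P.subtype hPM : Sylow 2 M) : Subgroup M) ≃* ↥(P : Subgroup G) := by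
    rw [Sylow.coe_subtype]
    exact Subgroup.subgroupOfEquivOfLe hPM
  have e : ↥(P' : Subgroup M) ≃* ↥(P : Subgroup G) := e1.trans e2
  exact hnc P (e.isCyclic.1 hcyc)

/-- SUB3 -/
theorem cp_sub {G : Type*} [Group G] (M : Subgroup G) (P : Sylow 2 G)
    (hPM : (P : Subgroup G) ≤ M) (x : ↥M) : x ∈ CP (P.subtype hPM) ↔ (x : G) ∈ CP P := by
  rw [Subgroup.mem_centralizer_iff, Subgroup.mem_centralizer_iff]
  constructor
  · intro h p hp
    have h1 := h ⟨p, hPM hp⟩ (by
      show (⟨p, hPM hp⟩ : M) ∈ ((P.subtype hPM : Sylow 2 M) : Subgroup M)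
      rw [Sylow.coe_subtype, Subgroup.mem_subgroupOf]; exact hp)
    exact congrArg Subtype.val h1
  · intro h y hy
    have hy' : (y : G) ∈ (P : Subgroup G) := by
      have hy2 : y ∈ ((P.subtype hPM : Sylow 2 M) : Subgroup M) := hy
      rw [Sylow.coe_subtype, Subgroup.mem_subgroupOf] at hy2
      exact hy2
    exact Subtype.ext (h (y : G) hy')

end Cfsg.Agent.Lib.helper4.AIC
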