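import Mathlib
import Cfsg.Prelude.Def_Blocks
import Cfsg.Agent.Lib.helper78.KleinDefect
import Cfsg.Agent.Lib.helper81.WBO
import Cfsg.Agent.Lib.helper81.Blocks
import Cfsg.Agent.Lib.helper81.CharOrtho
import Cfsg.Agent.Lib.helper83.CharBasic2
import Cfsg.Agent.Lib.helper76.KazCore

/-!
# Characters of prime power degree in groups of order `p^a q^b r^c`, `a ≤ 2` (helper4)

If `p ∣ |G|`, weak block orthogonality on the principal `p`-block (rows `1` and an element of
order `p`) gives a nonprincipal character of the principal `p`-block of degree prime to `r`; for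
`|G|_p ≤ p²` all characters of that block have height zero (Brauer–Feit), so its degree is a
power of `q`.
-/

set_option autoImplicit false

namespace Cfsg.Agent.Lib.helper4

open Cfsg
open scoped ComplexConjugate

universe u

/-- If `p ∣ |G|`, the principal `p`-block contains a nonprincipal character of degree prime to
any given prime `r`. -/
theorem exists_principal_nontriv_not_dvd {G : Type u} [Group G] [Fintype G] {p : ℕ}
    [Fact p.Prime] {M : Ideal AlgInt} (hM : IsPModular p M) (hdiv : p ∣ Nat.card G) (r : ℕ)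
    (hr : r.Prime) :
    ∃ χ : IrrCharacter G, χ ∈ principalBlock M G ∧ χ ≠ helper81.trivChar G ∧
      ¬ r ∣ charDegree (χ : G → ℂ) := by
  classical
  have hp : p.Prime := Fact.out
  obtain ⟨h, hh⟩ := exists_prime_orderOf_dvd_card' p hdiv
  have hB : IsPBlock M (principalBlock M G) := helper81.isPBlock_principalBlock
  have hMp := helper20.isPrime_of_isPModular hM
  have hw := helper81.wbo hM (B := principalBlock M G)
    (fun g => helper81.memLocalRing_blockCoeff hMp hB g) (x := (1 : G)) (y₀ := h)
    (by rw [orderOf_one]; exact hp.one_lt.ne' ∘ Nat.dvd_one.mp) (by rw [hh])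
  by_contra hcon
  push Not at hcon
  rw [← Finset.add_sum_erase Finset.univ _ (Finset.mem_univ (helper81.trivChar G))] at hw
  rw [if_pos (helper81.trivChar_mem_principalBlock hMp)] at hw
  simp only [helper81.trivChar_apply, map_one, mul_one] at hw
  have hterm : ∀ χ ∈ Finset.univ.erase (helper81.trivChar G),
      (if χ ∈ principalBlock M G then (χ : G → ℂ) 1 * conj ((χ : G → ℂ) h) else 0) =
      (r : ℂ) * (if χ ∈ principalBlock M G then
        ((charDegree (χ : G → ℂ) / r : ℕ) : ℂ) * conj ((χ : G → ℂ) h) else 0) := by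
    intro χ hχ
    have hne := Finset.ne_of_mem_erase hχ
    by_cases hmem : χ ∈ principalBlock M G
    · rw [if_pos hmem, if_pos hmem]
      obtain ⟨k, hk⟩ := hcon χ hmem hne
      rw [helper81.irr_one_eq_charDegree, hk, Nat.mul_div_cancel_left k hr.pos]
      push_cast; ring
    · rw [if_neg hmem, if_neg hmem, mul_zero]
  rw [Finset.sum_congr rfl hterm, ← Finset.mul_sum] at hw
  have hSint : IsIntegral ℤ (∑ χ ∈ Finset.univ.erase (helper81.trivChar G),
      (if χ ∈ principalBlock M G then
        ((charDegree (χ : G → ℂ) / r : ℕ) : ℂ) * conj ((χ : G → ℂ) h) else 0)) := by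
    apply IsIntegral.sum
    intro χ _
    split_ifs
    · refine (isIntegral_natCast _).mul ?_
      rw [← helper81.irr_inv]
      exact helper81.irr_isIntegral χ h⁻¹
    · exact isIntegral_zero
  have hr0 : (r : ℂ) ≠ 0 := Nat.cast_ne_zero.mpr hr.ne_zero
  have h1 : ((1 : ℕ) : ℂ) / (r : ℂ) = -(∑ χ ∈ Finset.univ.erase (helper81.trivChar G),
      (if χ ∈ principalBlock M G then
        ((charDegree (χ : G → ℂ) / r : ℕ) : ℂ) * conj ((χ : G → ℂ) h) else 0)) := by
    rw [div_eq_iff hr0]
    push_cast
    linear_combination hw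
  have h2 := helper81.dvd_of_isIntegral_div hr.ne_zero (h1 ▸ hSint.neg)
  exact hr.one_lt.ne' (Nat.dvd_one.mp h2)

theorem charDegree_trivChar {G : Type u} [Group G] :
    charDegree (helper81.trivChar G : G → ℂ) = 1 := by
  simp [charDegree]

/-- **Groups of order `p^a q^b r^c`, `a ≤ 2`**: a nontrivial such group has a nonprincipal
irreducible character whose degree is a power of `q`. -/
theorem exists_nontriv_prime_power_degree {G : Type u} [Group G] [Finite G] [Nontrivial G]
    (p q r a b c : ℕ) (hp : p.Prime) (hq : q.Prime) (hr : r.Prime) (hpq : p ≠ q) (hpr : p ≠ r)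
    (hqr : q ≠ r) (ha : a ≤ 2) (hG : Nat.card G = p ^ a * q ^ b * r ^ c) :
    ∃ χ : IrrCharacter G, (χ : G → ℂ) ≠ (fun _ => 1) ∧
      ∃ k : ℕ, charDegree (χ : G → ℂ) = q ^ k := by
  classical
  letI := Fintype.ofFinite G
  have : Fact p.Prime := ⟨hp⟩
  have key : ∃ χ : IrrCharacter G, χ ≠ helper81.trivChar G ∧
      ¬ p ∣ charDegree (χ : G → ℂ) ∧ ¬ r ∣ charDegree (χ : G → ℂ) := by
    by_cases hdiv : p ∣ Nat.card G
    · obtain ⟨M, hM⟩ := helper76.exists_isPModular p hp
      obtain ⟨χ, hχB, hχne, hχr⟩ := exists_principal_nontriv_not_dvd hM hdiv r hr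
      refine ⟨χ, hχne, ?_, hχr⟩
      have hB : IsPBlock M (principalBlock M G) := helper81.isPBlock_principalBlock
      have hMp := helper20.isPrime_of_isPModular hM
      have hfac : (Nat.card G).factorization p = a := by
        have hpa : p ^ a ≠ 0 := pow_ne_zero _ hp.ne_zero
        have hqb : q ^ b ≠ 0 := pow_ne_zero _ hq.ne_zero
        have hrc : r ^ c ≠ 0 := pow_ne_zero _ hr.ne_zero
        rw [hG, Nat.factorization_mul (mul_ne_zero hpa hqb) hrc,
          Nat.factorization_mul hpa hqb,
          Nat.factorization_pow, Nat.factorization_pow, Nat.factorization_pow,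
          hp.factorization, hq.factorization, hr.factorization]
        simp [hpq.symm, hpr.symm]
      have hd : blockDefect p (principalBlock M G) ≤ 2 := by
        unfold blockDefect
        omega
      have hh := helper78.height_zero_of_defect_le_two hM hB hd hχB
      have hinf : sInf ((fun ψ : IrrCharacter G => (charDegree (ψ : G → ℂ)).factorization p) ''
          principalBlock M G) = 0 := by
        apply Nat.eq_zero_of_le_zero
        apply Nat.sInf_le
        refine ⟨helper81.trivChar G, helper81.trivChar_mem_principalBlock hMp, ?_⟩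
        simp [charDegree_trivChar]
      unfold blockHeight at hh
      rw [hinf, Nat.sub_zero] at hh
      intro hpd
      have h3 := (hp.dvd_iff_one_le_factorization (helper81.irr_charDegree_pos χ).ne').mp hpd
      omega
    · have hpall : ∀ χ : IrrCharacter G, ¬ p ∣ charDegree (χ : G → ℂ) :=
        fun χ h => hdiv (h.trans (helper81.irr_degree_dvd_card χ))
      by_contra hcon
      push Not at hcon
      have hall : ∀ χ : IrrCharacter G, χ ≠ helper81.trivChar G →
          r ∣ charDegree (χ : G → ℂ) := fun χ h => hcon χ h (hpall χ)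
      have hsum := helper83.sum_charDegree_sq (G := G)
      rw [finsum_eq_sum_of_fintype,
        ← Finset.add_sum_erase Finset.univ _ (Finset.mem_univ (helper81.trivChar G)),
        charDegree_trivChar] at hsum
      have hdvdS : r ∣ ∑ χ ∈ Finset.univ.erase (helper81.trivChar G),
          charDegree (χ : G → ℂ) ^ 2 := by
        apply Finset.dvd_sum
        intro χ hχ
        exact (hall χ (Finset.ne_of_mem_erase hχ)).trans (dvd_pow_self _ two_ne_zero)
      by_cases hrG : r ∣ Nat.card G
      · rw [← hsum] at hrG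
        have h1 : r ∣ 1 ^ 2 := (Nat.dvd_add_left hdvdS).mp hrG
        rw [one_pow] at h1
        exact hr.one_lt.ne' (Nat.dvd_one.mp h1)
      · have hS0 : ∑ χ ∈ Finset.univ.erase (helper81.trivChar G),
            charDegree (χ : G → ℂ) ^ 2 = 0 :=
          Finset.sum_eq_zero (fun χ hχ => absurd
            ((hall χ (Finset.ne_of_mem_erase hχ)).trans (helper81.irr_degree_dvd_card χ)) hrG)
        rw [hS0] at hsum
        have h1 : 1 < Nat.card G := Finite.one_lt_card
        omega
  obtain ⟨χ, hne, hpχ, hrχ⟩ := key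
  refine ⟨χ, fun h => hne (Subtype.ext h), ?_⟩
  have hdvd := helper81.irr_degree_dvd_card χ
  rw [hG] at hdvd
  have h1 : (charDegree (χ : G → ℂ)).Coprime (p ^ a) :=
    Nat.Coprime.pow_right a ((Nat.Prime.coprime_iff_not_dvd hp).mpr hpχ).symm
  have h2 : (charDegree (χ : G → ℂ)).Coprime (r ^ c) :=
    Nat.Coprime.pow_right c ((Nat.Prime.coprime_iff_not_dvd hr).mpr hrχ).symm
  have h3 : charDegree (χ : G → ℂ) ∣ q ^ b :=
    h1.dvd_of_dvd_mul_left (h2.dvd_of_dvd_mul_right hdvd)
  obtain ⟨k, _, hk⟩ := (Nat.dvd_prime_pow hq).mp h3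
  exact ⟨k, hk⟩

end Cfsg.Agent.Lib.helper4
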