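import Mathlib
import Cfsg.Agent.Lib.helper16.U34CDefs

/-!
helper4: S1903 piece A2 (`d2_of_d1`): `C_{G'}(x) = Z` and the `x`-invariant subgroups between
`Z` and `G'` are `Z` and `G'` (counting modulo 5).
-/

set_option autoImplicit false
set_option linter.unusedSectionVars false
set_option linter.unusedVariables false
set_option linter.style.haveILetI false

namespace Cfsg.Agent.Lib.helper16.U34C

open Cfsg
open scoped commutatorElement

section Abstract

variable {G : Type*} [Group G]

/-- membership in the centralizer of a singleton -/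
theorem helper4_mem_cent_sing (x g : G) :
    g ∈ Subgroup.centralizer ({x} : Set G) ↔ x * g * x⁻¹ = g := by
  rw [Subgroup.mem_centralizer_iff]
  constructor
  · intro h
    exact mul_inv_eq_iff_eq_mul.2 (h x (Set.mem_singleton x))
  · intro h y hy
    rw [Set.mem_singleton_iff] at hy
    subst hy
    exact mul_inv_eq_iff_eq_mul.1 h

/-- the number of fixed points of conjugation by `x` (`x ^ 5 = 1`) on an invariant subgroup -/
theorem helper4_card_fix_modEq [Finite G] (x : G) (hx5 : x ^ 5 = 1) (K : Subgroup G)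
    (hK : ∀ k ∈ K, x * k * x⁻¹ ∈ K) :
    Nat.card K ≡ Nat.card (K ⊓ Subgroup.centralizer ({x} : Set G) : Subgroup G) [MOD 5] := by
  classical
  haveI : Fintype K := Fintype.ofFinite K
  obtain ⟨f, hfdef⟩ : ∃ f : Function.End K, ∀ k : K, ((f k : K) : G) = x * k * x⁻¹ :=
    ⟨fun k => ⟨x * k * x⁻¹, hK k k.2⟩, fun k => rfl⟩
  have hf : ∀ (n : ℕ) (k : K), (((f ^ n) k : K) : G) = x ^ n * k * (x ^ n)⁻¹ := by
    intro n
    induction n with
    | zero =>
      intro k
      rw [pow_zero, pow_zero]
      show ((k : K) : G) = _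
      group
    | succ n ih =>
      intro k
      rw [pow_succ]
      show (((f ^ n) (f k) : K) : G) = _
      rw [ih, hfdef, pow_succ]
      group
  have hf5 : f ^ 5 ^ 1 = 1 := by
    rw [pow_one]
    funext k
    apply Subtype.ext
    rw [hf 5 k, hx5]
    show _ = ((k : K) : G)
    group
  haveI : Fact (Nat.Prime 5) := ⟨by norm_num⟩
  have h1 := Equiv.Perm.card_fixedPoints_modEq (p := 5) (n := 1) hf5
  rw [Fintype.card_eq_nat_card, Fintype.card_eq_nat_card] at h1
  have e : Nat.card (Function.fixedPoints f)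
      = Nat.card (K ⊓ Subgroup.centralizer ({x} : Set G) : Subgroup G) := by
    apply Nat.card_congr
    refine ⟨fun k => ⟨((k.1 : K) : G), ?_⟩, fun g => ⟨⟨g.1, g.2.1⟩, ?_⟩, ?_, ?_⟩
    · refine ⟨k.1.2, ?_⟩
      show ((k.1 : K) : G) ∈ Subgroup.centralizer ({x} : Set G)
      rw [Subgroup.mem_centralizer_iff]
      intro h hh
      rw [Set.mem_singleton_iff] at hh
      subst hh
      have h2 : f k.1 = k.1 := k.2
      have h3 := congrArg (fun y : K => (y : G)) h2
      simp only [hfdef] at h3
      exact mul_inv_eq_iff_eq_mul.1 h3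
    · show f ⟨g.1, g.2.1⟩ = ⟨g.1, g.2.1⟩
      apply Subtype.ext
      rw [hfdef]
      have h2 : (g : G) ∈ Subgroup.centralizer ({x} : Set G) := g.2.2
      rw [Subgroup.mem_centralizer_iff] at h2
      exact mul_inv_eq_iff_eq_mul.2 (h2 x (Set.mem_singleton x))
    · intro k
      rfl
    · intro g
      rfl
  rw [e] at h1
  exact h1

/-- a `2`-subgroup contained in its own commutator subgroup is trivial -/
theorem helper4_eq_bot_of_le_comm [Finite G] (D : Subgroup G) (hD : IsPGroup 2 D)
    (h : D ≤ ⁅D, D⁆) : D = ⊥ := by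
  by_contra hne
  haveI : Fact (Nat.Prime 2) := ⟨Nat.prime_two⟩
  haveI := hD.isNilpotent
  haveI : Nontrivial D := (Subgroup.nontrivial_iff_ne_bot D).2 hne
  have h1 : commutator D < ⊤ := Group.IsSolvable.commutator_lt_top_of_nontrivial D
  apply h1.ne
  rw [eq_top_iff]
  intro d _
  have h2 : (d : G) ∈ ⁅D, D⁆ := h d.2
  rw [← Subgroup.map_subtype_commutator] at h2
  obtain ⟨d', hd', hdd⟩ := h2
  have h3 : d' = d := Subtype.ext hdd
  rw [← h3]
  exact hd'

/-- central factors drop out of a commutator -/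
theorem helper4_comm_central (p p' c c' : G) (hc : ∀ g : G, c * g = g * c)
    (hc' : ∀ g : G, c' * g = g * c') : ⁅p * c, p' * c'⁆ = ⁅p, p'⁆ := by
  rw [commutatorElement_def, commutatorElement_def]
  have e1 : p * c * (p' * c') * (p * c)⁻¹ * (p' * c')⁻¹
      = p * (c * (p' * c')) * (c⁻¹ * p⁻¹) * (c'⁻¹ * p'⁻¹) := by group
  rw [e1, hc (p' * c')]
  have e2 : p * (p' * c' * c) * (c⁻¹ * p⁻¹) * (c'⁻¹ * p'⁻¹)
      = p * p' * (c' * p⁻¹) * c'⁻¹ * p'⁻¹ := by group
  rw [e2, hc' p⁻¹]
  group

/-- the divisors of `64` congruent to `4` modulo `5` -/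
theorem helper4_div64 (n : ℕ) (hn : n ∣ 64) (h5 : n % 5 = 4) : n = 4 ∨ n = 64 := by
  have hle : n ≤ 64 := Nat.le_of_dvd (by norm_num) hn
  interval_cases n <;> omega

/-- PIECE A2 -/
theorem d2_of_d1 [Finite G] (hD : Nat.card (commutator G) = 64) {x : G} {Z : Subgroup G}
    (h1 : D1 x Z) : D2 x Z := by
  classical
  have hP2 : IsPGroup 2 (commutator G) := IsPGroup.of_card (n := 6) (by rw [hD]; norm_num)
  have hPinv : ∀ k ∈ commutator G, x * k * x⁻¹ ∈ commutator G :=
    fun k hk => (inferInstance : (commutator G).Normal).conj_mem k hk x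
  have hZcent : Z ≤ Subgroup.centralizer ({x} : Set G) := by
    intro z hz
    rw [Subgroup.mem_centralizer_iff]
    intro h hh
    rw [Set.mem_singleton_iff] at hh
    subst hh
    exact (h1.Zc z hz h).symm
  have hfix : ∀ g ∈ commutator G, x * g * x⁻¹ = g → g ∈ Z := by
    obtain ⟨C, hC⟩ : ∃ C : Subgroup G,
        C = commutator G ⊓ Subgroup.centralizer ({x} : Set G) := ⟨_, rfl⟩
    have hmod := helper4_card_fix_modEq x h1.x5 (commutator G) hPinv
    rw [← hC, hD] at hmod
    have hCle : C ≤ commutator G := by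
      rw [hC]
      exact inf_le_left
    have hCdvd : Nat.card C ∣ 64 := by
      rw [← hD]
      exact Subgroup.card_dvd_of_le hCle
    have hZC : Z ≤ C := by
      rw [hC]
      exact le_inf h1.ZP hZcent
    have hC5 : Nat.card C % 5 = 4 := by
      unfold Nat.ModEq at hmod
      omega
    intro g hg hgx
    have hgC : g ∈ C := by
      rw [hC]
      exact Subgroup.mem_inf.2 ⟨hg, (helper4_mem_cent_sing x g).2 hgx⟩
    rcases helper4_div64 _ hCdvd hC5 with h4 | h64
    · have hZeq : Z = C := Subgroup.eq_of_le_of_card_ge hZC (by rw [h4, h1.cardZ])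
      rw [hZeq]
      exact hgC
    · exfalso
      have hCP : C = commutator G := Subgroup.eq_of_le_of_card_ge hCle (by rw [h64, hD])
      have hxP : ∀ p ∈ commutator G, x * p = p * x := by
        intro p hp
        have h2 : p ∈ C := by
          rw [hCP]
          exact hp
        rw [hC] at h2
        have h3 := (helper4_mem_cent_sing x p).1 (Subgroup.mem_inf.1 h2).2
        exact mul_inv_eq_iff_eq_mul.1 h3
      have hxc : ∀ g : G, x * g = g * x := by
        intro g
        obtain ⟨p, hp, k, rfl⟩ := h1.gen g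
        calc x * (p * x ^ k) = (x * p) * x ^ k := by group
          _ = (p * x) * x ^ k := by rw [hxP p hp]
          _ = p * x ^ k * x := by group
      have hxkc : ∀ (k : ℕ) (g : G), x ^ k * g = g * x ^ k := by
        intro k g
        exact ((show Commute x g from hxc g).pow_left k).eq
      have hle : ⁅(⊤ : Subgroup G), ⊤⁆ ≤ ⁅commutator G, commutator G⁆ := by
        rw [Subgroup.commutator_le]
        intro g _ h _
        obtain ⟨p, hp, k, rfl⟩ := h1.gen g
        obtain ⟨p', hp', l, rfl⟩ := h1.gen h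
        rw [helper4_comm_central p p' (x ^ k) (x ^ l) (hxkc k) (hxkc l)]
        exact Subgroup.commutator_mem_commutator hp hp'
      have hbot := helper4_eq_bot_of_le_comm (commutator G) hP2 hle
      rw [hbot] at hD
      simp at hD
  refine ⟨hfix, ?_⟩
  intro K hZK hKP hKinv
  have hmod := helper4_card_fix_modEq x h1.x5 K hKinv
  have hKZ : K ⊓ Subgroup.centralizer ({x} : Set G) = Z := by
    apply le_antisymm
    · intro g hg
      have hg' := Subgroup.mem_inf.1 hg
      exact hfix g (hKP hg'.1) ((helper4_mem_cent_sing x g).1 hg'.2)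
    · exact le_inf hZK hZcent
  rw [hKZ, h1.cardZ] at hmod
  have hKdvd : Nat.card K ∣ 64 := by
    rw [← hD]
    exact Subgroup.card_dvd_of_le hKP
  have hK5 : Nat.card K % 5 = 4 := by
    unfold Nat.ModEq at hmod
    omega
  rcases helper4_div64 _ hKdvd hK5 with h4 | h64
  · left
    exact (Subgroup.eq_of_le_of_card_ge hZK (by rw [h4, h1.cardZ])).symm
  · right
    exact Subgroup.eq_of_le_of_card_ge hKP (by rw [h64, hD])

end Abstract

end Cfsg.Agent.Lib.helper16.U34C
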