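import Mathlib

/-!
# The algebra behind Brauer's order formula (helper4)
-/

set_option autoImplicit false

namespace Cfsg.Agent.Lib.helper4

/-- From the counting identity `2 n² = l i² / g · (1 + ε₁/x₁ + ε₂/x₂ + ε₃/x₃)` to the order
formula. -/
theorem klein_order_algebra {g cJ cP l i n x₁ x₂ x₃ e₁ e₂ e₃ : ℚ} (hg : 0 < g) (hcJ : 0 < cJ)
    (hcP : 0 < cP) (hl : 0 < l) (hx₁ : 0 < x₁) (hx₂ : 0 < x₂) (hx₃ : 0 < x₃)
    (he₁ : e₁ ^ 2 = 1) (he₂ : e₂ ^ 2 = 1) (he₃ : e₃ ^ 2 = 1)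
    (hR1 : l * 4 = cJ) (hR2 : i * cJ = g) (hR3 : n * cP = cJ)
    (hR5 : 1 + x₁ * e₁ + x₂ * e₂ + x₃ * e₃ = 0)
    (hR4 : 2 * n ^ 2 = l * (g⁻¹ * i ^ 2 * (1 + e₁ / x₁ + e₂ / x₂ + e₃ / x₃))) :
    g = 8 * ((x₁ * x₂ * x₃) / ((x₁ + e₁) * (x₂ + e₂) * (x₃ + e₃))) * cJ ^ 3 / cP ^ 2 := by
  have hi : 0 < i := by
    by_contra h
    have h1 : i ≤ 0 := not_lt.mp h
    have h2 : i * cJ ≤ 0 := mul_nonpos_of_nonpos_of_nonneg h1 hcJ.le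
    linarith
  have hn : 0 < n := by
    by_contra h
    have h1 : n ≤ 0 := not_lt.mp h
    have h2 : n * cP ≤ 0 := mul_nonpos_of_nonpos_of_nonneg h1 hcP.le
    linarith
  obtain ⟨D, hD⟩ : ∃ D : ℚ, D = 1 + e₁ / x₁ + e₂ / x₂ + e₃ / x₃ := ⟨_, rfl⟩
  rw [← hD] at hR4
  have hDpos : 0 < D := by
    by_contra h
    have h1 : D ≤ 0 := not_lt.mp h
    have h2 : 0 < l * (g⁻¹ * i ^ 2) := by positivity
    have h3 : l * (g⁻¹ * i ^ 2 * D) ≤ 0 := by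
      have : l * (g⁻¹ * i ^ 2 * D) = (l * (g⁻¹ * i ^ 2)) * D := by ring
      rw [this]
      exact mul_nonpos_of_nonneg_of_nonpos h2.le h1
    have h4 : 0 < 2 * n ^ 2 := by positivity
    linarith
  have hprod : (x₁ + e₁) * (x₂ + e₂) * (x₃ + e₃) = x₁ * x₂ * x₃ * D := by
    have h1 : x₁ * x₂ * x₃ * D = x₁ * x₂ * x₃ + e₁ * x₂ * x₃ + e₂ * x₁ * x₃ + e₃ * x₁ * x₂ := by
      rw [hD]
      field_simp
    rw [h1]
    linear_combination (e₁ * e₂ * e₃) * hR5 - (e₂ * e₃ * x₁) * he₁ - (e₁ * e₃ * x₂) * he₂ -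
      (e₁ * e₂ * x₃) * he₃
  rw [hprod]
  have hxxx : x₁ * x₂ * x₃ ≠ 0 := by positivity
  have hfrac : x₁ * x₂ * x₃ / (x₁ * x₂ * x₃ * D) = 1 / D := by
    field_simp
  rw [hfrac]
  -- `D = 8 n² / i`
  have hl' : l = cJ / 4 := by linarith
  have hg' : g = i * cJ := hR2.symm
  have hcJ' : cJ = n * cP := hR3.symm
  have hD2 : D = 8 * n ^ 2 / i := by
    rw [hl', hg', hcJ'] at hR4
    field_simp at hR4
    field_simp
    linarith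
  rw [hD2, hg', hcJ']
  field_simp

end Cfsg.Agent.Lib.helper4
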