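import Mathlib
import Cfsg.Agent.Lib.helper4.CharTheory

/-!
# Counting pairs of involutions in a group `C = L ⋊ V₄` with a central involution (helper4)

`C` is a finite group, `L` a normal subgroup of odd order and index `4`, `J` a central involution
and `t ≠ J` another involution.  Then the number of pairs `(a, b)` of involutions with
`J a b ∈ L` is `2 [C : C_C(t)]²`.
-/

set_option autoImplicit false

namespace Cfsg.Agent.Lib.helper4

universe u

section Count

variable {C : Type u} [Group C] [Finite C] (L : Subgroup C) [hLn : L.Normal]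

theorem not_mem_of_orderOf_two (hodd : Odd (Nat.card L)) {a : C} (ha : orderOf a = 2) :
    a ∉ L := by
  intro h
  have h1 := Subgroup.orderOf_dvd_natCard L h
  rw [ha] at h1
  exact (Nat.not_even_iff_odd.mpr hodd) (even_iff_two_dvd.mpr h1)

theorem eq_one_of_mul_self_of_mem (hodd : Odd (Nat.card L)) {a : C} (ha : a ∈ L)
    (h2 : a * a = 1) : a = 1 := by
  have h1 := Subgroup.orderOf_dvd_natCard L ha
  have h3 : orderOf a ∣ 2 := orderOf_dvd_of_pow_eq_one (by rw [pow_two]; exact h2)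
  have hcop : Nat.Coprime 2 (Nat.card L) := Nat.coprime_two_left.mpr hodd
  exact orderOf_eq_one_iff.mp ((Nat.Coprime.coprime_dvd_left h3 hcop).eq_one_of_dvd h1)

theorem mul_self_of_orderOf_two {a : C} (ha : orderOf a = 2) : a * a = 1 := by
  have h := pow_orderOf_eq_one a
  rwa [ha, pow_two] at h

/-- For `s` an involution outside `L` and `ℓ ∈ L`: `s ℓ` is an involution iff `s` inverts `ℓ`. -/
theorem orderOf_mul_eq_two_iff {s ℓ : C} (hs : s * s = 1) (hsL : s ∉ L) (hℓ : ℓ ∈ L) :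
    orderOf (s * ℓ) = 2 ↔ s * ℓ * s = ℓ⁻¹ := by
  haveI : Fact (Nat.Prime 2) := ⟨Nat.prime_two⟩
  constructor
  · intro h
    have h2 := mul_self_of_orderOf_two h
    apply eq_inv_of_mul_eq_one_left
    rw [← h2]
    group
  · intro h
    apply orderOf_eq_prime
    · rw [pow_two]
      have e : s * ℓ * (s * ℓ) = s * ℓ * s * ℓ := by group
      rw [e, h, inv_mul_cancel]
    · intro h1
      apply hsL
      have e : s = ℓ⁻¹ := eq_inv_of_mul_eq_one_left h1
      rw [e]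
      exact inv_mem hℓ

variable (hodd : Odd (Nat.card L)) (hidx : L.index = 4) (J t : C) (hJ : orderOf J = 2)
  (hJc : ∀ x : C, x * J = J * x) (ht : orderOf t = 2) (htJ : t ≠ J)

include hJ hJc ht htJ in
theorem orderOf_mul_central : orderOf (t * J) = 2 := by
  haveI : Fact (Nat.Prime 2) := ⟨Nat.prime_two⟩
  have hJ2 := mul_self_of_orderOf_two hJ
  have ht2 := mul_self_of_orderOf_two ht
  apply orderOf_eq_prime
  · rw [pow_two]
    calc t * J * (t * J) = t * (J * t) * J := by group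
      _ = t * (t * J) * J := by rw [hJc t]
      _ = t * t * (J * J) := by group
      _ = 1 := by rw [ht2, hJ2, mul_one]
  · intro h
    apply htJ
    have e : t = J⁻¹ := eq_inv_of_mul_eq_one_left h
    rw [e]
    exact inv_eq_of_mul_eq_one_left hJ2

include hodd hidx hJ hJc ht htJ in
theorem exists_decomp (c : C) :
    ∃ ℓ ∈ L, c = ℓ ∨ c = J * ℓ ∨ c = t * ℓ ∨ c = t * J * ℓ := by
  classical
  have : Fintype (C ⧸ L) := Fintype.ofFinite _
  have hJ2 := mul_self_of_orderOf_two hJ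
  have ht2 := mul_self_of_orderOf_two ht
  have htJ2 := orderOf_mul_central J t hJ hJc ht htJ
  have hJL := not_mem_of_orderOf_two L hodd hJ
  have htL := not_mem_of_orderOf_two L hodd ht
  have htJL := not_mem_of_orderOf_two L hodd htJ2
  have hcard : Fintype.card (C ⧸ L) = 4 := by
    rw [← Nat.card_eq_fintype_card, ← Subgroup.index_eq_card, hidx]
  let q : C → C ⧸ L := fun x => QuotientGroup.mk x
  have hne : ∀ x y : C, x⁻¹ * y ∉ L → q x ≠ q y := fun x y h h' => h (QuotientGroup.eq.mp h')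
  have hS : ({q 1, q J, q t, q (t * J)} : Finset (C ⧸ L)).card = 4 := by
    rw [Finset.card_insert_of_notMem, Finset.card_insert_of_notMem,
      Finset.card_insert_of_notMem, Finset.card_singleton]
    · simp only [Finset.mem_singleton]
      refine hne t (t * J) ?_
      rw [inv_mul_cancel_left]
      exact hJL
    · simp only [Finset.mem_insert, Finset.mem_singleton, not_or]
      refine ⟨hne J t ?_, hne J (t * J) ?_⟩
      · have e : J⁻¹ * t = t * J := by
          rw [inv_eq_of_mul_eq_one_left hJ2, ← hJc t]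
        rw [e]
        exact htJL
      · have e : J⁻¹ * (t * J) = t := by
          rw [hJc t, inv_mul_cancel_left]
        rw [e]
        exact htL
    · simp only [Finset.mem_insert, Finset.mem_singleton, not_or]
      refine ⟨hne 1 J ?_, hne 1 t ?_, hne 1 (t * J) ?_⟩
      · rw [inv_one, one_mul]; exact hJL
      · rw [inv_one, one_mul]; exact htL
      · rw [inv_one, one_mul]; exact htJL
  have huniv := Finset.eq_univ_of_card _ (hS.trans hcard.symm)
  have hc : q c ∈ ({q 1, q J, q t, q (t * J)} : Finset (C ⧸ L)) := by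
    rw [huniv]
    exact Finset.mem_univ _
  simp only [Finset.mem_insert, Finset.mem_singleton] at hc
  rcases hc with h | h | h | h
  · have h1 : (1 : C)⁻¹ * c ∈ L := QuotientGroup.eq.mp h.symm
    rw [inv_one, one_mul] at h1
    exact ⟨c, h1, Or.inl rfl⟩
  · have h1 : J⁻¹ * c ∈ L := QuotientGroup.eq.mp h.symm
    exact ⟨J⁻¹ * c, h1, Or.inr (Or.inl (by group))⟩
  · have h1 : t⁻¹ * c ∈ L := QuotientGroup.eq.mp h.symm
    exact ⟨t⁻¹ * c, h1, Or.inr (Or.inr (Or.inl (by group)))⟩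
  · have h1 : (t * J)⁻¹ * c ∈ L := QuotientGroup.eq.mp h.symm
    exact ⟨(t * J)⁻¹ * c, h1, Or.inr (Or.inr (Or.inr (by group)))⟩

include hJ hJc ht in
theorem conj_mul_central (ℓ : C) : t * J * ℓ * (t * J) = t * ℓ * t := by
  have hJ2 := mul_self_of_orderOf_two hJ
  calc t * J * ℓ * (t * J) = t * (J * (ℓ * t)) * J := by group
    _ = t * ((ℓ * t) * J) * J := by rw [hJc (ℓ * t)]
    _ = t * ℓ * t * (J * J) := by group
    _ = t * ℓ * t := by rw [hJ2, mul_one]

include hodd hidx hJ hJc ht htJ in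
/-- The involutions of `C`. -/
theorem involution_cases {a : C} (ha : orderOf a = 2) :
    a = J ∨ (∃ ℓ ∈ L, t * ℓ * t = ℓ⁻¹ ∧ a = t * ℓ) ∨
      (∃ ℓ ∈ L, t * ℓ * t = ℓ⁻¹ ∧ a = t * J * ℓ) := by
  have hJ2 := mul_self_of_orderOf_two hJ
  have ht2 := mul_self_of_orderOf_two ht
  have htJ2 := orderOf_mul_central J t hJ hJc ht htJ
  have htL := not_mem_of_orderOf_two L hodd ht
  have htJL := not_mem_of_orderOf_two L hodd htJ2
  have ha2 := mul_self_of_orderOf_two ha
  obtain ⟨ℓ, hℓ, h | h | h | h⟩ := exists_decomp L hodd hidx J t hJ hJc ht htJ a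
  · exact absurd (h ▸ hℓ) (not_mem_of_orderOf_two L hodd ha)
  · left
    have e : ℓ * ℓ = 1 := by
      have e1 : J * ℓ * (J * ℓ) = J * J * (ℓ * ℓ) := by
        calc J * ℓ * (J * ℓ) = J * (ℓ * J) * ℓ := by group
          _ = J * (J * ℓ) * ℓ := by rw [hJc ℓ]
          _ = J * J * (ℓ * ℓ) := by group
      rw [h, e1, hJ2, one_mul] at ha2
      exact ha2
    rw [h, eq_one_of_mul_self_of_mem L hodd hℓ e, mul_one]
  · right; left
    refine ⟨ℓ, hℓ, ?_, h⟩
    rw [h] at ha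
    exact (orderOf_mul_eq_two_iff L ht2 htL hℓ).mp ha
  · right; right
    refine ⟨ℓ, hℓ, ?_, h⟩
    rw [h] at ha
    have h1 := (orderOf_mul_eq_two_iff L (mul_self_of_orderOf_two htJ2) htJL hℓ).mp ha
    rw [conj_mul_central J t hJ hJc ht] at h1
    exact h1

include hodd hidx hJ hJc ht htJ in
/-- The number of pairs of involutions `(a, b)` with `J a b ∈ L`. -/
theorem card_involution_pairs :
    Nat.card {p : C × C // orderOf p.1 = 2 ∧ orderOf p.2 = 2 ∧ J * p.1 * p.2 ∈ L} =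
      2 * (Nat.card {ℓ : C // ℓ ∈ L ∧ t * ℓ * t = ℓ⁻¹}) ^ 2 := by
  classical
  have := Fintype.ofFinite C
  have hJ2 := mul_self_of_orderOf_two hJ
  have ht2 := mul_self_of_orderOf_two ht
  have htJ2 := orderOf_mul_central J t hJ hJc ht htJ
  have hJL := not_mem_of_orderOf_two L hodd hJ
  have htL := not_mem_of_orderOf_two L hodd ht
  have htJL := not_mem_of_orderOf_two L hodd htJ2
  obtain ⟨I, hI⟩ : ∃ I : Finset C, I = Finset.univ.filter
      (fun ℓ => ℓ ∈ L ∧ t * ℓ * t = ℓ⁻¹) := ⟨_, rfl⟩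
  obtain ⟨S, hS⟩ : ∃ S : Finset (C × C), S = Finset.univ.filter
      (fun p : C × C => orderOf p.1 = 2 ∧ orderOf p.2 = 2 ∧ J * p.1 * p.2 ∈ L) := ⟨_, rfl⟩
  have h1 : Nat.card {p : C × C // orderOf p.1 = 2 ∧ orderOf p.2 = 2 ∧ J * p.1 * p.2 ∈ L} =
      S.card := by
    rw [Nat.card_eq_fintype_card, Fintype.card_subtype, hS]
  have h2 : Nat.card {ℓ : C // ℓ ∈ L ∧ t * ℓ * t = ℓ⁻¹} = I.card := by
    rw [Nat.card_eq_fintype_card, Fintype.card_subtype, hI]
  rw [h1, h2]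
  have hmemI : ∀ ℓ, ℓ ∈ I ↔ ℓ ∈ L ∧ t * ℓ * t = ℓ⁻¹ := by
    intro ℓ
    rw [hI, Finset.mem_filter]
    exact ⟨fun h => h.2, fun h => ⟨Finset.mem_univ _, h⟩⟩
  have hmemS : ∀ a b, (a, b) ∈ S ↔ orderOf a = 2 ∧ orderOf b = 2 ∧ J * a * b ∈ L := by
    intro a b
    rw [hS, Finset.mem_filter]
    exact ⟨fun h => h.2, fun h => ⟨Finset.mem_univ _, h⟩⟩
  obtain ⟨f₁, hf₁d⟩ : ∃ f : C × C → C × C, f = fun p => (t * p.1, t * J * p.2) := ⟨_, rfl⟩
  obtain ⟨f₂, hf₂d⟩ : ∃ f : C × C → C × C, f = fun p => (t * J * p.1, t * p.2) := ⟨_, rfl⟩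
  have hf₁ : Function.Injective f₁ := by
    intro p p' h
    rw [hf₁d] at h
    simp only [Prod.mk.injEq, mul_right_inj] at h
    exact Prod.ext h.1 h.2
  have hf₂ : Function.Injective f₂ := by
    intro p p' h
    rw [hf₂d] at h
    simp only [Prod.mk.injEq, mul_right_inj] at h
    exact Prod.ext h.1 h.2
  -- the criterion for `J * (s ℓ) * (s' ℓ') ∈ L`
  have hcrit : ∀ s s' ℓ ℓ' : C, ℓ ∈ L → ℓ' ∈ L → J * (s * ℓ) * (s' * ℓ') ∈ L →
      J * s * s' ∈ L := by
    intro s s' ℓ ℓ' hℓ hℓ' h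
    have e : J * (s * ℓ) * (s' * ℓ') = (J * s * s') * ((s'⁻¹ * ℓ * s'⁻¹⁻¹) * ℓ') := by group
    rw [e] at h
    exact (Subgroup.mul_mem_cancel_right L (mul_mem (hLn.conj_mem ℓ hℓ s'⁻¹) hℓ')).mp h
  have hcrit' : ∀ s s' ℓ ℓ' : C, ℓ ∈ L → ℓ' ∈ L → J * s * s' = 1 →
      J * (s * ℓ) * (s' * ℓ') ∈ L := by
    intro s s' ℓ ℓ' hℓ hℓ' h
    have e : J * (s * ℓ) * (s' * ℓ') = (J * s * s') * ((s'⁻¹ * ℓ * s'⁻¹⁻¹) * ℓ') := by group
    rw [e, h, one_mul]
    exact mul_mem (hLn.conj_mem ℓ hℓ s'⁻¹) hℓ'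
  have e1 : J * t * t = J := by rw [mul_assoc, ht2, mul_one]
  have e2 : J * t * (t * J) = 1 := by
    calc J * t * (t * J) = J * (t * t) * J := by group
      _ = 1 := by rw [ht2, mul_one, hJ2]
  have e3 : J * (t * J) * t = 1 := by
    calc J * (t * J) * t = J * (J * t) * t := by rw [hJc t]
      _ = J * J * (t * t) := by group
      _ = 1 := by rw [ht2, hJ2, mul_one]
  have e4 : J * (t * J) * (t * J) = J := by
    rw [mul_assoc, mul_self_of_orderOf_two htJ2, mul_one]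
  have hSeq : S = (I ×ˢ I).image f₁ ∪ (I ×ˢ I).image f₂ := by
    ext ⟨a, b⟩
    rw [hmemS, Finset.mem_union, Finset.mem_image, Finset.mem_image]
    constructor
    · rintro ⟨ha, hb, hab⟩
      rcases involution_cases L hodd hidx J t hJ hJc ht htJ ha with
        haJ | ⟨ℓ, hℓ, hℓt, rfl⟩ | ⟨ℓ, hℓ, hℓt, rfl⟩
      · exfalso
        rw [haJ, hJ2, one_mul] at hab
        exact not_mem_of_orderOf_two L hodd hb hab
      · rcases involution_cases L hodd hidx J t hJ hJc ht htJ hb with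
          hbJ | ⟨ℓ', hℓ', hℓ't, rfl⟩ | ⟨ℓ', hℓ', hℓ't, rfl⟩
        · exfalso
          rw [hbJ, ← hJc (t * ℓ), mul_assoc, hJ2, mul_one] at hab
          exact not_mem_of_orderOf_two L hodd ha hab
        · exfalso
          have h := hcrit t t ℓ ℓ' hℓ hℓ' hab
          rw [e1] at h
          exact hJL h
        · left
          refine ⟨(ℓ, ℓ'), ?_, ?_⟩
          · rw [Finset.mem_product]
            exact ⟨(hmemI ℓ).mpr ⟨hℓ, hℓt⟩, (hmemI ℓ').mpr ⟨hℓ', hℓ't⟩⟩
          · rw [hf₁d]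
      · rcases involution_cases L hodd hidx J t hJ hJc ht htJ hb with
          hbJ | ⟨ℓ', hℓ', hℓ't, rfl⟩ | ⟨ℓ', hℓ', hℓ't, rfl⟩
        · exfalso
          rw [hbJ, ← hJc (t * J * ℓ), mul_assoc, hJ2, mul_one] at hab
          exact not_mem_of_orderOf_two L hodd ha hab
        · right
          refine ⟨(ℓ, ℓ'), ?_, ?_⟩
          · rw [Finset.mem_product]
            exact ⟨(hmemI ℓ).mpr ⟨hℓ, hℓt⟩, (hmemI ℓ').mpr ⟨hℓ', hℓ't⟩⟩
          · rw [hf₂d]
        · exfalso
          have h := hcrit (t * J) (t * J) ℓ ℓ' hℓ hℓ' hab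
          rw [e4] at h
          exact hJL h
    · rintro (⟨⟨ℓ, ℓ'⟩, hp, h⟩ | ⟨⟨ℓ, ℓ'⟩, hp, h⟩)
      · rw [Finset.mem_product] at hp
        obtain ⟨hℓ, hℓt⟩ := (hmemI ℓ).mp hp.1
        obtain ⟨hℓ', hℓ't⟩ := (hmemI ℓ').mp hp.2
        rw [hf₁d] at h
        simp only [Prod.mk.injEq] at h
        obtain ⟨rfl, rfl⟩ := h
        refine ⟨(orderOf_mul_eq_two_iff L ht2 htL hℓ).mpr hℓt, ?_, hcrit' t (t * J) ℓ ℓ' hℓ hℓ' e2⟩
        apply (orderOf_mul_eq_two_iff L (mul_self_of_orderOf_two htJ2) htJL hℓ').mpr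
        rw [conj_mul_central J t hJ hJc ht]
        exact hℓ't
      · rw [Finset.mem_product] at hp
        obtain ⟨hℓ, hℓt⟩ := (hmemI ℓ).mp hp.1
        obtain ⟨hℓ', hℓ't⟩ := (hmemI ℓ').mp hp.2
        rw [hf₂d] at h
        simp only [Prod.mk.injEq] at h
        obtain ⟨rfl, rfl⟩ := h
        refine ⟨?_, (orderOf_mul_eq_two_iff L ht2 htL hℓ').mpr hℓ't,
          hcrit' (t * J) t ℓ ℓ' hℓ hℓ' e3⟩
        apply (orderOf_mul_eq_two_iff L (mul_self_of_orderOf_two htJ2) htJL hℓ).mpr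
        rw [conj_mul_central J t hJ hJc ht]
        exact hℓt
  have hdisj : Disjoint ((I ×ˢ I).image f₁) ((I ×ˢ I).image f₂) := by
    rw [Finset.disjoint_left]
    intro x hx1 hx2
    obtain ⟨p, hp, rfl⟩ := Finset.mem_image.mp hx1
    obtain ⟨p', hp', h⟩ := Finset.mem_image.mp hx2
    rw [Finset.mem_product] at hp hp'
    rw [hf₁d, hf₂d] at h
    simp only [Prod.mk.injEq] at h
    have h3 : J = p.1 * p'.1⁻¹ := by
      have h4 : J * p'.1 = p.1 := by
        have h5 := h.1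
        rw [mul_assoc] at h5
        exact mul_left_cancel h5
      rw [← h4]
      group
    apply hJL
    rw [h3]
    exact mul_mem ((hmemI _).mp hp.1).1 (inv_mem ((hmemI _).mp hp'.1).1)
  rw [hSeq, Finset.card_union_of_disjoint hdisj, Finset.card_image_of_injective _ hf₁,
    Finset.card_image_of_injective _ hf₂, Finset.card_product]
  ring

include hodd hidx ht in
/-- The elements of `L` inverted by `t` correspond to the conjugates of `t`. -/
theorem card_inverted_eq_index :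
    Nat.card {ℓ : C // ℓ ∈ L ∧ t * ℓ * t = ℓ⁻¹} =
      (Subgroup.centralizer ({t} : Set C)).index := by
  classical
  have := Fintype.ofFinite C
  haveI : Fact (Nat.Prime 2) := ⟨Nat.prime_two⟩
  have ht2 := mul_self_of_orderOf_two ht
  have htinv : t⁻¹ = t := inv_eq_of_mul_eq_one_left ht2
  rw [← card_isConj_eq_index t, Nat.card_eq_fintype_card, Nat.card_eq_fintype_card,
    Fintype.card_subtype, Fintype.card_subtype]
  have hcomm : ∀ a b : C ⧸ L, a * b = b * a := by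
    apply IsPGroup.commutative_of_card_eq_prime_sq (p := 2)
    rw [← Subgroup.index_eq_card, hidx]
    norm_num
  apply Finset.card_nbij' (fun ℓ => t * ℓ) (fun x => t * x)
  · intro ℓ hℓ
    simp only [Finset.coe_filter, Finset.mem_univ, true_and, Set.mem_setOf_eq] at hℓ ⊢
    obtain ⟨hℓL, hℓt⟩ := hℓ
    -- a square root of `ℓ` in `L`
    have hk : Odd (orderOf ℓ) := by
      have h1 := Subgroup.orderOf_dvd_natCard L hℓL
      exact Odd.of_dvd_nat hodd h1
    obtain ⟨r, hr⟩ := hk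
    have hmm : ℓ ^ (r + 1) * ℓ ^ (r + 1) = ℓ := by
      rw [← pow_add]
      have e : r + 1 + (r + 1) = orderOf ℓ + 1 := by omega
      rw [e, pow_succ, pow_orderOf_eq_one, one_mul]
    have hmt : t * ℓ ^ (r + 1) * t = (ℓ ^ (r + 1))⁻¹ := by
      have h1 : t * ℓ ^ (r + 1) * t⁻¹ = (t * ℓ * t⁻¹) ^ (r + 1) := conj_pow.symm
      rw [htinv, hℓt, inv_pow] at h1
      exact h1
    rw [isConj_comm, isConj_iff]
    refine ⟨(ℓ ^ (r + 1))⁻¹, ?_⟩
    rw [inv_inv]
    calc (ℓ ^ (r + 1))⁻¹ * t * ℓ ^ (r + 1)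
        = (ℓ ^ (r + 1))⁻¹ * (t * ℓ ^ (r + 1) * t) * t⁻¹ := by group
      _ = (ℓ ^ (r + 1) * ℓ ^ (r + 1))⁻¹ * t := by rw [hmt, htinv]; group
      _ = ℓ⁻¹ * t := by rw [hmm]
      _ = t * ℓ * t * t := by rw [hℓt]
      _ = t * ℓ := by rw [mul_assoc, ht2, mul_one]
  · intro x hx
    simp only [Finset.coe_filter, Finset.mem_univ, true_and, Set.mem_setOf_eq] at hx ⊢
    obtain ⟨c, hc⟩ := isConj_iff.mp (isConj_comm.mp hx)
    have hx2 : x * x = 1 := by
      rw [← hc]
      calc c * t * c⁻¹ * (c * t * c⁻¹) = c * (t * t) * c⁻¹ := by group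
        _ = 1 := by rw [ht2]; group
    refine ⟨?_, ?_⟩
    · rw [← QuotientGroup.eq_one_iff, ← hc]
      have e : ((t * (c * t * c⁻¹) : C) : C ⧸ L) =
          (t : C ⧸ L) * ((c : C ⧸ L) * (t : C ⧸ L) * (c : C ⧸ L)⁻¹) := rfl
      rw [e, hcomm (c : C ⧸ L) (t : C ⧸ L), mul_assoc, mul_inv_cancel, mul_one]
      have e2 : (t : C ⧸ L) * (t : C ⧸ L) = ((t * t : C) : C ⧸ L) := rfl
      rw [e2, ht2]
      rfl
    · have e : (t * x)⁻¹ = x * t := by
        rw [mul_inv_rev, htinv, inv_eq_of_mul_eq_one_left hx2]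
      rw [e, ← mul_assoc t t x, ht2, one_mul]
  · intro ℓ _
    show t * (t * ℓ) = ℓ
    rw [← mul_assoc, ht2, one_mul]
  · intro x _
    show t * (t * x) = x
    rw [← mul_assoc, ht2, one_mul]

end Count

end Cfsg.Agent.Lib.helper4
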