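import Mathlib
import Cfsg.Agent.Lib.helper4.KleinFour
import Cfsg.Agent.Lib.helper80.DefectGroup

/-!
# Groups of order `4 g₀` (`g₀` odd) without a normal 2-complement (helper4)

* `klein_of_no_normal_compl`: the Sylow 2-subgroups are Klein four-groups and all involutions are
  conjugate.
-/

set_option autoImplicit false

namespace Cfsg.Agent.Lib.helper4

open Cfsg

universe u

theorem orderOf_eq_of_isConj {G : Type u} [Group G] {a b : G} (h : IsConj a b) :
    orderOf a = orderOf b := by
  obtain ⟨c, hc⟩ := isConj_iff.mp h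
  rw [← hc]
  exact (orderOf_injective (MulAut.conj c).toMonoidHom (MulAut.conj c).injective a).symm

/-- A group of order `4 g₀`, `g₀` odd, without a normal subgroup of order `g₀`: the Sylow
2-subgroups are four-groups and all involutions are conjugate. -/
theorem klein_of_no_normal_compl {G : Type u} [Group G] [Finite G] (g₀ : ℕ) (hg₀ : Odd g₀)
    (hG : Nat.card G = 4 * g₀) (hnc : ¬ ∃ N : Subgroup G, N.Normal ∧ Nat.card N = g₀)
    (P : Sylow 2 G) :
    IsKleinFour (P : Subgroup G) ∧
      ∀ s t : G, orderOf s = 2 → orderOf t = 2 → IsConj s t := by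
  classical
  haveI : Fact (Nat.Prime 2) := ⟨Nat.prime_two⟩
  have := Fintype.ofFinite G
  have hg0 : g₀ ≠ 0 := by
    rintro rfl
    exact (Nat.not_odd_iff_even.mpr (by decide : Even 0)) hg₀
  have hfac : (Nat.card G).factorization 2 = 2 := by
    rw [hG]
    have h4 : (4 : ℕ) = 2 ^ 2 := by norm_num
    rw [h4, Nat.factorization_mul (by norm_num) hg0, Finsupp.coe_add, Pi.add_apply,
      Nat.Prime.factorization_pow Nat.prime_two, Finsupp.single_eq_same,
      Nat.factorization_eq_zero_of_not_dvd (fun h => (Nat.not_even_iff_odd.mpr hg₀)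
        (even_iff_two_dvd.mpr h))]
  have hP4 : Nat.card (P : Subgroup G) = 4 := by
    rw [Sylow.card_eq_multiplicity, hfac]
    norm_num
  have hPab : ∀ a ∈ (P : Subgroup G), ∀ b ∈ (P : Subgroup G), a * b = b * a := by
    intro a ha b hb
    have h := IsPGroup.commutative_of_card_eq_prime_sq (p := 2) (G := (P : Subgroup G))
      (by rw [hP4]; norm_num) ⟨a, ha⟩ ⟨b, hb⟩
    exact congrArg Subtype.val h
  have hN : ¬ Subgroup.normalizer ((P : Subgroup G) : Set G) ≤
      Subgroup.centralizer ((P : Subgroup G) : Set G) := by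
    intro hN
    apply hnc
    refine ⟨(MonoidHom.transferSylow P hN).ker, inferInstance, ?_⟩
    have h := (MonoidHom.ker_transferSylow_isComplement' P hN).card_mul_card
    rw [hP4, hG] at h
    omega
  obtain ⟨n, hn, hnC⟩ := Set.not_subset.mp hN
  have hnC' : ¬ ∀ h ∈ ((P : Subgroup G) : Set G), h * n = n * h := fun h =>
    hnC (Subgroup.mem_centralizer_iff.mpr h)
  push Not at hnC'
  obtain ⟨u, hu, hun⟩ := hnC'
  have hn' := Subgroup.mem_normalizer_iff.mp hn
  obtain ⟨j, m, hm, hord⟩ := Nat.exists_eq_two_pow_mul_odd (orderOf_pos n).ne'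
  have hnm : n ^ m ∈ (P : Subgroup G) := by
    have hpow : (n ^ m) ^ 2 ^ j = 1 := by
      rw [← pow_mul, mul_comm, ← hord, pow_orderOf_eq_one]
    have hpg : IsPGroup 2 (Subgroup.zpowers (n ^ m)) := by
      rintro ⟨w, hw⟩
      obtain ⟨i, rfl⟩ := Subgroup.mem_zpowers_iff.mp hw
      refine ⟨j, Subtype.ext ?_⟩
      show ((n ^ m) ^ i) ^ 2 ^ j = 1
      rw [← zpow_natCast, ← zpow_mul, mul_comm, zpow_mul, zpow_natCast, hpow, one_zpow]
    have h1 := IsPGroup.inf_normalizer_sylow hpg P
    have h2 : n ^ m ∈ Subgroup.zpowers (n ^ m) ⊓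
        Subgroup.normalizer ((P : Subgroup G) : Set G) :=
      ⟨Subgroup.mem_zpowers _, pow_mem hn m⟩
    have h3 : n ^ m ∈ Subgroup.zpowers (n ^ m) ⊓ (P : Subgroup G) := h1 ▸ h2
    exact h3.2
  obtain ⟨v, hv⟩ : ∃ v, v = n * u * n⁻¹ := ⟨_, rfl⟩
  obtain ⟨w, hw⟩ : ∃ w, w = n * v * n⁻¹ := ⟨_, rfl⟩
  have hvP : v ∈ (P : Subgroup G) := hv ▸ (hn' u).mp hu
  have hwP : w ∈ (P : Subgroup G) := hw ▸ (hn' v).mp hvP
  have hu1 : u ≠ 1 := by
    rintro rfl
    exact hun (by rw [one_mul, mul_one])
  have hvu : v ≠ u := by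
    intro h
    apply hun
    have e : n * u = n * u * n⁻¹ * n := by group
    rw [e, ← hv, h]
  have hun' : n⁻¹ * v * n = u := by rw [hv]; group
  have hvn' : n⁻¹ * w * n = v := by rw [hw]; group
  have hv1 : v ≠ 1 := by
    intro h
    apply hu1
    rw [← hun', h]
    group
  have hw1 : w ≠ 1 := by
    intro h
    apply hv1
    rw [← hvn', h]
    group
  have hwv : w ≠ v := by
    intro h
    apply hvu
    rw [h, hun'] at hvn'
    exact hvn'.symm
  have hwu : w ≠ u := by
    intro h
    have hc2 : Commute (n * n) u := by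
      show n * n * u = u * (n * n)
      have e : n * n * u = w * (n * n) := by rw [hw, hv]; group
      rw [e, h]
    obtain ⟨t, ht⟩ := hm
    have h5 : Commute (n ^ m) u := hPab _ hnm u hu
    have h3 : n = ((n * n) ^ t)⁻¹ * n ^ m := by
      rw [ht, pow_succ, ← pow_two, ← pow_mul]
      group
    have h6 : Commute n u := by
      rw [h3]
      exact (hc2.pow_left t).inv_left.mul_left h5
    exact hun h6.eq.symm
  have hsub : ({1, u, v, w} : Finset G) ⊆ ((P : Subgroup G) : Set G).toFinset := by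
    intro x hx
    simp only [Finset.mem_insert, Finset.mem_singleton] at hx
    rw [Set.mem_toFinset]
    rcases hx with rfl | rfl | rfl | rfl
    · exact one_mem _
    · exact hu
    · exact hvP
    · exact hwP
  have hcard4 : ({1, u, v, w} : Finset G).card = 4 := by
    rw [Finset.card_insert_of_notMem, Finset.card_insert_of_notMem,
      Finset.card_insert_of_notMem, Finset.card_singleton]
    · simp only [Finset.mem_singleton]; exact fun h => hwv h.symm
    · simp only [Finset.mem_insert, Finset.mem_singleton, not_or]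
      exact ⟨fun h => hvu h.symm, fun h => hwu h.symm⟩
    · simp only [Finset.mem_insert, Finset.mem_singleton, not_or]
      exact ⟨fun h => hu1 h.symm, fun h => hv1 h.symm, fun h => hw1 h.symm⟩
  have hcardP : (((P : Subgroup G) : Set G).toFinset).card = 4 := by
    rw [Set.toFinset_card, ← Nat.card_eq_fintype_card]
    exact hP4
  have heq : ({1, u, v, w} : Finset G) = ((P : Subgroup G) : Set G).toFinset :=
    Finset.eq_of_subset_of_card_le hsub (by rw [hcard4, hcardP])
  have hmemP : ∀ x ∈ (P : Subgroup G), x = 1 ∨ x = u ∨ x = v ∨ x = w := by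
    intro x hx
    have h : x ∈ ({1, u, v, w} : Finset G) := by
      rw [heq, Set.mem_toFinset]
      exact hx
    simpa using h
  have hconj_uv : IsConj u v := isConj_iff.mpr ⟨n, hv.symm⟩
  have hconj_vw : IsConj v w := isConj_iff.mpr ⟨n, hw.symm⟩
  have hconjP : ∀ x ∈ (P : Subgroup G), x ≠ 1 → IsConj u x := by
    intro x hx hx1
    rcases hmemP x hx with h | h | h | h
    · exact absurd h hx1
    · rw [h]
    · rw [h]; exact hconj_uv
    · rw [h]; exact hconj_uv.trans hconj_vw
  have hinto : ∀ s : G, orderOf s = 2 → ∃ x ∈ (P : Subgroup G), x ≠ 1 ∧ IsConj s x := by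
    intro s hs
    have hpg : IsPGroup 2 (Subgroup.zpowers s) := by
      apply IsPGroup.of_card (n := 1)
      rw [Nat.card_zpowers, hs]
      norm_num
    obtain ⟨c, hc⟩ := Cfsg.Agent.Lib.helper80.exists_conj_mem_sylow P (Subgroup.zpowers s) hpg
    refine ⟨c⁻¹ * s * c, hc s (Subgroup.mem_zpowers s), ?_, isConj_iff.mpr ⟨c⁻¹, by rw [inv_inv]⟩⟩
    intro h
    have e : s = c * (c⁻¹ * s * c) * c⁻¹ := by group
    rw [h] at e
    have e' : s = 1 := by rw [e]; group
    rw [e', orderOf_one] at hs
    omega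
  obtain ⟨s0, hs0⟩ := exists_prime_orderOf_dvd_card' 2 (by rw [hG]; omega : 2 ∣ Nat.card G)
  obtain ⟨x0, hx0P, hx01, hx0c⟩ := hinto s0 hs0
  have hu2 : orderOf u = 2 := by
    rw [orderOf_eq_of_isConj (hconjP x0 hx0P hx01), ← orderOf_eq_of_isConj hx0c, hs0]
  refine ⟨?_, ?_⟩
  · have hnt : Nontrivial (P : Subgroup G) := by
      apply Finite.one_lt_card_iff_nontrivial.mp
      rw [hP4]
      norm_num
    refine { card_four := hP4, exponent_two := ?_ }
    rw [Monoid.exponent_eq_prime_iff Nat.prime_two]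
    intro g hg
    have hg1 : (g : G) ≠ 1 := fun h => hg (Subtype.ext h)
    rw [← Subgroup.orderOf_coe, ← orderOf_eq_of_isConj (hconjP g g.2 hg1), hu2]
  · intro s t hs ht
    obtain ⟨x, hxP, hx1, hsx⟩ := hinto s hs
    obtain ⟨y, hyP, hy1, hty⟩ := hinto t ht
    exact hsx.trans ((hconjP x hxP hx1).symm.trans ((hconjP y hyP hy1).trans hty.symm))

end Cfsg.Agent.Lib.helper4
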