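import Mathlib
import Cfsg.Agent.Lib.helper4.KleinGT
import Cfsg.Agent.Lib.helper4.KleinCount

/-!
# The count of pairs of involutions with product in `J · O(C(J))` (helper4)

For a group of order `4 g₀` without a normal 2-complement, `J` an involution of the Sylow
2-subgroup `P`, `L = O(C_G(J))`: the number of pairs `(ρ, a)`, `ρ ∈ L`, `a` an involution of `G`
with `a⁻¹ J ρ` an involution, is `2 (|C(J)| / |C(P)|)²`.
-/

set_option autoImplicit false

namespace Cfsg.Agent.Lib.helper4

open Cfsg

universe u

/-- The elements of a four-group. -/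
theorem klein_elements {G : Type u} [Group G] [Finite G] (P : Subgroup G)
    (hP : IsKleinFour P) {x y : G} (hx : x ∈ P) (hy : y ∈ P) (hx1 : x ≠ 1) (hy1 : y ≠ 1)
    (hxy : x ≠ y) : ∀ w ∈ P, w = 1 ∨ w = x ∨ w = y ∨ w = x * y := by
  classical
  have := Fintype.ofFinite G
  have hsq := klein_mul_self P hP
  have hsub : ({1, x, y, x * y} : Finset G) ⊆ (P : Set G).toFinset := by
    intro w hw
    simp only [Finset.mem_insert, Finset.mem_singleton] at hw
    rw [Set.mem_toFinset]
    rcases hw with rfl | rfl | rfl | rfl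
    · exact one_mem _
    · exact hx
    · exact hy
    · exact mul_mem hx hy
  have hcard4 : ({1, x, y, x * y} : Finset G).card = 4 := by
    have e1 : x * y ≠ 1 := by
      intro h
      apply hxy
      have e : x = x * y * y := by rw [mul_assoc, hsq y hy, mul_one]
      rw [e, h, one_mul]
    have e2 : x * y ≠ x := by
      intro h
      apply hy1
      have e : y = x⁻¹ * (x * y) := by group
      rw [e, h]
      group
    have e3 : x * y ≠ y := by
      intro h
      apply hx1
      have e : x = x * y * y⁻¹ := by group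
      rw [e, h]
      group
    rw [Finset.card_insert_of_notMem, Finset.card_insert_of_notMem,
      Finset.card_insert_of_notMem, Finset.card_singleton]
    · simp only [Finset.mem_singleton]; exact fun h => e3 h.symm
    · simp only [Finset.mem_insert, Finset.mem_singleton, not_or]
      exact ⟨hxy, fun h => e2 h.symm⟩
    · simp only [Finset.mem_insert, Finset.mem_singleton, not_or]
      exact ⟨fun h => hx1 h.symm, fun h => hy1 h.symm, fun h => e1 h.symm⟩
  have hcardP : ((P : Set G).toFinset).card = 4 := by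
    rw [Set.toFinset_card, ← Nat.card_eq_fintype_card]
    exact hP.card_four
  have heq : ({1, x, y, x * y} : Finset G) = (P : Set G).toFinset :=
    Finset.eq_of_subset_of_card_le hsub (by rw [hcard4, hcardP])
  intro w hw
  have h : w ∈ ({1, x, y, x * y} : Finset G) := by
    rw [heq, Set.mem_toFinset]
    exact hw
  simpa using h

/-- If the product of two involutions is `J ρ` with `J` an involution and `ρ` of odd order
commuting with `J`, then both involutions centralize `J`. -/
theorem commute_of_mul_eq_involution_mul {G : Type u} [Group G] {a b J ρ : G}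
    (ha : a * a = 1) (hb : b * b = 1) (hJ : J * J = 1) (hρ : Odd (orderOf ρ))
    (hJρ : Commute J ρ) (hab : a * b = J * ρ) : a * J = J * a := by
  have hainv : a⁻¹ = a := inv_eq_of_mul_eq_one_left ha
  have hbinv : b⁻¹ = b := inv_eq_of_mul_eq_one_left hb
  have hJinv : J⁻¹ = J := inv_eq_of_mul_eq_one_left hJ
  obtain ⟨r, hr⟩ := hρ
  have hpow : (J * ρ) ^ orderOf ρ = J := by
    rw [hJρ.mul_pow, pow_orderOf_eq_one, mul_one, hr, pow_succ, pow_mul, pow_two, hJ, one_pow,
      one_mul]
  have hconj : a * (J * ρ) * a⁻¹ = (J * ρ)⁻¹ := by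
    rw [← hab, mul_inv_rev, hainv, hbinv]
    calc a * (a * b) * a = a * a * b * a := by group
      _ = b * a := by rw [ha, one_mul]
  have h1 : a * J * a⁻¹ = J⁻¹ := by
    have h2 : a * (J * ρ) ^ orderOf ρ * a⁻¹ = (a * (J * ρ) * a⁻¹) ^ orderOf ρ := conj_pow.symm
    rw [hconj, inv_pow, hpow] at h2
    exact h2
  rw [hJinv, hainv] at h1
  calc a * J = a * J * a * a := by rw [mul_assoc (a * J), ha, mul_one]
    _ = J * a := by rw [h1]

/-- The count of pairs of involutions for the order formula. -/
theorem klein_pair_count {G : Type u} [Group G] [Finite G] (g₀ : ℕ) (hg₀ : Odd g₀)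
    (hG : Nat.card G = 4 * g₀) (hnc : ¬ ∃ N : Subgroup G, N.Normal ∧ Nat.card N = g₀)
    (P : Sylow 2 G) (J : G) (hJP : J ∈ (P : Subgroup G)) (hJ : orderOf J = 2) :
    (pPrimeCore 2 (Subgroup.centralizer ({J} : Set G))).index = 4 ∧
    ∃ n : ℕ, n * Nat.card (Subgroup.centralizer ((P : Subgroup G) : Set G)) =
        Nat.card (Subgroup.centralizer ({J} : Set G)) ∧
      Nat.card {x : (pPrimeCore 2 (Subgroup.centralizer ({J} : Set G))) × G //
        orderOf x.2 = 2 ∧ orderOf (x.2⁻¹ * (J *
          ((x.1 : Subgroup.centralizer ({J} : Set G)) : G))) = 2} = 2 * n ^ 2 := by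
  classical
  haveI : Fact (Nat.Prime 2) := ⟨Nat.prime_two⟩
  obtain ⟨hK, hone⟩ := klein_of_no_normal_compl g₀ hg₀ hG hnc P
  have hJ1 : J ≠ 1 := by
    rintro rfl
    rw [orderOf_one] at hJ
    omega
  have hJ2 : J * J = 1 := mul_self_of_orderOf_two hJ
  obtain ⟨⟨k, hk⟩, hfacC, -⟩ := klein_centralizer_facts P hK J hJP hJ1
  have hLn : (pPrimeCore 2 (Subgroup.centralizer ({J} : Set G))).Normal :=
    Cfsg.Agent.Lib.helper40.pPrimeCore_normal' 2 _
  have hcop := Cfsg.Agent.Lib.helper40.pPrimeCore_card_coprime 2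
    (Subgroup.centralizer ({J} : Set G))
  have hodd : Odd (Nat.card (pPrimeCore 2 (Subgroup.centralizer ({J} : Set G)))) :=
    Nat.coprime_two_right.mp hcop
  have hidx : (pPrimeCore 2 (Subgroup.centralizer ({J} : Set G))).index = 4 := by
    have h1 := Subgroup.index_mul_card (pPrimeCore 2 (Subgroup.centralizer ({J} : Set G)))
    rw [hk] at h1
    rw [← h1, Nat.factorization_mul (pow_ne_zero k two_ne_zero) Nat.card_pos.ne',
      Finsupp.coe_add, Pi.add_apply, Nat.Prime.factorization_pow Nat.prime_two,
      Finsupp.single_eq_same, Nat.factorization_eq_zero_of_not_dvd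
        (fun h => (Nat.not_even_iff_odd.mpr hodd) (even_iff_two_dvd.mpr h))] at hfacC
    rw [hk]
    have : k = 2 := by omega
    rw [this]
    norm_num
  refine ⟨hidx, ?_⟩
  -- the involutions `J` and `t` of `C`
  have hJC : J ∈ Subgroup.centralizer ({J} : Set G) :=
    Subgroup.mem_centralizer_singleton_iff.mpr rfl
  obtain ⟨t, htP, htJz⟩ : ∃ t ∈ (P : Subgroup G), t ∉ Subgroup.zpowers J := by
    apply SetLike.exists_of_lt
    refine lt_of_le_of_ne (Subgroup.zpowers_le.mpr hJP) ?_
    intro h
    have h1 := Nat.card_zpowers J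
    rw [h, hK.card_four, hJ] at h1
    omega
  have ht1 : t ≠ 1 := fun h => htJz (h ▸ one_mem _)
  have htJ : t ≠ J := fun h => htJz (h ▸ Subgroup.mem_zpowers J)
  have hsq := klein_mul_self (P : Subgroup G) hK
  have hab := mul_comm_of_forall_mul_self (P : Subgroup G) hsq
  have ht2 : t * t = 1 := hsq t htP
  have hto : orderOf t = 2 := orderOf_eq_prime (by rw [pow_two]; exact ht2) ht1
  have htC : t ∈ Subgroup.centralizer ({J} : Set G) :=
    Subgroup.mem_centralizer_singleton_iff.mpr (hab t htP J hJP)
  have hJc2 : orderOf (⟨J, hJC⟩ : Subgroup.centralizer ({J} : Set G)) = 2 := by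
    rw [Subgroup.orderOf_mk]
    exact hJ
  have htc2 : orderOf (⟨t, htC⟩ : Subgroup.centralizer ({J} : Set G)) = 2 := by
    rw [Subgroup.orderOf_mk]
    exact hto
  have hJcc : ∀ x : Subgroup.centralizer ({J} : Set G), x * ⟨J, hJC⟩ = ⟨J, hJC⟩ * x := by
    intro x
    exact Subtype.ext (Subgroup.mem_centralizer_singleton_iff.mp x.2)
  have htcJ : (⟨t, htC⟩ : Subgroup.centralizer ({J} : Set G)) ≠ ⟨J, hJC⟩ := by
    intro h
    exact htJ (congrArg Subtype.val h)
  have hcount := card_involution_pairs (pPrimeCore 2 (Subgroup.centralizer ({J} : Set G))) hodd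
    hidx ⟨J, hJC⟩ ⟨t, htC⟩ hJc2 hJcc htc2 htcJ
  have hinv := card_inverted_eq_index (pPrimeCore 2 (Subgroup.centralizer ({J} : Set G))) hodd
    hidx ⟨t, htC⟩ htc2
  rw [hinv] at hcount
  refine ⟨(Subgroup.centralizer ({(⟨t, htC⟩ : Subgroup.centralizer ({J} : Set G))} :
    Set (Subgroup.centralizer ({J} : Set G)))).index, ?_, ?_⟩
  · -- the centralizer of `t` in `C` is `C_G(P)`
    rw [← Subgroup.index_mul_card (Subgroup.centralizer
      ({(⟨t, htC⟩ : Subgroup.centralizer ({J} : Set G))} :
        Set (Subgroup.centralizer ({J} : Set G))))]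
    congr 1
    symm
    have helts := klein_elements (P : Subgroup G) hK hJP htP hJ1 ht1 (fun h => htJ h.symm)
    refine Nat.card_congr
      { toFun := fun c => ⟨c.1.1, ?_⟩
        invFun := fun d => ⟨⟨d.1, ?_⟩, ?_⟩
        left_inv := fun c => rfl
        right_inv := fun d => rfl }
    · have h1 : (c.1 : G) * J = J * (c.1 : G) := Subgroup.mem_centralizer_singleton_iff.mp c.1.2
      have h2 : (c.1 : G) * t = t * (c.1 : G) :=
        congrArg Subtype.val (Subgroup.mem_centralizer_singleton_iff.mp c.2)
      rw [Subgroup.mem_centralizer_iff]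
      intro w hw
      rcases helts w hw with rfl | rfl | rfl | rfl
      · rw [one_mul, mul_one]
      · exact h1.symm
      · exact h2.symm
      · rw [mul_assoc, ← h2, ← mul_assoc, ← h1, mul_assoc]
    · exact Subgroup.mem_centralizer_singleton_iff.mpr
        ((Subgroup.mem_centralizer_iff.mp d.2 J hJP).symm)
    · exact Subgroup.mem_centralizer_singleton_iff.mpr
        (Subtype.ext (Subgroup.mem_centralizer_iff.mp d.2 t htP).symm)
  · rw [← hcount]
    symm
    -- the bijection `(a, b) ↦ (J a b, a)`
    let f : {p : (Subgroup.centralizer ({J} : Set G)) × (Subgroup.centralizer ({J} : Set G)) //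
        orderOf p.1 = 2 ∧ orderOf p.2 = 2 ∧ (⟨J, hJC⟩ : Subgroup.centralizer ({J} : Set G)) *
          p.1 * p.2 ∈ pPrimeCore 2 (Subgroup.centralizer ({J} : Set G))} →
        {x : (pPrimeCore 2 (Subgroup.centralizer ({J} : Set G))) × G //
          orderOf x.2 = 2 ∧ orderOf (x.2⁻¹ * (J *
            ((x.1 : Subgroup.centralizer ({J} : Set G)) : G))) = 2} :=
      fun p => ⟨(⟨(⟨J, hJC⟩ : Subgroup.centralizer ({J} : Set G)) * p.1.1 * p.1.2, p.2.2.2⟩,
        (p.1.1 : G)), by
          refine ⟨?_, ?_⟩
          · show orderOf ((p.1.1 : Subgroup.centralizer ({J} : Set G)) : G) = 2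
            rw [Subgroup.orderOf_coe]
            exact p.2.1
          · show orderOf (((p.1.1 : Subgroup.centralizer ({J} : Set G)) : G)⁻¹ *
              (J * (J * ((p.1.1 : Subgroup.centralizer ({J} : Set G)) : G) *
                ((p.1.2 : Subgroup.centralizer ({J} : Set G)) : G)))) = 2
            have e : ((p.1.1 : Subgroup.centralizer ({J} : Set G)) : G)⁻¹ *
                (J * (J * ((p.1.1 : Subgroup.centralizer ({J} : Set G)) : G) *
                  ((p.1.2 : Subgroup.centralizer ({J} : Set G)) : G))) =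
                ((p.1.2 : Subgroup.centralizer ({J} : Set G)) : G) := by
              rw [← mul_assoc J, ← mul_assoc J, hJ2, one_mul, inv_mul_cancel_left]
            rw [e, Subgroup.orderOf_coe]
            exact p.2.2.1⟩
    apply Nat.card_eq_of_bijective f
    constructor
    · intro p p' h
      have h1 : ((f p).1.2 : G) = (f p').1.2 := by rw [h]
      have h2 : ((f p).1.1 : Subgroup.centralizer ({J} : Set G)) = (f p').1.1 := by rw [h]
      have h3 : p.1.1 = p'.1.1 := Subtype.ext h1
      have h4 : (⟨J, hJC⟩ : Subgroup.centralizer ({J} : Set G)) * p.1.1 * p.1.2 =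
          ⟨J, hJC⟩ * p'.1.1 * p'.1.2 := h2
      rw [h3] at h4
      exact Subtype.ext (Prod.ext h3 (mul_left_cancel h4))
    · rintro ⟨⟨ρ, a⟩, ha, hb⟩
      simp only at ha hb
      have ha2 : a * a = 1 := mul_self_of_orderOf_two ha
      have hb2 := mul_self_of_orderOf_two hb
      have hρodd : Odd (orderOf ((ρ : Subgroup.centralizer ({J} : Set G)) : G)) := by
        rw [Subgroup.orderOf_coe]
        exact Odd.of_dvd_nat hodd (Subgroup.orderOf_dvd_natCard _ ρ.2)
      have hJρ : Commute J ((ρ : Subgroup.centralizer ({J} : Set G)) : G) :=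
        (Subgroup.mem_centralizer_singleton_iff.mp (ρ : Subgroup.centralizer ({J} : Set G)).2).symm
      have haC : a ∈ Subgroup.centralizer ({J} : Set G) := by
        apply Subgroup.mem_centralizer_singleton_iff.mpr
        exact commute_of_mul_eq_involution_mul ha2 hb2 hJ2 hρodd hJρ (by group)
      have hbC : a⁻¹ * (J * ((ρ : Subgroup.centralizer ({J} : Set G)) : G)) ∈
          Subgroup.centralizer ({J} : Set G) :=
        mul_mem (inv_mem haC) (mul_mem hJC (ρ : Subgroup.centralizer ({J} : Set G)).2)
      have hprod : (⟨J, hJC⟩ : Subgroup.centralizer ({J} : Set G)) * ⟨a, haC⟩ *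
          ⟨a⁻¹ * (J * ((ρ : Subgroup.centralizer ({J} : Set G)) : G)), hbC⟩ =
          (ρ : Subgroup.centralizer ({J} : Set G)) := by
        apply Subtype.ext
        show J * a * (a⁻¹ * (J * ((ρ : Subgroup.centralizer ({J} : Set G)) : G))) = _
        rw [mul_assoc J, mul_inv_cancel_left, ← mul_assoc, hJ2, one_mul]
      refine ⟨⟨(⟨a, haC⟩, ⟨a⁻¹ * (J * ((ρ : Subgroup.centralizer ({J} : Set G)) : G)), hbC⟩),
        ?_, ?_, ?_⟩, ?_⟩
      · rw [Subgroup.orderOf_mk]
        exact ha
      · rw [Subgroup.orderOf_mk]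
        exact hb
      · rw [hprod]
        exact ρ.2
      · apply Subtype.ext
        apply Prod.ext
        · exact Subtype.ext hprod
        · rfl

end Cfsg.Agent.Lib.helper4
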