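import Mathlib

/-!
# The arithmetic behind the second Klein-four order formula (helper4)
-/

set_option autoImplicit false

namespace Cfsg.Agent.Lib.helper4

theorem klein_order_arith {g cJ cP n k x q : ℕ} (hcP : 0 < cP) (hcJ : 0 < cJ) (hx : Odd x)
    (hq : q = 2 * x + 1) (hn : n * cP = cJ) (hk : k * cJ = g) (hxk : x ∣ k) (hqk : q ∣ k)
    (hS : (g : ℚ) = 8 * (((x : ℚ) * x * q) / (((x : ℚ) + 1) * ((x : ℚ) + 1) * ((q : ℚ) + (-1)))) *
      (cJ : ℚ) ^ 3 / (cP : ℚ) ^ 2) :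
    ∃ m : ℕ, 4 * cJ = m * cP * (q + 1) ∧ 8 * g = m ^ 3 * cP * (q ^ 3 - q) := by
  obtain ⟨r', hr'⟩ := hx
  have hx0 : 0 < x := by omega
  obtain ⟨r, hr⟩ : ∃ r : ℕ, x + 1 = 2 * r := ⟨r' + 1, by omega⟩
  have hr0 : 0 < r := by omega
  have hn0 : 0 < n := by
    rcases Nat.eq_zero_or_pos n with h | h
    · rw [h, zero_mul] at hn
      omega
    · exact h
  -- clear denominators
  have hS' : (g : ℚ) * ((x : ℚ) + 1) ^ 2 * (cP : ℚ) ^ 2 = 4 * x * q * (cJ : ℚ) ^ 3 := by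
    have hxq : (x : ℚ) ≠ 0 := by exact_mod_cast hx0.ne'
    have hx1 : (x : ℚ) + 1 ≠ 0 := by positivity
    have hcPq : (cP : ℚ) ≠ 0 := by exact_mod_cast hcP.ne'
    have hqq : (q : ℚ) + (-1) = 2 * x := by
      rw [hq]
      push_cast
      ring
    rw [hS, hqq]
    field_simp
    ring
  have hS'' : g * (x + 1) ^ 2 * cP ^ 2 = 4 * x * q * cJ ^ 3 := by exact_mod_cast hS'
  have h1 : k * (x + 1) ^ 2 = 4 * x * q * n ^ 2 := by
    rw [← hk, ← hn] at hS''
    have h2 : (n * cP ^ 3) * (k * (x + 1) ^ 2) = (n * cP ^ 3) * (4 * x * q * n ^ 2) := by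
      calc (n * cP ^ 3) * (k * (x + 1) ^ 2) = k * (n * cP) * (x + 1) ^ 2 * cP ^ 2 := by ring
        _ = 4 * x * q * (n * cP) ^ 3 := hS''
        _ = (n * cP ^ 3) * (4 * x * q * n ^ 2) := by ring
    exact Nat.eq_of_mul_eq_mul_left (by positivity) h2
  have hcop : Nat.Coprime x q := by
    rw [hq]
    have h3 : Nat.Coprime x (x * 2 + 1) := by
      rw [Nat.coprime_mul_left_add_right]
      exact Nat.coprime_one_right x
    rwa [mul_comm] at h3
  obtain ⟨w, hw⟩ := Nat.Coprime.mul_dvd_of_dvd_of_dvd hcop hxk hqk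
  have hq0 : 0 < q := by omega
  have h4 : w * (x + 1) ^ 2 = 4 * n ^ 2 := by
    rw [hw] at h1
    have h5 : (x * q) * (w * (x + 1) ^ 2) = (x * q) * (4 * n ^ 2) := by
      calc (x * q) * (w * (x + 1) ^ 2) = x * q * w * (x + 1) ^ 2 := by ring
        _ = 4 * x * q * n ^ 2 := h1
        _ = (x * q) * (4 * n ^ 2) := by ring
    exact Nat.eq_of_mul_eq_mul_left (by positivity) h5
  have h6 : w * r ^ 2 = n ^ 2 := by
    rw [hr] at h4
    have h7 : 4 * (w * r ^ 2) = 4 * n ^ 2 := by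
      calc 4 * (w * r ^ 2) = w * (2 * r) ^ 2 := by ring
        _ = 4 * n ^ 2 := h4
    exact Nat.eq_of_mul_eq_mul_left (by norm_num) h7
  have h8 : r ∣ n := by
    rw [← Nat.pow_dvd_pow_iff (two_ne_zero)]
    exact ⟨w, by rw [← h6]; ring⟩
  obtain ⟨m, hm⟩ := h8
  have h9 : w = m ^ 2 := by
    rw [hm] at h6
    have h10 : r ^ 2 * w = r ^ 2 * m ^ 2 := by
      calc r ^ 2 * w = w * r ^ 2 := by ring
        _ = (r * m) ^ 2 := h6
        _ = r ^ 2 * m ^ 2 := by ring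
    exact Nat.eq_of_mul_eq_mul_left (by positivity) h10
  refine ⟨m, ?_, ?_⟩
  · rw [← hn, hm, hq]
    have : 2 * x + 1 + 1 = 4 * r := by omega
    rw [this]
    ring
  · have hq3 : q ^ 3 - q = 8 * x * q * r := by
      have h11 : q ^ 3 = q + 4 * x * q * (x + 1) := by
        rw [hq]
        ring
      have h12 : 8 * x * q * r = 4 * x * q * (x + 1) := by
        rw [hr]
        ring
      rw [h12, h11]
      exact Nat.add_sub_cancel_left _ _
    rw [hq3, ← hk, hw, h9, ← hn, hm]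
    ring

end Cfsg.Agent.Lib.helper4
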