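import Mathlib
import Cfsg.Agent.Lib.helper78.FrobSchur2
import Cfsg.Agent.Lib.helper78.OddCount
import Cfsg.Agent.Lib.helper4.KleinChar
import Cfsg.Agent.Lib.helper4.KleinGT
import Cfsg.Agent.Lib.helper4.KleinCount

/-!
# Frobenius–Schur indicators and the principal block on a section (helper4)

* `irr_fs_indicator_strong`: the indicator is `0`, `1` or `-1`; it is `0` only for non-real
  characters and `-1` only for characters of even degree.
* `sum_classFun_section`: for a class function `F` and a `p`-element `J` whose centralizer has a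
  normal `p`-complement `L`: `∑_{ρ ∈ L} F(Jρ) = |L| ∑_{χ ∈ B₀} [F, χ] χ(J)`.
* `sqrtCount_section_eq_zero`: with a four-group Sylow `2`-subgroup, `Jρ` has no square root.
-/

set_option autoImplicit false

namespace Cfsg.Agent.Lib.helper4

open Cfsg Cfsg.Agent.Lib.helper78
open scoped ComplexConjugate

universe u

theorem irr_fs_indicator_strong {G : Type u} [Group G] [Fintype G] (χ : IrrCharacter G) :
    ∃ e : ℤ, (e = 0 ∨ e = 1 ∨ e = -1) ∧
      (Nat.card G : ℂ)⁻¹ * ∑ s : G, (χ : G → ℂ) (s * s) = (e : ℂ) ∧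
      (e = 0 → ¬ ∀ g : G, conj ((χ : G → ℂ) g) = (χ : G → ℂ) g) ∧
      (e = -1 → Even (charDegree (χ : G → ℂ))) := by
  obtain ⟨n, ρ, hρ, h⟩ := χ.2
  have hdeg : charDegree (χ : G → ℂ) = n := by
    have h1 := Cfsg.Agent.Lib.helper81.irr_one_eq_charDegree χ
    have h2 : (χ : G → ℂ) 1 = (n : ℂ) := by
      rw [← h]
      exact Cfsg.Agent.Lib.helper83.character_one ρ
    rw [h2] at h1
    exact_mod_cast h1.symm
  rcases fs_trichotomy ρ hρ with ⟨hbot, h0⟩ | ⟨hreal, ⟨M₀, hM0, hM0mem⟩, c, hc, hall, hν⟩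
  · refine ⟨0, Or.inl rfl, ?_, ?_, fun h => by norm_num at h⟩
    · rw [← h, h0]
      simp
    · intro _ hreal
      have h1 := finrank_fsForms_of_real ρ hρ (by intro g; rw [h]; exact hreal g)
      rw [hbot, finrank_bot] at h1
      exact zero_ne_one h1
  · rcases hc with rfl | rfl
    · refine ⟨1, Or.inr (Or.inl rfl), ?_, fun h => by norm_num at h, fun h => by norm_num at h⟩
      rw [← h, hν]
      simp
    · refine ⟨-1, Or.inr (Or.inr rfl), ?_, fun h => by norm_num at h, fun _ => ?_⟩
      · rw [← h, hν]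
        simp
      · rw [hdeg]
        have hu := isUnit_of_mem_fsForms ρ hρ hM0mem hM0
        have hdet : M₀.det ≠ 0 := ((Matrix.isUnit_iff_isUnit_det M₀).mp hu).ne_zero
        have h1 := hall M₀ hM0mem
        have h2 := congrArg Matrix.det h1
        rw [Matrix.det_transpose, Matrix.det_smul, Fintype.card_fin] at h2
        have h3 : ((-1 : ℂ)) ^ n = 1 := by
          have h4 : (1 : ℂ) * M₀.det = (-1) ^ n * M₀.det := by rw [one_mul]; exact h2
          exact (mul_right_cancel₀ hdet h4).symm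
        exact (neg_one_pow_eq_one_iff_even (by norm_num : (-1 : ℂ) ≠ 1)).mp h3

section Section

variable {G : Type u} [Group G] [Fintype G]

open Classical in
/-- Class functions on the section of a `p`-element with `p`-nilpotent centralizer. -/
theorem sum_classFun_section {M : Ideal AlgInt} {p : ℕ} [Fact p.Prime] (hM : IsPModular p M)
    (J : G) (hJ : ∃ k : ℕ, orderOf J = p ^ k)
    (hidx : ∃ k : ℕ, (pPrimeCore p (Subgroup.centralizer ({J} : Set G))).index = p ^ k)
    {F : G → ℂ} (hF : IsClassFunction G F) :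
    ∑ ρ : pPrimeCore p (Subgroup.centralizer ({J} : Set G)),
      F (J * ((ρ : Subgroup.centralizer ({J} : Set G)) : G)) =
    (Nat.card (pPrimeCore p (Subgroup.centralizer ({J} : Set G))) : ℂ) *
      ∑ χ : IrrCharacter G, (if χ ∈ principalBlock M G then
        classInner F (χ : G → ℂ) * (χ : G → ℂ) J else 0) := by
  have hexp := classFunction_eq_sum_irr hF
  have hval : ∀ g : G, F g =
      ∑ χ : IrrCharacter G, classInner F (χ : G → ℂ) * (χ : G → ℂ) g := by
    intro g
    have := congrFun hexp g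
    rw [this]
    simp [Finset.sum_apply]
  simp_rw [hval]
  rw [Finset.sum_comm, Finset.mul_sum]
  refine Finset.sum_congr rfl fun χ _ => ?_
  rw [← Finset.mul_sum]
  obtain ⟨h1, h2⟩ := principal_section_avg hM J hJ hidx χ
  by_cases hχ : χ ∈ principalBlock M G
  · rw [if_pos hχ, Finset.sum_congr rfl (fun y _ => h1 hχ y), Finset.sum_const, Finset.card_univ,
      nsmul_eq_mul, ← Nat.card_eq_fintype_card]
    ring
  · rw [if_neg hχ, h2 hχ, mul_zero, mul_zero]

/-- The inner product of the square-root counting function with an irreducible character. -/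
theorem classInner_sqrtCount (χ : IrrCharacter G) :
    classInner (sqrtCount (G := G)) (χ : G → ℂ) =
      conj ((Nat.card G : ℂ)⁻¹ * ∑ s : G, (χ : G → ℂ) (s * s)) := by
  unfold classInner
  rw [sum_sqrtCount_mul (fun x => conj ((χ : G → ℂ) x)), map_mul, map_sum, map_inv₀,
    Complex.conj_natCast]

/-- With a four-group Sylow `2`-subgroup, an element `J ρ` (`J` an involution, `ρ` of odd order
commuting with `J`) has no square root. -/
theorem sqrtCount_section_eq_zero (P : Sylow 2 G) (hK : IsKleinFour (P : Subgroup G)) {J ρ : G}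
    (hJ : orderOf J = 2) (hJρ : Commute J ρ) (hρ : Odd (orderOf ρ)) :
    sqrtCount (J * ρ) = 0 := by
  haveI : Fact (Nat.Prime 2) := ⟨Nat.prime_two⟩
  rw [sqrtCount_eq_card]
  have hempty : IsEmpty {s : G // s * s = J * ρ} := by
    refine ⟨fun ⟨s, hs⟩ => ?_⟩
    have hJ2 : J * J = 1 := mul_self_of_orderOf_two hJ
    obtain ⟨r, hr⟩ := hρ
    have hpow : (J * ρ) ^ orderOf ρ = J := by
      rw [hJρ.mul_pow, pow_orderOf_eq_one, mul_one, hr, pow_succ, pow_mul, pow_two, hJ2, one_pow,
        one_mul]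
    have hu : s ^ orderOf ρ * s ^ orderOf ρ = J := by
      rw [← (Commute.refl s).mul_pow (orderOf ρ), hs, hpow]
    have hu4 : (s ^ orderOf ρ) ^ 2 ^ 2 = 1 := by
      have e : (s ^ orderOf ρ) ^ 2 ^ 2 = (s ^ orderOf ρ * s ^ orderOf ρ) *
          (s ^ orderOf ρ * s ^ orderOf ρ) := by
        norm_num [pow_succ, mul_assoc]
      rw [e, hu, hJ2]
    have hpg : IsPGroup 2 (Subgroup.zpowers (s ^ orderOf ρ)) := by
      rintro ⟨w, hw⟩
      obtain ⟨i, rfl⟩ := Subgroup.mem_zpowers_iff.mp hw
      refine ⟨2, Subtype.ext ?_⟩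
      show ((s ^ orderOf ρ) ^ i) ^ 2 ^ 2 = 1
      rw [← zpow_natCast, ← zpow_mul, mul_comm, zpow_mul, zpow_natCast, hu4, one_zpow]
    obtain ⟨c, hc⟩ := Cfsg.Agent.Lib.helper80.exists_conj_mem_sylow P
      (Subgroup.zpowers (s ^ orderOf ρ)) hpg
    have h1 := klein_mul_self (P : Subgroup G) hK _ (hc _ (Subgroup.mem_zpowers _))
    have h2 : s ^ orderOf ρ * s ^ orderOf ρ = 1 := by
      have e : s ^ orderOf ρ * s ^ orderOf ρ =
          c * (c⁻¹ * s ^ orderOf ρ * c * (c⁻¹ * s ^ orderOf ρ * c)) * c⁻¹ := by group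
      rw [e, h1]
      group
    rw [hu] at h2
    rw [h2, orderOf_one] at hJ
    omega
  rw [Nat.card_of_isEmpty]
  simp

end Section

end Cfsg.Agent.Lib.helper4
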