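import Mathlib
import Cfsg.Agent.Lib.helper24.StsDefs
import Cfsg.Agent.Lib.helper25.SreEXT
import Cfsg.Agent.Lib.helper98.SrePT

/-!
helper4: S5973 piece WITT (`stp_witt`, `stp_witt_le`): Witt index by type, characteristic-free.
-/

set_option autoImplicit false
set_option linter.unusedSectionVars false
set_option linter.unusedVariables false

namespace Cfsg.Agent.Lib.helper24

open Module Cfsg.Agent.Lib.helper45 Cfsg.Agent.Lib.helper49

universe u

variable {F : Type u} [Field F] [Fintype F]

/-- A nondegenerate subspace `K` of dimension `2k'` and type `η` contains totally singular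
subspaces of every dimension `a ≤ k'` (`a ≤ k' - 1` for type `-1`), in every characteristic. -/
theorem stp_witt {V : Type u} [AddCommGroup V] [Module F V] [FiniteDimensional F V]
    (Q : QuadraticForm F V) (K : Submodule F V) (hK : SpNd (QuadraticMap.polarBilin Q) K)
    (k' : ℕ) (hdim : finrank F K = 2 * k') (η : ℤ) (hη : η = 1 ∨ η = -1) (hty : SrTy Q K η)
    (a : ℕ) (ha : a + (if η = -1 then 1 else 0) ≤ k') :
    ∃ W : Submodule F V, W ≤ K ∧ finrank F W = a ∧ ∀ w ∈ W, Q w = 0 := by
  by_cases hak : a < k'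
  · obtain ⟨W, hWK, hWnd, hWdim, hWty⟩ :=
      Cfsg.Agent.Lib.helper25.sre_exists_ty Q 1 (Or.inl rfl) a k' K hK hdim hak
        (by intro h; norm_num at h)
    obtain ⟨U, hUW, hU, hUdim⟩ := sr_ty_plus Q W hWnd ⟨a, by omega⟩ hWty
    exact ⟨U, hUW.trans hWK, by omega, hU⟩
  · have hη1 : η = 1 := by
      rcases hη with h | h
      · exact h
      · rw [if_pos h] at ha; omega
    have hak' : a = k' := by
      have : a ≤ k' := le_trans (Nat.le_add_right _ _) ha
      omega
    rw [hη1] at hty
    obtain ⟨U, hUK, hU, hUdim⟩ := sr_ty_plus Q K hK ⟨k', by omega⟩ hty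
    exact ⟨U, hUK, by omega, hU⟩

/-- A totally singular subspace of a nondegenerate subspace `K` of dimension `2k'` and type `-1`
has dimension at most `k' - 1`, in every characteristic. -/
theorem stp_witt_le {V : Type u} [AddCommGroup V] [Module F V] [FiniteDimensional F V]
    (Q : QuadraticForm F V) (K : Submodule F V) (hK : SpNd (QuadraticMap.polarBilin Q) K)
    (k' : ℕ) (hdim : finrank F K = 2 * k') (hty : SrTy Q K (-1))
    (U : Submodule F V) (hUK : U ≤ K) (hU : ∀ u ∈ U, Q u = 0) : finrank F U + 1 ≤ k' := by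
  have h1 := sts_ts_half Q K hK U hUK hU
  by_contra hcon
  have h2 : finrank F U = k' := by omega
  have hpl : SrPlus Q K := ⟨U, hUK, hU, by omega⟩
  have hty1 : SrTy Q K 1 := Cfsg.Agent.Lib.helper98.sre_plus_ty Q K hK hpl
  have h3 := Unif.unique hty hty1
  have hq : (0 : ℤ) < (Fintype.card F : ℤ) ^ (finrank F K / 2) := by
    apply pow_pos
    exact_mod_cast Fintype.card_pos
  linarith

end Cfsg.Agent.Lib.helper24
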