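import Mathlib
import Cfsg.Agent.Lib.helper24.StsDefs
import Cfsg.Agent.Lib.helper24.SroReal
import Cfsg.Agent.Lib.helper42.FormsNondeg
import Cfsg.Agent.Lib.helper45.OEven
import Cfsg.Agent.Lib.helper49.SreNEGP
import Cfsg.Agent.Lib.helper49.SreNEGM
import Cfsg.Agent.Lib.helper76.StpR2SB
import Cfsg.Agent.Lib.helper4.StpWITT

/-!
helper4: S5987 piece MR2B (`stm_neg_suff`): an isometry with square `-1` of the minus form
fixes a totally singular `m`-space for every even `m ≤ d - 1` (`q` odd).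

* `-1` a square: impossible, the whole space would be of plus type (`sre_neg_plus`), against
  `stp_witt_le`.
* `-1` a nonsquare: `h76_stp_neg_ts` (helper76.StpR2SB) inside the whole space.
-/

set_option autoImplicit false
set_option linter.unusedSectionVars false
set_option linter.unusedVariables false

namespace Cfsg.Agent.Lib.helper24

open Module Cfsg.Agent.Lib.helper45 Cfsg.Agent.Lib.helper49

universe u

section stmgeneric

variable {F : Type u} [Field F] [Fintype F]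

/-- PIECE MR2B. -/
theorem stm_neg_suff (hodd : Odd (Fintype.card F)) (d m : ℕ) (hd : 4 ≤ d) (hm : 1 ≤ m)
    (hmd : m + 1 ≤ d) (hme : Even m) (a b : F)
    (hab : ∀ x y : F, x ^ 2 + a * x * y + b * y ^ 2 = 0 → x = 0 ∧ y = 0)
    (x : GL ((Fin (d - 1) ⊕ Fin (d - 1)) ⊕ Fin 2) F)
    (hiso : ∀ u : ((Fin (d - 1) ⊕ Fin (d - 1)) ⊕ Fin 2) → F, Cfsg.quadFormMinus (d - 1) F a b
      ((x : Matrix ((Fin (d - 1) ⊕ Fin (d - 1)) ⊕ Fin 2) ((Fin (d - 1) ⊕ Fin (d - 1)) ⊕ Fin 2) F).mulVec u) = Cfsg.quadFormMinus (d - 1) F a b u)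
    (hx2 : (x : Matrix ((Fin (d - 1) ⊕ Fin (d - 1)) ⊕ Fin 2) ((Fin (d - 1) ⊕ Fin (d - 1)) ⊕ Fin 2) F) *
      (x : Matrix ((Fin (d - 1) ⊕ Fin (d - 1)) ⊕ Fin 2) ((Fin (d - 1) ⊕ Fin (d - 1)) ⊕ Fin 2) F) = -1) :
    ∃ W : Submodule F (((Fin (d - 1) ⊕ Fin (d - 1)) ⊕ Fin 2) → F), (finrank F W = m ∧
      Cfsg.Geo.IsTotallySingularQuad (Cfsg.quadFormMinus (d - 1) F a b) W) ∧
      W.map (Matrix.toLin' (x : Matrix ((Fin (d - 1) ⊕ Fin (d - 1)) ⊕ Fin 2) ((Fin (d - 1) ⊕ Fin (d - 1)) ⊕ Fin 2) F)) ≤ W := by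
  classical
  have h2 : (2 : F) ≠ 0 := by
    intro h
    have hdvd : ringChar F ∣ 2 := by
      apply (ringChar.spec F 2).mp
      exact_mod_cast h
    have hprime : (ringChar F).Prime := CharP.char_is_prime F (ringChar F)
    have hchar : ringChar F = 2 := (Nat.prime_dvd_prime_iff_eq hprime Nat.prime_two).mp hdvd
    have h3 := FiniteField.even_card_iff_char_two.mp hchar
    obtain ⟨c, hc⟩ := hodd
    omega
  obtain ⟨Q, hQ⟩ : ∃ Q : QuadraticForm F ((Fin (d - 1) ⊕ Fin (d - 1)) ⊕ Fin 2 → F),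
      Q = minusForm (d - 1) F a b := ⟨_, rfl⟩
  have hQc : ∀ v, Q v = Cfsg.quadFormMinus (d - 1) F a b v := fun v => by rw [hQ]; rfl
  obtain ⟨T, hTdef⟩ : ∃ T : Module.End F ((Fin (d - 1) ⊕ Fin (d - 1)) ⊕ Fin 2 → F),
      T = Matrix.toLin' (x : Matrix ((Fin (d - 1) ⊕ Fin (d - 1)) ⊕ Fin 2)
        ((Fin (d - 1) ⊕ Fin (d - 1)) ⊕ Fin 2) F) := ⟨_, rfl⟩
  have hT : ∀ v, Q (T v) = Q v := by
    intro v
    rw [hQc, hQc, hTdef, Matrix.toLin'_apply]
    exact hiso v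
  have hTT : ∀ v, T (T v) = -v := by
    intro v
    rw [hTdef, Matrix.toLin'_apply, Matrix.toLin'_apply, Matrix.mulVec_mulVec, hx2,
      Matrix.neg_mulVec, Matrix.one_mulVec]
  have hT2 : T * T = -1 := by
    apply LinearMap.ext
    intro v
    rw [Module.End.mul_apply, hTT]
    rfl
  have hnd : ∀ v, (∀ w, QuadraticMap.polar Q v w = 0) → v = 0 := by
    rw [hQ]
    exact forall_of_nondegenerate _
      (Cfsg.Agent.Lib.helper42.minusForm_nondegenerate (d - 1) a b hab)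
  have hTop : SpNd (QuadraticMap.polarBilin Q) ⊤ := by
    intro u _ hu
    apply hnd u
    intro w
    have := hu w Submodule.mem_top
    rwa [QuadraticMap.polarBilin_apply_apply] at this
  have hdimtop : finrank F (⊤ : Submodule F ((Fin (d - 1) ⊕ Fin (d - 1)) ⊕ Fin 2 → F))
      = 2 * d := by
    rw [finrank_top, Module.finrank_fintype_fun_eq_card, Fintype.card_sum, Fintype.card_sum,
      Fintype.card_fin, Fintype.card_fin]
    omega
  have hminus : SrTy Q ⊤ (-1) := by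
    unfold SrTy
    rw [sro_nu_top, hdimtop, Nat.mul_div_cancel_left d (by norm_num), hQ]
    have h1 := unif_minus_std (d - 1) a b hab
    have h3 : d - 1 + 1 = d := by omega
    rw [h3] at h1
    have h4 : (-1 : ℤ) * (Fintype.card F : ℤ) ^ d = -(Fintype.card F : ℤ) ^ d := by ring
    rw [h4]
    exact h1
  suffices h : ∃ W : Submodule F ((Fin (d - 1) ⊕ Fin (d - 1)) ⊕ Fin 2 → F),
      finrank F W = m ∧ (∀ w ∈ W, Q w = 0) ∧ ∀ w ∈ W, T w ∈ W by
    obtain ⟨W, h1, h3, h4⟩ := h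
    refine ⟨W, ⟨h1, fun w hw => by rw [← hQc]; exact h3 w hw⟩, ?_⟩
    rintro _ ⟨w, hw, rfl⟩
    rw [← hTdef]
    exact h4 w hw
  by_cases hsq : ∃ ι₀ : F, ι₀ * ι₀ = -1
  · exfalso
    obtain ⟨ι₀, hι₀⟩ := hsq
    obtain ⟨U, hUle, hUQ, hUdim⟩ := sre_neg_plus Q h2 T hT hT2 ι₀ hι₀ ⊤ hTop
      (fun _ _ => Submodule.mem_top)
    have h1 := stp_witt_le Q ⊤ hTop d hdimtop hminus U hUle hUQ
    rw [hdimtop] at hUdim
    omega
  · have hns : ∀ c : F, c * c ≠ -1 := fun c hc => hsq ⟨c, hc⟩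
    obtain ⟨k, hk⟩ := hme
    obtain ⟨U, -, hUQ, hUinv, hUdim⟩ := h76_stp_neg_ts Q h2 T hT hT2 hns k ⊤ hTop
      (fun _ _ => Submodule.mem_top) d hdimtop (by omega)
    exact ⟨U, by omega, hUQ, hUinv⟩

end stmgeneric

end Cfsg.Agent.Lib.helper24
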