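import Mathlib
import Cfsg.Agent.Lib.helper24.StsDefs
import Cfsg.Agent.Lib.helper98.SrePT

/-!
helper4: S5973 piece CNTA (`stp_perp_sing`): the number of singular vectors orthogonal to a
totally singular subspace of an even-dimensional nondegenerate quadratic space of type `ε`,
in every characteristic.  (Structure of the proof as in helper17's `sts_perp_sing`.)
-/

set_option autoImplicit false
set_option linter.unusedSectionVars false
set_option linter.unusedVariables false

namespace Cfsg.Agent.Lib.helper24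

open Module Cfsg.Agent.Lib.helper45 Cfsg.Agent.Lib.helper49

universe u

section stpgeneric

variable {F : Type u} [Field F] [Fintype F]

/-- In a nondegenerate quadratic space of dimension `2d` and type `ε` over `F_q` (every `q`) the
number `N` of singular vectors orthogonal to a totally singular subspace `U` of dimension `j`
satisfies `q N = q^j (q^(2(d-j)) + ε q^(d-j) (q - 1))`. -/
theorem stp_perp_sing {V : Type u} [AddCommGroup V] [Module F V] [FiniteDimensional F V]
    (Q : QuadraticForm F V) (hnd : ∀ v, (∀ w, QuadraticMap.polar Q v w = 0) → v = 0)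
    (d : ℕ) (hdim : finrank F V = 2 * d) (ε : ℤ) (hε : ε = 1 ∨ ε = -1) (hty : SrTy Q ⊤ ε)
    (U : Submodule F V) (hU : ∀ u ∈ U, Q u = 0) :
    (Fintype.card F : ℤ) *
        (Nat.card {v : V // Q v = 0 ∧ ∀ u ∈ U, QuadraticMap.polar Q u v = 0} : ℤ) =
      (Fintype.card F : ℤ) ^ finrank F U *
        ((Fintype.card F : ℤ) ^ (2 * (d - finrank F U)) +
          ε * (Fintype.card F : ℤ) ^ (d - finrank F U) * ((Fintype.card F : ℤ) - 1)) := by
  classical
  have hfin : Finite V := Module.finite_of_finite F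
  obtain ⟨B, hB⟩ : ∃ B : LinearMap.BilinForm F V, B = QuadraticMap.polarBilin Q := ⟨_, rfl⟩
  have hBa : ∀ x y, B x y = QuadraticMap.polar Q x y := by
    intro x y
    rw [hB]
    rfl
  have hsymm : ∀ x y, B x y = B y x := by
    intro x y
    rw [hBa, hBa, QuadraticMap.polar_comm]
  have hBnd : B.Nondegenerate :=
    ⟨fun x hx => hnd x (fun w => by rw [← hBa]; exact hx w),
      fun y hy => hnd y (fun w => by rw [← hBa, hsymm]; exact hy w)⟩
  have hrefl : B.IsRefl := fun x y h => by
    rw [hsymm]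
    exact h
  obtain ⟨P, hP⟩ : ∃ P : Submodule F V, P = B.orthogonal U := ⟨_, rfl⟩
  have hmemP : ∀ v, v ∈ P ↔ ∀ u ∈ U, QuadraticMap.polar Q u v = 0 := by
    intro v
    rw [hP, LinearMap.BilinForm.mem_orthogonal_iff]
    constructor
    · intro h u hu
      rw [← hBa]
      exact h u hu
    · intro h u hu
      show B u v = 0
      rw [hBa]
      exact h u hu
  have hdimP : finrank F P = 2 * d - finrank F U := by
    rw [hP, LinearMap.BilinForm.finrank_orthogonal hBnd, hdim]
  have hpolU : ∀ u ∈ U, ∀ u' ∈ U, QuadraticMap.polar Q u u' = 0 := by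
    intro u hu u' hu'
    unfold QuadraticMap.polar
    rw [hU _ (add_mem hu hu'), hU u hu, hU u' hu']
    simp
  have hUP : U ≤ P := fun u hu => (hmemP u).mpr (fun u' hu' => hpolU u' hu' u hu)
  have hPperp : B.orthogonal P = U := by
    rw [hP]
    exact LinearMap.BilinForm.orthogonal_orthogonal hBnd hrefl U
  obtain ⟨M0, hM0⟩ := Submodule.exists_isCompl U
  obtain ⟨M, hMdef⟩ : ∃ M : Submodule F V, M = M0 ⊓ P := ⟨_, rfl⟩
  have hMP : M ≤ P := by
    rw [hMdef]
    exact inf_le_right
  have hUM : U ⊓ M = ⊥ := by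
    rw [hMdef, ← inf_assoc, hM0.inf_eq_bot, bot_inf_eq]
  have hUMP : U ⊔ M = P := by
    rw [hMdef, ← sup_inf_assoc_of_le M0 hUP, hM0.sup_eq_top, top_inf_eq]
  have hj : finrank F U ≤ d := by
    have := Submodule.finrank_mono hUP
    rw [hdimP] at this
    omega
  have hdimM : finrank F M = 2 * (d - finrank F U) := by
    have h := Submodule.finrank_sup_add_finrank_inf_eq U M
    rw [hUMP, hUM, finrank_bot, hdimP] at h
    omega
  have hMnd : SpNd (QuadraticMap.polarBilin Q) M := by
    intro μ hμ hμ2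
    have h1 : μ ∈ B.orthogonal P := by
      rw [LinearMap.BilinForm.mem_orthogonal_iff]
      intro p hp
      show B p μ = 0
      rw [← hUMP] at hp
      obtain ⟨u, hu, μ', hμ', rfl⟩ := Submodule.mem_sup.mp hp
      rw [map_add, LinearMap.add_apply, hBa, hBa, (hmemP μ).mp (hMP hμ) u hu,
        QuadraticMap.polar_comm, zero_add]
      exact hμ2 μ' hμ'
    rw [hPperp] at h1
    have h3 : μ ∈ U ⊓ M := ⟨h1, hμ⟩
    rw [hUM] at h3
    exact (Submodule.mem_bot F).mp h3
  -- the type of `M` is the type of `V`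
  have hsymω : ∀ u v, QuadraticMap.polarBilin Q u v = QuadraticMap.polarBilin Q v u := by
    intro u v
    rw [QuadraticMap.polarBilin_apply_apply, QuadraticMap.polarBilin_apply_apply,
      QuadraticMap.polar_comm]
  have htopnd : SpNd (QuadraticMap.polarBilin Q) (⊤ : Submodule F V) := by
    intro v _ hv
    apply hnd
    intro w
    have := hv w Submodule.mem_top
    rwa [QuadraticMap.polarBilin_apply_apply] at this
  obtain ⟨hM'nd, hsup, hinf, hdimsum⟩ :=
    so_rel (QuadraticMap.polarBilin Q) hsymω ⊤ M htopnd hMnd le_top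
  obtain ⟨M', hM'def⟩ : ∃ M' : Submodule F V,
      M' = spPerp (QuadraticMap.polarBilin Q) M ⊓ ⊤ := ⟨_, rfl⟩
  rw [← hM'def] at hM'nd hsup hinf hdimsum
  have hdimM' : finrank F M' = 2 * finrank F U := by
    rw [finrank_top, hdim, hdimM] at hdimsum
    omega
  have horth : ∀ μ ∈ M, ∀ v ∈ M', QuadraticMap.polar Q μ v = 0 := by
    intro μ hμ v hv
    rw [hM'def] at hv
    have h1 := (sp_mem_perp (QuadraticMap.polarBilin Q) M v).1 hv.1 μ hμ
    rwa [QuadraticMap.polarBilin_apply_apply] at h1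
  have hUM' : U ≤ M' := by
    intro u hu
    rw [hM'def]
    have h1 : u ∈ spPerp (QuadraticMap.polarBilin Q) M := by
      rw [sp_mem_perp]
      intro μ hμ
      rw [QuadraticMap.polarBilin_apply_apply, QuadraticMap.polar_comm]
      exact (hmemP μ).mp (hMP hμ) u hu
    exact ⟨h1, Submodule.mem_top⟩
  have hpl : SrPlus Q M' := ⟨U, hUM', hU, hdimM'.symm⟩
  have hty' : SrTy Q M' 1 := Cfsg.Agent.Lib.helper98.sre_plus_ty Q M' hM'nd hpl
  have hMty : SrTy Q M ε := by
    have hq0 : (Fintype.card F : ℤ) ^ (finrank F (⊤ : Submodule F V) / 2) ≠ 0 := by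
      apply pow_ne_zero
      exact_mod_cast Fintype.card_ne_zero
    rcases sr_ty_or Q M hMnd (d - finrank F U) hdimM with h | h
    · have h3 := sr_ty_sum Q M M' horth hinf 1 1 h hty' ⟨d - finrank F U, by omega⟩
        ⟨finrank F U, by omega⟩
      rw [hsup] at h3
      have h4 := Unif.unique h3 hty
      have h5 : ε = 1 := by
        have : (1 * 1 - ε) * (Fintype.card F : ℤ) ^ (finrank F (⊤ : Submodule F V) / 2) = 0 := by
          rw [sub_mul, h4, sub_self]
        rcases mul_eq_zero.1 this with h6 | h6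
        · linarith
        · exact absurd h6 hq0
      rw [h5]; exact h
    · have h3 := sr_ty_sum Q M M' horth hinf (-1) 1 h hty' ⟨d - finrank F U, by omega⟩
        ⟨finrank F U, by omega⟩
      rw [hsup] at h3
      have h4 := Unif.unique h3 hty
      have h5 : ε = -1 := by
        have : (-1 * 1 - ε) * (Fintype.card F : ℤ) ^ (finrank F (⊤ : Submodule F V) / 2) = 0 := by
          rw [sub_mul, h4, sub_self]
        rcases mul_eq_zero.1 this with h6 | h6
        · linarith
        · exact absurd h6 hq0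
      rw [h5]; exact h
  have hcM : (Fintype.card F : ℤ) * (Nat.card {μ : ↥M // (Q.comp M.subtype) μ = 0} : ℤ) =
      (Fintype.card F : ℤ) ^ (2 * (d - finrank F U)) +
        ε * (Fintype.card F : ℤ) ^ (d - finrank F U) * ((Fintype.card F : ℤ) - 1) := by
    have h1 := hMty 0
    rw [if_pos rfl] at h1
    have h2 : finrank F M / 2 = d - finrank F U := by omega
    rw [h2] at h1
    have h3 : srNu Q M 0 = Nat.card {μ : ↥M // (Q.comp M.subtype) μ = 0} := rfl
    rw [h3] at h1
    rw [h1]
    have hε2 : ε ^ 2 = 1 := by rcases hε with h | h <;> rw [h] <;> norm_num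
    rw [mul_pow, hε2, one_mul, ← pow_mul, mul_comm (d - finrank F U) 2]
  have hcU : Nat.card ↥U = Fintype.card F ^ finrank F U := by
    rw [Module.natCard_eq_pow_finrank (K := F), Nat.card_eq_fintype_card]
  have hmem : ∀ x : ↥U × {μ : ↥M // (Q.comp M.subtype) μ = 0},
      Q ((x.1 : V) + ((x.2.1 : ↥M) : V)) = 0 ∧
        ∀ u ∈ U, QuadraticMap.polar Q u ((x.1 : V) + ((x.2.1 : ↥M) : V)) = 0 := by
    intro x
    constructor
    · have h3 : Q ((x.1 : V) + ((x.2.1 : ↥M) : V)) = Q (x.1 : V) + Q ((x.2.1 : ↥M) : V) +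
          QuadraticMap.polar Q (x.1 : V) ((x.2.1 : ↥M) : V) := by
        unfold QuadraticMap.polar
        abel
      rw [h3, hU _ x.1.2, (hmemP _).mp (hMP x.2.1.2) _ x.1.2, zero_add, add_zero]
      exact x.2.2
    · intro u hu
      rw [QuadraticMap.polar_add_right, hpolU u hu _ x.1.2, (hmemP _).mp (hMP x.2.1.2) u hu,
        add_zero]
  have hbij : Nat.card {v : V // Q v = 0 ∧ ∀ u ∈ U, QuadraticMap.polar Q u v = 0} =
      Nat.card (↥U × {μ : ↥M // (Q.comp M.subtype) μ = 0}) := by
    symm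
    refine Nat.card_congr (Equiv.ofBijective
      (fun x => (⟨(x.1 : V) + ((x.2.1 : ↥M) : V), hmem x⟩ :
        {v : V // Q v = 0 ∧ ∀ u ∈ U, QuadraticMap.polar Q u v = 0})) ⟨?_, ?_⟩)
    · intro x y hxy
      have h4 : (x.1 : V) + ((x.2.1 : ↥M) : V) = (y.1 : V) + ((y.2.1 : ↥M) : V) :=
        congrArg Subtype.val hxy
      have h5 : (x.1 : V) - (y.1 : V) = ((y.2.1 : ↥M) : V) - ((x.2.1 : ↥M) : V) := by
        rw [sub_eq_sub_iff_add_eq_add, h4, add_comm]
      have h6 : (x.1 : V) - (y.1 : V) ∈ U ⊓ M :=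
        ⟨sub_mem x.1.2 y.1.2, by rw [h5]; exact sub_mem y.2.1.2 x.2.1.2⟩
      rw [hUM, Submodule.mem_bot, sub_eq_zero] at h6
      have h7 : ((x.2.1 : ↥M) : V) = ((y.2.1 : ↥M) : V) := by
        rw [h6] at h4
        exact add_left_cancel h4
      exact Prod.ext (Subtype.ext h6) (Subtype.ext (Subtype.ext h7))
    · rintro ⟨v, hv1, hv2⟩
      have hvP : v ∈ U ⊔ M := by
        rw [hUMP]
        exact (hmemP v).mpr hv2
      obtain ⟨u, hu, μ, hμ, rfl⟩ := Submodule.mem_sup.mp hvP
      have h3 : Q (u + μ) = Q u + Q μ + QuadraticMap.polar Q u μ := by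
        unfold QuadraticMap.polar
        abel
      rw [h3, hU u hu, (hmemP μ).mp (hMP hμ) u hu, zero_add, add_zero] at hv1
      exact ⟨(⟨u, hu⟩, ⟨⟨μ, hμ⟩, hv1⟩), rfl⟩
  rw [hbij, Nat.card_prod, hcU, Nat.cast_mul, Nat.cast_pow, ← hcM]
  ring

end stpgeneric

end Cfsg.Agent.Lib.helper24
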