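import Mathlib
import Cfsg.Agent.Lib.helper4.PSection
import Cfsg.Agent.Lib.helper79.DefectDeg
import Cfsg.Agent.Lib.helper81.WBO
import Cfsg.Agent.Lib.helper80.DefectGroup
import Cfsg.Agent.Lib.helper20.DefectSection

/-!
# Height-zero characters on the sections through a defect group (helper4 library)

* `factorization_degree_add_blockDefect`: for `χ ∈ B` of height zero,
  `ν_p χ(1) + blockDefect p B = ν_p |G|`;
* `memLocalIdeal_centralChar_iff`: if `ν_p |cl(g)| = ν_p χ(1)` then `ω_χ(g) ∈ J ↔ χ(g) ∈ J`;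
* `not_memLocalIdeal_irr_mul_defectClass`: for a defect class `y` of `B`, a `p`-element `x`
  commuting with `y` and `χ ∈ B` of height zero, `χ(xy) ∉ J`;
* `not_memLocalIdeal_centralChar_mul_defectClass`: for `x` central in a Sylow `p`-subgroup of
  `C(y)`, `ω_χ(xy) ∉ J` for every `χ ∈ B`;
* `exists_section_ne_zero_iff`: a `p`-element is conjugate into a defect group iff a height-zero
  character does not vanish identically on its `p`-section.
-/

set_option autoImplicit false

namespace Cfsg.Agent.Lib.helper4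

open Cfsg

universe u

theorem factorization_degree_add_blockDefect {G : Type u} [Group G] [Finite G] (p : ℕ)
    {B : Set (IrrCharacter G)} {χ : IrrCharacter G} (hχ : χ ∈ B)
    (h0 : blockHeight p B (χ : G → ℂ) = 0) :
    (charDegree (χ : G → ℂ)).factorization p + blockDefect p B =
      (Nat.card G).factorization p := by
  classical
  have := Fintype.ofFinite G
  unfold blockHeight at h0
  unfold blockDefect
  have h1 : sInf ((fun ψ : IrrCharacter G => (charDegree (ψ : G → ℂ)).factorization p) '' B) ≤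
      (charDegree (χ : G → ℂ)).factorization p := Nat.sInf_le ⟨χ, hχ, rfl⟩
  have h2 : (charDegree (χ : G → ℂ)).factorization p ≤ (Nat.card G).factorization p :=
    (Nat.factorization_le_iff_dvd (Cfsg.Agent.Lib.helper81.irr_charDegree_pos χ).ne'
      Nat.card_pos.ne').mpr (Cfsg.Agent.Lib.helper81.irr_degree_dvd_card χ) p
  omega

theorem exists_height_zero {G : Type u} [Group G] [Finite G] (p : ℕ)
    {B : Set (IrrCharacter G)} (hB : B.Nonempty) :
    ∃ χ ∈ B, blockHeight p B (χ : G → ℂ) = 0 := by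
  have hne : ((fun ψ : IrrCharacter G => (charDegree (ψ : G → ℂ)).factorization p) '' B).Nonempty :=
    hB.image _
  obtain ⟨χ, hχ, hχe⟩ := Nat.sInf_mem hne
  refine ⟨χ, hχ, ?_⟩
  unfold blockHeight
  have h : (charDegree (χ : G → ℂ)).factorization p =
      sInf ((fun ψ : IrrCharacter G => (charDegree (ψ : G → ℂ)).factorization p) '' B) := hχe
  omega

theorem factorization_index_add_card {G : Type u} [Group G] [Finite G] (p : ℕ) (H : Subgroup G) :
    (H.index).factorization p + (Nat.card H).factorization p = (Nat.card G).factorization p := by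
  have h : (H.index * Nat.card H).factorization p = (Nat.card G).factorization p := by
    rw [Subgroup.index_mul_card]
  rw [Nat.factorization_mul Subgroup.index_ne_zero_of_finite Nat.card_pos.ne'] at h
  simpa using h

theorem natCast_algInt_not_mem {p : ℕ} {M : Ideal AlgInt} (hM : IsPModular p M) {N : ℕ}
    (hN : ¬ p ∣ N) : ((N : ℕ) : AlgInt) ∉ M := by
  have hp : p.Prime := hM.1
  have hMp := Cfsg.Agent.Lib.helper20.isPrime_of_isPModular hM
  intro h
  have h1 := Cfsg.Agent.Lib.helper20.memLocalIdeal_of_mem hMp h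
  have h2 : (((N : ℕ) : AlgInt) : ℂ) = (N : ℂ) := by simp
  rw [h2] at h1
  exact not_memLocalIdeal_natCast hMp hM.2.2
    ((Nat.Prime.coprime_iff_not_dvd hp).mpr hN).symm h1

theorem memLocalRing_natCast_div {p : ℕ} {M : Ideal AlgInt} (hM : IsPModular p M) (a : ℕ) {b : ℕ}
    (hb : ¬ p ∣ b) : MemLocalRing M ((a : ℂ) / (b : ℂ)) :=
  ⟨(a : AlgInt), (b : AlgInt), natCast_algInt_not_mem hM hb, by simp⟩

/-- If the class of `g` and the degree of `χ` have the same `p`-part, then `ω_χ(g)` and `χ(g)`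
differ by a local unit. -/
theorem memLocalIdeal_centralChar_iff {G : Type u} [Group G] [Finite G] {p : ℕ}
    {M : Ideal AlgInt} (hM : IsPModular p M) (χ : IrrCharacter G) (g : G)
    (hv : ((Subgroup.centralizer ({g} : Set G)).index).factorization p =
      (charDegree (χ : G → ℂ)).factorization p) :
    MemLocalIdeal M (centralChar (χ : G → ℂ) g) ↔ MemLocalIdeal M ((χ : G → ℂ) g) := by
  have hp : p.Prime := hM.1
  have hMp := Cfsg.Agent.Lib.helper20.isPrime_of_isPModular hM
  obtain ⟨idx, hidx⟩ : ∃ idx, idx = (Subgroup.centralizer ({g} : Set G)).index := ⟨_, rfl⟩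
  obtain ⟨deg, hdeg⟩ : ∃ deg, deg = charDegree (χ : G → ℂ) := ⟨_, rfl⟩
  rw [← hidx, ← hdeg] at hv
  have hidx0 : idx ≠ 0 := by rw [hidx]; exact Subgroup.index_ne_zero_of_finite
  have hdeg0 : deg ≠ 0 := by rw [hdeg]; exact (Cfsg.Agent.Lib.helper81.irr_charDegree_pos χ).ne'
  obtain ⟨m, hm⟩ : ∃ m, m = idx.factorization p := ⟨_, rfl⟩
  obtain ⟨i', hi'⟩ : ∃ i', i' = idx / p ^ m := ⟨_, rfl⟩
  obtain ⟨d', hd'⟩ : ∃ d', d' = deg / p ^ m := ⟨_, rfl⟩
  have e1 : p ^ m * i' = idx := by rw [hi', hm]; exact Nat.ordProj_mul_ordCompl_eq_self idx p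
  have e2 : p ^ m * d' = deg := by
    rw [hd', hm, hv]; exact Nat.ordProj_mul_ordCompl_eq_self deg p
  have hi'p : ¬ p ∣ i' := by rw [hi', hm]; exact Nat.not_dvd_ordCompl hp hidx0
  have hd'p : ¬ p ∣ d' := by rw [hd', hm, hv]; exact Nat.not_dvd_ordCompl hp hdeg0
  have hi'0 : (i' : ℂ) ≠ 0 := by
    have : i' ≠ 0 := fun h => hi'p (h ▸ dvd_zero p)
    exact_mod_cast this
  have hd'0 : (d' : ℂ) ≠ 0 := by
    have : d' ≠ 0 := fun h => hd'p (h ▸ dvd_zero p)
    exact_mod_cast this
  have hpm : ((p : ℂ) ^ m) ≠ 0 := pow_ne_zero _ (by exact_mod_cast hp.ne_zero)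
  have hcc : centralChar (χ : G → ℂ) g = (i' : ℂ) / (d' : ℂ) * (χ : G → ℂ) g := by
    unfold centralChar
    rw [Cfsg.Agent.Lib.helper81.irr_one_eq_charDegree, ← hidx, ← hdeg, ← e1, ← e2]
    push_cast
    field_simp
  have hcc' : (χ : G → ℂ) g = (d' : ℂ) / (i' : ℂ) * centralChar (χ : G → ℂ) g := by
    rw [hcc]
    field_simp
  constructor
  · intro h
    rw [hcc']
    exact Cfsg.Agent.Lib.helper20.memLocalIdeal_mul_left hMp (memLocalRing_natCast_div hM d' hi'p) h
  · intro h
    rw [hcc]
    exact Cfsg.Agent.Lib.helper20.memLocalIdeal_mul_left hMp (memLocalRing_natCast_div hM i' hd'p) h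

theorem isPRegular_of_isDefectClass {G : Type u} [Group G] [Finite G] {p : ℕ} [Fact p.Prime]
    {M : Ideal AlgInt} (hM : IsPModular p M) {B : Set (IrrCharacter G)} (hB : IsPBlock M B)
    {y : G} (hy : IsDefectClass M B y) : ¬ p ∣ orderOf y := by
  classical
  have := Fintype.ofFinite G
  have hMp := Cfsg.Agent.Lib.helper20.isPrime_of_isPModular hM
  intro hdiv
  have h := Cfsg.Agent.Lib.helper81.blockCoeff_block_eq_zero_of_singular hM hB hdiv
  exact hy.2.1 (h ▸ Cfsg.Agent.Lib.helper20.memLocalIdeal_zero hMp)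

/-- S0927 (a): a height-zero character of `B` is a local unit at `x * y` for `y` a defect class
of `B` and `x` a `p`-element centralizing `y`. -/
theorem not_memLocalIdeal_irr_mul_defectClass {G : Type u} [Group G] [Finite G] {p : ℕ}
    [Fact p.Prime] {M : Ideal AlgInt} (hM : IsPModular p M) {B : Set (IrrCharacter G)}
    (hB : IsPBlock M B) {y : G} (hy : IsDefectClass M B y) {x : G} (hxy : Commute x y)
    (hx : ∃ k : ℕ, orderOf x = p ^ k) {χ : IrrCharacter G} (hχ : χ ∈ B)
    (h0 : blockHeight p B (χ : G → ℂ) = 0) :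
    ¬ MemLocalIdeal M ((χ : G → ℂ) (x * y)) := by
  have hp : p.Prime := Fact.out
  have hMp := Cfsg.Agent.Lib.helper20.isPrime_of_isPModular hM
  have hyreg := isPRegular_of_isDefectClass hM hB hy
  have hv : ((Subgroup.centralizer ({y} : Set G)).index).factorization p =
      (charDegree (χ : G → ℂ)).factorization p := by
    have h1 := factorization_degree_add_blockDefect p hχ h0
    have h2 := factorization_index_add_card p (Subgroup.centralizer ({y} : Set G))
    have h3 := Cfsg.Agent.Lib.helper79.blockDefect_eq_of_isDefectClass hM hB y hy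
    omega
  have hχy : ¬ MemLocalIdeal M ((χ : G → ℂ) y) := fun h =>
    hy.2.2 χ hχ ((memLocalIdeal_centralChar_iff hM χ y hv).mpr h)
  obtain ⟨n, ρ, -, hρ⟩ := χ.2
  have hpart : IsPPart p (x * y) x := ⟨y, rfl, hxy, hx, hyreg⟩
  obtain ⟨z, hz, hzeq⟩ := char_sub_char_ppart_mem ρ hp hMp hM.2.2 hpart
  intro hmem
  apply hχy
  have h1 : (χ : G → ℂ) y = (χ : G → ℂ) (x * y) - (z : ℂ) := by
    rw [hzeq, hρ, inv_mul_cancel_left]
    ring
  rw [h1]
  exact Cfsg.Agent.Lib.helper20.memLocalIdeal_sub hMp hmem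
    (Cfsg.Agent.Lib.helper20.memLocalIdeal_of_mem hMp hz)

/-- S0927 (b): the central characters of `B` are local units at `x * y` for `y` a defect class and
`x` central in a Sylow `p`-subgroup of `C(y)`. -/
theorem not_memLocalIdeal_centralChar_mul_defectClass {G : Type u} [Group G] [Finite G] {p : ℕ}
    [Fact p.Prime] {M : Ideal AlgInt} (hM : IsPModular p M) {B : Set (IrrCharacter G)}
    (hB : IsPBlock M B) {y : G} (hy : IsDefectClass M B y)
    (P : Sylow p (Subgroup.centralizer ({y} : Set G))) (x : Subgroup.centralizer ({y} : Set G))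
    (hx : x ∈ (P : Subgroup (Subgroup.centralizer ({y} : Set G))))
    (hcent : ∀ w ∈ (P : Subgroup (Subgroup.centralizer ({y} : Set G))), x * w = w * x)
    {χ : IrrCharacter G} (hχ : χ ∈ B) :
    ¬ MemLocalIdeal M (centralChar (χ : G → ℂ) ((x : G) * y)) := by
  classical
  have := Fintype.ofFinite G
  have hp : p.Prime := Fact.out
  have hMp := Cfsg.Agent.Lib.helper20.isPrime_of_isPModular hM
  have hyreg := isPRegular_of_isDefectClass hM hB hy
  obtain ⟨χ0, hχ0, h0⟩ := exists_height_zero p ⟨χ, hχ⟩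
  -- `x` is a `p`-element commuting with `y`
  have hxy : Commute (x : G) y := by
    have := x.2
    rw [Cfsg.Agent.Lib.helper80.mem_centralizer_singleton] at this
    exact this.symm
  have hxord : ∃ k : ℕ, orderOf (x : G) = p ^ k := by
    obtain ⟨k, hk⟩ := P.isPGroup' ⟨x, hx⟩
    have h1 : (x : G) ^ p ^ k = 1 := by
      have := congrArg (fun w : (P : Subgroup (Subgroup.centralizer ({y} : Set G))) =>
        ((w : Subgroup.centralizer ({y} : Set G)) : G)) hk
      simpa using this
    obtain ⟨j, -, hj⟩ := (Nat.dvd_prime_pow hp).mp (orderOf_dvd_of_pow_eq_one h1)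
    exact ⟨j, hj⟩
  have ha := not_memLocalIdeal_irr_mul_defectClass hM hB hy hxy hxord hχ0 h0
  -- the centralizer of `x * y`
  obtain ⟨k, hk⟩ := hxord
  have hcop : Nat.Coprime (orderOf y) (p ^ k) :=
    (Nat.Coprime.pow_left k ((Nat.Prime.coprime_iff_not_dvd hp).mpr hyreg)).symm
  obtain ⟨t, ht1, ht0⟩ := exists_crt_exp hcop
  have hpow : ((x : G) * y) ^ t = y := by
    rw [hxy.mul_pow, pow_crt_eq_one ht0 (hk ▸ dvd_rfl), pow_crt_eq_self ht1 dvd_rfl, one_mul]
  have hle : Subgroup.centralizer ({(x : G) * y} : Set G) ≤ Subgroup.centralizer ({y} : Set G) := by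
    intro g hg
    rw [Cfsg.Agent.Lib.helper80.mem_centralizer_singleton] at hg ⊢
    have h1 : Commute ((x : G) * y) g := hg
    have h2 : Commute (((x : G) * y) ^ t) g := h1.pow_left t
    rw [hpow] at h2
    exact h2
  have hPle : (P : Subgroup (Subgroup.centralizer ({y} : Set G))).map
      (Subgroup.centralizer ({y} : Set G)).subtype ≤
      Subgroup.centralizer ({(x : G) * y} : Set G) := by
    rintro g ⟨w, hw, rfl⟩
    rw [Cfsg.Agent.Lib.helper80.mem_centralizer_singleton]
    have h1 : (x : G) * (w : G) = (w : G) * (x : G) := by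
      have := congrArg (Subtype.val : Subgroup.centralizer ({y} : Set G) → G) (hcent w hw)
      simpa using this
    have h2 : y * (w : G) = (w : G) * y := by
      have := w.2
      rw [Cfsg.Agent.Lib.helper80.mem_centralizer_singleton] at this
      exact this
    show (x : G) * y * (w : G) = (w : G) * ((x : G) * y)
    rw [mul_assoc, h2, ← mul_assoc, h1, mul_assoc]
  have hcardP : Nat.card ((P : Subgroup (Subgroup.centralizer ({y} : Set G))).map
      (Subgroup.centralizer ({y} : Set G)).subtype) =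
      p ^ (Nat.card (Subgroup.centralizer ({y} : Set G))).factorization p :=
    Cfsg.Agent.Lib.helper80.IsSylowCent.card ⟨P, rfl⟩
  have hf1 : (Nat.card (Subgroup.centralizer ({(x : G) * y} : Set G))).factorization p ≤
      (Nat.card (Subgroup.centralizer ({y} : Set G))).factorization p :=
    (Nat.factorization_le_iff_dvd Nat.card_pos.ne' Nat.card_pos.ne').mpr
      (Subgroup.card_dvd_of_le hle) p
  have hf2 : (Nat.card (Subgroup.centralizer ({y} : Set G))).factorization p ≤
      (Nat.card (Subgroup.centralizer ({(x : G) * y} : Set G))).factorization p := by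
    apply (Nat.Prime.pow_dvd_iff_le_factorization hp Nat.card_pos.ne').mp
    rw [← hcardP]
    exact Subgroup.card_dvd_of_le hPle
  have hv : ((Subgroup.centralizer ({(x : G) * y} : Set G)).index).factorization p =
      (charDegree (χ0 : G → ℂ)).factorization p := by
    have h1 := factorization_degree_add_blockDefect p hχ0 h0
    have h2 := factorization_index_add_card p (Subgroup.centralizer ({(x : G) * y} : Set G))
    have h3 := Cfsg.Agent.Lib.helper79.blockDefect_eq_of_isDefectClass hM hB y hy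
    omega
  have h0' : ¬ MemLocalIdeal M (centralChar (χ0 : G → ℂ) ((x : G) * y)) := fun h =>
    ha ((memLocalIdeal_centralChar_iff hM χ0 _ hv).mp h)
  exact Cfsg.Agent.Lib.helper80.not_memLocalIdeal_centralChar_of_mem hMp hB hχ0 hχ _ h0'

/-- S0926: for `χ ∈ B` of height zero and a `p`-element `x`, some conjugate of `x` lies in the
defect group `D` iff `χ` does not vanish on the `p`-section of `x`. -/
theorem exists_section_ne_zero_iff {G : Type u} [Group G] [Finite G] {p : ℕ} [Fact p.Prime]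
    {M : Ideal AlgInt} (hM : IsPModular p M) {B : Set (IrrCharacter G)} (hB : IsPBlock M B)
    {D : Subgroup G} (hD : IsDefectGroup p M B D) {χ : IrrCharacter G} (hχ : χ ∈ B)
    (h0 : blockHeight p B (χ : G → ℂ) = 0) (x : G) (hx : ∃ k : ℕ, orderOf x = p ^ k) :
    (∃ g : G, g * x * g⁻¹ ∈ D) ↔
      ∃ u : G, (∃ z : G, IsPPart p u z ∧ IsConj x z) ∧ (χ : G → ℂ) u ≠ 0 := by
  classical
  have := Fintype.ofFinite G
  have hp : p.Prime := Fact.out
  have hMp := Cfsg.Agent.Lib.helper20.isPrime_of_isPModular hM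
  constructor
  · rintro ⟨g, hg⟩
    obtain ⟨y, hy, P, rfl⟩ := hD
    obtain ⟨w, hw, hwe⟩ := hg
    have hwe' : (w : G) = g * x * g⁻¹ := hwe
    have hxy : Commute (g * x * g⁻¹) y := by
      rw [← hwe']
      have := w.2
      rw [Cfsg.Agent.Lib.helper80.mem_centralizer_singleton] at this
      exact this.symm
    have hord : ∃ k : ℕ, orderOf (g * x * g⁻¹) = p ^ k := by
      obtain ⟨k, hk⟩ := hx
      refine ⟨k, ?_⟩
      have h1 := MulEquiv.orderOf_eq (MulAut.conj g) x
      rw [← hk, ← h1]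
      rfl
    have hne := not_memLocalIdeal_irr_mul_defectClass hM hB hy hxy hord hχ h0
    refine ⟨g * x * g⁻¹ * y, ⟨g * x * g⁻¹, ⟨y, rfl, hxy, hord,
      isPRegular_of_isDefectClass hM hB hy⟩, isConj_iff.mpr ⟨g, rfl⟩⟩, ?_⟩
    intro h
    exact hne (h ▸ Cfsg.Agent.Lib.helper20.memLocalIdeal_zero hMp)
  · rintro ⟨u, ⟨z, hz, hc⟩, hu⟩
    by_contra hcon
    apply hu
    have hBeq : B = blockOf M (χ : G → ℂ) :=
      Cfsg.Agent.Lib.helper81.isPBlock_eq_blockOf hMp hB hχ
    apply Cfsg.Agent.Lib.helper20.irr_eq_zero_of_pPart_not_mem_defect hM χ u z hz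
    intro D' hD' hzD'
    rw [← hBeq] at hD'
    obtain ⟨t, rfl⟩ := Cfsg.Agent.Lib.helper80.IsDefectGroup.exists_conj_eq hM hB hD hD'
    rw [Cfsg.Agent.Lib.helper80.mem_map_conj] at hzD'
    obtain ⟨c, hc'⟩ := isConj_iff.mp hc
    apply hcon
    refine ⟨t⁻¹ * c, ?_⟩
    have : t⁻¹ * c * x * (t⁻¹ * c)⁻¹ = t⁻¹ * z * t := by
      rw [← hc']
      group
    rw [this]
    exact hzD'

end Cfsg.Agent.Lib.helper4
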