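import Mathlib
import Cfsg.Agent.Lib.helper42.AICDefs
import Cfsg.Agent.Lib.helper42.AIC_A
import Cfsg.Agent.Lib.helper42.AIC_A2
import Cfsg.Agent.Lib.helper69.AIC_O2
import Cfsg.Agent.Lib.helper18.AIC_B2
import Cfsg.Agent.Lib.helper13.AIC_B3
import Cfsg.Agent.Lib.helper4.AIC_B4a

/-!
helper4: S2202 piece B4 (`D_fpf`): `N(P) ∩ N(Q)` acts fixed-point-freely on `C(P)`.
-/

set_option autoImplicit false

open Cfsg.Agent.Lib.helper42.AIC

namespace Cfsg.Agent.Lib.helper4.AIC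

/-- an involution interchanging two distinct Sylow 2-subgroups (A7 + A12) -/
theorem h4_exists_swap {G : Type*} [Group G] [Finite G] (hA : AIC G) (hnc : NCyc G) (hnn : NNor G)
    (P Q : Sylow 2 G) (hPQ : P ≠ Q) : ∃ w : G, orderOf w = 2 ∧ w • P = Q := by
  have h1 := card_swap hA hnc hnn P Q hPQ
  have h2 := three_le_inv hA hnc P
  have h3 : 0 < Nat.card {i : G // orderOf i = 2 ∧ i • P = Q} := by rw [h1]; omega
  obtain ⟨⟨w, hw⟩⟩ := (Nat.card_pos_iff.1 h3).1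
  exact ⟨w, hw⟩

/-- B4 : `D` acts fixed-point-freely on `C(P)` -/
theorem D_fpf {G : Type*} [Group G] [Finite G] (hA : AIC G) (hnc : NCyc G) (hnn : NNor G)
    (hK : KTI G) (P Q : Sylow 2 G) (hPQ : P ≠ Q) {d : G} (hd : d ∈ NP P ⊓ NP Q) (hd1 : d ≠ 1)
    {c : G} (hc : c ∈ CP P) (hcd : c * d = d * c) : c = 1 :=
  D_fpf_of
    (fun P Q {_} h1 h2 h3 => sylow_ti hA hnc P Q h1 h2 h3)
    (fun P {_} h k hk => mem_of_np P h k hk)
    (fun {_} ht => exists_sylow_inv hA hnc ht)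
    (fun D w hw hwD hfpf => Cfsg.Agent.Lib.helper69.AIC.inverts_of_fpf D w hw hwD hfpf)
    (fun P {_} hxo hxP hx1 {_} hh => cent_le_np hK P hxo hxP hx1 hh)
    (fun P Q hPQ {_} hxP hxQ => Cfsg.Agent.Lib.helper18.AIC.cp_inf_np hA hnc hnn hK P Q hPQ hxP hxQ)
    (fun P Q hPQ {_} hw hwP => Cfsg.Agent.Lib.helper13.AIC.D_inverted hA hnc hnn hK P Q hPQ hw hwP)
    (fun P Q hPQ => h4_exists_swap hA hnc hnn P Q hPQ)
    hK P Q hPQ hd hd1 hc hcd

end Cfsg.Agent.Lib.helper4.AIC
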