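import Mathlib
import Cfsg.Agent.Lib.helper42.AICDefs
import Cfsg.Agent.Lib.helper42.AIC_A
import Cfsg.Agent.Lib.helper42.AIC_A2
import Cfsg.Agent.Lib.helper18.AIC_B2
import Cfsg.Agent.Lib.helper13.AIC_B3
import Cfsg.Agent.Lib.helper13.AIC_C1
import Cfsg.Agent.Lib.helper4.AIC_B4
import Cfsg.Agent.Lib.helper4.AIC_C3a

/-!
helper4: S2202 piece C3 (`cent_D_le`): `N(P) ∩ N(Q)` is self-centralizing.
-/

set_option autoImplicit false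

open Cfsg.Agent.Lib.helper42.AIC

namespace Cfsg.Agent.Lib.helper4.AIC

/-- `N(P) ∩ N(Q) ≠ 1` (B3a + A12) -/
theorem h4_D_ne {G : Type*} [Group G] [Finite G] (hA : AIC G) (hnc : NCyc G) (hnn : NNor G)
    (hK : KTI G) (P Q : Sylow 2 G) (hPQ : P ≠ Q) : ∃ d ∈ NP P ⊓ NP Q, d ≠ 1 := by
  have h1 := Cfsg.Agent.Lib.helper13.AIC.card_D hA hnc hnn hK P Q hPQ
  have h2 := three_le_inv hA hnc P
  have h3 : 1 < Nat.card ↥(NP P ⊓ NP Q) := by rw [h1]; omega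
  have : Finite ↥(NP P ⊓ NP Q) := Nat.finite_of_card_ne_zero (by omega)
  have hnt : Nontrivial ↥(NP P ⊓ NP Q) := Finite.one_lt_card_iff_nontrivial.1 h3
  obtain ⟨⟨d, hd⟩, hd1⟩ := exists_ne (1 : ↥(NP P ⊓ NP Q))
  exact ⟨d, hd, fun h => hd1 (Subtype.ext h)⟩

/-- C3 -/
theorem cent_D_le {G : Type*} [Group G] [Finite G] (hA : AIC G) (hnc : NCyc G) (hnn : NNor G)
    (hK : KTI G) (P Q : Sylow 2 G) (hPQ : P ≠ Q) {y : G}
    (hy : ∀ d ∈ NP P ⊓ NP Q, y * d = d * y) : y ∈ NP P ⊓ NP Q :=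
  cent_D_le_of
    (fun P Q {_} h1 h2 h3 => sylow_ti hA hnc P Q h1 h2 h3)
    (fun P {_} h k hk => mem_of_np P h k hk)
    (fun P Q hPQ {_} hxP hxQ => Cfsg.Agent.Lib.helper18.AIC.cp_inf_np hA hnc hnn hK P Q hPQ hxP hxQ)
    (fun P Q hPQ {_} hw hwP => Cfsg.Agent.Lib.helper13.AIC.D_inverted hA hnc hnn hK P Q hPQ hw hwP)
    (fun P Q hPQ {_} hd hd1 {_} hc hcd => D_fpf hA hnc hnn hK P Q hPQ hd hd1 hc hcd)
    (fun P Q hPQ {_} hh => Cfsg.Agent.Lib.helper13.AIC.np_decomp hA hnc hnn hK P Q hPQ hh)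
    (fun P Q hPQ => h4_exists_swap hA hnc hnn P Q hPQ)
    (fun P Q hPQ => h4_D_ne hA hnc hnn hK P Q hPQ)
    P Q hPQ hy

end Cfsg.Agent.Lib.helper4.AIC
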