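import Mathlib
import Cfsg.Agent.Lib.helper42.AICDefs

/-!
helper4: S2202 piece E0a (`keq_of_not_nnor`): a normal Sylow 2-subgroup is the only one.
-/

set_option autoImplicit false

open Cfsg.Agent.Lib.helper42.AIC

namespace Cfsg.Agent.Lib.helper4.AIC

/-- E0a : if some Sylow 2-subgroup is normal there is only one -/
theorem keq_of_not_nnor {G : Type*} [Group G] [Finite G] (h : ¬ NNor G) : KEq G := by
  have h1 : ∃ P : Sylow 2 G, (P : Subgroup G).Normal := by
    by_contra hcon
    exact h (fun P hP => hcon ⟨P, hP⟩)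
  obtain ⟨P0, hP0⟩ := h1
  have huniq : Unique (Sylow 2 G) := Sylow.unique_of_normal P0 hP0
  intro P Q x _ hxP
  have hPQ : P = Q := Subsingleton.elim P Q
  rw [← hPQ]; exact hxP

end Cfsg.Agent.Lib.helper4.AIC
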