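import Mathlib

/-!
helper4: S2202 piece F2 (`prod_of_compl`): a group with a central normal subgroup `Z` having a
complement `L` is isomorphic to `(G ⧸ Z) × Z`.
-/

set_option autoImplicit false

namespace Cfsg.Agent.Lib.helper4.AIC

/-- F2 (Mathlib only) -/
theorem prod_of_compl {G : Type*} [Group G] (L Z : Subgroup G) [Z.Normal]
    (hc : ∀ z ∈ Z, ∀ g : G, z * g = g * z) (h1 : L ⊓ Z = ⊥) (h2 : L ⊔ Z = ⊤) :
    Nonempty (G ≃* (G ⧸ Z) × ↥Z) := by
  -- the multiplication map `L × Z → G`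
  let φ : ↥L × ↥Z →* G :=
    { toFun := fun p => (p.1 : G) * (p.2 : G)
      map_one' := by simp
      map_mul' := by
        intro p q
        have h := hc p.2 p.2.2 q.1
        simp only [Prod.fst_mul, Prod.snd_mul, Subgroup.coe_mul]
        calc (p.1 : G) * q.1 * (p.2 * q.2) = p.1 * (q.1 * p.2) * q.2 := by group
          _ = p.1 * (p.2 * q.1) * q.2 := by rw [h]
          _ = p.1 * p.2 * (q.1 * q.2) := by group }
  have hdecomp : ∀ g : G, ∃ l ∈ L, ∃ z ∈ Z, l * z = g := by
    intro g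
    have hg : g ∈ L ⊔ Z := by rw [h2]; exact Subgroup.mem_top g
    exact Subgroup.mem_sup_of_normal_right.1 hg
  have hLZ : ∀ x : G, x ∈ L → x ∈ Z → x = 1 := by
    intro x hxL hxZ
    have : x ∈ L ⊓ Z := ⟨hxL, hxZ⟩
    rw [h1] at this
    exact Subgroup.mem_bot.1 this
  have hφbij : Function.Bijective φ := by
    constructor
    · rw [injective_iff_map_eq_one]
      intro p hp
      have hp' : (p.1 : G) * (p.2 : G) = 1 := hp
      have h3 : (p.1 : G) = (p.2 : G)⁻¹ := eq_inv_of_mul_eq_one_left hp'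
      have h4 : (p.1 : G) = 1 := hLZ _ p.1.2 (by rw [h3]; exact inv_mem p.2.2)
      have h5 : (p.2 : G) = 1 := by rw [h4, one_mul] at hp'; exact hp'
      exact Prod.ext (Subtype.ext h4) (Subtype.ext h5)
    · intro g
      obtain ⟨l, hl, z, hz, hlz⟩ := hdecomp g
      exact ⟨(⟨l, hl⟩, ⟨z, hz⟩), hlz⟩
  let ψ : ↥L × ↥Z →* (G ⧸ Z) × ↥Z :=
    MonoidHom.prodMap ((QuotientGroup.mk' Z).comp L.subtype) (MonoidHom.id ↥Z)
  have hψbij : Function.Bijective ψ := by
    constructor
    · rw [injective_iff_map_eq_one]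
      intro p hp
      have hp1 : (QuotientGroup.mk' Z) (p.1 : G) = 1 := congrArg Prod.fst hp
      have hp2 : p.2 = 1 := congrArg Prod.snd hp
      have h3 : (p.1 : G) ∈ Z := by
        have h3' : (p.1 : G) ∈ (QuotientGroup.mk' Z).ker := hp1
        rwa [QuotientGroup.ker_mk'] at h3'
      have h4 : (p.1 : G) = 1 := hLZ _ p.1.2 h3
      exact Prod.ext (Subtype.ext h4) hp2
    · rintro ⟨q, z⟩
      obtain ⟨g, rfl⟩ := QuotientGroup.mk'_surjective Z q
      obtain ⟨l, hl, z', hz', hlz⟩ := hdecomp g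
      refine ⟨(⟨l, hl⟩, z), ?_⟩
      have h5 : (QuotientGroup.mk' Z) l = (QuotientGroup.mk' Z) g := by
        rw [← hlz, map_mul]
        have : (QuotientGroup.mk' Z) z' = 1 := by
          have h6 : z' ∈ (QuotientGroup.mk' Z).ker := by rw [QuotientGroup.ker_mk']; exact hz'
          exact h6
        rw [this, mul_one]
      exact Prod.ext h5 rfl
  exact ⟨(MulEquiv.ofBijective φ hφbij).symm.trans (MulEquiv.ofBijective ψ hψbij)⟩

end Cfsg.Agent.Lib.helper4.AIC
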