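import Mathlib
import Cfsg.Prelude.Def_LieExceptional
import Cfsg.Agent.Lib.helper42.AICDefs
import Cfsg.Agent.Lib.helper4.AIC_Aux

/-!
helper4: core of S2202 piece Z1 (`zassenhaus`), with the earlier pieces as hypotheses.
-/

set_option autoImplicit false

open Cfsg.Agent.Lib.helper42.AIC

namespace Cfsg.Agent.Lib.helper4.AIC

/-- three distinct Sylow 2-subgroups -/
theorem h4_exists_three {G : Type*} [Group G] [Finite G]
    (hA3 : ∀ (P Q : Sylow 2 G) {x : G}, x ∈ (P : Subgroup G) → x ∈ (Q : Subgroup G) → x ≠ 1 →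
      P = Q)
    (hA4 : ∀ (P : Sylow 2 G) {x : G}, x ∈ NP P → ∀ k : ℕ, x ^ (2 ^ k) = 1 →
      x ∈ (P : Subgroup G))
    (hinv : ∀ P : Sylow 2 G, ∃ t : G, t ∈ (P : Subgroup G) ∧ orderOf t = 2)
    (hnn : NNor G) (P : Sylow 2 G) :
    ∃ Q R : Sylow 2 G, P ≠ Q ∧ P ≠ R ∧ Q ≠ R := by
  have h1 : ∃ g : G, g • P ≠ P := by
    by_contra hcon
    have hcon' : ∀ g : G, g • P = P := fun g => by_contra fun h => hcon ⟨g, h⟩
    apply hnn P
    rw [← Subgroup.normalizer_eq_top_iff, eq_top_iff]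
    intro g _
    exact (h4_mem_np_iff P g).2 (hcon' g)
  obtain ⟨g, hg⟩ := h1
  obtain ⟨t, htP, ht⟩ := hinv P
  have ht1 : t ≠ 1 := by
    intro h
    rw [h, orderOf_one] at ht
    exact absurd ht (by norm_num)
  have ht2 : t ^ (2 ^ 1) = 1 := by
    rw [pow_one, ← ht]; exact pow_orderOf_eq_one _
  refine ⟨g • P, t • (g • P), fun h => hg h.symm, ?_, ?_⟩
  · intro h
    have h2 : t⁻¹ • P = P := (h4_mem_np_iff P t⁻¹).1 (h4_le_np P (inv_mem htP))
    have h3 : t⁻¹ • (t • (g • P)) = g • P := inv_smul_smul t _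
    rw [← h] at h3
    exact hg (h3.symm.trans h2)
  · intro h
    have h2 : t ∈ NP (g • P) := (h4_mem_np_iff (g • P) t).2 h.symm
    have h3 : t ∈ ((g • P : Sylow 2 G) : Subgroup G) := hA4 (g • P) h2 1 ht2
    exact hg (hA3 P (g • P) htP h3 ht1).symm

theorem zassenhaus_of {G : Type*} [Group G] [Finite G]
    (hA2 : ∀ (P : Sylow 2 G) {t : G}, orderOf t = 2 → t ∈ (P : Subgroup G) →
      Subgroup.centralizer ({t} : Set G) = CP P)
    (hA3 : ∀ (P Q : Sylow 2 G) {x : G}, x ∈ (P : Subgroup G) → x ∈ (Q : Subgroup G) → x ≠ 1 →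
      P = Q)
    (hA4 : ∀ (P : Sylow 2 G) {x : G}, x ∈ NP P → ∀ k : ℕ, x ^ (2 ^ k) = 1 →
      x ∈ (P : Subgroup G))
    (hA10 : ∀ {t : G}, orderOf t = 2 →
      ∃ R : Sylow 2 G, t ∈ (R : Subgroup G) ∧ Subgroup.centralizer ({t} : Set G) = CP R)
    (hA11 : ∀ P : Sylow 2 G, ∃ s t : G, s ∈ (P : Subgroup G) ∧ t ∈ (P : Subgroup G) ∧
      orderOf s = 2 ∧ orderOf t = 2 ∧ s ≠ t ∧ s * t = t * s)
    (hO2 : ∀ (D : Subgroup G) (w : G), w * w = 1 → (∀ d ∈ D, w * d * w⁻¹ ∈ D) →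
      (∀ d ∈ D, w * d = d * w → d = 1) → ∀ d ∈ D, w * d * w⁻¹ = d⁻¹)
    (hC5 : ∀ (P Q : Sylow 2 G), P ≠ Q → ∀ R : Sylow 2 G, R ≠ P → ∃ c ∈ CP P, c • Q = R)
    (hC6 : ∀ (P Q R : Sylow 2 G), P ≠ Q → P ≠ R → Q ≠ R → ∀ {g : G}, g ∈ NP P → g ∈ NP Q →
      g ∈ NP R → g = 1)
    (hDne : ∀ (P Q : Sylow 2 G), P ≠ Q → ∃ d ∈ NP P ⊓ NP Q, d ≠ 1)
    (hnn : NNor G) : Cfsg.IsZassenhausGroup G (Sylow 2 G) := by
  have hinv : ∀ P : Sylow 2 G, ∃ t : G, t ∈ (P : Subgroup G) ∧ orderOf t = 2 := by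
    intro P
    obtain ⟨s, t, hs, ht, hso, hto, hne, hst⟩ := hA11 P
    exact ⟨t, ht, hto⟩
  have P0 : Sylow 2 G := default
  obtain ⟨Q0, R0, hPQ0, hPR0, hQR0⟩ := h4_exists_three hA3 hA4 hinv hnn P0
  refine ⟨⟨?_⟩, ?_, ?_, ?_, ?_⟩
  · -- faithful
    intro g h hgh
    have hfix : ∀ a : Sylow 2 G, (h⁻¹ * g) ∈ NP a := by
      intro a
      rw [h4_mem_np_iff, mul_smul, hgh a, inv_smul_smul]
    have := hC6 P0 Q0 R0 hPQ0 hPR0 hQR0 (hfix P0) (hfix Q0) (hfix R0)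
    exact (inv_mul_eq_one.1 this).symm
  · -- 2-transitive
    rw [MulAction.is_two_pretransitive_iff]
    intro a b c d hab hcd
    obtain ⟨g, hg⟩ := MulAction.exists_smul_eq G a c
    have hgb : g • b ≠ c := by
      intro h
      rw [← hg] at h
      exact hab (smul_left_cancel g h).symm
    obtain ⟨x, hx, hxd⟩ := hC5 c (g • b) hgb.symm d (fun h => hcd h.symm)
    refine ⟨x * g, ?_, ?_⟩
    · rw [mul_smul, hg]; exact (h4_mem_np_iff c x).1 (h4_cp_le_np c hx)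
    · rw [mul_smul]; exact hxd
  · -- no three fixed points
    intro g a b c hab hbc hac ha hb hc
    exact hC6 a b c hab hac hbc ((h4_mem_np_iff a g).2 ha) ((h4_mem_np_iff b g).2 hb)
      ((h4_mem_np_iff c g).2 hc)
  · -- a non-identity element fixing two points
    obtain ⟨d, hd, hd1⟩ := hDne P0 Q0 hPQ0
    exact ⟨d, hd1, P0, Q0, hPQ0, (h4_mem_np_iff P0 d).1 hd.1, (h4_mem_np_iff Q0 d).1 hd.2⟩
  · -- no regular normal subgroup
    intro N hN htr
    by_contra hcon0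
    have hcon : ∀ a : Sylow 2 G, MulAction.stabilizer N a = ⊥ :=
      fun a => by_contra fun h => hcon0 ⟨a, h⟩
    have hstab : ∀ (a : Sylow 2 G) (n : G), n ∈ N → n ∈ NP a → n = 1 := by
      intro a n hn hna
      have h1 : (⟨n, hn⟩ : N) ∈ MulAction.stabilizer N a := by
        rw [MulAction.mem_stabilizer_iff]
        exact (h4_mem_np_iff a n).1 hna
      rw [hcon a, Subgroup.mem_bot] at h1
      exact congrArg Subtype.val h1
    -- every involution of `P0` inverts `N`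
    have hinvN : ∀ t : G, orderOf t = 2 → t ∈ (P0 : Subgroup G) → ∀ n ∈ N, t * n * t⁻¹ = n⁻¹ := by
      intro t ht htP
      refine hO2 N t (h4_mul_self ht) (fun n hn => hN.conj_mem n hn t) ?_
      intro n hn htn
      apply hstab P0 n hn
      apply h4_cp_le_np
      rw [← hA2 P0 ht htP, Subgroup.mem_centralizer_singleton_iff]
      exact htn.symm
    obtain ⟨s, t, hs, ht, hso, hto, hne, hst⟩ := hA11 P0
    have hst2 : orderOf (s * t) = 2 := by
      apply orderOf_eq_prime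
      · have h1 : (s * t) ^ 2 = s ^ 2 * t ^ 2 := (show Commute s t from hst).mul_pow 2
        rw [h1, pow_two, pow_two, h4_mul_self hso, h4_mul_self hto, one_mul]
      · intro h
        have : s = t⁻¹ := eq_inv_of_mul_eq_one_left h
        rw [h4_inv_eq_self hto] at this
        exact hne this
    have hsq : ∀ n ∈ N, n * n = 1 := by
      intro n hn
      have h1 := hinvN (s * t) hst2 (mul_mem hs ht) n hn
      have h2 := hinvN t hto ht n hn
      have h3 := hinvN s hso hs n⁻¹ (inv_mem hn)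
      have h4 : (s * t) * n * (s * t)⁻¹ = s * (t * n * t⁻¹) * s⁻¹ := by group
      rw [h4, h2, h3, inv_inv] at h1
      calc n * n = n * n⁻¹ := by rw [← h1]
        _ = 1 := mul_inv_cancel n
    -- a non-identity element of `N`
    obtain ⟨m, hm⟩ := MulAction.exists_smul_eq N P0 Q0
    have hm1 : (m : G) ≠ 1 := by
      intro h
      have h2 : (m : G) • P0 = Q0 := hm
      rw [h, one_smul] at h2
      exact hPQ0 h2
    have hmo : orderOf (m : G) = 2 := by
      apply orderOf_eq_prime _ hm1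
      rw [pow_two]; exact hsq _ m.2
    obtain ⟨R, hmR, _⟩ := hA10 hmo
    exact hm1 (hstab R _ m.2 (h4_le_np R hmR))

end Cfsg.Agent.Lib.helper4.AIC
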