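import Mathlib
import Cfsg.Prelude.Def_LieExceptional
import Cfsg.Agent.Lib.helper42.AICDefs
import Cfsg.Agent.Lib.helper42.AIC_A
import Cfsg.Agent.Lib.helper42.AIC_A2
import Cfsg.Agent.Lib.helper69.AIC_O2
import Cfsg.Agent.Lib.helper13.AIC_C5
import Cfsg.Agent.Lib.helper13.AIC_C6
import Cfsg.Agent.Lib.helper4.AIC_C3
import Cfsg.Agent.Lib.helper4.AIC_Z1a

/-!
helper4: S2202 piece Z1 (`zassenhaus`): in the TI case `G` is a Zassenhaus group on its
Sylow 2-subgroups.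
-/

set_option autoImplicit false

open Cfsg.Agent.Lib.helper42.AIC

namespace Cfsg.Agent.Lib.helper4.AIC

/-- Z1 -/
theorem zassenhaus {G : Type*} [Group G] [Finite G] (hA : AIC G) (hnc : NCyc G) (hnn : NNor G)
    (hK : KTI G) : Cfsg.IsZassenhausGroup G (Sylow 2 G) :=
  zassenhaus_of
    (fun P {_} ht htP => cent_eq hA hnc P ht htP)
    (fun P Q {_} h1 h2 h3 => sylow_ti hA hnc P Q h1 h2 h3)
    (fun P {_} h k hk => mem_of_np P h k hk)
    (fun {_} ht => exists_sylow_inv hA hnc ht)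
    (fun P => exists_two_inv hA hnc P)
    (fun D w hw hwD hfpf => Cfsg.Agent.Lib.helper69.AIC.inverts_of_fpf D w hw hwD hfpf)
    (fun P Q hPQ R hRP => Cfsg.Agent.Lib.helper13.AIC.cp_trans hA hnc hnn hK P Q hPQ R hRP)
    (fun P Q R hPQ hPR hQR {_} hgP hgQ hgR =>
      Cfsg.Agent.Lib.helper13.AIC.three_fix hA hnc hnn hK P Q R hPQ hPR hQR hgP hgQ hgR)
    (fun P Q hPQ => h4_D_ne hA hnc hnn hK P Q hPQ)
    hnn

end Cfsg.Agent.Lib.helper4.AIC
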