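import Mathlib
import Cfsg.Agent.Lib.helper4.CharDecomp
import Cfsg.Agent.Lib.helper82.CharQuot
import Cfsg.Agent.Lib.helper82.CliffordCorr
import Cfsg.Agent.Lib.helper19.Gallagher

/-!
# Characters of subgroups as restrictions of functions on the ambient group (helper4 library)

Transport lemmas for irreducible characters of subgroups `K ≤ H ≤ G`, all phrased with functions
`f : G → ℂ` and `IsIrrCharacter H (fun h : H => f h)`.
-/

set_option autoImplicit false

namespace Cfsg.Agent.Lib.helper4

open Cfsg
open scoped ComplexConjugate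

universe u

/-- Pullback of an irreducible character along a surjective homomorphism. -/
theorem isIrrCharacter_comp_surjective {A B : Type*} [Group A] [Group B] (φ : A →* B)
    (hφ : Function.Surjective φ) {χ : B → ℂ} (h : IsIrrCharacter B χ) :
    IsIrrCharacter A (fun a => χ (φ a)) := by
  obtain ⟨n, ρ, hirr, rfl⟩ := h
  exact ⟨n, Cfsg.Agent.Lib.helper82.compRep φ ρ,
    (Cfsg.Agent.Lib.helper82.isIrreducible_comp_iff φ hφ ρ).mpr hirr, rfl⟩

/-- Conjugation transport: if `J' = x J x⁻¹` and `f` restricts to an irreducible character of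
`J`, then `g ↦ f (x⁻¹ g x)` restricts to an irreducible character of `J'`. -/
theorem isIrrCharacter_conj_sub {G : Type u} [Group G] (J J' : Subgroup G) (x : G)
    (hx : ∀ g, g ∈ J' ↔ x⁻¹ * g * x ∈ J) {f : G → ℂ}
    (h : IsIrrCharacter J (fun j : J => f j)) :
    IsIrrCharacter J' (fun j : J' => f (x⁻¹ * (j : G) * x)) := by
  let φ : J' →* J :=
    { toFun := fun j => ⟨x⁻¹ * (j : G) * x, (hx j).mp j.2⟩
      map_one' := by
        apply Subtype.ext
        show x⁻¹ * (1 : G) * x = 1
        group
      map_mul' := fun a b => by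
        apply Subtype.ext
        show x⁻¹ * ((a : G) * b) * x = (x⁻¹ * a * x) * (x⁻¹ * b * x)
        group }
  have hφ : Function.Surjective φ := by
    intro j
    have hmem : x * (j : G) * x⁻¹ ∈ J' := by
      rw [hx]
      have : x⁻¹ * (x * (j : G) * x⁻¹) * x = j := by group
      rw [this]
      exact j.2
    refine ⟨⟨x * (j : G) * x⁻¹, hmem⟩, ?_⟩
    apply Subtype.ext
    show x⁻¹ * (x * (j : G) * x⁻¹) * x = j
    group
  exact isIrrCharacter_comp_surjective φ hφ h

/-- A character whose restriction to a subgroup is irreducible is irreducible. -/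
theorem isIrrCharacter_of_restrict_irr {J : Type u} [Group J] [Finite J] (K : Subgroup J)
    {ψ : J → ℂ} (hψ : IsCharacter J ψ) (hK : IsIrrCharacter K (fun k : K => ψ k)) :
    IsIrrCharacter J ψ := by
  classical
  have := Fintype.ofFinite J
  have : Fintype K := Fintype.ofFinite K
  obtain ⟨l, hl⟩ := exists_irr_list_of_isCharacter hψ
  -- restriction of a list sum
  have hres : ∀ l' : List (IrrCharacter J), ∃ m : List (IrrCharacter K),
      (fun k : K => (l'.map Subtype.val).sum (k : J)) = (m.map Subtype.val).sum ∧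
        l'.length ≤ m.length := by
    intro l'
    induction l' with
    | nil => exact ⟨[], by funext k; simp, le_rfl⟩
    | cons a t ih =>
      obtain ⟨m, hm, hlen⟩ := ih
      obtain ⟨ma, hma⟩ := exists_irr_list_of_isCharacter
        (isCharacter_restrict K (isCharacter_of_isIrrCharacter a.2))
      have hne : ma ≠ [] := by
        rintro rfl
        have h1 := congrFun hma 1
        simp only [List.map_nil, List.sum_nil, Pi.zero_apply] at h1
        exact irr_degree_ne_zero a.2 h1
      refine ⟨ma ++ m, ?_, ?_⟩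
      · rw [List.map_append, List.sum_append, ← hm, ← hma]
        funext k
        simp [List.sum_cons]
      · have : 1 ≤ ma.length := List.length_pos_iff.mpr hne
        simp only [List.length_cons, List.length_append]
        omega
  obtain ⟨m, hm, hlen⟩ := hres l
  have hKm : IsIrrCharacter K (m.map Subtype.val).sum := by
    rw [← hm, ← hl]
    exact hK
  obtain ⟨n, hn, hle⟩ := exists_nat_norm_list_irr m
  rw [classInner_irr_self hKm] at hn
  have hn1 : n = 1 := by exact_mod_cast hn.symm
  have hl1 : l.length ≤ 1 := by omega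
  match l, hl, hl1 with
  | [], hl, _ =>
    exfalso
    have h1 : (fun k : K => ψ k) 1 = 0 := by
      show ψ ((1 : K) : J) = 0
      rw [hl]
      simp
    exact irr_degree_ne_zero hK h1
  | [a], hl, _ =>
    rw [hl]
    simpa using a.2
  | a :: b :: t, _, hl1 =>
    exfalso
    simp only [List.length_cons] at hl1
    omega

/-- Subgroup form: if `f` restricts to an irreducible character of `L` and of `K ≤ J ≤ L`, then
it restricts to an irreducible character of `J`. -/
theorem isIrrCharacter_sub_of_le {G : Type u} [Group G] [Finite G] (K J L : Subgroup G)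
    (hKJ : K ≤ J) (hJL : J ≤ L) {f : G → ℂ} (hL : IsIrrCharacter L (fun l : L => f l))
    (hK : IsIrrCharacter K (fun k : K => f k)) : IsIrrCharacter J (fun j : J => f j) := by
  have hJc : IsCharacter J (fun j : J => f j) :=
    isCharacter_comp (Subgroup.inclusion hJL) (isCharacter_of_isIrrCharacter hL)
  apply isIrrCharacter_of_restrict_irr (K.subgroupOf J) hJc
  exact Cfsg.Agent.Lib.helper82.isIrrCharacter_subRes K J hKJ hK

/-- Gallagher's coset norm formula for subgroups `K ≤ J` of `G`. -/
theorem sum_coset_norm_sub {G : Type u} [Group G] [Finite G] (K J : Subgroup G) (hKJ : K ≤ J)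
    [Fintype K] (f : G → ℂ) (hJ : IsIrrCharacter J (fun j : J => f j))
    (hK : IsIrrCharacter K (fun k : K => f k)) (g : G) (hg : g ∈ J) :
    ∑ k : K, f ((k : G) * g) * conj (f ((k : G) * g)) = (Nat.card K : ℂ) := by
  classical
  have : Fintype J := Fintype.ofFinite J
  have : Fintype (K.subgroupOf J) := Fintype.ofFinite _
  have h1 := Cfsg.Agent.Lib.helper19.sum_coset_norm (K.subgroupOf J) (fun j : J => f j) hJ
    (Cfsg.Agent.Lib.helper82.isIrrCharacter_subRes K J hKJ hK) ⟨g, hg⟩
  rw [Nat.card_congr (Subgroup.subgroupOfEquivOfLe hKJ).toEquiv] at h1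
  rw [← h1]
  exact (Fintype.sum_equiv (Subgroup.subgroupOfEquivOfLe hKJ).toEquiv _ _ (fun n => rfl)).symm

/-- Summing over the translates by a subgroup `K ≤ H`. -/
theorem sum_sum_coset_sub {G : Type u} [Group G] (K H : Subgroup G) (hKH : K ≤ H)
    [Fintype K] [Fintype H] (Φ : G → ℂ) :
    ∑ h : H, ∑ k : K, Φ ((k : G) * (h : G)) = (Nat.card K : ℂ) * ∑ h : H, Φ h := by
  rw [Finset.sum_comm]
  have h : ∀ k : K, ∑ h : H, Φ ((k : G) * (h : G)) = ∑ h : H, Φ h := by
    intro k
    exact Fintype.sum_equiv (Equiv.mulLeft (⟨k, hKH k.2⟩ : H)) _ _ (fun g => rfl)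
  rw [Finset.sum_congr rfl (fun k _ => h k), Finset.sum_const, Finset.card_univ, nsmul_eq_mul,
    Nat.card_eq_fintype_card]

/-- Gallagher's theorem for subgroups `K ≤ H` of `G` with `K` normal in `H`. -/
theorem gallagher_sub {G : Type u} [Group G] [Finite G] (K H : Subgroup G) (hKH : K ≤ H)
    (hnorm : ∀ h ∈ H, ∀ k ∈ K, h * k * h⁻¹ ∈ K) (f₁ f₂ : G → ℂ)
    (h₁ : IsIrrCharacter H (fun h : H => f₁ h)) (h₁K : IsIrrCharacter K (fun k : K => f₁ k))
    (h₂ : IsIrrCharacter H (fun h : H => f₂ h)) [Fintype K]
    (hne : classInner (fun k : K => f₂ k) (fun k : K => f₁ k) ≠ 0) :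
    ∃ β : H → ℂ, IsIrrCharacter H β ∧ (∀ h : H, (h : G) ∈ K → β h = β 1) ∧
      ∀ h : H, f₂ h = f₁ h * β h := by
  classical
  have : Fintype H := Fintype.ofFinite H
  have : Fintype (K.subgroupOf H) := Fintype.ofFinite _
  haveI : (K.subgroupOf H).Normal := ⟨fun n hn g => by
    rw [Subgroup.mem_subgroupOf] at hn ⊢
    exact hnorm g g.2 n hn⟩
  have hne' : classInner (fun n : K.subgroupOf H => (fun h : H => f₂ h) n)
      (fun n : K.subgroupOf H => (fun h : H => f₁ h) n) ≠ 0 := by
    have h3 := Cfsg.Agent.Lib.helper82.classInner_subRes K H hKH (fun k : K => f₂ k)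
      (fun k : K => f₁ k)
    intro h4
    apply hne
    rw [← h3]
    exact h4
  obtain ⟨β, hβ, hβK, hβeq⟩ := Cfsg.Agent.Lib.helper19.gallagher (K.subgroupOf H)
    (fun h : H => f₁ h) h₁ (Cfsg.Agent.Lib.helper82.isIrrCharacter_subRes K H hKH h₁K)
    (fun h : H => f₂ h) h₂ hne'
  refine ⟨β, hβ, fun h hh => hβK h (Subgroup.mem_subgroupOf.mpr hh), fun h => ?_⟩
  have := congrFun hβeq h
  simpa using this

end Cfsg.Agent.Lib.helper4
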