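import Mathlib
import Cfsg.Agent.Lib.helper4.SubChar
import Cfsg.Agent.Lib.helper4.PSection
import Cfsg.Agent.Lib.helper4.CharTheory
import Cfsg.Agent.Lib.helper80.Cover
import Cfsg.Agent.Lib.helper80.Principal
import Cfsg.Agent.Lib.helper80.Transport
import Cfsg.Agent.Lib.helper81.Blocks
import Cfsg.Agent.Lib.helper82.Clifford
import Cfsg.Agent.Lib.helper82.CliffordCorr
import Cfsg.Agent.Lib.helper82.Ramification
import Cfsg.Agent.Lib.helper82.Ito
import Cfsg.Agent.Lib.helper83.CharBasic2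
import Cfsg.Agent.Lib.helper77.BlockCover
import Cfsg.Agent.Lib.helper77.FongReynolds

/-!
# Principal blocks and normal subgroups of index prime to `p` (helper4 library)

Type-level lemmas: for `Ν ⊴ Γ`,

* members of the principal block take values `≡ χ 1` on elements with centralizer of index
  prime to `p`;
* constituents of restrictions of members of `B₀(Γ)` lie in `B₀(Ν)`;
* when `Γ = Ν · {c : p ∤ |Γ : C(c)|}` and `p ∤ |Γ : Ν|`, every member of `B₀(Ν)` lies under a
  member of `B₀(Γ)`, and characters over a common irreducible restriction which are `≡` their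
  degrees on the supplement coincide;
* restriction to `Ν` of a character not vanishing at a generator of the cyclic quotient is
  irreducible.
-/

set_option autoImplicit false

namespace Cfsg.Agent.Lib.helper4

open Cfsg
open scoped ComplexConjugate

universe u

section LocalArith

variable {p : ℕ} [Fact p.Prime] {M : Ideal AlgInt}

theorem memLocalIdeal_of_natCast_mul (hM : IsPModular p M) {m : ℕ} (hm : ¬ p ∣ m) {z : ℂ}
    (h : MemLocalIdeal M ((m : ℂ) * z)) : MemLocalIdeal M z := by
  have hMp := helper20.isPrime_of_isPModular hM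
  have hp : p.Prime := Fact.out
  have hcop : Nat.Coprime m p := Nat.Coprime.symm ((Nat.Prime.coprime_iff_not_dvd hp).mpr hm)
  have hm0 : (m : ℂ) ≠ 0 := by
    intro h0
    have h1 : m = 0 := by exact_mod_cast h0
    exact hm (h1 ▸ dvd_zero p)
  have h1 : MemLocalRing M ((m : ℂ)⁻¹) :=
    helper81.memLocalRing_inv (helper20.memLocalRing_natCast hMp m)
      (not_memLocalIdeal_natCast hMp hM.2.2 hcop)
  have h2 := helper20.memLocalIdeal_mul_left hMp h1 h
  rwa [inv_mul_cancel_left₀ hm0] at h2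

/-- If `x ≡ 1` and `y ≡ 1` modulo the local ideal then `y / x ≡ 1`. -/
theorem memLocalIdeal_div_sub_one (hM : IsPModular p M) {x y : ℂ}
    (hx : MemLocalIdeal M (x - 1)) (hy : MemLocalIdeal M (y - 1)) :
    x ≠ 0 ∧ MemLocalIdeal M (y / x - 1) := by
  have hMp := helper20.isPrime_of_isPModular hM
  have hxR : MemLocalRing M x := by
    have := helper20.memLocalRing_add hMp (helper20.memLocalRing_of_memLocalIdeal hx)
      (helper20.memLocalRing_one hMp)
    rwa [sub_add_cancel] at this
  have hxJ : ¬ MemLocalIdeal M x := by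
    intro h
    have := helper20.memLocalIdeal_sub hMp h hx
    rw [sub_sub_cancel] at this
    exact helper20.not_memLocalIdeal_one this
  have hx0 : x ≠ 0 := by
    rintro rfl
    exact hxJ (helper20.memLocalIdeal_zero hMp)
  refine ⟨hx0, ?_⟩
  have h1 : MemLocalRing M x⁻¹ := helper81.memLocalRing_inv hxR hxJ
  have h2 : MemLocalIdeal M (y - x) := by
    have := helper20.memLocalIdeal_sub hMp hy hx
    rwa [sub_sub_sub_cancel_right] at this
  have h3 := helper20.memLocalIdeal_mul_left hMp h1 h2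
  have h4 : x⁻¹ * (y - x) = y / x - 1 := by
    field_simp
  rwa [h4] at h3

end LocalArith

section TypeLevel

variable {p : ℕ} [Fact p.Prime] {M : Ideal AlgInt}

/-- Members of the principal block are `≡` their degree on elements whose centralizer has index
prime to `p`. -/
theorem memLocalIdeal_ratio_of_mem_principalBlock {Γ : Type u} [Group Γ] [Finite Γ]
    (hM : IsPModular p M) {χ : IrrCharacter Γ} (hχ : χ ∈ principalBlock M Γ) {c : Γ}
    (hc : ¬ p ∣ (Subgroup.centralizer ({c} : Set Γ)).index) :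
    MemLocalIdeal M ((χ : Γ → ℂ) c / (χ : Γ → ℂ) 1 - 1) := by
  have h1 := helper81.mem_principalBlock_iff.mp hχ c
  apply memLocalIdeal_of_natCast_mul hM hc
  have h2 := helper20.memLocalIdeal_neg h1
  have h3 : -(((Subgroup.centralizer ({c} : Set Γ)).index : ℂ) - centralChar (χ : Γ → ℂ) c)
      = ((Subgroup.centralizer ({c} : Set Γ)).index : ℂ)
        * ((χ : Γ → ℂ) c / (χ : Γ → ℂ) 1 - 1) := by
    unfold centralChar
    ring
  rwa [h3] at h2

/-- An irreducible character trivial on `Ν` and `≡` its degree on a set of coset representatives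
is trivial, when `p ∤ |Γ : Ν|`. -/
theorem irr_eq_one_of_trivial_of_ratio {Γ : Type u} [Group Γ] [Finite Γ] (hM : IsPModular p M)
    (Ν : Subgroup Γ) [Ν.Normal] (hidx : ¬ p ∣ Ν.index) (S : Set Γ)
    (hS : ∀ g : Γ, ∃ n ∈ Ν, ∃ c ∈ S, g = n * c) {β : Γ → ℂ} (hβ : IsIrrCharacter Γ β)
    (hβΝ : ∀ x ∈ Ν, β x = β 1) (hQ : ∀ c ∈ S, MemLocalIdeal M (β c / β 1 - 1)) :
    ∀ g, β g = 1 := by
  classical
  have hMp := helper20.isPrime_of_isPModular hM
  have hp : p.Prime := Fact.out
  obtain ⟨ψ, hψ, hψeq⟩ := helper82.isIrrCharacter_deflation Ν hβ hβΝ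
  have : Fintype (Γ ⧸ Ν) := Fintype.ofFinite _
  by_cases htriv : (⟨ψ, hψ⟩ : IrrCharacter (Γ ⧸ Ν)) = helper83.trivIrr (Γ ⧸ Ν)
  · intro g
    rw [← hψeq g]
    have h1 := congrArg (fun χ : IrrCharacter (Γ ⧸ Ν) => (χ : Γ ⧸ Ν → ℂ) (g : Γ ⧸ Ν)) htriv
    simpa using h1
  · exfalso
    have hsum : ∑ q : Γ ⧸ Ν, ψ q = 0 :=
      helper83.irr_sum_eq_zero (⟨ψ, hψ⟩ : IrrCharacter (Γ ⧸ Ν)) htriv
    have hcos := helper19.irr_trivial_coset Ν β (isCharacter_of_isIrrCharacter hβ) hβΝ
    have h21 : ψ 1 = β 1 := by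
      rw [← QuotientGroup.mk_one, hψeq]
    have hterm : ∀ q : Γ ⧸ Ν, MemLocalIdeal M (ψ q / ψ 1 - 1) := by
      intro q
      obtain ⟨g, rfl⟩ := QuotientGroup.mk_surjective q
      obtain ⟨n, hn, c, hc, rfl⟩ := hS g
      have h1 : ψ ((n * c : Γ) : Γ ⧸ Ν) = β c := by rw [hψeq, hcos n hn c]
      rw [h1, h21]
      exact hQ c hc
    have h3 := helper20.memLocalIdeal_sum hMp Finset.univ _ (fun q _ => hterm q)
    rw [Finset.sum_sub_distrib, ← Finset.sum_div, hsum, zero_div, Finset.sum_const,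
      Finset.card_univ, nsmul_eq_mul, mul_one, zero_sub] at h3
    have h5 := helper20.memLocalIdeal_neg h3
    rw [neg_neg] at h5
    have hcard : Fintype.card (Γ ⧸ Ν) = Ν.index := by
      rw [Subgroup.index_eq_card, Nat.card_eq_fintype_card]
    rw [hcard] at h5
    exact not_memLocalIdeal_natCast hMp hM.2.2
      (Nat.Coprime.symm ((Nat.Prime.coprime_iff_not_dvd hp).mpr hidx)) h5

/-- Characters over a common irreducible restriction to `Ν` which are `≡` their degrees on a
set of coset representatives coincide. -/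
theorem eq_of_ratio_of_over {Γ : Type u} [Group Γ] [Fintype Γ] (hM : IsPModular p M)
    (Ν : Subgroup Γ) [Ν.Normal] [Fintype Ν] (hidx : ¬ p ∣ Ν.index) (S : Set Γ)
    (hS : ∀ g : Γ, ∃ n ∈ Ν, ∃ c ∈ S, g = n * c) {χ₁ χ₂ : Γ → ℂ} (h₁ : IsIrrCharacter Γ χ₁)
    (h₁Ν : IsIrrCharacter Ν (fun n : Ν => χ₁ n)) (h₂ : IsIrrCharacter Γ χ₂)
    (hne : classInner (fun n : Ν => χ₂ n) (fun n : Ν => χ₁ n) ≠ 0)
    (hQ₁ : ∀ c ∈ S, MemLocalIdeal M (χ₁ c / χ₁ 1 - 1))
    (hQ₂ : ∀ c ∈ S, MemLocalIdeal M (χ₂ c / χ₂ 1 - 1)) : χ₂ = χ₁ := by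
  obtain ⟨β, hβ, hβΝ, hβeq⟩ := helper19.gallagher Ν χ₁ h₁ h₁Ν χ₂ h₂ hne
  have h11 : χ₁ 1 ≠ 0 := irr_degree_ne_zero h₁
  have hβ1 : β 1 ≠ 0 := irr_degree_ne_zero hβ
  have hQβ : ∀ c ∈ S, MemLocalIdeal M (β c / β 1 - 1) := by
    intro c hc
    obtain ⟨hx0, h⟩ := memLocalIdeal_div_sub_one hM (hQ₁ c hc) (hQ₂ c hc)
    have hc0 : χ₁ c ≠ 0 := by
      intro h0
      apply hx0
      rw [h0, zero_div]
    have h4 : χ₂ c / χ₂ 1 / (χ₁ c / χ₁ 1) = β c / β 1 := by
      rw [hβeq]
      simp only [Pi.mul_apply]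
      field_simp
    rwa [h4] at h
  have hβone := irr_eq_one_of_trivial_of_ratio hM Ν hidx S hS hβ hβΝ hQβ
  rw [hβeq]
  funext g
  simp [hβone g]

open scoped Classical in
/-- Evaluation of the central character of `θ` on the restriction to `Ν` of a block idempotent of
`Γ`. -/
theorem om_resFun_blockCoeff {Γ : Type u} [Group Γ] [Fintype Γ] (Ν : Subgroup Γ) [Fintype Ν]
    (B : Set (IrrCharacter Γ)) (θ : Ν → ℂ) :
    helper80.om θ (helper80.resFun Ν (blockCoeff B)) =
      (Nat.card Ν : ℂ) / (Nat.card Γ : ℂ) / θ 1 * ∑ χ : IrrCharacter Γ,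
        if χ ∈ B then (χ : Γ → ℂ) 1 * classInner θ (fun n : Ν => (χ : Γ → ℂ) n) else 0 := by
  unfold helper80.om
  have h1 : ∀ n : Ν, helper80.resFun Ν (blockCoeff B) n * θ n = (Nat.card Γ : ℂ)⁻¹ *
      ∑ χ : IrrCharacter Γ,
        if χ ∈ B then (χ : Γ → ℂ) 1 * (θ n * conj ((χ : Γ → ℂ) n)) else 0 := by
    intro n
    rw [helper80.resFun_apply, helper80.blockCoeff_eq_sum, mul_assoc, Finset.sum_mul]
    congr 1
    refine Finset.sum_congr rfl (fun χ _ => ?_)
    split_ifs <;> ring
  simp_rw [h1]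
  rw [← Finset.mul_sum, Finset.sum_comm]
  have h2 : ∀ χ : IrrCharacter Γ,
      ∑ n : Ν, (if χ ∈ B then (χ : Γ → ℂ) 1 * (θ n * conj ((χ : Γ → ℂ) n)) else 0)
        = (Nat.card Ν : ℂ) *
          (if χ ∈ B then (χ : Γ → ℂ) 1 * classInner θ (fun n : Ν => (χ : Γ → ℂ) n) else 0) := by
    intro χ
    have hN0 : (Nat.card Ν : ℂ) ≠ 0 := by exact_mod_cast (Nat.card_pos (α := Ν)).ne'
    split_ifs with h
    · rw [← Finset.mul_sum]
      unfold classInner
      field_simp
    · simp
  simp_rw [h2]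
  rw [← Finset.mul_sum]
  ring

/-- Constituents of restrictions of members of the principal block lie in the principal block. -/
theorem mem_principalBlock_of_constituent {Γ : Type u} [Group Γ] [Fintype Γ]
    (hM : IsPModular p M) (Ν : Subgroup Γ) [hΝ : Ν.Normal] [Fintype Ν] {χ : IrrCharacter Γ}
    (hχ : χ ∈ principalBlock M Γ) (θ : IrrCharacter Ν)
    (hθ : classInner (fun n : Ν => (χ : Γ → ℂ) n) (θ : Ν → ℂ) ≠ 0) :
    θ ∈ principalBlock M Ν := by
  have hMp := helper20.isPrime_of_isPModular hM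
  have h0 : classInner (fun n : Ν => ((helper81.trivChar Γ : IrrCharacter Γ) : Γ → ℂ) n)
      ((helper81.trivChar Ν : IrrCharacter Ν) : Ν → ℂ) ≠ 0 := by
    have h1 : (fun n : Ν => ((helper81.trivChar Γ : IrrCharacter Γ) : Γ → ℂ) n)
        = ((helper81.trivChar Ν : IrrCharacter Ν) : Ν → ℂ) := rfl
    rw [h1, classInner_irr_self (helper81.trivChar Ν).2]
    exact one_ne_zero
  have h1 := helper77.mem_orbitUnion_of_cover Ν hMp
    (helper81.isPBlock_principalBlock (M := M) (G := Γ))
    (helper81.isPBlock_principalBlock (M := M) (G := Ν))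
    (helper81.trivChar_mem_principalBlock hMp) (helper81.trivChar_mem_principalBlock hMp) h0 hχ hθ
  obtain ⟨g, hg⟩ := h1
  have h2 : SameBlock M ((helper81.trivChar Ν : IrrCharacter Ν) : Ν → ℂ)
      (helper77.cjIrr Ν g θ : Ν → ℂ) := hg
  have h3 := helper77.sameBlock_cjIrr Ν g⁻¹ h2
  rw [helper77.cjIrr_inv_cjIrr] at h3
  exact h3

open scoped Classical in
/-- Every member of the principal block of `Ν` lies under a member of the principal block of
`Γ`, when `Γ = Ν · {c : p ∤ |Γ : C(c)|}` and `p ∤ |Γ : Ν|`. -/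
theorem exists_principal_over {Γ : Type u} [Group Γ] [Fintype Γ] (hM : IsPModular p M)
    (Ν : Subgroup Γ) [hΝ : Ν.Normal] [Fintype Ν] (hidx : ¬ p ∣ Ν.index)
    (hD : ∀ g : Γ, ∃ n ∈ Ν, ∃ c : Γ,
      ¬ p ∣ (Subgroup.centralizer ({c} : Set Γ)).index ∧ g = n * c)
    (θ : IrrCharacter Ν) (hθ : θ ∈ principalBlock M Ν) :
    ∃ χ ∈ principalBlock M Γ, classInner (fun n : Ν => (χ : Γ → ℂ) n) (θ : Ν → ℂ) ≠ 0 := by
  have hMp := helper20.isPrime_of_isPModular hM
  by_contra hcon
  push Not at hcon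
  set f := helper80.resFun Ν (blockCoeff (principalBlock M Γ)) with hf
  have hfc : IsClassFunction Ν f := by
    intro g h
    have := helper80.blockCoeff_classFun (principalBlock M Γ) (g : Γ) (h : Γ)
    simpa [hf, helper80.resFun] using this
  have hfR : ∀ n, MemLocalRing M (f n) := fun n =>
    helper81.memLocalRing_blockCoeff' hMp helper81.isPBlock_principalBlock _
  have h1 := helper80.memLocalIdeal_om_sub hMp (helper81.trivChar Ν) θ hθ f hfc hfR
  -- the value at `θ` vanishes
  have h2 : helper80.om (θ : Ν → ℂ) f = 0 := by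
    rw [hf, om_resFun_blockCoeff]
    have h3 : ∀ χ : IrrCharacter Γ, (if χ ∈ principalBlock M Γ then
        (χ : Γ → ℂ) 1 * classInner (θ : Ν → ℂ) (fun n : Ν => (χ : Γ → ℂ) n) else 0) = 0 := by
      intro χ
      split_ifs with h
      · rw [← classInner_conj_symm, hcon χ h, map_zero, mul_zero]
      · rfl
    rw [Finset.sum_congr rfl (fun χ _ => h3 χ), Finset.sum_const_zero, mul_zero]
  -- the value at the trivial character
  have h4 : helper80.om ((helper81.trivChar Ν : IrrCharacter Ν) : Ν → ℂ) f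
      = (Nat.card Ν : ℂ) / (Nat.card Γ : ℂ) := by
    rw [hf, om_resFun_blockCoeff]
    have h5 : ∀ χ : IrrCharacter Γ, (if χ ∈ principalBlock M Γ then
        (χ : Γ → ℂ) 1 * classInner ((helper81.trivChar Ν : IrrCharacter Ν) : Ν → ℂ)
          (fun n : Ν => (χ : Γ → ℂ) n) else 0) = if χ = helper81.trivChar Γ then 1 else 0 := by
      intro χ
      by_cases hχt : χ = helper81.trivChar Γ
      · rw [if_pos hχt, hχt, if_pos (helper81.trivChar_mem_principalBlock hMp)]
        have h6 : (fun n : Ν => ((helper81.trivChar Γ : IrrCharacter Γ) : Γ → ℂ) n)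
            = ((helper81.trivChar Ν : IrrCharacter Ν) : Ν → ℂ) := rfl
        rw [h6, classInner_irr_self (helper81.trivChar Ν).2]
        show (1 : ℂ) * 1 = 1
        rw [mul_one]
      · rw [if_neg hχt]
        split_ifs with h
        · have h7 : classInner (fun n : Ν => (χ : Γ → ℂ) n)
              ((helper81.trivChar Ν : IrrCharacter Ν) : Ν → ℂ) = 0 := by
            by_contra hne
            obtain ⟨e, he⟩ := exists_nat_classInner_irr
              (isCharacter_restrict Ν (isCharacter_of_isIrrCharacter χ.2)) (helper81.trivChar Ν).2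
            have he0 : e ≠ 0 := by
              rintro rfl
              apply hne
              rw [he]
              simp
            have hres := helper82.clifford_invariant Ν χ.2 (helper81.trivChar Ν).2
              (fun g => rfl) e he he0
            have hres' : ∀ n : Ν, (χ : Γ → ℂ) n = e := by
              intro n
              rw [hres n]
              show (e : ℂ) * 1 = e
              rw [mul_one]
            have hker : ∀ x ∈ Ν, (χ : Γ → ℂ) x = (χ : Γ → ℂ) 1 := by
              intro x hx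
              have h8 := hres' ⟨x, hx⟩
              have h9 := hres' 1
              rw [Subgroup.coe_one] at h9
              rw [h9]
              exact h8
            have hall := irr_eq_one_of_trivial_of_ratio hM Ν hidx
              {c : Γ | ¬ p ∣ (Subgroup.centralizer ({c} : Set Γ)).index}
              (fun g => by
                obtain ⟨n, hn, c, hc, hg⟩ := hD g
                exact ⟨n, hn, c, hc, hg⟩) χ.2 hker
              (fun c hc => memLocalIdeal_ratio_of_mem_principalBlock hM h hc)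
            apply hχt
            apply Subtype.ext
            funext g
            exact hall g
          rw [← classInner_conj_symm, h7, map_zero, mul_zero]
        · rfl
    rw [Finset.sum_congr rfl (fun χ _ => h5 χ), Finset.sum_ite_eq' Finset.univ
      (helper81.trivChar Γ) (fun _ => (1 : ℂ)), if_pos (Finset.mem_univ _)]
    show (Nat.card Ν : ℂ) / (Nat.card Γ : ℂ) / 1 * 1 = _
    rw [div_one, mul_one]
  rw [h2, h4, sub_zero] at h1
  have hN0 : (Nat.card Ν : ℂ) ≠ 0 := by exact_mod_cast (Nat.card_pos (α := Ν)).ne'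
  have hG0 : (Nat.card Γ : ℂ) ≠ 0 := by exact_mod_cast (Nat.card_pos (α := Γ)).ne'
  have h10 := helper20.memLocalIdeal_mul_left hMp (helper20.memLocalRing_natCast hMp Ν.index) h1
  have hI0 : (Ν.index : ℂ) ≠ 0 := by
    have : Ν.index ≠ 0 := Subgroup.index_ne_zero_of_finite
    exact_mod_cast this
  have h11 : (Ν.index : ℂ) * ((Nat.card Ν : ℂ) / (Nat.card Γ : ℂ)) = 1 := by
    have h12 : (Nat.card Γ : ℂ) = (Nat.card Ν : ℂ) * (Ν.index : ℂ) := by
      rw [← Subgroup.card_mul_index Ν]
      push_cast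
      rfl
    rw [h12]
    field_simp
  rw [h11] at h10
  exact helper20.not_memLocalIdeal_one h10

/-- If `Γ = Ν ⟨c⟩` and the irreducible character `χ` does not vanish at `c`, then the
restriction of `χ` to `Ν` is irreducible. -/
theorem isIrrCharacter_restrict_of_cyclic_of_ne_zero {Γ : Type u} [Group Γ] [Fintype Γ]
    (Ν : Subgroup Γ) [hΝ : Ν.Normal] [Fintype Ν] (c : Γ) (hc : Ν ⊔ Subgroup.zpowers c = ⊤)
    {χ : Γ → ℂ} (hχ : IsIrrCharacter Γ χ) (hχc : χ c ≠ 0) :
    IsIrrCharacter Ν (fun n : Ν => χ n) := by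
  classical
  have hz : Subgroup.zpowers (QuotientGroup.mk' Ν c) = ⊤ := by
    have h1 := congrArg (Subgroup.map (QuotientGroup.mk' Ν)) hc
    rw [Subgroup.map_sup, MonoidHom.map_zpowers,
      Subgroup.map_top_of_surjective _ (QuotientGroup.mk'_surjective Ν),
      (Subgroup.map_eq_bot_iff _).mpr (le_of_eq (QuotientGroup.ker_mk' Ν).symm), bot_sup_eq] at h1
    exact h1
  have hcyc : IsCyclic (Γ ⧸ Ν) :=
    ⟨⟨QuotientGroup.mk' Ν c, fun q => by
      have hq : q ∈ Subgroup.zpowers (QuotientGroup.mk' Ν c) := by rw [hz]; exact Subgroup.mem_top q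
      exact hq⟩⟩
  have hcomm : ∀ a b : Γ ⧸ Ν, a * b = b * a := by
    intro a b
    have ha : a ∈ Subgroup.zpowers (QuotientGroup.mk' Ν c) := by rw [hz]; exact Subgroup.mem_top a
    have hb : b ∈ Subgroup.zpowers (QuotientGroup.mk' Ν c) := by rw [hz]; exact Subgroup.mem_top b
    obtain ⟨i, rfl⟩ := Subgroup.mem_zpowers_iff.mp ha
    obtain ⟨j, rfl⟩ := Subgroup.mem_zpowers_iff.mp hb
    rw [← zpow_add, ← zpow_add, add_comm]
  obtain ⟨θ, hθ, e, he, he0⟩ := helper82.exists_constituent_restrict Ν hχ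
  set T := helper82.inertia Ν θ with hT
  have hNT : Ν ≤ T := helper82.le_inertia Ν (isClassFunction_of_isIrrCharacter hθ)
  have hTn : T.Normal := ⟨fun t ht g => by
    have h1 : g * t * g⁻¹ * t⁻¹ ∈ Ν := by
      rw [← QuotientGroup.eq_one_iff]
      have h2 := hcomm (g : Γ ⧸ Ν) (t : Γ ⧸ Ν)
      simp only [QuotientGroup.mk_mul, QuotientGroup.mk_inv]
      rw [h2]
      group
    have h2 : g * t * g⁻¹ = (g * t * g⁻¹ * t⁻¹) * t := by group
    rw [h2]
    exact T.mul_mem (hNT h1) ht⟩
  have : Fintype T := Fintype.ofFinite T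
  have hne : classInner (fun n : Ν => χ n) θ ≠ 0 := by
    rw [he]
    exact_mod_cast he0
  obtain ⟨ψ, hψ, hind, -⟩ := helper82.clifford_corr_surj Ν T hNT hθ hT hχ hne
  have hcT : c ∈ T := by
    by_contra hcon
    apply hχc
    rw [← hind]
    exact helper82.indFun_apply_not_mem T ψ hcon
  have hTtop : T = ⊤ := by
    rw [eq_top_iff, ← hc]
    exact sup_le hNT (Subgroup.zpowers_le.mpr hcT)
  have hinv : ∀ g : Γ, helper82.cconj Ν g θ = θ := by
    intro g
    have h1 : g ∈ T := by rw [hTtop]; exact Subgroup.mem_top g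
    exact (helper82.mem_inertia Ν θ g).mp h1
  have hres := helper82.clifford_invariant Ν hχ hθ hinv e he he0
  have he1 := helper82.ramification_eq_one_of_cyclic Ν hcyc hθ hinv hχ e hres
  have h3 : (fun n : Ν => χ n) = θ := by
    funext n
    rw [hres n, he1]
    simp
  rw [h3]
  exact hθ

/-- The cyclic step: if `Γ = Ν ⟨c⟩` with `p ∤ |Γ : C(c)|`, every member of the principal block
of `Ν` extends to a member of the principal block of `Γ`. -/
theorem exists_principal_extension_of_cyclic {Γ : Type u} [Group Γ] [Fintype Γ]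
    (hM : IsPModular p M) (Ν : Subgroup Γ) [hΝ : Ν.Normal] [Fintype Ν] (hidx : ¬ p ∣ Ν.index)
    (hD : ∀ g : Γ, ∃ n ∈ Ν, ∃ c : Γ,
      ¬ p ∣ (Subgroup.centralizer ({c} : Set Γ)).index ∧ g = n * c)
    (c : Γ) (hc : Ν ⊔ Subgroup.zpowers c = ⊤)
    (hcp : ¬ p ∣ (Subgroup.centralizer ({c} : Set Γ)).index)
    (θ : IrrCharacter Ν) (hθ : θ ∈ principalBlock M Ν) :
    ∃ χ ∈ principalBlock M Γ, ∀ n : Ν, (χ : Γ → ℂ) n = (θ : Ν → ℂ) n := by
  classical
  have hMp := helper20.isPrime_of_isPModular hM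
  obtain ⟨χ, hχ, hne⟩ := exists_principal_over hM Ν hidx hD θ hθ
  refine ⟨χ, hχ, ?_⟩
  have hχc : (χ : Γ → ℂ) c ≠ 0 := by
    intro h0
    have h1 := memLocalIdeal_ratio_of_mem_principalBlock hM hχ hcp
    rw [h0, zero_div, zero_sub] at h1
    have h2 := helper20.memLocalIdeal_neg h1
    rw [neg_neg] at h2
    exact helper20.not_memLocalIdeal_one h2
  have hirr := isIrrCharacter_restrict_of_cyclic_of_ne_zero Ν c hc χ.2 hχc
  have heq : (fun n : Ν => (χ : Γ → ℂ) n) = (θ : Ν → ℂ) := by
    by_contra hneq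
    exact hne (classInner_irr_ne hirr θ.2 hneq)
  intro n
  exact congrFun heq n

omit [Fact p.Prime] in
/-- Transport of the principal block along a group isomorphism. -/
theorem irrMap_mem_principalBlock {K₁ K₂ : Type u} [Group K₁] [Group K₂] (φ : K₁ ≃* K₂)
    {χ : IrrCharacter K₁} (h : χ ∈ principalBlock M K₁) :
    helper80.irrMap φ χ ∈ principalBlock M K₂ := by
  have h1 : SameBlock M ((helper81.trivChar K₁ : IrrCharacter K₁) : K₁ → ℂ) (χ : K₁ → ℂ) := h
  exact (helper80.sameBlock_irrMap_iff φ (helper81.trivChar K₁) χ).mpr h1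

end TypeLevel

section Sub

variable {p : ℕ} [Fact p.Prime]

/-- Centralizer indices in an intermediate subgroup `N ≤ H`, for `N` normal of index prime to
`p`. -/
theorem not_dvd_index_centralizer_sub {G : Type u} [Group G] (N H : Subgroup G) [N.Normal]
    (hidx : ¬ p ∣ N.index) (hNH : N ≤ H) (c : G) (hc : c ∈ H)
    (hcp : ¬ p ∣ (Subgroup.centralizer ({c} : Set G)).index) :
    ¬ p ∣ (Subgroup.centralizer ({(⟨c, hc⟩ : H)} : Set H)).index := by
  have hp : p.Prime := Fact.out
  set C := Subgroup.centralizer ({c} : Set G) with hC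
  have h1 : Subgroup.centralizer ({(⟨c, hc⟩ : H)} : Set H) = C.subgroupOf H := by
    ext x
    rw [Subgroup.mem_subgroupOf, hC, Subgroup.mem_centralizer_iff, Subgroup.mem_centralizer_iff]
    constructor
    · intro h y hy
      rw [Set.mem_singleton_iff] at hy
      subst hy
      have := h ⟨y, hc⟩ (Set.mem_singleton _)
      exact congrArg Subtype.val this
    · intro h y hy
      rw [Set.mem_singleton_iff] at hy
      subst hy
      apply Subtype.ext
      exact h c (Set.mem_singleton _)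
  rw [h1]
  show ¬ p ∣ C.relIndex H
  have h2 : C.relIndex H * H.index = H.relIndex C * C.index := by
    rw [← Subgroup.inf_relIndex_left, Subgroup.relIndex_mul_index inf_le_left,
      ← Subgroup.inf_relIndex_right H C, Subgroup.relIndex_mul_index inf_le_right]
  intro hdvd
  have h3 : p ∣ H.relIndex C * C.index := by
    rw [← h2]
    exact Dvd.dvd.mul_right hdvd _
  rcases (Nat.Prime.dvd_mul hp).mp h3 with h4 | h4
  · exact hidx ((h4.trans (Subgroup.relIndex_dvd_of_le_left C hNH)).trans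
      (Subgroup.relIndex_dvd_index_of_normal N C))
  · exact hcp h4

/-- The index in `H` of an intermediate subgroup `N ≤ K` is prime to `p`. -/
theorem not_dvd_index_subgroupOf {G : Type u} [Group G] (N K H : Subgroup G) [N.Normal]
    (hidx : ¬ p ∣ N.index) (hNK : N ≤ K) : ¬ p ∣ (K.subgroupOf H).index := by
  intro h
  have h1 : p ∣ K.relIndex H := h
  exact hidx ((h1.trans (Subgroup.relIndex_dvd_of_le_left H hNK)).trans
    (Subgroup.relIndex_dvd_index_of_normal N H))

end Sub

end Cfsg.Agent.Lib.helper4
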