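import Mathlib
import Cfsg.Agent.Lib.helper4.SubChar
import Cfsg.Agent.Lib.helper4.BrauerInd

/-!
# Canonical extensions of invariant characters (helper4 library)

An abstract extension theorem.  Let `Q H f` be a property of (restrictions to subgroups `H` of)
functions on `G`, compatible with restriction and conjugation and local.  If extensions with
property `Q` are unique, and exist for cyclic steps, then they exist for every step `K ⊴ H`.
The non-nilpotent case uses Brauer's characterization of characters.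
-/

set_option autoImplicit false

namespace Cfsg.Agent.Lib.helper4

open Cfsg
open scoped ComplexConjugate

universe u

theorem card_lt_card_of_le_of_ne {G : Type u} [Group G] [Finite G] {K H : Subgroup G}
    (hKH : K ≤ H) (hne : K ≠ H) : Nat.card K < Nat.card H := by
  by_contra hcon
  push Not at hcon
  exact hne (Subgroup.eq_of_le_of_card_ge hKH hcon)

/-- A normal subgroup with nilpotent quotient is either cocyclic or lies properly below a proper
normal subgroup. -/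
theorem exists_cyclic_or_normal_of_nilpotent {H : Type u} [Group H] (K : Subgroup H) [K.Normal]
    (hnil : Group.IsNilpotent (H ⧸ K)) :
    (∃ g : H, K ⊔ Subgroup.zpowers g = ⊤) ∨
      ∃ L : Subgroup H, L.Normal ∧ K ≤ L ∧ L ≠ K ∧ L ≠ ⊤ := by
  classical
  by_cases htop : K = ⊤
  · exact Or.inl ⟨1, by rw [htop]; simp⟩
  obtain ⟨z, hz⟩ : ∃ z : H, z ∉ K := by
    by_contra hcon
    push Not at hcon
    exact htop (eq_top_iff.mpr (fun x _ => hcon x))
  have hzne : (QuotientGroup.mk z : H ⧸ K) ≠ 1 :=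
    fun h => hz ((QuotientGroup.eq_one_iff z).mp h)
  haveI : Nontrivial (H ⧸ K) := ⟨⟨_, _, hzne⟩⟩
  haveI := hnil
  have hcen : Subgroup.center (H ⧸ K) ≠ ⊥ := Group.IsNilpotent.center_ne_bot (H ⧸ K)
  have hker : ∀ (S : Subgroup (H ⧸ K)), K ≤ S.comap (QuotientGroup.mk' K) := by
    intro S k hk
    rw [Subgroup.mem_comap]
    have h1 : (QuotientGroup.mk' K) k = 1 := (QuotientGroup.eq_one_iff k).mpr hk
    rw [h1]
    exact Subgroup.one_mem _
  set L := (Subgroup.center (H ⧸ K)).comap (QuotientGroup.mk' K) with hL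
  have hLn : L.Normal := Subgroup.Normal.comap inferInstance _
  have hLK : L ≠ K := by
    intro h
    apply hcen
    rw [eq_bot_iff]
    intro q hq
    obtain ⟨y, rfl⟩ := QuotientGroup.mk_surjective q
    have hy : y ∈ L := by
      rw [hL, Subgroup.mem_comap]
      exact hq
    rw [h] at hy
    rw [Subgroup.mem_bot]
    exact (QuotientGroup.eq_one_iff y).mpr hy
  by_cases hLtop : L = ⊤
  · have hcomm : ∀ a b : H ⧸ K, a * b = b * a := by
      intro a b
      obtain ⟨y, rfl⟩ := QuotientGroup.mk_surjective a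
      have hy : y ∈ L := by
        rw [hLtop]
        exact Subgroup.mem_top y
      rw [hL, Subgroup.mem_comap] at hy
      exact (Subgroup.mem_center_iff.mp hy b).symm
    set L₂ := (Subgroup.zpowers (QuotientGroup.mk z : H ⧸ K)).comap (QuotientGroup.mk' K)
      with hL₂
    have hZn : (Subgroup.zpowers (QuotientGroup.mk z : H ⧸ K)).Normal := ⟨fun n hn g => by
      rw [hcomm g n, mul_inv_cancel_right]
      exact hn⟩
    have hL₂n : L₂.Normal := hZn.comap _
    have hzL₂ : z ∈ L₂ := by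
      rw [hL₂, Subgroup.mem_comap]
      exact Subgroup.mem_zpowers _
    have hL₂K : L₂ ≠ K := fun h => hz (h ▸ hzL₂)
    by_cases hL₂top : L₂ = ⊤
    · left
      refine ⟨z, eq_top_iff.mpr (fun y _ => ?_)⟩
      have hy : y ∈ L₂ := by
        rw [hL₂top]
        exact Subgroup.mem_top y
      rw [hL₂, Subgroup.mem_comap] at hy
      obtain ⟨i, hi⟩ := Subgroup.mem_zpowers_iff.mp hy
      have h1 : (z ^ i)⁻¹ * y ∈ K := by
        rw [← QuotientGroup.eq]
        rw [QuotientGroup.mk_zpow]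
        exact hi
      have h2 : y = z ^ i * ((z ^ i)⁻¹ * y) := by group
      rw [h2]
      exact Subgroup.mul_mem _
        (Subgroup.mem_sup_right (Subgroup.zpow_mem _ (Subgroup.mem_zpowers z) i))
        (Subgroup.mem_sup_left h1)
    · exact Or.inr ⟨L₂, hL₂n, hker _, hL₂K, hL₂top⟩
  · exact Or.inr ⟨L, hLn, hker _, hLK, hLtop⟩

/-- Subgroup form of the previous lemma: if `H = K E` with `E` nilpotent and `K` normal in `H`,
then `H / K` is cyclic or there is a subgroup strictly between `K` and `H` normal in `H`. -/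
theorem exists_cyclic_or_normal_sub {G : Type u} [Group G] (K H : Subgroup G) (hKH : K ≤ H)
    (hnorm : ∀ h ∈ H, ∀ k ∈ K, h * k * h⁻¹ ∈ K) (E : Subgroup H) (hE : Group.IsNilpotent E)
    (hsup : K.subgroupOf H ⊔ E = ⊤) :
    (∃ g ∈ H, H = K ⊔ Subgroup.zpowers g) ∨
      ∃ L : Subgroup G, K ≤ L ∧ L ≤ H ∧ L ≠ K ∧ L ≠ H ∧
        ∀ h ∈ H, ∀ l ∈ L, h * l * h⁻¹ ∈ L := by
  have hKn : (K.subgroupOf H).Normal := ⟨fun n hn g => by
    rw [Subgroup.mem_subgroupOf] at hn ⊢
    exact hnorm g g.2 n hn⟩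
  have hsurj : Function.Surjective ((QuotientGroup.mk' (K.subgroupOf H)).comp E.subtype) := by
    intro q
    obtain ⟨y, rfl⟩ := QuotientGroup.mk_surjective q
    have hy : y ∈ ((K.subgroupOf H ⊔ E : Subgroup H) : Set H) := by
      rw [hsup]
      exact Set.mem_univ y
    rw [Subgroup.normal_mul] at hy
    obtain ⟨k, hk, e, he, rfl⟩ := Set.mem_mul.mp hy
    refine ⟨⟨e, he⟩, ?_⟩
    show (QuotientGroup.mk e : H ⧸ K.subgroupOf H) = QuotientGroup.mk (k * e)
    rw [QuotientGroup.eq, ← mul_assoc]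
    exact hKn.conj_mem' k hk e
  haveI := hE
  have hnil : Group.IsNilpotent (H ⧸ K.subgroupOf H) := Group.nilpotent_of_surjective _ hsurj
  rcases exists_cyclic_or_normal_of_nilpotent (K.subgroupOf H) hnil with
    ⟨g, hg⟩ | ⟨L, hLn, hKL, hLK, hLtop⟩
  · left
    refine ⟨g, g.2, ?_⟩
    have h1 := congrArg (Subgroup.map H.subtype) hg
    rw [Subgroup.map_sup, Subgroup.map_subgroupOf_eq_of_le hKH, MonoidHom.map_zpowers,
      ← MonoidHom.range_eq_map, Subgroup.range_subtype] at h1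
    exact h1.symm
  · right
    refine ⟨L.map H.subtype, ?_, Subgroup.map_subtype_le L, ?_, ?_, ?_⟩
    · have h1 := Subgroup.map_mono (f := H.subtype) hKL
      rwa [Subgroup.map_subgroupOf_eq_of_le hKH] at h1
    · intro h
      apply hLK
      apply Subgroup.map_injective H.subtype_injective
      rw [h, Subgroup.map_subgroupOf_eq_of_le hKH]
    · intro h
      apply hLtop
      apply Subgroup.map_injective H.subtype_injective
      rw [h, ← MonoidHom.range_eq_map, Subgroup.range_subtype]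
    · intro h hh l hl
      obtain ⟨l', hl', rfl⟩ := Subgroup.mem_map.mp hl
      exact Subgroup.mem_map.mpr ⟨⟨h, hh⟩ * l' * ⟨h, hh⟩⁻¹, hLn.conj_mem l' hl' ⟨h, hh⟩, rfl⟩

/-- Conjugating `K ⟨g⟩` by an element normalizing `K`. -/
theorem mem_sup_zpowers_conj {G : Type u} [Group G] (K : Subgroup G) (x : G)
    (hx : ∀ k ∈ K, x * k * x⁻¹ ∈ K) (hx' : ∀ k ∈ K, x⁻¹ * k * x ∈ K) (g y : G) :
    y ∈ K ⊔ Subgroup.zpowers (x * g * x⁻¹) ↔ x⁻¹ * y * x ∈ K ⊔ Subgroup.zpowers g := by
  have hK : K.map (MulAut.conj x).toMonoidHom = K := by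
    ext y
    constructor
    · rintro ⟨k, hk, rfl⟩
      exact hx k hk
    · intro hy
      refine ⟨x⁻¹ * y * x, hx' y hy, ?_⟩
      show x * (x⁻¹ * y * x) * x⁻¹ = y
      group
  have h1 : K ⊔ Subgroup.zpowers (x * g * x⁻¹) =
      (K ⊔ Subgroup.zpowers g).map (MulAut.conj x).toMonoidHom := by
    rw [Subgroup.map_sup, MonoidHom.map_zpowers, hK]
    rfl
  rw [h1]
  constructor
  · rintro ⟨j, hj, rfl⟩
    have : x⁻¹ * ((MulAut.conj x).toMonoidHom j) * x = j := by
      show x⁻¹ * (x * j * x⁻¹) * x = j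
      group
    rw [this]
    exact hj
  · intro hy
    refine ⟨x⁻¹ * y * x, hy, ?_⟩
    show x * (x⁻¹ * y * x) * x⁻¹ = y
    group

/-- **Canonical extension theorem.** -/
theorem canonical_extension {G : Type u} [Group G] [Finite G] (N₀ : Subgroup G)
    (Q : Subgroup G → (G → ℂ) → Prop)
    (hQcongr : ∀ (H : Subgroup G) (f f' : G → ℂ), (∀ h ∈ H, f h = f' h) → Q H f → Q H f')
    (hQres : ∀ (H' H : Subgroup G) (f : G → ℂ), H' ≤ H → Q H f → Q H' f)
    (hQloc : ∀ (H : Subgroup G) (f : G → ℂ),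
      (∀ g ∈ H, ∃ L : Subgroup G, L ≤ H ∧ g ∈ L ∧ Q L f) → Q H f)
    (hQconj : ∀ (H H' : Subgroup G) (f : G → ℂ) (x : G), (∀ g, g ∈ H' ↔ x⁻¹ * g * x ∈ H) →
      Q H f → Q H' (fun g => f (x⁻¹ * g * x)))
    (huniq : ∀ (K H : Subgroup G) (f f₁ f₂ : G → ℂ), N₀ ≤ K → K ≤ H →
      (∀ h ∈ H, ∀ k ∈ K, h * k * h⁻¹ ∈ K) → IsIrrCharacter K (fun k : K => f k) →
      IsIrrCharacter H (fun h : H => f₁ h) → Q H f₁ → (∀ k ∈ K, f₁ k = f k) →
      IsIrrCharacter H (fun h : H => f₂ h) → Q H f₂ → (∀ k ∈ K, f₂ k = f k) →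
      ∀ h ∈ H, f₁ h = f₂ h)
    (hcyc : ∀ (K H : Subgroup G) (f : G → ℂ), N₀ ≤ K → K ≤ H →
      (∀ h ∈ H, ∀ k ∈ K, h * k * h⁻¹ ∈ K) → (∃ g ∈ H, H = K ⊔ Subgroup.zpowers g) →
      IsIrrCharacter K (fun k : K => f k) → Q K f →
      (∀ h ∈ H, ∀ k ∈ K, f (h * k * h⁻¹) = f k) →
      ∃ f' : G → ℂ, IsIrrCharacter H (fun h : H => f' h) ∧ Q H f' ∧ ∀ k ∈ K, f' k = f k)
    (K H : Subgroup G) (f : G → ℂ) (hN₀K : N₀ ≤ K) (hKH : K ≤ H)
    (hnorm : ∀ h ∈ H, ∀ k ∈ K, h * k * h⁻¹ ∈ K) (hirr : IsIrrCharacter K (fun k : K => f k))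
    (hQ : Q K f) (hinv : ∀ h ∈ H, ∀ k ∈ K, f (h * k * h⁻¹) = f k) :
    ∃ f' : G → ℂ, IsIrrCharacter H (fun h : H => f' h) ∧ Q H f' ∧ ∀ k ∈ K, f' k = f k := by
  classical
  suffices key : ∀ n : ℕ, ∀ (K H : Subgroup G) (f : G → ℂ), Nat.card H - Nat.card K = n →
      N₀ ≤ K → K ≤ H → (∀ h ∈ H, ∀ k ∈ K, h * k * h⁻¹ ∈ K) →
      IsIrrCharacter K (fun k : K => f k) → Q K f →
      (∀ h ∈ H, ∀ k ∈ K, f (h * k * h⁻¹) = f k) →
      ∃ f' : G → ℂ, IsIrrCharacter H (fun h : H => f' h) ∧ Q H f' ∧ ∀ k ∈ K, f' k = f k from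
    key _ K H f rfl hN₀K hKH hnorm hirr hQ hinv
  clear hN₀K hKH hnorm hirr hQ hinv f K H
  intro n
  induction n using Nat.strong_induction_on with
  | _ n ih =>
  intro K H f hm hN₀K hKH hnorm hirr hQ hinv
  have hinv' : ∀ h ∈ H, ∀ k ∈ K, f (h⁻¹ * k * h) = f k := by
    intro h hh k hk
    have := hinv h⁻¹ (H.inv_mem hh) k hk
    rwa [inv_inv] at this
  have hnorm' : ∀ h ∈ H, ∀ k ∈ K, h⁻¹ * k * h ∈ K := by
    intro h hh k hk
    have := hnorm h⁻¹ (H.inv_mem hh) k hk
    rwa [inv_inv] at this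
  by_cases ha : ∃ g ∈ H, H = K ⊔ Subgroup.zpowers g
  · exact hcyc K H f hN₀K hKH hnorm ha hirr hQ hinv
  by_cases hb : ∃ L : Subgroup G, K ≤ L ∧ L ≤ H ∧ L ≠ K ∧ L ≠ H ∧
      ∀ h ∈ H, ∀ l ∈ L, h * l * h⁻¹ ∈ L
  · obtain ⟨L, hKL, hLH, hLK, hLH', hLnorm⟩ := hb
    have hc1 : Nat.card K < Nat.card L := card_lt_card_of_le_of_ne hKL (Ne.symm hLK)
    have hc2 : Nat.card L < Nat.card H := card_lt_card_of_le_of_ne hLH hLH'
    obtain ⟨f₁, hf₁, hQ₁, hext₁⟩ := ih (Nat.card L - Nat.card K) (by omega) K L f rfl hN₀K hKL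
      (fun h hh k hk => hnorm h (hLH hh) k hk) hirr hQ (fun h hh k hk => hinv h (hLH hh) k hk)
    have hinv₁ : ∀ h ∈ H, ∀ l ∈ L, f₁ (h * l * h⁻¹) = f₁ l := by
      intro h hh l hl
      have hmem : ∀ g, g ∈ L ↔ h⁻¹⁻¹ * g * h⁻¹ ∈ L := by
        intro g
        rw [inv_inv]
        constructor
        · intro hg
          exact hLnorm h hh g hg
        · intro hg
          have := hLnorm h⁻¹ (H.inv_mem hh) _ hg
          have h2 : h⁻¹ * (h * g * h⁻¹) * h⁻¹⁻¹ = g := by group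
          rwa [h2] at this
      have h3 := huniq K L f (fun g => f₁ (h⁻¹⁻¹ * g * h⁻¹)) f₁ hN₀K hKL
        (fun y hy k hk => hnorm y (hLH hy) k hk) hirr
        (isIrrCharacter_conj_sub L L h⁻¹ hmem hf₁)
        (hQconj L L f₁ h⁻¹ hmem hQ₁)
        (fun k hk => by
          show f₁ (h⁻¹⁻¹ * k * h⁻¹) = f k
          rw [inv_inv, hext₁ _ (hnorm h hh k hk), hinv h hh k hk])
        hf₁ hQ₁ hext₁ l hl
      have h4 : f₁ (h⁻¹⁻¹ * l * h⁻¹) = f₁ l := h3
      rwa [inv_inv] at h4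
    obtain ⟨f₂, hf₂, hQ₂, hext₂⟩ := ih (Nat.card H - Nat.card L) (by omega) L H f₁ rfl
      (hN₀K.trans hKL) hLH hLnorm hf₁ hQ₁ hinv₁
    exact ⟨f₂, hf₂, hQ₂, fun k hk => by rw [hext₂ k (hKL hk), hext₁ k hk]⟩
  -- the non-nilpotent case
  have hprop : ∀ L : Subgroup G, K ≤ L → L ≤ H → L ≠ H →
      ∃ f' : G → ℂ, IsIrrCharacter L (fun l : L => f' l) ∧ Q L f' ∧ ∀ k ∈ K, f' k = f k := by
    intro L hKL hLH hne
    have hc1 : Nat.card K ≤ Nat.card L := Subgroup.card_le_of_le hKL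
    have hc2 : Nat.card L < Nat.card H := card_lt_card_of_le_of_ne hLH hne
    exact ih (Nat.card L - Nat.card K) (by omega) K L f rfl hN₀K hKL
      (fun h hh k hk => hnorm h (hLH hh) k hk) hirr hQ (fun h hh k hk => hinv h (hLH hh) k hk)
  choose! F hF using hprop
  set J : G → Subgroup G := fun g => K ⊔ Subgroup.zpowers g with hJdef
  have hJK : ∀ g, K ≤ J g := fun g => le_sup_left
  have hJH : ∀ g ∈ H, J g ≤ H := fun g hg => sup_le hKH (Subgroup.zpowers_le.mpr hg)
  have hJne : ∀ g ∈ H, J g ≠ H := fun g hg h => ha ⟨g, hg, h.symm⟩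
  have hgJ : ∀ g, g ∈ J g := fun g => Subgroup.mem_sup_right (Subgroup.mem_zpowers g)
  set θ : G → ℂ := fun g => F (J g) g with hθdef
  have hirrF : ∀ L : Subgroup G, K ≤ L → L ≤ H → L ≠ H →
      IsIrrCharacter K (fun k : K => F L k) := by
    intro L hKL hLH hne
    have h3 := (hF L hKL hLH hne).2.2
    have : (fun k : K => F L k) = fun k : K => f k := funext (fun k => h3 k k.2)
    rw [this]
    exact hirr
  -- Claim 1
  have hθL : ∀ L : Subgroup G, K ≤ L → L ≤ H → L ≠ H → ∀ g ∈ L, θ g = F L g := by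
    intro L hKL hLH hLne g hgL
    have hg : g ∈ H := hLH hgL
    have hJL : J g ≤ L := sup_le hKL (Subgroup.zpowers_le.mpr hgL)
    obtain ⟨h1, h2, h3⟩ := hF (J g) (hJK g) (hJH g hg) (hJne g hg)
    obtain ⟨h1', h2', h3'⟩ := hF L hKL hLH hLne
    exact huniq K (J g) f (F (J g)) (F L) hN₀K (hJK g)
      (fun h hh k hk => hnorm h (hJH g hg hh) k hk) hirr h1 h2 h3
      (isIrrCharacter_sub_of_le K (J g) L (hJK g) hJL h1' (hirrF L hKL hLH hLne))
      (hQres (J g) L (F L) hJL h2') h3' g (hgJ g)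
  -- Claim 2
  have hcf : IsClassFunction H (fun h : H => θ h) := by
    intro g x
    show θ ((x : G) * (g : G) * (x : G)⁻¹) = θ (g : G)
    have hx := x.2
    have hg := g.2
    have hg' : (x : G) * g * (x : G)⁻¹ ∈ H := H.mul_mem (H.mul_mem hx hg) (H.inv_mem hx)
    have hmem : ∀ y, y ∈ J ((x : G) * g * (x : G)⁻¹) ↔ (x : G)⁻¹ * y * x ∈ J (g : G) :=
      fun y => mem_sup_zpowers_conj K x (hnorm x hx) (hnorm' x hx) g y
    obtain ⟨h1, h2, h3⟩ := hF (J g) (hJK g) (hJH g hg) (hJne g hg)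
    obtain ⟨h1', h2', h3'⟩ := hF (J ((x : G) * g * (x : G)⁻¹)) (hJK _) (hJH _ hg') (hJne _ hg')
    have key := huniq K (J ((x : G) * g * (x : G)⁻¹)) f (F (J ((x : G) * g * (x : G)⁻¹)))
      (fun y => F (J g) ((x : G)⁻¹ * y * x)) hN₀K (hJK _)
      (fun h hh k hk => hnorm h (hJH _ hg' hh) k hk) hirr h1' h2' h3'
      (isIrrCharacter_conj_sub (J g) (J ((x : G) * g * (x : G)⁻¹)) x hmem h1)
      (hQconj (J g) (J ((x : G) * g * (x : G)⁻¹)) (F (J g)) x hmem h2)
      (fun k hk => by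
        show F (J g) ((x : G)⁻¹ * k * x) = f k
        rw [h3 _ (hnorm' x hx k hk), hinv' x hx k hk])
      ((x : G) * g * (x : G)⁻¹) (hgJ _)
    show F (J ((x : G) * g * (x : G)⁻¹)) ((x : G) * g * (x : G)⁻¹) = F (J g) g
    rw [key]
    show F (J g) ((x : G)⁻¹ * ((x : G) * g * (x : G)⁻¹) * x) = F (J g) g
    congr 1
    group
  -- Claim 3: Brauer's characterization
  have hgen : IsGeneralizedCharacter H (fun h : H => θ h) := by
    apply brauer_characterization _ hcf
    intro E q hq hE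
    haveI : Fact q.Prime := ⟨hq⟩
    have hEnil : Group.IsNilpotent E := isNilpotent_of_isElementary hE
    by_cases hsup : K.subgroupOf H ⊔ E = ⊤
    · exfalso
      rcases exists_cyclic_or_normal_sub K H hKH hnorm E hEnil hsup with h | h
      · exact ha h
      · exact hb h
    · set L := (K.subgroupOf H ⊔ E).map H.subtype with hL
      have hKL : K ≤ L := by
        have h1 := Subgroup.map_mono (f := H.subtype)
          (le_sup_left : K.subgroupOf H ≤ K.subgroupOf H ⊔ E)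
        rwa [Subgroup.map_subgroupOf_eq_of_le hKH] at h1
      have hLH : L ≤ H := Subgroup.map_subtype_le _
      have hLne : L ≠ H := by
        intro h
        apply hsup
        apply Subgroup.map_injective H.subtype_injective
        rw [← hL, h, ← MonoidHom.range_eq_map, Subgroup.range_subtype]
      obtain ⟨h1, h2, h3⟩ := hF L hKL hLH hLne
      have hEL : ∀ e : E, ((e : H) : G) ∈ L :=
        fun e => Subgroup.mem_map_of_mem _ (Subgroup.mem_sup_right e.2)
      have hchar : IsCharacter E (fun e : E => F L ((e : H) : G)) := by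
        let φ : E →* L :=
          { toFun := fun e => ⟨((e : H) : G), hEL e⟩
            map_one' := rfl
            map_mul' := fun a b => rfl }
        exact isCharacter_comp φ (isCharacter_of_isIrrCharacter h1)
      have heq : (fun e : E => (fun h : H => θ h) e) = fun e : E => F L ((e : H) : G) := by
        funext e
        exact hθL L hKL hLH hLne _ (hEL e)
      rw [heq]
      exact isGeneralizedCharacter_of_isCharacter hchar
  -- Claim 4: norm one
  have : Fintype H := Fintype.ofFinite H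
  have : Fintype K := Fintype.ofFinite K
  have hnorm1 : classInner (fun h : H => θ h) (fun h : H => θ h) = 1 := by
    unfold classInner
    have hsum : ∑ h : H, ∑ k : K, θ ((k : G) * (h : G)) * conj (θ ((k : G) * (h : G)))
        = ∑ h : H, (Nat.card K : ℂ) := by
      refine Finset.sum_congr rfl (fun h _ => ?_)
      obtain ⟨h1, h2, h3⟩ := hF (J h) (hJK h) (hJH h h.2) (hJne h h.2)
      rw [← sum_coset_norm_sub K (J h) (hJK h) (F (J h)) h1
        (hirrF (J h) (hJK h) (hJH h h.2) (hJne h h.2)) h (hgJ h)]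
      refine Finset.sum_congr rfl (fun k _ => ?_)
      have hmem : (k : G) * h ∈ J (h : G) := (J (h : G)).mul_mem (hJK _ k.2) (hgJ _)
      rw [hθL (J h) (hJK h) (hJH h h.2) (hJne h h.2) _ hmem]
    rw [sum_sum_coset_sub K H hKH (fun g => θ g * conj (θ g))] at hsum
    simp only [Finset.sum_const, Finset.card_univ, nsmul_eq_mul] at hsum
    have hK0 : (Nat.card K : ℂ) ≠ 0 := by exact_mod_cast (Nat.card_pos (α := K)).ne'
    have hH0 : (Nat.card H : ℂ) ≠ 0 := by exact_mod_cast (Nat.card_pos (α := H)).ne'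
    have h5 : ∑ h : H, θ h * conj (θ h) = (Nat.card H : ℂ) := by
      rw [Nat.card_eq_fintype_card]
      apply mul_left_cancel₀ hK0
      rw [hsum]
      ring
    rw [h5]
    exact inv_mul_cancel₀ hH0
  have hθK : ∀ k ∈ K, θ k = f k := by
    intro k hk
    exact (hF (J k) (hJK k) (hJH k (hKH hk)) (hJne k (hKH hk))).2.2 k hk
  have hpos : 0 < ((fun h : H => θ h) 1).re := by
    show 0 < (θ ((1 : H) : G)).re
    rw [Subgroup.coe_one, hθK 1 K.one_mem]
    obtain ⟨m, hm0, hm⟩ := exists_pos_nat_degree hirr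
    have h6 : f 1 = m := hm
    rw [h6]
    simpa using hm0
  have hirrH := isIrrCharacter_of_generalized_of_norm_one_of_pos hgen hnorm1 hpos
  refine ⟨θ, hirrH, hQloc H θ (fun g hg => ⟨J g, hJH g hg, hgJ g, ?_⟩), hθK⟩
  exact hQcongr (J g) (F (J g)) θ
    (fun y hy => (hθL (J g) (hJK g) (hJH g hg) (hJne g hg) y hy).symm)
    (hF (J g) (hJK g) (hJH g hg) (hJne g hg)).2.1

end Cfsg.Agent.Lib.helper4
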