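import Mathlib
import Cfsg.Agent.Lib.helper4.BlockNormal
import Cfsg.Agent.Lib.helper4.CanonExt

/-!
# Isomorphic principal blocks (helper4 library)

Let `N ⊴ G` with `p ∤ |G : N|` and `G = N · {c : p ∤ |G : C_G(c)|}` (for instance
`G = N C_G(P)` for a Sylow `p`-subgroup `P`).  Then restriction is a bijection from the principal
block of `G` onto the principal block of `N`.
-/

set_option autoImplicit false

namespace Cfsg.Agent.Lib.helper4

open Cfsg
open scoped ComplexConjugate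

universe u

/-- The congruence property: `f c ≡ f 1` on the elements of `H` whose `G`-centralizer has index
prime to `p`. -/
def RatioProp (p : ℕ) (M : Ideal AlgInt) {G : Type u} [Group G] (H : Subgroup G) (f : G → ℂ) :
    Prop :=
  ∀ c ∈ H, ¬ p ∣ (Subgroup.centralizer ({c} : Set G)).index → MemLocalIdeal M (f c / f 1 - 1)

section

variable {p : ℕ} [Fact p.Prime] {M : Ideal AlgInt} {G : Type u} [Group G]

/-- The supplement hypothesis descends to intermediate subgroups. -/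
theorem exists_mul_of_supplement (N K H : Subgroup G) [N.Normal] (hidx : ¬ p ∣ N.index)
    (hNK : N ≤ K) (hKH : K ≤ H)
    (hD : ∀ g : G, ∃ n ∈ N, ∃ c : G,
      ¬ p ∣ (Subgroup.centralizer ({c} : Set G)).index ∧ g = n * c) :
    ∀ h : H, ∃ n ∈ K.subgroupOf H, ∃ c : H,
      (¬ p ∣ (Subgroup.centralizer ({(c : G)} : Set G)).index ∧
        ¬ p ∣ (Subgroup.centralizer ({c} : Set H)).index) ∧ h = n * c := by
  intro h
  obtain ⟨n, hn, c, hc, hg⟩ := hD h
  have hnH : n ∈ H := hKH (hNK hn)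
  have hcH : c ∈ H := by
    have h1 : c = n⁻¹ * (h : G) := by rw [hg]; group
    rw [h1]
    exact H.mul_mem (H.inv_mem hnH) h.2
  exact ⟨⟨n, hnH⟩, Subgroup.mem_subgroupOf.mpr (hNK hn), ⟨c, hcH⟩,
    ⟨hc, not_dvd_index_centralizer_sub N H hidx (hNK.trans hKH) c hcH hc⟩, Subtype.ext hg⟩

/-- Members of the principal block of an intermediate subgroup have the congruence property. -/
theorem ratioProp_extFun [Finite G] (hM : IsPModular p M) (N H : Subgroup G) [N.Normal]
    (hidx : ¬ p ∣ N.index) (hNH : N ≤ H) {χ : IrrCharacter H} (hχ : χ ∈ principalBlock M H) :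
    RatioProp p M H (helper80.extFun H (χ : H → ℂ)) := by
  intro c hc hcp
  have h1 := memLocalIdeal_ratio_of_mem_principalBlock hM hχ
    (not_dvd_index_centralizer_sub N H hidx hNH c hc hcp)
  rw [helper80.extFun_of_mem H _ hc, helper80.extFun_of_mem H _ H.one_mem]
  exact h1

/-- Uniqueness of extensions with the congruence property. -/
theorem eq_on_of_ratioProp [Finite G] (hM : IsPModular p M) (N K H : Subgroup G) [N.Normal]
    (hidx : ¬ p ∣ N.index)
    (hD : ∀ g : G, ∃ n ∈ N, ∃ c : G,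
      ¬ p ∣ (Subgroup.centralizer ({c} : Set G)).index ∧ g = n * c)
    (hNK : N ≤ K) (hKH : K ≤ H) (hnorm : ∀ h ∈ H, ∀ k ∈ K, h * k * h⁻¹ ∈ K) (f₁ f₂ : G → ℂ)
    (h₁ : IsIrrCharacter H (fun h : H => f₁ h)) (h₁K : IsIrrCharacter K (fun k : K => f₁ k))
    (h₂ : IsIrrCharacter H (fun h : H => f₂ h)) [Fintype K]
    (hne : classInner (fun k : K => f₂ k) (fun k : K => f₁ k) ≠ 0)
    (hQ₁ : RatioProp p M H f₁) (hQ₂ : RatioProp p M H f₂) : ∀ h ∈ H, f₂ h = f₁ h := by
  classical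
  have : Fintype H := Fintype.ofFinite H
  have : Fintype (K.subgroupOf H) := Fintype.ofFinite _
  haveI : (K.subgroupOf H).Normal := ⟨fun n hn g => by
    rw [Subgroup.mem_subgroupOf] at hn ⊢
    exact hnorm g g.2 n hn⟩
  have hne' : classInner (fun n : K.subgroupOf H => (fun h : H => f₂ h) n)
      (fun n : K.subgroupOf H => (fun h : H => f₁ h) n) ≠ 0 := by
    have h3 := helper82.classInner_subRes K H hKH (fun k : K => f₂ k) (fun k : K => f₁ k)
    intro h4
    apply hne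
    rw [← h3]
    exact h4
  have hS := exists_mul_of_supplement N K H hidx hNK hKH hD
  have key := eq_of_ratio_of_over hM (K.subgroupOf H) (not_dvd_index_subgroupOf N K H hidx hNK)
    {c : H | ¬ p ∣ (Subgroup.centralizer ({(c : G)} : Set G)).index}
    (fun h => by
      obtain ⟨n, hn, c, hc, hh⟩ := hS h
      exact ⟨n, hn, c, hc.1, hh⟩)
    h₁ (helper82.isIrrCharacter_subRes K H hKH h₁K) h₂ hne'
    (fun c hc => hQ₁ c c.2 hc) (fun c hc => hQ₂ c c.2 hc)
  intro h hh
  exact congrFun key ⟨h, hh⟩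

/-- A character of an intermediate subgroup extending a member of the principal block of `N` and
having the congruence property lies in the principal block. -/
theorem exists_principal_of_ratioProp [Finite G] (hM : IsPModular p M) (N H : Subgroup G)
    [N.Normal] (hidx : ¬ p ∣ N.index)
    (hD : ∀ g : G, ∃ n ∈ N, ∃ c : G,
      ¬ p ∣ (Subgroup.centralizer ({c} : Set G)).index ∧ g = n * c)
    (hNH : N ≤ H) (θ₀ : IrrCharacter N) (hθ₀ : θ₀ ∈ principalBlock M N) (f : G → ℂ)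
    (hf : IsIrrCharacter H (fun h : H => f h)) (hfN : ∀ n : N, f n = (θ₀ : N → ℂ) n)
    (hQ : RatioProp p M H f) :
    ∃ χ ∈ principalBlock M H, ∀ h : H, (χ : H → ℂ) h = f h := by
  classical
  have : Fintype H := Fintype.ofFinite H
  have : Fintype (N.subgroupOf H) := Fintype.ofFinite _
  haveI : (N.subgroupOf H).Normal := ⟨fun n hn g => by
    rw [Subgroup.mem_subgroupOf] at hn ⊢
    exact ‹N.Normal›.conj_mem _ hn _⟩
  set θ₁ := helper80.irrMap (Subgroup.subgroupOfEquivOfLe hNH).symm θ₀ with hθ₁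
  have hθ₁B : θ₁ ∈ principalBlock M (N.subgroupOf H) := irrMap_mem_principalBlock _ hθ₀
  have hθ₁f : (fun n : N.subgroupOf H => (fun h : H => f h) n) = (θ₁ : N.subgroupOf H → ℂ) := by
    funext n
    exact hfN ⟨((n : H) : G), Subgroup.mem_subgroupOf.mp n.2⟩
  have hS := exists_mul_of_supplement N N H hidx le_rfl hNH hD
  have hidx' := not_dvd_index_subgroupOf N N H hidx le_rfl
  obtain ⟨χ, hχ, hne⟩ := exists_principal_over hM (N.subgroupOf H) hidx'
    (fun h => by
      obtain ⟨n, hn, c, hc, hh⟩ := hS h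
      exact ⟨n, hn, c, hc.2, hh⟩) θ₁ hθ₁B
  have key := eq_of_ratio_of_over hM (N.subgroupOf H) hidx'
    {c : H | ¬ p ∣ (Subgroup.centralizer ({(c : G)} : Set G)).index ∧
        ¬ p ∣ (Subgroup.centralizer ({c} : Set H)).index}
    (fun h => by
      obtain ⟨n, hn, c, hc, hh⟩ := hS h
      exact ⟨n, hn, c, hc, hh⟩)
    hf (by rw [hθ₁f]; exact θ₁.2) χ.2 (by rw [hθ₁f]; exact hne)
    (fun c hc => hQ c c.2 hc.1)
    (fun c hc => memLocalIdeal_ratio_of_mem_principalBlock hM hχ hc.2)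
  exact ⟨χ, hχ, fun h => congrFun key h⟩

/-- The cyclic step. -/
theorem exists_extension_cyclic_step [Finite G] (hM : IsPModular p M) (N K H : Subgroup G)
    [N.Normal] (hidx : ¬ p ∣ N.index)
    (hD : ∀ g : G, ∃ n ∈ N, ∃ c : G,
      ¬ p ∣ (Subgroup.centralizer ({c} : Set G)).index ∧ g = n * c)
    (hNK : N ≤ K) (hKH : K ≤ H) (hnorm : ∀ h ∈ H, ∀ k ∈ K, h * k * h⁻¹ ∈ K)
    (hcyc : ∃ g ∈ H, H = K ⊔ Subgroup.zpowers g)
    (θ₀ : IrrCharacter N) (hθ₀ : θ₀ ∈ principalBlock M N) (f : G → ℂ)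
    (hf : IsIrrCharacter K (fun k : K => f k)) (hfN : ∀ n : N, f n = (θ₀ : N → ℂ) n)
    (hQ : RatioProp p M K f) :
    ∃ f' : G → ℂ, IsIrrCharacter H (fun h : H => f' h) ∧ RatioProp p M H f' ∧
      ∀ k ∈ K, f' k = f k := by
  classical
  have : Fintype H := Fintype.ofFinite H
  have : Fintype (K.subgroupOf H) := Fintype.ofFinite _
  haveI : (K.subgroupOf H).Normal := ⟨fun n hn g => by
    rw [Subgroup.mem_subgroupOf] at hn ⊢
    exact hnorm g g.2 n hn⟩
  obtain ⟨χK, hχK, hχKf⟩ := exists_principal_of_ratioProp hM N K hidx hD hNK θ₀ hθ₀ f hf hfN hQ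
  set θ₁ := helper80.irrMap (Subgroup.subgroupOfEquivOfLe hKH).symm χK with hθ₁
  have hθ₁B : θ₁ ∈ principalBlock M (K.subgroupOf H) := irrMap_mem_principalBlock _ hχK
  obtain ⟨g, hgH, hHg⟩ := hcyc
  obtain ⟨n, hn, c, hc, hgc⟩ := hD g
  have hnK : n ∈ K := hNK hn
  have hcH : c ∈ H := by
    have h1 : c = n⁻¹ * g := by rw [hgc]; group
    rw [h1]
    exact H.mul_mem (H.inv_mem (hKH hnK)) hgH
  have hsup : K.subgroupOf H ⊔ Subgroup.zpowers (⟨c, hcH⟩ : H) = ⊤ := by
    apply Subgroup.map_injective H.subtype_injective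
    rw [Subgroup.map_sup, Subgroup.map_subgroupOf_eq_of_le hKH, MonoidHom.map_zpowers,
      ← MonoidHom.range_eq_map, Subgroup.range_subtype]
    show K ⊔ Subgroup.zpowers c = H
    rw [hHg]
    apply le_antisymm
    · refine sup_le le_sup_left (Subgroup.zpowers_le.mpr ?_)
      have h1 : c = n⁻¹ * g := by rw [hgc]; group
      rw [h1]
      exact Subgroup.mul_mem _ (Subgroup.mem_sup_left (K.inv_mem hnK))
        (Subgroup.mem_sup_right (Subgroup.mem_zpowers g))
    · refine sup_le le_sup_left (Subgroup.zpowers_le.mpr ?_)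
      rw [hgc]
      exact Subgroup.mul_mem _ (Subgroup.mem_sup_left hnK)
        (Subgroup.mem_sup_right (Subgroup.mem_zpowers c))
  have hS := exists_mul_of_supplement N K H hidx hNK hKH hD
  obtain ⟨χ, hχ, hχext⟩ := exists_principal_extension_of_cyclic hM (K.subgroupOf H)
    (not_dvd_index_subgroupOf N K H hidx hNK)
    (fun h => by
      obtain ⟨n, hn, c, hc, hh⟩ := hS h
      exact ⟨n, hn, c, hc.2, hh⟩)
    ⟨c, hcH⟩ hsup (not_dvd_index_centralizer_sub N H hidx (hNK.trans hKH) c hcH hc) θ₁ hθ₁B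
  refine ⟨helper80.extFun H (χ : H → ℂ), ?_, ratioProp_extFun hM N H hidx (hNK.trans hKH) hχ, ?_⟩
  · have h1 : (fun h : H => helper80.extFun H (χ : H → ℂ) h) = (χ : H → ℂ) := by
      funext h
      exact helper80.extFun_coe H _ h
    rw [h1]
    exact χ.2
  · intro k hk
    rw [helper80.extFun_of_mem H _ (hKH hk)]
    have h1 := hχext ⟨⟨k, hKH hk⟩, Subgroup.mem_subgroupOf.mpr hk⟩
    have h2 : (θ₁ : K.subgroupOf H → ℂ) ⟨⟨k, hKH hk⟩, Subgroup.mem_subgroupOf.mpr hk⟩
        = (χK : K → ℂ) ⟨k, hk⟩ := rfl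
    rw [h2, hχKf] at h1
    exact h1

/-- Members of the principal block of `N` are `G`-invariant. -/
theorem principal_invariant [Finite G] (hM : IsPModular p M) (N : Subgroup G) [hN : N.Normal]
    (hidx : ¬ p ∣ N.index)
    (hD : ∀ g : G, ∃ n ∈ N, ∃ c : G,
      ¬ p ∣ (Subgroup.centralizer ({c} : Set G)).index ∧ g = n * c)
    (θ₀ : IrrCharacter N) (hθ₀ : θ₀ ∈ principalBlock M N) (x n : G) (hn : n ∈ N) :
    helper80.extFun N (θ₀ : N → ℂ) (x * n * x⁻¹) = helper80.extFun N (θ₀ : N → ℂ) n := by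
  classical
  obtain ⟨m, hm, c, hc, hx⟩ := hD x
  have hirr : IsIrrCharacter N (fun k : N => helper80.extFun N (θ₀ : N → ℂ) k) := by
    have h1 : (fun k : N => helper80.extFun N (θ₀ : N → ℂ) k) = (θ₀ : N → ℂ) := by
      funext k
      exact helper80.extFun_coe N _ k
    rw [h1]
    exact θ₀.2
  obtain ⟨f', hf', -, hext⟩ := exists_extension_cyclic_step hM N N (N ⊔ Subgroup.zpowers c) hidx
    hD le_rfl le_sup_left (fun h _ k hk => hN.conj_mem k hk h)
    ⟨c, Subgroup.mem_sup_right (Subgroup.mem_zpowers c), rfl⟩ θ₀ hθ₀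
    (helper80.extFun N (θ₀ : N → ℂ)) hirr (fun k => helper80.extFun_coe N _ k)
    (ratioProp_extFun hM N N hidx le_rfl hθ₀)
  have hcH : c ∈ N ⊔ Subgroup.zpowers c := Subgroup.mem_sup_right (Subgroup.mem_zpowers c)
  have hnH : n ∈ N ⊔ Subgroup.zpowers c := Subgroup.mem_sup_left hn
  have hcf := isClassFunction_of_isIrrCharacter hf' ⟨n, hnH⟩ ⟨c, hcH⟩
  have hcf' : f' (c * n * c⁻¹) = f' n := hcf
  have h1 : x * n * x⁻¹ = m * (c * n * c⁻¹) * m⁻¹ := by rw [hx]; group
  rw [h1, helper80.extFun_conj_mem N _ (isClassFunction_of_isIrrCharacter θ₀.2) m hm,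
    ← hext _ (hN.conj_mem n hn c), hcf', hext n hn]

/-- Existence of the canonical extension. -/
theorem exists_extension_ratioProp [Finite G] (hM : IsPModular p M) (N : Subgroup G)
    [hN : N.Normal] (hidx : ¬ p ∣ N.index)
    (hD : ∀ g : G, ∃ n ∈ N, ∃ c : G,
      ¬ p ∣ (Subgroup.centralizer ({c} : Set G)).index ∧ g = n * c)
    (θ₀ : IrrCharacter N) (hθ₀ : θ₀ ∈ principalBlock M N) :
    ∃ χ₀ : IrrCharacter G, (∀ n : N, (χ₀ : G → ℂ) n = (θ₀ : N → ℂ) n) ∧
      ∀ c : G, ¬ p ∣ (Subgroup.centralizer ({c} : Set G)).index →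
        MemLocalIdeal M ((χ₀ : G → ℂ) c / (χ₀ : G → ℂ) 1 - 1) := by
  classical
  set f₀ := helper80.extFun N (θ₀ : N → ℂ) with hf₀
  have hinv := principal_invariant hM N hidx hD θ₀ hθ₀
  have hirr : IsIrrCharacter N (fun k : N => f₀ k) := by
    have h1 : (fun k : N => f₀ k) = (θ₀ : N → ℂ) := by
      funext k
      exact helper80.extFun_coe N _ k
    rw [h1]
    exact θ₀.2
  have hQN : RatioProp p M N f₀ := ratioProp_extFun hM N N hidx le_rfl hθ₀
  obtain ⟨f', hf', hQ', hext⟩ := canonical_extension N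
    (fun H f => (∀ n ∈ N, n ∈ H → f n = f₀ n) ∧ RatioProp p M H f)
    (fun H f f' heq hQ => ⟨fun n hn hnH => by rw [← heq n hnH]; exact hQ.1 n hn hnH,
      fun c hc hcp => by
        rw [← heq c hc, ← heq 1 H.one_mem]
        exact hQ.2 c hc hcp⟩)
    (fun H' H f hle hQ => ⟨fun n hn hnH => hQ.1 n hn (hle hnH),
      fun c hc hcp => hQ.2 c (hle hc) hcp⟩)
    (fun H f hloc => ⟨fun n hn hnH => by
        obtain ⟨L, -, hnL, hQL⟩ := hloc n hnH
        exact hQL.1 n hn hnL,
      fun c hc hcp => by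
        obtain ⟨L, -, hcL, hQL⟩ := hloc c hc
        exact hQL.2 c hcL hcp⟩)
    (fun H H' f x hx hQ => ⟨fun n hn hnH => by
        have h1 : x⁻¹ * n * x ∈ N := by
          have := hN.conj_mem n hn x⁻¹
          rwa [inv_inv] at this
        show f (x⁻¹ * n * x) = f₀ n
        rw [hQ.1 _ h1 ((hx n).mp hnH)]
        have h2 := hinv x⁻¹ n hn
        rwa [inv_inv] at h2,
      fun c hc hcp => by
        show MemLocalIdeal M (f (x⁻¹ * c * x) / f (x⁻¹ * 1 * x) - 1)
        have h1 : x⁻¹ * 1 * x = 1 := by group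
        rw [h1]
        apply hQ.2 _ ((hx c).mp hc)
        have h2 := helper80.index_centralizer_mulEquiv (MulAut.conj x⁻¹) c
        have h3 : (MulAut.conj x⁻¹) c = x⁻¹ * c * x := by
          rw [MulAut.conj_apply, inv_inv]
        rw [h3] at h2
        rw [h2]
        exact hcp⟩)
    (fun K H f f₁ f₂ hNK hKH hnorm hfK hf₁ hQ₁ hext₁ hf₂ hQ₂ hext₂ h hh => by
      have : Fintype K := Fintype.ofFinite K
      have h1K : (fun k : K => f₁ k) = fun k : K => f k := funext (fun k => hext₁ k k.2)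
      have h2K : (fun k : K => f₂ k) = fun k : K => f k := funext (fun k => hext₂ k k.2)
      have hne : classInner (fun k : K => f₂ k) (fun k : K => f₁ k) ≠ 0 := by
        rw [h1K, h2K, classInner_irr_self hfK]
        exact one_ne_zero
      exact (eq_on_of_ratioProp hM N K H hidx hD hNK hKH hnorm f₁ f₂ hf₁ (by rw [h1K]; exact hfK)
        hf₂ hne hQ₁.2 hQ₂.2 h hh).symm)
    (fun K H f hNK hKH hnorm hcyc hfK hQK _ => by
      obtain ⟨f', hf', hQ', hext⟩ := exists_extension_cyclic_step hM N K H hidx hD hNK hKH hnorm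
        hcyc θ₀ hθ₀ f hfK
        (fun n => by
          rw [hQK.1 n n.2 (hNK n.2)]
          exact helper80.extFun_coe N _ n) hQK.2
      exact ⟨f', hf', ⟨fun n hn _ => by rw [hext n (hNK hn)]; exact hQK.1 n hn (hNK hn), hQ'⟩,
        hext⟩)
    N ⊤ f₀ le_rfl le_top (fun h _ k hk => hN.conj_mem k hk h) hirr
    ⟨fun _ _ _ => rfl, hQN⟩ (fun h _ k hk => hinv h k hk)
  have hirrG : IsIrrCharacter G f' := by
    let φ : G →* (⊤ : Subgroup G) :=
      { toFun := fun g => ⟨g, Subgroup.mem_top g⟩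
        map_one' := rfl
        map_mul' := fun _ _ => rfl }
    have hφ : Function.Surjective φ := fun y => ⟨y, Subtype.ext rfl⟩
    exact isIrrCharacter_comp_surjective φ hφ hf'
  refine ⟨⟨f', hirrG⟩, fun n => ?_, fun c hcp => hQ'.2 c (Subgroup.mem_top c) hcp⟩
  show f' n = (θ₀ : N → ℂ) n
  rw [hext n n.2]
  exact helper80.extFun_coe N _ n

/-- **Isomorphic principal blocks** (character form): restriction is a bijection from the
principal block of `G` onto the principal block of `N`. -/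
theorem principal_bijection_of_supplement [Finite G] (hM : IsPModular p M) (N : Subgroup G)
    [hN : N.Normal] (hidx : ¬ p ∣ N.index)
    (hD : ∀ g : G, ∃ n ∈ N, ∃ c : G,
      ¬ p ∣ (Subgroup.centralizer ({c} : Set G)).index ∧ g = n * c) :
    (∀ χ ∈ principalBlock M G, ∃ θ ∈ principalBlock M N,
        ∀ n : N, (χ : G → ℂ) n = (θ : N → ℂ) n) ∧
      ∀ θ ∈ principalBlock M N, ∃! χ : IrrCharacter G,
        χ ∈ principalBlock M G ∧ ∀ n : N, (χ : G → ℂ) n = (θ : N → ℂ) n := by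
  classical
  have : Fintype G := Fintype.ofFinite G
  have : Fintype N := Fintype.ofFinite N
  -- uniqueness among members of the principal block over `θ₀`
  have hU : ∀ (θ₀ : IrrCharacter N) (χ₀ : IrrCharacter G),
      (∀ n : N, (χ₀ : G → ℂ) n = (θ₀ : N → ℂ) n) →
      (∀ c : G, ¬ p ∣ (Subgroup.centralizer ({c} : Set G)).index →
        MemLocalIdeal M ((χ₀ : G → ℂ) c / (χ₀ : G → ℂ) 1 - 1)) →
      ∀ χ ∈ principalBlock M G,
        classInner (fun n : N => (χ : G → ℂ) n) (θ₀ : N → ℂ) ≠ 0 → χ = χ₀ := by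
    intro θ₀ χ₀ hres hQ χ hχ hne
    have h1 : (fun n : N => (χ₀ : G → ℂ) n) = (θ₀ : N → ℂ) := funext hres
    apply Subtype.ext
    exact eq_of_ratio_of_over hM N hidx
      {c : G | ¬ p ∣ (Subgroup.centralizer ({c} : Set G)).index}
      (fun g => by
        obtain ⟨n, hn, c, hc, hg⟩ := hD g
        exact ⟨n, hn, c, hc, hg⟩)
      χ₀.2 (by rw [h1]; exact θ₀.2) χ.2 (by rw [h1]; exact hne)
      (fun c hc => hQ c hc) (fun c hc => memLocalIdeal_ratio_of_mem_principalBlock hM hχ hc)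
  -- the canonical extension lies in the principal block
  have hIN : ∀ (θ₀ : IrrCharacter N), θ₀ ∈ principalBlock M N → ∀ (χ₀ : IrrCharacter G),
      (∀ n : N, (χ₀ : G → ℂ) n = (θ₀ : N → ℂ) n) →
      (∀ c : G, ¬ p ∣ (Subgroup.centralizer ({c} : Set G)).index →
        MemLocalIdeal M ((χ₀ : G → ℂ) c / (χ₀ : G → ℂ) 1 - 1)) → χ₀ ∈ principalBlock M G := by
    intro θ₀ hθ₀ χ₀ hres hQ
    obtain ⟨χ, hχ, hne⟩ := exists_principal_over hM N hidx hD θ₀ hθ₀
    rw [← hU θ₀ χ₀ hres hQ χ hχ hne]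
    exact hχ
  constructor
  · intro χ hχ
    obtain ⟨θ, hθ⟩ := helper77.exists_constituent_restrict_top N χ
    have hθB := mem_principalBlock_of_constituent hM N hχ θ hθ
    obtain ⟨χ₀, hres, hQ⟩ := exists_extension_ratioProp hM N hidx hD θ hθB
    have h1 := hU θ χ₀ hres hQ χ hχ hθ
    exact ⟨θ, hθB, fun n => by rw [h1]; exact hres n⟩
  · intro θ hθ
    obtain ⟨χ₀, hres, hQ⟩ := exists_extension_ratioProp hM N hidx hD θ hθ
    refine ⟨χ₀, ⟨hIN θ hθ χ₀ hres hQ, hres⟩, ?_⟩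
    rintro χ ⟨hχ, hχres⟩
    apply hU θ χ₀ hres hQ χ hχ
    have h1 : (fun n : N => (χ : G → ℂ) n) = (θ : N → ℂ) := funext hχres
    rw [h1, classInner_irr_self θ.2]
    exact one_ne_zero

end

end Cfsg.Agent.Lib.helper4
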