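import Cfsg.Agent.Lib.helper17.CartanDieudonne
import Cfsg.Agent.Lib.helper42.FormsNondeg
import Cfsg.Prelude.Def_GeometricClasses

/-!
S5977 / S5978, block [A], interface hypothesis `HSQ`: the square of every isometry lies in `Ω`
(odd characteristic, non-degenerate polar form).  By Cartan–Dieudonné the isometry group is
generated by reflections, which are involutions, and `O / Ω` is abelian.
-/

set_option autoImplicit false
open scoped MatrixGroups

namespace Cfsg.Agent.Lib.helper20.BG

open Cfsg.Agent.Lib.helper17 Cfsg.Agent.Lib.helper49 Cfsg.Agent.Lib.helper42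

/-- Generic form: in a group generated by involutions, every square is in the commutator subgroup. -/
theorem h4_sq_mem_commutator {G : Type*} [Group G] (S : Set G) (hS : ∀ s ∈ S, s * s = 1)
    (hgen : Subgroup.closure S = ⊤) (g : G) : g * g ∈ commutator G := by
  have key : ∀ g : G, g ∈ Subgroup.closure S → (Abelianization.of g) ^ 2 = 1 := by
    intro g hg
    induction hg using Subgroup.closure_induction with
    | mem x hx =>
      rw [← map_pow, pow_two, hS x hx, map_one]
    | one => rw [map_one, one_pow]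
    | mul x y _ _ hx hy =>
      rw [map_mul, mul_pow, hx, hy, one_mul]
    | inv x _ hx =>
      rw [map_inv, inv_pow, hx, inv_one]
  have h1 := key g (by rw [hgen]; exact Subgroup.mem_top g)
  rw [← map_pow, pow_two] at h1
  have h2 : g * g ∈ (Abelianization.of : G →* Abelianization G).ker := h1
  rwa [Abelianization.ker_of] at h2

/-- `HSQ` for a quadratic form with non-degenerate polar form in odd characteristic. -/
theorem h4_hsq_gen {F : Type*} [Field F] {ι : Type} [Fintype ι] [DecidableEq ι] (h2 : (2 : F) ≠ 0)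
    (Q : QuadraticForm F (ι → F)) (hQ : (QuadraticMap.polarBilin Q).Nondegenerate) :
    ∀ x ∈ Cfsg.isometryGroup F ⇑Q, x * x ∈ Cfsg.Geo.omegaGL ⇑Q := by
  intro x hx
  have h := h4_sq_mem_commutator (G := Cfsg.isometryGroup F ⇑Q)
    {g | ∃ v, ∃ hv : Q v ≠ 0, g = reflectionIsom Q v hv}
    (by
      rintro s ⟨v, hv, rfl⟩
      exact reflectionIsom_mul_self Q v hv)
    (reflSubgroup_eq_top h2 Q hQ) ⟨x, hx⟩
  exact ⟨⟨x, hx⟩ * ⟨x, hx⟩, h, rfl⟩

theorem h4_two_ne_zero {F : Type*} [Field F] [Fintype F] (hodd : Odd (Fintype.card F)) :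
    (2 : F) ≠ 0 := by
  intro h
  have hchar : ringChar F = 2 :=
    CharP.ringChar_of_prime_eq_zero Nat.prime_two (by exact_mod_cast h)
  have h0 := FiniteField.even_card_of_char_two hchar
  have h1 := Nat.odd_iff.mp hodd
  omega

/-- `HSQ` of `h20_s5977_core`. -/
theorem h4_hsq_plus {F : Type*} [Field F] [Fintype F] (hodd : Odd (Fintype.card F)) (d : ℕ) :
    ∀ x ∈ Cfsg.isometryGroup F (Cfsg.quadFormPlus d F),
      x * x ∈ Cfsg.Geo.omegaGL (Cfsg.quadFormPlus d F) :=
  h4_hsq_gen (h4_two_ne_zero hodd) (plusForm d F) (plusForm_nondegenerate d)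

/-- `HSQ` of `h20_s5978_core`. -/
theorem h4_hsq_minus {F : Type*} [Field F] [Fintype F] (hodd : Odd (Fintype.card F)) (d : ℕ)
    (a b : F) (hab : ∀ x y : F, x ^ 2 + a * x * y + b * y ^ 2 = 0 → x = 0 ∧ y = 0) :
    ∀ x ∈ Cfsg.isometryGroup F (Cfsg.quadFormMinus (d - 1) F a b),
      x * x ∈ Cfsg.Geo.omegaGL (Cfsg.quadFormMinus (d - 1) F a b) :=
  h4_hsq_gen (h4_two_ne_zero hodd) (minusForm (d - 1) F a b) (minusForm_nondegenerate (d - 1) a b hab)

end Cfsg.Agent.Lib.helper20.BG
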