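import Mathlib
import Cfsg.Agent.Lib.helper2.BGDefs

/-!
helper4: S4504 piece R14 (`R_conj_gamma`; spare copy, prefixed name `helper4_R_conj_gamma`): fusion of `x` in `G` is already realised in
`Γ = normalClosure {x}`.
-/

set_option autoImplicit false

open Cfsg

namespace Cfsg.Agent.Lib.helper2.BG

universe u

/-- a character is a class function -/
theorem helper4_char_conj {G : Type u} [Group G] (χ : G → ℂ) (hχ : Cfsg.IsCharacter G χ)
    (n x : G) : χ (n * x * n⁻¹) = χ x := by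
  obtain ⟨k, ρ, rfl⟩ := hχ
  exact ρ.char_conj x n

/-- R14 (V4): fusion of `x` in `G` is already realised in `Γ = normalClosure {x}`. -/
theorem helper4_R_conj_gamma {G : Type u} [Group G] [Finite G] (p : ℕ) [Fact p.Prime] (P : Sylow p G)
    (hP : Nat.card P = p) (x : G) (hx : x ∈ (P : Subgroup G)) (hx1 : x ≠ 1) (χ : G → ℂ)
    (hχ : Cfsg.IsCharacter G χ) (HΓ : Subgroup (ZMod p)ˣ)
    (hHΓ : ∀ r : (ZMod p)ˣ, r ∈ HΓ ↔ ∃ γ ∈ Subgroup.normalClosure ({x} : Set G),
      γ * x * γ⁻¹ = x ^ ((r : ZMod p).val))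
    (hne : ∀ c : (ZMod p)ˣ, c ∉ HΓ → χ (x ^ ((c : ZMod p).val)) ≠ χ x) :
    (∀ n : G, n * x * n⁻¹ ∈ (P : Subgroup G) →
      ∃ γ ∈ Subgroup.normalClosure ({x} : Set G), γ * x * γ⁻¹ = n * x * n⁻¹) ∧
    ∀ HG : Subgroup (ZMod p)ˣ,
      (∀ r : (ZMod p)ˣ, r ∈ HG ↔ ∃ n : G, n * x * n⁻¹ = x ^ ((r : ZMod p).val)) → HG = HΓ := by
  have hp : p.Prime := Fact.out
  -- `x` has order `p`
  have hox : orderOf x = p := by
    have h1 : orderOf x ∣ p := by
      have h2 : orderOf (⟨x, hx⟩ : (P : Subgroup G)) ∣ Nat.card (P : Subgroup G) :=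
        orderOf_dvd_natCard _
      rw [Subgroup.orderOf_mk] at h2
      rw [← hP]
      exact h2
    rcases (Nat.dvd_prime hp).1 h1 with h | h
    · exact absurd (orderOf_eq_one_iff.1 h) hx1
    · exact h
  -- `P = zpowers x`
  have hPz : ∀ y ∈ (P : Subgroup G), y ∈ Subgroup.zpowers x := by
    have hle : Subgroup.zpowers x ≤ (P : Subgroup G) := by
      rw [Subgroup.zpowers_le]
      exact hx
    have hcard : Nat.card (Subgroup.zpowers x) = Nat.card (P : Subgroup G) := by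
      rw [Nat.card_zpowers, hox]
      exact hP.symm
    have heq : Subgroup.zpowers x = (P : Subgroup G) :=
      Subgroup.eq_of_le_of_card_ge hle (le_of_eq hcard.symm)
    intro y hy
    rw [heq]
    exact hy
  -- key: a conjugate of `x` which is a power `x ^ r.val` has `r ∈ HΓ`
  have key : ∀ (r : (ZMod p)ˣ) (n : G), n * x * n⁻¹ = x ^ ((r : ZMod p).val) → r ∈ HΓ := by
    intro r n hn
    by_contra hr
    apply hne r hr
    rw [← hn]
    exact helper4_char_conj χ hχ n x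
  refine ⟨?_, ?_⟩
  · intro n hn
    have h1 := hPz _ hn
    rw [Subgroup.mem_zpowers_iff] at h1
    obtain ⟨k, hk⟩ := h1
    have hk0 : ((k : ℤ) : ZMod p) ≠ 0 := by
      intro h0
      have h3 : (p : ℤ) ∣ k := (ZMod.intCast_zmod_eq_zero_iff_dvd k p).1 h0
      have h4 : x ^ k = 1 := by
        rw [← hox] at h3
        exact (orderOf_dvd_iff_zpow_eq_one).1 h3
      rw [h4] at hk
      have h5 : n * x * n⁻¹ = 1 := hk.symm
      apply hx1
      have h6 : x = n⁻¹ * (n * x * n⁻¹) * n := by group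
      rw [h6, h5]
      group
    let c : (ZMod p)ˣ := Units.mk0 ((k : ℤ) : ZMod p) hk0
    have hc : x ^ ((c : ZMod p).val) = n * x * n⁻¹ := by
      rw [← hk]
      have h7 : (((c : ZMod p).val : ℕ) : ℤ) ≡ k [ZMOD (orderOf x)] := by
        rw [hox]
        rw [← ZMod.intCast_eq_intCast_iff]
        rw [Int.cast_natCast, ZMod.natCast_zmod_val]
        rfl
      rw [← zpow_natCast]
      exact (zpow_eq_zpow_iff_modEq).2 h7
    have hcΓ : c ∈ HΓ := key c n hc.symm
    obtain ⟨γ, hγ, hγx⟩ := (hHΓ c).1 hcΓ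
    exact ⟨γ, hγ, hγx.trans hc⟩
  · intro HG hHG
    ext r
    constructor
    · intro hr
      obtain ⟨n, hn⟩ := (hHG r).1 hr
      exact key r n hn
    · intro hr
      obtain ⟨γ, -, hγx⟩ := (hHΓ r).1 hr
      exact (hHG r).2 ⟨γ, hγx⟩

end Cfsg.Agent.Lib.helper2.BG
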