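import Cfsg.Agent.Lib.helper84.Def1Defs
import Cfsg.Agent.Lib.helper17.D1C3Core
import Cfsg.Agent.Lib.helper19.D1C1

/-!
# Piece C4 of the defect-one project (S4441 / S0960)

Every `G`-linear endomorphism `δ` of the lattice `d1L S` is, up to the factor `|G|`, a right
multiplication: with `u := δ (d1E S)` one has `|G|^k • δ^k a = a * u^k`.

`d1_end_is_right_mul_of` takes `d1E S ∈ d1L S` (piece C3) as a hypothesis;
`d1_end_is_right_mul` is the exact statement of the skeleton.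
-/

set_option autoImplicit false

namespace Cfsg.Agent.Lib.helper4

open Cfsg Cfsg.Agent.Lib.helper84

variable {G : Type*} [Group G] [Fintype G]

/-- `d1L S` is a left ideal of the integral group ring. -/
theorem c4_mul_mem (S : Finset (IrrCharacter G)) (c a : MonoidAlgebra ℤ G) (ha : a ∈ d1L S) :
    c * a ∈ d1L S := by
  rw [mem_d1L] at ha ⊢
  rw [mul_assoc, ha, mul_smul_comm]

/-- A `G`-linear endomorphism of `d1L S` commutes with left multiplication by any element of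
the integral group ring. -/
theorem c4_delta_mul (S : Finset (IrrCharacter G))
    (δ : d1L S →ₗ[ℤ] d1L S) (hδ : ∀ g : G, δ ∘ₗ d1Rho S g = d1Rho S g ∘ₗ δ)
    (c : MonoidAlgebra ℤ G) (v : d1L S) :
    ((δ ⟨c * (v : MonoidAlgebra ℤ G), c4_mul_mem S c v v.2⟩ : d1L S) : MonoidAlgebra ℤ G)
      = c * ((δ v : d1L S) : MonoidAlgebra ℤ G) := by
  have key : ∀ c : MonoidAlgebra ℤ G, ∀ h : c * (v : MonoidAlgebra ℤ G) ∈ d1L S,
      ((δ ⟨c * (v : MonoidAlgebra ℤ G), h⟩ : d1L S) : MonoidAlgebra ℤ G)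
        = c * ((δ v : d1L S) : MonoidAlgebra ℤ G) := by
    intro c
    induction c using MonoidAlgebra.induction_on with
    | of g =>
      intro h
      have h1 := LinearMap.congr_fun (hδ g) v
      have h3 : δ (d1Rho S g v) = d1Rho S g (δ v) := h1
      have h4 : (⟨MonoidAlgebra.of ℤ G g * (v : MonoidAlgebra ℤ G), h⟩ : d1L S) = d1Rho S g v :=
        Subtype.ext (d1Rho_apply S g v).symm
      rw [h4, h3, d1Rho_apply]
    | add x y hx hy =>
      intro h
      have hx' := c4_mul_mem S x v v.2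
      have hy' := c4_mul_mem S y v v.2
      have h4 : (⟨(x + y) * (v : MonoidAlgebra ℤ G), h⟩ : d1L S)
          = ⟨x * (v : MonoidAlgebra ℤ G), hx'⟩ + ⟨y * (v : MonoidAlgebra ℤ G), hy'⟩ :=
        Subtype.ext (add_mul x y _)
      rw [h4, map_add, Submodule.coe_add, hx hx', hy hy', add_mul]
    | smul r x hx =>
      intro h
      have hx' := c4_mul_mem S x v v.2
      have h4 : (⟨(r • x) * (v : MonoidAlgebra ℤ G), h⟩ : d1L S)
          = r • (⟨x * (v : MonoidAlgebra ℤ G), hx'⟩ : d1L S) :=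
        Subtype.ext (smul_mul_assoc r x _)
      rw [h4, map_smul, Submodule.coe_smul, hx hx', smul_mul_assoc]
  exact key c _

/-- PIECE C4, with `d1E S ∈ d1L S` as a hypothesis. -/
theorem d1_end_is_right_mul_of (S : Finset (IrrCharacter G)) (hE : d1E S ∈ d1L S)
    (δ : d1L S →ₗ[ℤ] d1L S) (hδ : ∀ g : G, δ ∘ₗ d1Rho S g = d1Rho S g ∘ₗ δ) :
    ∃ u : MonoidAlgebra ℤ G, ∀ (k : ℕ) (a : d1L S),
      (Fintype.card G : ℤ) ^ k • (((δ ^ k) a : d1L S) : MonoidAlgebra ℤ G)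
        = (a : MonoidAlgebra ℤ G) * u ^ k := by
  refine ⟨((δ ⟨d1E S, hE⟩ : d1L S) : MonoidAlgebra ℤ G), ?_⟩
  -- the case `k = 1`
  have h1 : ∀ a : d1L S, (Fintype.card G : ℤ) • ((δ a : d1L S) : MonoidAlgebra ℤ G)
      = (a : MonoidAlgebra ℤ G) * ((δ ⟨d1E S, hE⟩ : d1L S) : MonoidAlgebra ℤ G) := by
    intro a
    have ha := (mem_d1L S a).mp a.2
    have h := c4_delta_mul S δ hδ (a : MonoidAlgebra ℤ G) ⟨d1E S, hE⟩
    rw [← h]
    have h5 : (⟨(a : MonoidAlgebra ℤ G) * d1E S, c4_mul_mem S _ _ hE⟩ : d1L S)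
        = (Fintype.card G : ℤ) • a := Subtype.ext ha
    rw [h5, map_smul]
    rfl
  intro k
  induction k with
  | zero => intro a; simp
  | succ k ih =>
    intro a
    have h6 : ((δ ^ (k + 1)) a : d1L S) = (δ ^ k) (δ a) := by
      rw [pow_succ]; rfl
    rw [h6, pow_succ, mul_smul, smul_comm, ih (δ a), ← smul_mul_assoc, h1 a, mul_assoc,
      ← pow_succ']

/-- PIECE C4 (exact statement of the skeleton). -/
theorem d1_end_is_right_mul (S : Finset (IrrCharacter G)) (hS : d1GalStable S)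
    (δ : d1L S →ₗ[ℤ] d1L S) (hδ : ∀ g : G, δ ∘ₗ d1Rho S g = d1Rho S g ∘ₗ δ) :
    ∃ u : MonoidAlgebra ℤ G, ∀ (k : ℕ) (a : d1L S),
      (Fintype.card G : ℤ) ^ k • (((δ ^ k) a : d1L S) : MonoidAlgebra ℤ G)
        = (a : MonoidAlgebra ℤ G) * u ^ k :=
  d1_end_is_right_mul_of S
    (Cfsg.Agent.Lib.helper17.d1E_mem_of S (fun g => Cfsg.Agent.Lib.helper19.d1Eps_cast S hS g))
    δ hδ

end Cfsg.Agent.Lib.helper4
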