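import Cfsg.Agent.Lib.helper84.Def1Defs
import Cfsg.Agent.Lib.helper46.D1GS

/-!
# Piece Y1 of the defect-one project (S4441 / S0960)

For a Sylow `p`-subgroup `P` of order `p`, `C = C_G(P) = P × K`, and an integral representation
`ρ` of `G` on `L`: the class sum of `1 ≠ x ∈ P` acts on `L^C` modulo `Tr_P(L^K)`, and on
`{v ∈ L^K : Tr_P v = 0}` modulo the augmentation submodule, as the scalar `|x^G ∩ P|`.
-/

set_option autoImplicit false

namespace Cfsg.Agent.Lib.helper4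

open Cfsg Cfsg.Agent.Lib.helper84

section general

variable {G : Type*} [Group G] [Fintype G]

open Classical

/-- The conjugation orbit of `g` under the subgroup `C`. -/
noncomputable def y1Orb (C : Subgroup G) (g : G) : Finset G :=
  (Finset.univ : Finset C).image (fun c : C => (c : G) * g * (c : G)⁻¹)

theorem y1_mem_orb (C : Subgroup G) (g h : G) :
    h ∈ y1Orb C g ↔ ∃ c ∈ C, c * g * c⁻¹ = h := by
  classical
  unfold y1Orb
  rw [Finset.mem_image]
  constructor
  · rintro ⟨c, -, hc⟩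
    exact ⟨c, c.2, hc⟩
  · rintro ⟨c, hc, hh⟩
    exact ⟨⟨c, hc⟩, Finset.mem_univ _, hh⟩

/-- Sums over a conjugation-invariant set avoiding `C` reduce to orbit sums. -/
theorem y1_sum_mem_of_orbits {L : Type*} [AddCommGroup L] (C : Subgroup G) (T : AddSubgroup L)
    (F : G → L) (X₀ : Finset G)
    (horb : ∀ g ∈ X₀, ∑ h ∈ y1Orb C g, F h ∈ T) :
    ∀ (n : ℕ) (X : Finset G), X.card = n → X ⊆ X₀ →
      (∀ g ∈ X, ∀ c ∈ C, c * g * c⁻¹ ∈ X) → ∑ g ∈ X, F g ∈ T := by
  classical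
  intro n
  induction n using Nat.strong_induction_on with
  | _ n ih =>
    intro X hn hXC hX
    by_cases hne : X = ∅
    · subst hne
      simp
    · obtain ⟨g, hg⟩ := Finset.nonempty_iff_ne_empty.mpr hne
      have hOX : y1Orb C g ⊆ X := by
        intro h hh
        rw [y1_mem_orb] at hh
        obtain ⟨c, hc, rfl⟩ := hh
        exact hX g hg c hc
      have hgO : g ∈ y1Orb C g := by
        rw [y1_mem_orb]
        exact ⟨1, C.one_mem, by simp⟩
      have hsplit : ∑ h ∈ X, F h = ∑ h ∈ X \ y1Orb C g, F h + ∑ h ∈ y1Orb C g, F h :=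
        (Finset.sum_sdiff hOX).symm
      rw [hsplit]
      refine T.add_mem ?_ (horb g (hXC hg))
      have hcard : (X \ y1Orb C g).card < n := by
        rw [← hn]
        exact Finset.card_lt_card (Finset.sdiff_ssubset hOX ⟨g, hgO⟩)
      refine ih _ hcard (X \ y1Orb C g) rfl
        (fun h hh => hXC (Finset.mem_sdiff.mp hh).1) ?_
      intro h hh c hc
      rw [Finset.mem_sdiff] at hh ⊢
      refine ⟨hX h hh.1 c hc, fun hcO => hh.2 ?_⟩
      rw [y1_mem_orb] at hcO ⊢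
      obtain ⟨c', hc', hcc⟩ := hcO
      refine ⟨c⁻¹ * c', C.mul_mem (C.inv_mem hc) hc', ?_⟩
      calc c⁻¹ * c' * g * (c⁻¹ * c')⁻¹ = c⁻¹ * (c' * g * c'⁻¹) * c := by group
        _ = c⁻¹ * (c * h * c⁻¹) * c := by rw [hcc]
        _ = h := by group

/-- Orbit–stabilizer for sums. -/
theorem y1_orbit_sum {L : Type*} [AddCommGroup L] (C : Subgroup G) (F : G → L) (g : G) :
    ∑ c : C, F ((c : G) * g * (c : G)⁻¹)
      = Nat.card ↥(C ⊓ Subgroup.centralizer ({g} : Set G)) • ∑ h ∈ y1Orb C g, F h := by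
  classical
  unfold y1Orb
  rw [Finset.sum_comp F (fun c : C => (c : G) * g * (c : G)⁻¹), Finset.smul_sum]
  refine Finset.sum_congr rfl ?_
  intro h hh
  rw [Finset.mem_image] at hh
  obtain ⟨c₀, -, rfl⟩ := hh
  congr 1
  rw [Nat.card_eq_fintype_card, ← Finset.card_univ]
  refine Finset.card_bij (fun c _ => ⟨(c₀ : G)⁻¹ * (c : G), ?_⟩) ?_ ?_ ?_
  · rename_i hc
    rw [Finset.mem_filter] at hc
    rw [Subgroup.mem_inf, Subgroup.mem_centralizer_iff]
    refine ⟨C.mul_mem (C.inv_mem c₀.2) c.2, ?_⟩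
    intro z hz
    rw [Set.mem_singleton_iff] at hz
    subst hz
    have h1 := hc.2
    calc z * ((c₀ : G)⁻¹ * (c : G))
        = (c₀ : G)⁻¹ * ((c₀ : G) * z * (c₀ : G)⁻¹) * (c : G) := by group
      _ = (c₀ : G)⁻¹ * ((c : G) * z * (c : G)⁻¹) * (c : G) := by rw [h1]
      _ = (c₀ : G)⁻¹ * (c : G) * z := by group
  · intro c _
    exact Finset.mem_univ _
  · intro c₁ _ c₂ _ h12
    have h1 : (c₀ : G)⁻¹ * (c₁ : G) = (c₀ : G)⁻¹ * (c₂ : G) := congrArg Subtype.val h12
    exact Subtype.ext (mul_left_cancel h1)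
  · intro s _
    have hs := s.2
    rw [Subgroup.mem_inf, Subgroup.mem_centralizer_iff] at hs
    refine ⟨⟨(c₀ : G) * (s : G), C.mul_mem c₀.2 hs.1⟩, ?_, ?_⟩
    · rw [Finset.mem_filter]
      refine ⟨Finset.mem_univ _, ?_⟩
      have h1 := hs.2 g (Set.mem_singleton g)
      change (c₀ : G) * (s : G) * g * ((c₀ : G) * (s : G))⁻¹ = (c₀ : G) * g * (c₀ : G)⁻¹
      calc (c₀ : G) * (s : G) * g * ((c₀ : G) * (s : G))⁻¹
          = (c₀ : G) * ((s : G) * g) * (s : G)⁻¹ * (c₀ : G)⁻¹ := by group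
        _ = (c₀ : G) * (g * (s : G)) * (s : G)⁻¹ * (c₀ : G)⁻¹ := by rw [h1]
        _ = (c₀ : G) * g * (c₀ : G)⁻¹ := by group
    · apply Subtype.ext
      change (c₀ : G)⁻¹ * ((c₀ : G) * (s : G)) = (s : G)
      group

/-- Reindexing an orbit by conjugation with an element of `C`. -/
theorem y1_orbit_reindex {M : Type*} [AddCommMonoid M] (C : Subgroup G) (g c : G) (hc : c ∈ C)
    (Ψ : G → M) :
    ∑ h ∈ y1Orb C g, Ψ (c * h * c⁻¹) = ∑ h ∈ y1Orb C g, Ψ h := by
  classical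
  refine Finset.sum_nbij' (fun h => c * h * c⁻¹) (fun h => c⁻¹ * h * c) ?_ ?_ ?_ ?_ ?_
  · intro h hh
    rw [y1_mem_orb] at hh ⊢
    obtain ⟨a, ha, rfl⟩ := hh
    exact ⟨c * a, C.mul_mem hc ha, by group⟩
  · intro h hh
    rw [y1_mem_orb] at hh ⊢
    obtain ⟨a, ha, rfl⟩ := hh
    exact ⟨c⁻¹ * a, C.mul_mem (C.inv_mem hc) ha, by group⟩
  · intro h _
    group
  · intro h _
    group
  · intro h _
    rfl

end general


section d1

variable {G : Type*} [Group G] [Fintype G]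

open Classical

/-- The standing data: `P` of order `p`, `K` the `p`-regular part of `C_G(P)`, and a generator
`x` of `P`. -/
structure Y1Ctx (p : ℕ) (P : Sylow p G) (K : Subgroup G) (x : G) : Prop where
  hP : Nat.card P = p
  hK : ∀ g : G, g ∈ K ↔ g ∈ Subgroup.centralizer ((P : Subgroup G) : Set G) ∧ ¬ p ∣ orderOf g
  hPK : ∀ c ∈ Subgroup.centralizer ((P : Subgroup G) : Set G),
    ∃ y ∈ (P : Subgroup G), ∃ k ∈ K, c = y * k
  hx : x ∈ (P : Subgroup G)
  hx1 : x ≠ 1

variable {p : ℕ} [Fact p.Prime] {P : Sylow p G} {K : Subgroup G} {x : G}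

theorem y1_P_eq_zpowers (hP : Nat.card P = p) (c : G) (hc : c ∈ (P : Subgroup G)) (hc1 : c ≠ 1) :
    (P : Subgroup G) = Subgroup.zpowers c := by
  have hp := (Fact.out : p.Prime)
  have hdvd : orderOf c ∣ p := by
    have := Subgroup.orderOf_dvd_natCard (P : Subgroup G) hc
    rwa [hP] at this
  have hord : orderOf c = p := by
    rcases (Nat.dvd_prime hp).mp hdvd with h | h
    · exact absurd (orderOf_eq_one_iff.mp h) hc1
    · exact h
  symm
  refine Subgroup.eq_of_le_of_card_ge (Subgroup.zpowers_le.mpr hc) ?_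
  rw [Nat.card_zpowers, hord, hP]

theorem y1_P_le (h : Y1Ctx p P K x) :
    (P : Subgroup G) ≤ Subgroup.centralizer ((P : Subgroup G) : Set G) := by
  have hPx := y1_P_eq_zpowers h.hP x h.hx h.hx1
  intro y hy
  rw [Subgroup.mem_centralizer_iff]
  intro z hz
  have hy' : y ∈ Subgroup.zpowers x := hPx ▸ hy
  have hz' : z ∈ Subgroup.zpowers x := by
    have : z ∈ (P : Subgroup G) := hz
    exact hPx ▸ this
  obtain ⟨i, rfl⟩ := Subgroup.mem_zpowers_iff.mp hy'
  obtain ⟨j, rfl⟩ := Subgroup.mem_zpowers_iff.mp hz'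
  exact ((Commute.refl x).zpow_zpow j i).eq

theorem y1_K_le (h : Y1Ctx p P K x) :
    K ≤ Subgroup.centralizer ((P : Subgroup G) : Set G) := fun k hk => ((h.hK k).mp hk).1

theorem y1_pow_P (h : Y1Ctx p P K x) (y : G) (hy : y ∈ (P : Subgroup G)) : y ^ p = 1 := by
  have h1 := Subgroup.orderOf_dvd_natCard (P : Subgroup G) hy
  rw [h.hP] at h1
  exact orderOf_dvd_iff_pow_eq_one.mp h1

/-- An element of `P ∩ K` is trivial. -/
theorem y1_eq_one (h : Y1Ctx p P K x) (z : G) (hz : z ^ p = 1) (hzK : z ∈ K) : z = 1 := by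
  have hp := (Fact.out : p.Prime)
  have hdvd : orderOf z ∣ p := orderOf_dvd_of_pow_eq_one hz
  rcases (Nat.dvd_prime hp).mp hdvd with h1 | h1
  · exact orderOf_eq_one_iff.mp h1
  · exact absurd (h1 ▸ dvd_rfl) ((h.hK z).mp hzK).2

/-- An element of `C_G(P)` with `c ^ p = 1` lies in `P`. -/
theorem y1_mem_P (h : Y1Ctx p P K x) (c : G)
    (hc : c ∈ Subgroup.centralizer ((P : Subgroup G) : Set G)) (hcp : c ^ p = 1) :
    c ∈ (P : Subgroup G) := by
  obtain ⟨y, hy, k, hk, rfl⟩ := h.hPK c hc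
  have hcomm : Commute y k := by
    have := (Subgroup.mem_centralizer_iff.mp (y1_K_le h hk)) y hy
    exact this
  rw [hcomm.mul_pow, y1_pow_P h y hy, one_mul] at hcp
  rw [y1_eq_one h k hcp hk, mul_one]
  exact hy

/-- The stabilizer in `C_G(P)` of an element outside `C_G(P)` has order prime to `p`. -/
theorem y1_coprime (h : Y1Ctx p P K x) (g : G)
    (hg : g ∉ Subgroup.centralizer ((P : Subgroup G) : Set G)) :
    Nat.Coprime
      (Nat.card ↥(Subgroup.centralizer ((P : Subgroup G) : Set G) ⊓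
        Subgroup.centralizer ({g} : Set G))) p := by
  have hp := (Fact.out : p.Prime)
  rw [Nat.coprime_comm, Nat.Prime.coprime_iff_not_dvd hp]
  intro hdvd
  obtain ⟨s, hs⟩ := exists_prime_orderOf_dvd_card' p hdvd
  have hsmem := s.2
  rw [Subgroup.mem_inf, Subgroup.mem_centralizer_iff] at hsmem
  have hsG : orderOf (s : G) = p := by rw [Subgroup.orderOf_coe, hs]
  have hsp : (s : G) ^ p = 1 := by
    have h1 := pow_orderOf_eq_one (s : G)
    rwa [hsG] at h1
  have hsP := y1_mem_P h (s : G) hsmem.1 hsp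
  have hs1 : (s : G) ≠ 1 := by
    intro h1
    rw [h1, orderOf_one] at hsG
    exact hp.one_lt.ne hsG
  have hPs := y1_P_eq_zpowers h.hP (s : G) hsP hs1
  apply hg
  rw [Subgroup.mem_centralizer_iff]
  intro z hz
  have hz' : z ∈ Subgroup.zpowers (s : G) := by
    have : z ∈ (P : Subgroup G) := hz
    exact hPs ▸ this
  obtain ⟨i, rfl⟩ := Subgroup.mem_zpowers_iff.mp hz'
  have hcomm : Commute (s : G) g := (hsmem.2 g (Set.mem_singleton g)).symm
  exact (hcomm.zpow_left i).eq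

/-- Sums over `C_G(P) = P × K`. -/
theorem y1_sum_C (h : Y1Ctx p P K x) {M : Type*} [AddCommMonoid M] (Φ : G → M) :
    ∑ c : Subgroup.centralizer ((P : Subgroup G) : Set G), Φ (c : G)
      = ∑ y : (P : Subgroup G), ∑ k : K, Φ ((y : G) * (k : G)) := by
  rw [← Fintype.sum_prod_type']
  symm
  refine Fintype.sum_bijective
    (fun yk : ↥(P : Subgroup G) × ↥K =>
      (⟨(yk.1 : G) * (yk.2 : G), mul_mem (y1_P_le h yk.1.2) (y1_K_le h yk.2.2)⟩ :
        Subgroup.centralizer ((P : Subgroup G) : Set G))) ?_ _ _ (fun _ => rfl)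
  constructor
  · rintro ⟨y, k⟩ ⟨y', k'⟩ hyk
    have h1 : (y : G) * (k : G) = (y' : G) * (k' : G) := congrArg Subtype.val hyk
    have h2 : (y' : G)⁻¹ * (y : G) = (k' : G) * (k : G)⁻¹ := by
      calc (y' : G)⁻¹ * (y : G) = (y' : G)⁻¹ * ((y : G) * (k : G)) * (k : G)⁻¹ := by group
        _ = (y' : G)⁻¹ * ((y' : G) * (k' : G)) * (k : G)⁻¹ := by rw [h1]
        _ = (k' : G) * (k : G)⁻¹ := by group
    have h3 : (y' : G)⁻¹ * (y : G) = 1 := by
      refine y1_eq_one h _ (y1_pow_P h _ (mul_mem (inv_mem y'.2) y.2)) ?_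
      rw [h2]
      exact mul_mem k'.2 (inv_mem k.2)
    have hy : (y : G) = (y' : G) := by
      calc (y : G) = (y' : G) * ((y' : G)⁻¹ * (y : G)) := by group
        _ = (y' : G) := by rw [h3, mul_one]
    have hk : (k : G) = (k' : G) := by
      rw [hy] at h1
      exact mul_left_cancel h1
    exact Prod.ext (Subtype.ext hy) (Subtype.ext hk)
  · rintro ⟨c, hc⟩
    obtain ⟨y, hy, k, hk, rfl⟩ := h.hPK c hc
    exact ⟨(⟨y, hy⟩, ⟨k, hk⟩), rfl⟩

variable {L : Type*} [AddCommGroup L]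

theorem y1_d1Tr_apply (ρ : Representation ℤ G L) (Q : Subgroup G) (u : L) :
    d1Tr ρ Q u = ∑ y : Q, ρ (y : G) u := by
  unfold d1Tr
  rw [LinearMap.sum_apply]
  rw [← Finset.sum_subtype (Finset.univ.filter (fun y : G => y ∈ Q)) (by simp)
    (fun y => ρ y u), Finset.sum_filter]
  refine Finset.sum_congr rfl ?_
  intro y _
  rw [Set.indicator_apply]
  by_cases hy : y ∈ Q
  · rw [if_pos hy, if_pos (show y ∈ (Q : Set G) from hy)]
  · rw [if_neg hy, if_neg (show ¬ y ∈ (Q : Set G) from hy)]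
    rfl

/-- The `K`-trace lands in the `K`-fixed points. -/
theorem y1_trK_mem (h : Y1Ctx p P K x) (ρ : Representation ℤ G L) (z : L) :
    ∑ k : K, ρ (k : G) z ∈ d1FixK p ρ (P : Subgroup G) := by
  intro c hc hreg
  have hcK : c ∈ K := (h.hK c).mpr ⟨hc, hreg⟩
  rw [map_sum]
  refine Fintype.sum_equiv (Equiv.mulLeft (⟨c, hcK⟩ : K)) _ _ ?_
  intro k
  change ρ c (ρ (k : G) z) = ρ (c * (k : G)) z
  rw [map_mul]
  rfl

theorem y1_bezout (T : AddSubgroup L) (w : L) (n m : ℕ) (hnm : Nat.Coprime n m)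
    (hn : n • w ∈ T) (hm : m • w ∈ T) : w ∈ T := by
  obtain ⟨a, b, hab⟩ := Nat.isCoprime_iff_coprime.mpr hnm
  have hw : w = a • (n • w) + b • (m • w) := by
    rw [← natCast_zsmul w n, ← natCast_zsmul w m, ← mul_smul, ← mul_smul, ← add_smul, hab,
      one_smul]
  rw [hw]
  exact T.add_mem (T.zsmul_mem hn a) (T.zsmul_mem hm b)

/-- An orbit sum of a `C`-fixed vector lies in `Tr_P(L^K)`. -/
theorem y1_orbit_fixC (h : Y1Ctx p P K x) (ρ : Representation ℤ G L) (v : L)
    (hv : v ∈ d1FixC ρ (P : Subgroup G)) (g : G)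
    (hg : g ∉ Subgroup.centralizer ((P : Subgroup G) : Set G)) :
    ∑ h' ∈ y1Orb (Subgroup.centralizer ((P : Subgroup G) : Set G)) g, ρ h' v
      ∈ ((d1FixK p ρ (P : Subgroup G)).map (d1Tr ρ (P : Subgroup G))).toAddSubgroup := by
  set C := Subgroup.centralizer ((P : Subgroup G) : Set G) with hC
  set w := ∑ h' ∈ y1Orb C g, ρ h' v with hw
  have hvC : ∀ c ∈ C, ρ c v = v := hv
  -- `n • w` is a trace
  have hn := y1_orbit_sum C (fun h' => ρ h' v) g
  have h1 : ∑ c : C, ρ ((c : G) * g * (c : G)⁻¹) v = ∑ c : C, ρ (c : G) (ρ g v) := by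
    refine Finset.sum_congr rfl ?_
    intro c _
    rw [map_mul, map_mul]
    change ρ (c : G) (ρ g (ρ (c : G)⁻¹ v)) = _
    rw [hvC _ (C.inv_mem c.2)]
  have h2 : ∑ c : C, ρ (c : G) (ρ g v)
      = ∑ y : (P : Subgroup G), ρ (y : G) (∑ k : K, ρ (k : G) (ρ g v)) := by
    rw [y1_sum_C h (fun c => ρ c (ρ g v))]
    refine Finset.sum_congr rfl ?_
    intro y _
    rw [map_sum]
    refine Finset.sum_congr rfl ?_
    intro k _
    rw [map_mul]
    rfl
  have hnw : Nat.card ↥(C ⊓ Subgroup.centralizer ({g} : Set G)) • w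
      ∈ ((d1FixK p ρ (P : Subgroup G)).map (d1Tr ρ (P : Subgroup G))).toAddSubgroup := by
    rw [← hn, h1, h2, ← y1_d1Tr_apply]
    exact Submodule.mem_map_of_mem (y1_trK_mem h ρ (ρ g v))
  -- `w` is `C`-fixed
  have hwC : ∀ c ∈ C, ρ c w = w := by
    intro c hc
    rw [hw, map_sum]
    rw [← y1_orbit_reindex C g c hc (fun h' => ρ h' v)]
    refine Finset.sum_congr rfl ?_
    intro h' _
    have : c * h' * c⁻¹ * c = c * h' := by group
    calc ρ c (ρ h' v) = ρ (c * h') v := by rw [map_mul]; rfl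
      _ = ρ (c * h' * c⁻¹ * c) v := by rw [this]
      _ = ρ (c * h' * c⁻¹) (ρ c v) := by rw [map_mul]; rfl
      _ = ρ (c * h' * c⁻¹) v := by rw [hvC c hc]
  have hpw : p • w
      ∈ ((d1FixK p ρ (P : Subgroup G)).map (d1Tr ρ (P : Subgroup G))).toAddSubgroup := by
    have hwK : w ∈ d1FixK p ρ (P : Subgroup G) := fun c hc _ => hwC c hc
    have : d1Tr ρ (P : Subgroup G) w = p • w := by
      rw [y1_d1Tr_apply]
      rw [Finset.sum_congr rfl (fun (y : ↥(P : Subgroup G)) _ => hwC (y : G) (y1_P_le h y.2)),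
        Finset.sum_const,
        Finset.card_univ, ← Nat.card_eq_fintype_card]
      congr 1
      exact h.hP
    rw [← this]
    exact Submodule.mem_map_of_mem hwK
  exact y1_bezout _ w _ _ (y1_coprime h g hg) hnw hpw

/-- An orbit sum of a `K`-fixed vector of trace zero lies in the augmentation submodule. -/
theorem y1_orbit_kerTr (h : Y1Ctx p P K x) (ρ : Representation ℤ G L) (v : L)
    (hv : v ∈ d1FixK p ρ (P : Subgroup G)) (h0 : d1Tr ρ (P : Subgroup G) v = 0) (g : G)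
    (hg : g ∉ Subgroup.centralizer ((P : Subgroup G) : Set G)) :
    ∑ h' ∈ y1Orb (Subgroup.centralizer ((P : Subgroup G) : Set G)) g, ρ h' v
      ∈ (d1Aug p ρ (P : Subgroup G)).toAddSubgroup := by
  set C := Subgroup.centralizer ((P : Subgroup G) : Set G) with hC
  set w := ∑ h' ∈ y1Orb C g, ρ h' v with hw
  have hvK : ∀ k ∈ K, ρ k v = v := fun k hk => hv k ((h.hK k).mp hk).1 ((h.hK k).mp hk).2
  have h0' : ∑ y : (P : Subgroup G), ρ (y : G) v = 0 := by rw [← y1_d1Tr_apply]; exact h0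
  have hgen : ∀ (y : G) (u : L), y ∈ (P : Subgroup G) → u ∈ d1FixK p ρ (P : Subgroup G) →
      ρ y u - u ∈ d1Aug p ρ (P : Subgroup G) :=
    fun y u hy hu => Submodule.subset_span ⟨y, hy, u, hu, rfl⟩
  -- `n • w`
  have hn := y1_orbit_sum C (fun h' => ρ h' v) g
  have h1 : ∑ c : C, ρ ((c : G) * g * (c : G)⁻¹) v
      = ∑ y : (P : Subgroup G), ρ (y : G) (∑ k : K, ρ (k : G) (ρ g (ρ (y : G)⁻¹ v))) := by
    rw [y1_sum_C h (fun c => ρ (c * g * c⁻¹) v)]
    refine Finset.sum_congr rfl ?_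
    intro y _
    rw [map_sum]
    refine Finset.sum_congr rfl ?_
    intro k _
    have hcomm : (k : G)⁻¹ * (y : G)⁻¹ = (y : G)⁻¹ * (k : G)⁻¹ := by
      have := (Subgroup.mem_centralizer_iff.mp (y1_K_le h k.2)) (y : G) y.2
      rw [← mul_inv_rev, ← mul_inv_rev, this]
    have h3 : ρ ((k : G)⁻¹ * (y : G)⁻¹) v = ρ (y : G)⁻¹ v := by
      rw [hcomm, map_mul]
      change ρ (y : G)⁻¹ (ρ (k : G)⁻¹ v) = _
      rw [hvK _ (K.inv_mem k.2)]
    have h4 : (y : G) * (k : G) * g * ((y : G) * (k : G))⁻¹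
        = (y : G) * ((k : G) * (g * ((k : G)⁻¹ * (y : G)⁻¹))) := by group
    rw [h4, map_mul, map_mul, map_mul]
    change ρ (y : G) (ρ (k : G) (ρ g (ρ ((k : G)⁻¹ * (y : G)⁻¹) v))) = _
    rw [h3]
  have hsum0 : ∑ y : (P : Subgroup G), ∑ k : K, ρ (k : G) (ρ g (ρ (y : G)⁻¹ v)) = 0 := by
    rw [Finset.sum_comm]
    have h5 : ∑ y : (P : Subgroup G), ρ (y : G)⁻¹ v = 0 := by
      rw [← h0']
      refine Fintype.sum_equiv (Equiv.inv (P : Subgroup G)) _ _ ?_
      intro y
      rfl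
    refine Finset.sum_eq_zero ?_
    intro k _
    rw [← map_sum, ← map_sum, h5, map_zero, map_zero]
  have hnw : Nat.card ↥(C ⊓ Subgroup.centralizer ({g} : Set G)) • w
      ∈ (d1Aug p ρ (P : Subgroup G)).toAddSubgroup := by
    rw [← hn, h1]
    have h6 : ∑ y : (P : Subgroup G), ρ (y : G) (∑ k : K, ρ (k : G) (ρ g (ρ (y : G)⁻¹ v)))
        = ∑ y : (P : Subgroup G), (ρ (y : G) (∑ k : K, ρ (k : G) (ρ g (ρ (y : G)⁻¹ v)))
            - ∑ k : K, ρ (k : G) (ρ g (ρ (y : G)⁻¹ v))) := by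
      rw [Finset.sum_sub_distrib, hsum0, sub_zero]
    rw [h6]
    exact Submodule.sum_mem _ (fun y _ => hgen (y : G) _ y.2 (y1_trK_mem h ρ _))
  -- `w` is `K`-fixed of trace zero
  have hwK : w ∈ d1FixK p ρ (P : Subgroup G) := by
    intro c hc hreg
    rw [hw, map_sum]
    rw [← y1_orbit_reindex C g c hc (fun h' => ρ h' v)]
    refine Finset.sum_congr rfl ?_
    intro h' _
    have : c * h' * c⁻¹ * c = c * h' := by group
    calc ρ c (ρ h' v) = ρ (c * h') v := by rw [map_mul]; rfl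
      _ = ρ (c * h' * c⁻¹ * c) v := by rw [this]
      _ = ρ (c * h' * c⁻¹) (ρ c v) := by rw [map_mul]; rfl
      _ = ρ (c * h' * c⁻¹) v := by rw [hv c hc hreg]
  have hw0 : ∑ y : (P : Subgroup G), ρ (y : G) w = 0 := by
    have h7 : ∀ y : (P : Subgroup G), ρ (y : G) w = ∑ h' ∈ y1Orb C g, ρ h' (ρ (y : G) v) := by
      intro y
      rw [hw, map_sum]
      rw [← y1_orbit_reindex C g (y : G) (y1_P_le h y.2) (fun h' => ρ h' (ρ (y : G) v))]
      refine Finset.sum_congr rfl ?_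
      intro h' _
      have : (y : G) * h' * (y : G)⁻¹ * (y : G) = (y : G) * h' := by group
      calc ρ (y : G) (ρ h' v) = ρ ((y : G) * h') v := by rw [map_mul]; rfl
        _ = ρ ((y : G) * h' * (y : G)⁻¹ * (y : G)) v := by rw [this]
        _ = ρ ((y : G) * h' * (y : G)⁻¹) (ρ (y : G) v) := by rw [map_mul]; rfl
    rw [Finset.sum_congr rfl (fun (y : ↥(P : Subgroup G)) _ => h7 y), Finset.sum_comm]
    refine Finset.sum_eq_zero ?_
    intro h' _
    rw [← map_sum, h0', map_zero]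
  have hpw : p • w ∈ (d1Aug p ρ (P : Subgroup G)).toAddSubgroup := by
    have h8 : p • w = -∑ y : (P : Subgroup G), (ρ (y : G) w - w) := by
      rw [Finset.sum_sub_distrib, hw0, zero_sub, neg_neg, Finset.sum_const, Finset.card_univ,
        ← Nat.card_eq_fintype_card]
      congr 1
      exact h.hP.symm
    rw [h8]
    exact Submodule.neg_mem _ (Submodule.sum_mem _ (fun y _ => hgen (y : G) w y.2 hwK))
  exact y1_bezout _ w _ _ (y1_coprime h g hg) hnw hpw

/-- Common assembly: split the class of `x` into its part in `P` and its part outside `C_G(P)`. -/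
theorem y1_final (h : Y1Ctx p P K x) (ρ : Representation ℤ G L) (v : L) (T : AddSubgroup L)
    (hconjP : ∀ g : G, IsConj x g → g ∈ Subgroup.centralizer ((P : Subgroup G) : Set G) →
      g ∈ (P : Subgroup G))
    (hPv : ∀ y ∈ (P : Subgroup G), ρ y v - v ∈ T)
    (horb : ∀ g : G, g ∉ Subgroup.centralizer ((P : Subgroup G) : Set G) →
      ∑ h' ∈ y1Orb (Subgroup.centralizer ((P : Subgroup G) : Set G)) g, ρ h' v ∈ T) :
    (∑ g : G, Set.indicator {g : G | IsConj x g} (fun g => ρ g v) g)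
        - (Nat.card {g : G // IsConj x g ∧ g ∈ (P : Subgroup G)} : ℤ) • v ∈ T := by
  set C := Subgroup.centralizer ((P : Subgroup G) : Set G) with hC
  set A : Finset G := Finset.univ.filter (fun g => IsConj x g ∧ g ∈ (P : Subgroup G)) with hA
  set B : Finset G := Finset.univ.filter (fun g => IsConj x g ∧ g ∉ C) with hB
  have hsum : ∑ g : G, Set.indicator {g : G | IsConj x g} (fun g => ρ g v) g
      = ∑ g ∈ A, ρ g v + ∑ g ∈ B, ρ g v := by
    have h1 : ∑ g : G, Set.indicator {g : G | IsConj x g} (fun g => ρ g v) g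
        = ∑ g ∈ Finset.univ.filter (fun g => IsConj x g), ρ g v := by
      rw [Finset.sum_filter]
      refine Finset.sum_congr rfl ?_
      intro g _
      rw [Set.indicator_apply]
      rfl
    rw [h1, ← Finset.sum_filter_add_sum_filter_not (Finset.univ.filter (fun g => IsConj x g))
      (fun g => g ∈ C), Finset.filter_filter, Finset.filter_filter]
    congr 1
    refine Finset.sum_congr ?_ (fun _ _ => rfl)
    ext g
    rw [hA, Finset.mem_filter, Finset.mem_filter]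
    constructor
    · rintro ⟨-, hg1, hg2⟩
      exact ⟨Finset.mem_univ _, hg1, hconjP g hg1 hg2⟩
    · rintro ⟨-, hg1, hg2⟩
      exact ⟨Finset.mem_univ _, hg1, y1_P_le h hg2⟩
  have hcard : Nat.card {g : G // IsConj x g ∧ g ∈ (P : Subgroup G)} = A.card := by
    rw [Nat.card_eq_fintype_card, Fintype.card_subtype]
  have hA' : ∑ g ∈ A, ρ g v - (A.card : ℤ) • v = ∑ g ∈ A, (ρ g v - v) := by
    rw [Finset.sum_sub_distrib, Finset.sum_const, natCast_zsmul]
  rw [hsum, hcard, add_sub_right_comm, hA']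
  refine T.add_mem (T.sum_mem ?_) ?_
  · intro g hg
    rw [hA, Finset.mem_filter] at hg
    exact hPv g hg.2.2
  · refine y1_sum_mem_of_orbits C T (fun g => ρ g v) B ?_ B.card B rfl (Finset.Subset.refl _) ?_
    · intro g hg
      rw [hB, Finset.mem_filter] at hg
      exact horb g hg.2.2
    · intro g hg c hc
      rw [hB, Finset.mem_filter] at hg ⊢
      refine ⟨Finset.mem_univ _, hg.2.1.trans (isConj_iff.mpr ⟨c, rfl⟩), ?_⟩
      intro hcg
      apply hg.2.2
      have : g = c⁻¹ * (c * g * c⁻¹) * c := by group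
      rw [this]
      exact C.mul_mem (C.mul_mem (C.inv_mem hc) hcg) hc

end d1

section main

variable {G : Type*} [Group G] [Fintype G]

/-- PIECE Y1, first half. -/
theorem d1_classSum_fixC (p : ℕ) [Fact p.Prime] (P : Sylow p G) (hP : Nat.card P = p)
    {L : Type*} [AddCommGroup L] (ρ : Representation ℤ G L)
    (x : G) (hx : x ∈ (P : Subgroup G)) (hx1 : x ≠ 1) (v : L)
    (hv : v ∈ d1FixC ρ (P : Subgroup G)) :
    (∑ g : G, Set.indicator {g : G | IsConj x g} (fun g => ρ g v) g)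
        - (Nat.card {g : G // IsConj x g ∧ g ∈ (P : Subgroup G)} : ℤ) • v
      ∈ (d1FixK p ρ (P : Subgroup G)).map (d1Tr ρ (P : Subgroup G)) := by
  obtain ⟨K, hK, hPK, -⟩ := Cfsg.Agent.Lib.helper46.d1_exists_K p P hP
  have h : Y1Ctx p P K x := ⟨hP, hK, hPK, hx, hx1⟩
  refine y1_final h ρ v
    ((d1FixK p ρ (P : Subgroup G)).map (d1Tr ρ (P : Subgroup G))).toAddSubgroup
    (fun g hg hgc => Cfsg.Agent.Lib.helper46.d1_conj_mem_P p P hP x hx g hg hgc) ?_
    (fun g hg => y1_orbit_fixC h ρ v hv g hg)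
  intro y hy
  have : ρ y v = v := hv y (y1_P_le h hy)
  rw [this, sub_self]
  exact AddSubgroup.zero_mem _

/-- PIECE Y1, second half. -/
theorem d1_classSum_kerTr (p : ℕ) [Fact p.Prime] (P : Sylow p G) (hP : Nat.card P = p)
    {L : Type*} [AddCommGroup L] (ρ : Representation ℤ G L)
    (x : G) (hx : x ∈ (P : Subgroup G)) (hx1 : x ≠ 1) (v : L)
    (hv : v ∈ d1FixK p ρ (P : Subgroup G)) (h0 : d1Tr ρ (P : Subgroup G) v = 0) :
    (∑ g : G, Set.indicator {g : G | IsConj x g} (fun g => ρ g v) g)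
        - (Nat.card {g : G // IsConj x g ∧ g ∈ (P : Subgroup G)} : ℤ) • v
      ∈ d1Aug p ρ (P : Subgroup G) := by
  obtain ⟨K, hK, hPK, -⟩ := Cfsg.Agent.Lib.helper46.d1_exists_K p P hP
  have h : Y1Ctx p P K x := ⟨hP, hK, hPK, hx, hx1⟩
  refine y1_final h ρ v (d1Aug p ρ (P : Subgroup G)).toAddSubgroup
    (fun g hg hgc => Cfsg.Agent.Lib.helper46.d1_conj_mem_P p P hP x hx g hg hgc) ?_
    (fun g hg => y1_orbit_kerTr h ρ v hv h0 g hg)
  intro y hy
  exact Submodule.subset_span ⟨y, hy, v, hv, rfl⟩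

end main

end Cfsg.Agent.Lib.helper4
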