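import Mathlib

set_option autoImplicit false

/-!
# Focal subgroup and normal complements modulo the derived subgroup (helper4 library)
-/

namespace Cfsg.Agent.Lib.helper4

open scoped commutatorElement

/-- `P/P'` has a normal complement in `G` exactly when `G' ∩ P = P'`. -/
theorem exists_normal_compl_mod_commutator_iff {G : Type*} [Group G] [Finite G] {p : ℕ}
    [Fact p.Prime] (P : Sylow p G) :
    (∃ N : Subgroup G, N.Normal ∧ N ⊓ (P : Subgroup G) = ⁅(P : Subgroup G), (P : Subgroup G)⁆ ∧
      N ⊔ (P : Subgroup G) = ⊤) ↔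
    commutator G ⊓ (P : Subgroup G) = ⁅(P : Subgroup G), (P : Subgroup G)⁆ := by
  classical
  have hp : p.Prime := Fact.out
  constructor
  · rintro ⟨N, hN, hNP, hsup⟩
    apply le_antisymm
    · rw [← hNP]
      apply inf_le_inf_right
      rw [commutator_def, Subgroup.commutator_le]
      intro g _ h _
      have hg : g ∈ N ⊔ (P : Subgroup G) := hsup ▸ Subgroup.mem_top g
      have hh : h ∈ N ⊔ (P : Subgroup G) := hsup ▸ Subgroup.mem_top h
      rw [Subgroup.mem_sup_of_normal_left] at hg hh
      obtain ⟨n1, hn1, p1, hp1, rfl⟩ := hg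
      obtain ⟨n2, hn2, p2, hp2, rfl⟩ := hh
      have hcomm : ⁅p1, p2⁆ ∈ N := by
        have : ⁅p1, p2⁆ ∈ ⁅(P : Subgroup G), (P : Subgroup G)⁆ :=
          Subgroup.commutator_mem_commutator hp1 hp2
        rw [← hNP] at this
        exact this.1
      rw [← QuotientGroup.eq_one_iff] at hcomm ⊢
      have e1 : ((n1 : G) : G ⧸ N) = 1 := (QuotientGroup.eq_one_iff _).mpr hn1
      have e2 : ((n2 : G) : G ⧸ N) = 1 := (QuotientGroup.eq_one_iff _).mpr hn2
      rw [commutatorElement_def] at hcomm ⊢
      simp only [QuotientGroup.mk_mul, QuotientGroup.mk_inv, e1, e2, one_mul] at hcomm ⊢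
      exact hcomm
    · apply le_inf
      · rw [commutator_def]
        exact Subgroup.commutator_mono le_top le_top
      · rw [Subgroup.commutator_le]
        intro a ha b hb
        exact (P : Subgroup G).mul_mem ((P : Subgroup G).mul_mem ((P : Subgroup G).mul_mem ha hb)
          ((P : Subgroup G).inv_mem ha)) ((P : Subgroup G).inv_mem hb)
  · intro h
    have hcard0 : Nat.card G ≠ 0 := Nat.card_pos.ne'
    obtain ⟨k, hk⟩ : ∃ k, Nat.card P = p ^ k := ⟨_, P.card_eq_multiplicity⟩
    obtain ⟨m, hm⟩ : ∃ m, Nat.card G = p ^ k * m := by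
      have := (P : Subgroup G).card_subgroup_dvd_card
      rw [show Nat.card (P : Subgroup G) = p ^ k from hk] at this
      exact this
    have hcop : Nat.Coprime (p ^ k) m := by
      have h1 := Nat.coprime_ordCompl hp hcard0
      have h2 : Nat.card G / p ^ (Nat.card G).factorization p = m := by
        have : p ^ (Nat.card G).factorization p = p ^ k := by
          rw [← hk]; exact P.card_eq_multiplicity.symm
        rw [this, hm, Nat.mul_div_cancel_left _ (pow_pos hp.pos k)]
      rw [h2] at h1
      exact Nat.Coprime.pow_left k h1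
    obtain ⟨a, b, hab⟩ : ∃ a b : ℤ, (p ^ k : ℕ) * a + (m : ℕ) * b = 1 := by
      have := Int.gcd_eq_gcd_ab (p ^ k : ℕ) (m : ℕ)
      rw [Int.gcd_natCast_natCast, hcop.gcd_eq_one] at this
      exact ⟨_, _, by exact_mod_cast this.symm⟩
    have hdecomp : ∀ g : G, g = (g ^ (p ^ k)) ^ a * (g ^ m) ^ b := by
      intro g
      rw [← zpow_natCast g (p ^ k), ← zpow_natCast g m, ← zpow_mul, ← zpow_mul, ← zpow_add, hab,
        zpow_one]
    let N : Subgroup G :=
      ((powMonoidHom m : Abelianization G →* Abelianization G).comp Abelianization.of).ker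
    have hNmem : ∀ g : G, g ∈ N ↔ g ^ m ∈ commutator G := by
      intro g
      rw [← Abelianization.ker_of, MonoidHom.mem_ker, MonoidHom.mem_ker, MonoidHom.comp_apply,
        powMonoidHom_apply, map_pow]
    have hcN : commutator G ≤ N := fun g hg => (hNmem g).mpr (pow_mem hg m)
    have hPpow : ∀ g ∈ (P : Subgroup G), g ^ (p ^ k) = 1 := by
      intro g hg
      have := pow_card_eq_one' (G := (P : Subgroup G)) (x := ⟨g, hg⟩)
      rw [show Nat.card (P : Subgroup G) = p ^ k from hk] at this
      exact congrArg Subtype.val this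
    refine ⟨N, inferInstance, ?_, ?_⟩
    · apply le_antisymm
      · rw [← h]
        rintro g ⟨hgN, hgP⟩
        refine ⟨?_, hgP⟩
        rw [hdecomp g, hPpow g hgP, one_zpow, one_mul]
        exact zpow_mem ((hNmem g).mp hgN) b
      · rw [← h]
        exact inf_le_inf_right _ hcN
    · rw [eq_top_iff]
      intro g _
      rw [hdecomp g]
      apply mul_mem
      · apply Subgroup.mem_sup_left
        apply zpow_mem
        rw [hNmem, ← pow_mul, ← hm, pow_card_eq_one']
        exact one_mem _
      · apply zpow_mem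
        have hpg : IsPGroup p (Subgroup.zpowers (g ^ m)) := by
          rw [IsPGroup.iff_card, Nat.card_zpowers]
          have hdvd : orderOf (g ^ m) ∣ p ^ k := by
            apply orderOf_dvd_of_pow_eq_one
            rw [← pow_mul, mul_comm, ← hm, pow_card_eq_one']
          obtain ⟨j, -, hj⟩ := (Nat.dvd_prime_pow hp).mp hdvd
          exact ⟨j, hj⟩
        obtain ⟨Q, hQ⟩ := hpg.exists_le_sylow
        obtain ⟨x, hx⟩ := MulAction.exists_smul_eq G P Q
        have hmem : g ^ m ∈ (Q : Subgroup G) := hQ (Subgroup.mem_zpowers _)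
        rw [← hx, Sylow.coe_subgroup_smul, Subgroup.mem_smul_pointwise_iff_exists] at hmem
        obtain ⟨y, hy, hy'⟩ := hmem
        have hy2 : g ^ m = ⁅x, y⁆ * y := by
          rw [← hy', commutatorElement_def]
          simp [MulAut.conj_apply]
        rw [hy2]
        apply mul_mem
        · apply Subgroup.mem_sup_left
          apply hcN
          exact Subgroup.commutator_mem_commutator (Subgroup.mem_top x) (Subgroup.mem_top y)
        · exact Subgroup.mem_sup_right hy

end Cfsg.Agent.Lib.helper4
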