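import Cfsg.Agent.Lib.helper4.PiPart
import Cfsg.Agent.Lib.helper4.Regular

/-!
# Normal complements of Hall subgroups via Brauer's characterization (helper4 library)

Isaacs, Character Theory, Theorem 8.22: a Hall subgroup `H` which controls its own fusion and
into which every elementary subgroup of order dividing `|H|` can be conjugated has a normal
complement.
-/

set_option autoImplicit false

namespace Cfsg.Agent.Lib.helper4

open scoped ComplexConjugate

universe u

theorem index_centralizer_eq_of_isConj {G : Type u} [Group G] {g h : G} (hgh : IsConj g h) :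
    (Subgroup.centralizer ({g} : Set G)).index = (Subgroup.centralizer ({h} : Set G)).index := by
  rw [← card_isConj_eq_index, ← card_isConj_eq_index]
  apply Nat.card_congr
  exact Equiv.subtypeEquivRight (fun x => ⟨fun hx => hx.trans hgh, fun hx => hx.trans hgh.symm⟩)

theorem isIntegral_of_isGeneralizedCharacter {G : Type u} [Group G] [Finite G] {θ : G → ℂ}
    (hθ : Cfsg.IsGeneralizedCharacter G θ) (g : G) : IsIntegral ℤ (θ g) := by
  obtain ⟨χ, ψ, hχ, hψ, rfl⟩ := hθ
  exact (isIntegral_of_isCharacter hχ g).sub (isIntegral_of_isCharacter hψ g)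

/-- Summing a class function of `H` along a map `f : X → H`: a weighted sum over `H`. -/
theorem sum_comp_eq_sum_weight {X : Type*} [Fintype X] {H : Type u} [Group H] [Fintype H]
    (f : X → H) [∀ h : H, DecidablePred fun x : X => IsConj (f x) h]
    {F : H → ℂ} (hF : Cfsg.IsClassFunction H F) :
    ∑ x : X, F (f x) = ∑ h : H, F h *
      (((Finset.univ.filter (fun x : X => IsConj (f x) h)).card : ℂ) /
        ((Subgroup.centralizer ({h} : Set H)).index : ℂ)) := by
  classical
  have hidx : ∀ h : H, ((Subgroup.centralizer ({h} : Set H)).index : ℂ) ≠ 0 := by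
    intro h
    exact_mod_cast Subgroup.index_ne_zero_of_finite
  have h1 : ∀ h : H, F h * (((Finset.univ.filter (fun x : X => IsConj (f x) h)).card : ℂ) /
        ((Subgroup.centralizer ({h} : Set H)).index : ℂ)) =
      ∑ x : X, if IsConj (f x) h then F h / ((Subgroup.centralizer ({h} : Set H)).index : ℂ)
        else 0 := by
    intro h
    rw [← Finset.sum_filter, Finset.sum_const, nsmul_eq_mul]
    ring
  rw [Finset.sum_congr rfl (fun h _ => h1 h), Finset.sum_comm]
  apply Finset.sum_congr rfl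
  intro x _
  have h2 : ∑ h : H, (if IsConj (f x) h then
      F h / ((Subgroup.centralizer ({h} : Set H)).index : ℂ) else 0) =
      ∑ h : H, if IsConj h (f x) then
        F (f x) / ((Subgroup.centralizer ({f x} : Set H)).index : ℂ) else 0 := by
    apply Finset.sum_congr rfl
    intro h _
    by_cases hc : IsConj (f x) h
    · rw [if_pos hc, if_pos hc.symm, index_centralizer_eq_of_isConj hc.symm,
        IsClassFunction_eq_of_isConj hF hc.symm]
    · rw [if_neg hc, if_neg (fun h' => hc h'.symm)]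
  rw [h2, sum_ite_isConj, mul_div_cancel₀ _ (hidx (f x))]

/-- Isaacs 8.22. -/
theorem exists_normal_compl_of_hall_of_elementary {G : Type u} [Group G] [Finite G]
    (H : Subgroup G) (hHall : Nat.Coprime (Nat.card H) H.index)
    (hfus : ∀ x ∈ H, ∀ y ∈ H, IsConj x y → ∃ h ∈ H, h * x * h⁻¹ = y)
    (helem : ∀ (E : Subgroup G) (p : ℕ), p.Prime → Cfsg.IsElementary p E →
      Nat.card E ∣ Nat.card H → ∃ g : G, E.map (MulAut.conj g).toMonoidHom ≤ H) :
    ∃ K : Subgroup G, K.Normal ∧ K ⊔ H = ⊤ ∧ K ⊓ H = ⊥ := by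
  classical
  have := Fintype.ofFinite G
  have := Fintype.ofFinite H
  have := Fintype.ofFinite (Cfsg.IrrCharacter H)
  obtain ⟨n, hn⟩ : ∃ n, n = Nat.card H := ⟨_, rfl⟩
  obtain ⟨m, hm⟩ : ∃ m, m = H.index := ⟨_, rfl⟩
  have hnm : Nat.card G = n * m := by rw [hn, hm, Subgroup.card_mul_index]
  have hcop : Nat.Coprime n m := by rw [hn, hm]; exact hHall
  have hn0 : n ≠ 0 := by rw [hn]; exact Nat.card_pos.ne'
  have hm0 : m ≠ 0 := by rw [hm]; exact Subgroup.index_ne_zero_of_finite
  have hnC : (n : ℂ) ≠ 0 := by exact_mod_cast hn0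
  have hmC : (m : ℂ) ≠ 0 := by exact_mod_cast hm0
  obtain ⟨e, he1, he0⟩ := exists_crt_exp hcop
  have hord : ∀ g : G, orderOf g ∣ n * m := fun g => hnm ▸ orderOf_dvd_natCard g
  have hHpow : ∀ h ∈ H, h ^ e = h := by
    intro h hh
    exact pow_crt_eq_self he1 (hn ▸ Subgroup.orderOf_dvd_natCard H hh)
  have hpown : ∀ g : G, (g ^ e) ^ n = 1 := fun g => pow_crt_pow_eq_one he0 (hord g)
  -- the map `f`
  have hex : ∀ g : G, ∃ h : H, IsConj (h : G) (g ^ e) := by
    intro g
    obtain ⟨p, hp, hel⟩ := exists_prime_isElementary_zpowers (g ^ e)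
    have hcard : Nat.card (Subgroup.zpowers (g ^ e)) ∣ Nat.card H := by
      rw [Nat.card_zpowers, ← hn]
      exact orderOf_dvd_of_pow_eq_one (hpown g)
    obtain ⟨x, hx⟩ := helem _ p hp hel hcard
    have hmem : x * g ^ e * x⁻¹ ∈ H :=
      hx (Subgroup.mem_map.mpr ⟨g ^ e, Subgroup.mem_zpowers _, rfl⟩)
    exact ⟨⟨_, hmem⟩, (isConj_iff.mpr ⟨x, rfl⟩).symm⟩
  choose f hf using hex
  have hF1 : ∀ (θ : H → ℂ), Cfsg.IsClassFunction H θ → ∀ (g : G) (h : H),
      IsConj (h : G) (g ^ e) → θ (f g) = θ h := by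
    intro θ hθ g h hc
    have h1 : IsConj (f g : G) (h : G) := (hf g).trans hc.symm
    obtain ⟨k, hk, hk2⟩ := hfus _ (f g).2 _ h.2 h1
    have h2 : h = ⟨k, hk⟩ * f g * ⟨k, hk⟩⁻¹ := Subtype.ext hk2.symm
    rw [h2, hθ]
  have hfone : ∀ g : G, f g = 1 ↔ g ^ e = 1 := by
    intro g
    constructor
    · intro h
      have h1 := hf g
      rw [h, Subgroup.coe_one, isConj_one_right] at h1
      exact h1
    · intro h
      have h1 := hf g
      rw [h, isConj_one_left] at h1
      exact Subtype.ext h1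
  have hf1 : f 1 = 1 := (hfone 1).mpr (one_pow e)
  have hfH : ∀ h : H, IsConj (f (h : G)) h := by
    intro h
    have h1 : IsConj ((f h : H) : G) ((h : G) ^ e) := hf h
    rw [hHpow _ h.2] at h1
    obtain ⟨k, hk, hk2⟩ := hfus _ (f h).2 _ h.2 h1
    exact isConj_iff.mpr ⟨⟨k, hk⟩, Subtype.ext hk2⟩
  -- class functions pull back to class functions
  have hT1 : ∀ (θ : H → ℂ), Cfsg.IsClassFunction H θ →
      Cfsg.IsClassFunction G (fun g => θ (f g)) := by
    intro θ hθ g x
    show θ (f (x * g * x⁻¹)) = θ (f g)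
    apply hF1 θ hθ
    rw [conj_pow]
    exact (hf g).trans (isConj_iff.mpr ⟨x, rfl⟩)
  -- characters pull back to generalized characters
  have hT2 : ∀ (θ : H → ℂ), Cfsg.IsCharacter H θ →
      Cfsg.IsGeneralizedCharacter G (fun g => θ (f g)) := by
    intro θ hθ
    have hθcf := isClassFunction_of_isCharacter hθ
    apply brauer_characterization _ (hT1 θ hθcf)
    intro E p hp hE
    have : Fact p.Prime := ⟨hp⟩
    have hcardE : Nat.card E ∣ n * m := hnm ▸ Subgroup.card_subgroup_dvd_card E
    obtain ⟨φ, hφ⟩ : ∃ φ : E →* E, ∀ y : E, φ y = y ^ e :=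
      ⟨{ toFun := fun y => y ^ e
         map_one' := one_pow e
         map_mul' := mul_pow_of_isElementary hp hE hcop hcardE he1 he0 }, fun _ => rfl⟩
    have hLel : Cfsg.IsElementary p (φ.range.map E.subtype) :=
      isElementary_map_subtype E φ.range (isElementary_subgroup hE φ.range)
    have hLcard : Nat.card (φ.range.map E.subtype) ∣ Nat.card H := by
      rw [Subgroup.card_map_of_injective (Subgroup.subtype_injective E), ← hn]
      apply card_dvd_of_forall_pow_eq_one ((Subgroup.card_subgroup_dvd_card _).trans hcardE) _ hcop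
      intro x
      obtain ⟨y, hy⟩ := x.2
      have h1 : ((x : E) : G) ^ n = 1 := by
        rw [← hy, hφ]
        exact hpown (y : G)
      apply Subtype.ext
      apply Subtype.ext
      exact h1
    obtain ⟨x, hx⟩ := helem _ p hp hLel hLcard
    have hmem : ∀ y : E, x * (y : G) ^ e * x⁻¹ ∈ H := by
      intro y
      apply hx
      refine Subgroup.mem_map.mpr ⟨(y : G) ^ e, Subgroup.mem_map.mpr ⟨φ y, ⟨y, rfl⟩, ?_⟩, rfl⟩
      rw [hφ]
      rfl
    obtain ⟨Φ, hΦ⟩ : ∃ Φ : E →* H, ∀ y : E, (Φ y : G) = x * (y : G) ^ e * x⁻¹ := by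
      refine ⟨{ toFun := fun y => ⟨x * (y : G) ^ e * x⁻¹, hmem y⟩
                map_one' := ?_
                map_mul' := ?_ }, fun _ => rfl⟩
      · apply Subtype.ext
        simp
      · intro y z
        apply Subtype.ext
        have h1 : ((y * z : E) : G) ^ e = (y : G) ^ e * (z : G) ^ e := by
          have h2 := congrArg (Subtype.val : E → G) (φ.map_mul y z)
          rw [hφ, hφ, hφ] at h2
          exact h2
        show x * ((y * z : E) : G) ^ e * x⁻¹ = x * (y : G) ^ e * x⁻¹ * (x * (z : G) ^ e * x⁻¹)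
        rw [h1]
        group
    have heq : (fun y : E => θ (f (y : G))) = fun y : E => θ (Φ y) := by
      funext y
      apply hF1 θ hθcf
      rw [hΦ]
      exact (isConj_iff.mpr ⟨x, rfl⟩).symm
    rw [heq]
    exact isGeneralizedCharacter_of_isCharacter (isCharacter_comp Φ hθ)
  -- the weight function
  have hidx0 : ∀ h : H, (Subgroup.centralizer ({h} : Set H)).index ≠ 0 :=
    fun h => Subgroup.index_ne_zero_of_finite
  obtain ⟨N, hN⟩ : ∃ N : H → ℕ, N = fun h =>
      (Finset.univ.filter (fun g : G => IsConj (f g) h)).card := ⟨_, rfl⟩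
  have hNconj : ∀ h h' : H, IsConj h h' → N h = N h' := by
    intro h h' hc
    rw [hN]
    show (Finset.univ.filter (fun g : G => IsConj (f g) h)).card =
      (Finset.univ.filter (fun g : G => IsConj (f g) h')).card
    congr 1
    apply Finset.filter_congr
    intro g _
    exact ⟨fun hx => hx.trans hc, fun hx => hx.trans hc.symm⟩
  have hNpos : ∀ h : H, 0 < N h := by
    intro h
    rw [hN]
    exact Finset.card_pos.mpr ⟨(h : G), Finset.mem_filter.mpr ⟨Finset.mem_univ _, hfH h⟩⟩
  obtain ⟨w, hw⟩ : ∃ w : H → ℂ, w = fun h => ((n * N h : ℕ) : ℂ) /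
      ((n * m * (Subgroup.centralizer ({h} : Set H)).index : ℕ) : ℂ) := ⟨_, rfl⟩
  have hW1 : ∀ F : H → ℂ, Cfsg.IsClassFunction H F →
      (Nat.card G : ℂ)⁻¹ * ∑ g : G, F (f g) = (Nat.card H : ℂ)⁻¹ * ∑ h : H, w h * F h := by
    intro F hF
    rw [sum_comp_eq_sum_weight f hF, Finset.mul_sum, Finset.mul_sum]
    apply Finset.sum_congr rfl
    intro h _
    have hi : ((Subgroup.centralizer ({h} : Set H)).index : ℂ) ≠ 0 := by
      exact_mod_cast hidx0 h
    have hNh : ((Finset.univ.filter (fun g : G => IsConj (f g) h)).card : ℂ) = (N h : ℂ) := by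
      rw [hN]
    rw [hNh, hw, hnm, ← hn]
    push_cast
    field_simp
  have hwcf : Cfsg.IsClassFunction H w := by
    intro h k
    have hc : IsConj h (k * h * k⁻¹) := isConj_iff.mpr ⟨k, rfl⟩
    rw [hw]
    show ((n * N (k * h * k⁻¹) : ℕ) : ℂ) /
      ((n * m * (Subgroup.centralizer ({k * h * k⁻¹} : Set H)).index : ℕ) : ℂ) =
      ((n * N h : ℕ) : ℂ) / ((n * m * (Subgroup.centralizer ({h} : Set H)).index : ℕ) : ℂ)
    rw [← hNconj h _ hc, ← index_centralizer_eq_of_isConj hc]
  have hwgen : Cfsg.IsGeneralizedCharacter H w := by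
    apply isGeneralizedCharacter_of_int_classInner hwcf
    intro ψ
    have hψcf := isClassFunction_of_isIrrCharacter ψ.2
    have h1 := hW1 (fun h => conj ((ψ : H → ℂ) h)) (by
      intro a b
      show conj ((ψ : H → ℂ) (b * a * b⁻¹)) = conj ((ψ : H → ℂ) a)
      rw [hψcf])
    obtain ⟨z, hz⟩ := exists_int_classInner
      (isGeneralizedCharacter_of_isCharacter (isCharacter_one (G := G)))
      (hT2 ψ.1 (isCharacter_of_isIrrCharacter ψ.2))
    refine ⟨z, ?_⟩
    rw [← hz]
    unfold Cfsg.classInner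
    rw [← h1]
    simp
  have hwint : ∀ h : H, ∃ t : ℕ, 1 ≤ t ∧ w h = t := by
    intro h
    have hint : IsIntegral ℤ (w h) := isIntegral_of_isGeneralizedCharacter hwgen h
    have hb : n * m * (Subgroup.centralizer ({h} : Set H)).index ≠ 0 :=
      Nat.mul_ne_zero (Nat.mul_ne_zero hn0 hm0) (hidx0 h)
    rw [hw] at hint
    obtain ⟨t, ht⟩ := Cfsg.Agent.Lib.helper81.dvd_of_isIntegral_div hb hint
    refine ⟨t, ?_, ?_⟩
    · by_contra h0
      have ht0 : t = 0 := by omega
      rw [ht0, mul_zero] at ht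
      exact (Nat.mul_ne_zero hn0 (hNpos h).ne') ht
    · rw [hw]
      show ((n * N h : ℕ) : ℂ) /
        ((n * m * (Subgroup.centralizer ({h} : Set H)).index : ℕ) : ℂ) = t
      rw [ht]
      have hbC : ((n * m * (Subgroup.centralizer ({h} : Set H)).index : ℕ) : ℂ) ≠ 0 := by
        exact_mod_cast hb
      rw [Nat.cast_mul, mul_div_cancel_left₀ _ hbC]
  have hcardG : (Nat.card G : ℂ) ≠ 0 := by
    rw [hnm]
    push_cast
    exact mul_ne_zero hnC hmC
  have hcardH : (Nat.card H : ℂ) ≠ 0 := by rw [← hn]; exact hnC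
  have hsumw : ∑ h : H, w h = (Nat.card H : ℂ) := by
    have h1 := hW1 (fun _ => 1) (fun _ _ => rfl)
    simp only [Finset.sum_const, Finset.card_univ, nsmul_eq_mul, mul_one] at h1
    rw [← Nat.card_eq_fintype_card, inv_mul_cancel₀ hcardG] at h1
    field_simp at h1
    exact h1.symm
  choose t ht1 htw using hwint
  have hsumt : ∑ h : H, t h = ∑ _h : H, 1 := by
    have h1 : ((∑ h : H, t h : ℕ) : ℂ) = ((∑ _h : H, 1 : ℕ) : ℂ) := by
      push_cast
      rw [← Finset.sum_congr rfl (fun h _ => htw h), hsumw]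
      simp [Nat.card_eq_fintype_card]
    exact_mod_cast h1
  have ht : ∀ h : H, t h = 1 := by
    intro h
    exact ((Finset.sum_eq_sum_iff_of_le (fun h _ => ht1 h)).mp hsumt.symm h
      (Finset.mem_univ h)).symm
  have hw1 : ∀ h : H, w h = 1 := by
    intro h
    rw [htw, ht, Nat.cast_one]
  have hW5 : ∀ F : H → ℂ, Cfsg.IsClassFunction H F →
      (Nat.card G : ℂ)⁻¹ * ∑ g : G, F (f g) = (Nat.card H : ℂ)⁻¹ * ∑ h : H, F h := by
    intro F hF
    rw [hW1 F hF]
    congr 1
    apply Finset.sum_congr rfl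
    intro h _
    rw [hw1, one_mul]
  have hiso : ∀ θ φ : H → ℂ, Cfsg.IsClassFunction H θ → Cfsg.IsClassFunction H φ →
      Cfsg.classInner (fun g => θ (f g)) (fun g => φ (f g)) = Cfsg.classInner θ φ := by
    intro θ φ hθ hφ
    unfold Cfsg.classInner
    exact hW5 (fun h => θ h * conj (φ h)) (by
      intro a b
      show θ (b * a * b⁻¹) * conj (φ (b * a * b⁻¹)) = θ a * conj (φ a)
      rw [hθ, hφ])
  have hirr : ∀ θ : H → ℂ, Cfsg.IsIrrCharacter H θ →
      Cfsg.IsIrrCharacter G (fun g => θ (f g)) := by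
    intro θ hθ
    have hcf := isClassFunction_of_isIrrCharacter hθ
    apply isIrrCharacter_of_generalized_of_norm_one_of_pos
      (hT2 θ (isCharacter_of_isIrrCharacter hθ))
    · rw [hiso θ θ hcf hcf, classInner_irr_self hθ]
    · show 0 < (θ (f 1)).re
      rw [hf1]
      obtain ⟨d, hd, hd1⟩ := exists_pos_nat_degree hθ
      rw [hd1, Complex.natCast_re]
      exact_mod_cast hd
  -- the kernel
  choose d hdpos hd using (fun θ : Cfsg.IrrCharacter H => exists_pos_nat_degree θ.2)
  obtain ⟨R, hR⟩ : ∃ R : G → ℂ,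
      R = ∑ θ : Cfsg.IrrCharacter H, d θ • (fun g => (θ : H → ℂ) (f g)) := ⟨_, rfl⟩
  have hRchar : Cfsg.IsCharacter G R := by
    rw [hR]
    exact isCharacter_sum _ _ (fun θ _ => isCharacter_nsmul (d θ)
      (isCharacter_of_isIrrCharacter (hirr θ.1 θ.2)))
  have hRval : ∀ g, R g = if f g = 1 then (Nat.card H : ℂ) else 0 := by
    intro g
    rw [hR, Finset.sum_apply, ← sum_irr_degree_mul (f g)]
    apply Finset.sum_congr rfl
    intro θ _
    rw [hd θ]
    simp
  obtain ⟨K, hKn, hK⟩ := exists_normal_ker_of_isCharacter hRchar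
  have hKmem : ∀ g, g ∈ K ↔ f g = 1 := by
    intro g
    rw [hK, hRval, hRval, if_pos hf1]
    constructor
    · intro h
      by_contra hne
      rw [if_neg hne] at h
      exact hcardH h.symm
    · intro h
      rw [if_pos h]
  have hdisj : K ⊓ H = ⊥ := by
    rw [eq_bot_iff]
    rintro g ⟨hgK, hgH⟩
    rw [Subgroup.mem_bot]
    have h1 := (hfone g).mp ((hKmem g).mp hgK)
    rwa [hHpow g hgH] at h1
  refine ⟨K, hKn, ?_, hdisj⟩
  have hcardK : Nat.card K * Nat.card H = Nat.card G := by
    have h1 := hW5 (fun h => if h = 1 then 1 else 0) (by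
      intro a b
      have hiff : b * a * b⁻¹ = 1 ↔ a = 1 := by
        constructor
        · intro h
          have h2 : a = b⁻¹ * (b * a * b⁻¹) * b := by group
          rw [h2, h]
          group
        · intro h
          rw [h]
          group
      show (if b * a * b⁻¹ = 1 then (1 : ℂ) else 0) = if a = 1 then 1 else 0
      rw [if_congr hiff rfl rfl])
    have h2 : ∑ g : G, (if f g = 1 then (1 : ℂ) else 0) = (Nat.card K : ℂ) := by
      rw [Finset.sum_boole, Nat.card_eq_fintype_card, Fintype.card_subtype]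
      congr 2
      apply Finset.filter_congr
      intro g _
      exact (hKmem g).symm
    rw [h2] at h1
    simp only [Finset.sum_ite_eq', Finset.mem_univ, if_true, mul_one] at h1
    have h3 : (Nat.card K : ℂ) * (Nat.card H : ℂ) = (Nat.card G : ℂ) := by
      field_simp at h1
      rw [h1]
    exact_mod_cast h3
  exact (Subgroup.isComplement'_of_card_mul_and_disjoint hcardK
    (disjoint_iff.mpr hdisj)).sup_eq_top

end Cfsg.Agent.Lib.helper4
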