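import Mathlib
import Cfsg.Prelude.Def_Characters
import Cfsg.Prelude.Def_Blocks
import Cfsg.Agent.Lib.helper4.Monomial
import Cfsg.Agent.Lib.helper4.CharDecomp
import Cfsg.Agent.Lib.helper82.CharDeg
import Cfsg.Agent.Lib.helper82.CharSums
import Cfsg.Agent.Lib.helper19.LinChar

/-!
# Explicit Jordan bound: the nilpotent and the arithmetic steps (helper4)

* `exists_abelian_index_dvd_factorial_of_nilpotent`: a nilpotent group with a faithful character
  of degree `n` has an abelian subgroup of index dividing `n!` (monomiality: the kernel of the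
  action on the cosets of the inducing subgroups).
* `index_le_of_local_bounds`: the arithmetic assembling the bound from the bounds at each prime.
-/

set_option autoImplicit false

open Cfsg
open scoped ComplexConjugate

namespace Cfsg.Agent.Lib.helper4

universe u

/-- A nilpotent finite group with a faithful character of degree `n` has an abelian subgroup of
index dividing `n!`. -/
theorem exists_abelian_index_dvd_factorial_of_nilpotent {P : Type u} [Group P] [Finite P]
    [Group.IsNilpotent P] (ψ : P → ℂ) (hψ : IsCharacter P ψ)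
    (hfaith : ∀ g : P, ψ g = ψ 1 → g = 1) (n : ℕ) (hn : charDegree ψ = n) :
    ∃ B : Subgroup P, (∀ x ∈ B, ∀ y ∈ B, x * y = y * x) ∧ B.index ∣ n.factorial := by
  classical
  have := Fintype.ofFinite P
  have := Fintype.ofFinite (IrrCharacter P)
  obtain ⟨f, -, hf2, hf3⟩ := Cfsg.Agent.Lib.helper82.exists_nat_decomp hψ
  have hmon : ∀ ξ : IrrCharacter P, ∃ (L : Subgroup P) (lam : L →* ℂˣ),
      (ξ : P → ℂ) = indFun L (fun x => (lam x : ℂ)) :=
    fun ξ => exists_linear_induced_of_nilpotent ξ.2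
  choose L lam hL using hmon
  have hdegξ : ∀ ξ : IrrCharacter P, charDegree (ξ : P → ℂ) = (L ξ).index := by
    intro ξ
    have h1 : (ξ : P → ℂ) 1 = ((L ξ).index : ℂ) := by
      rw [hL ξ, Cfsg.Agent.Lib.helper19.indFun_apply]
      have h2 : ∀ x : P, extendByZero (L ξ) (fun x => (lam ξ x : ℂ)) (x⁻¹ * 1 * x) = 1 := by
        intro x
        rw [mul_one, inv_mul_cancel,
          Cfsg.Agent.Lib.helper19.extendByZero_of_mem _ _ _ (L ξ).one_mem]
        have : (⟨1, (L ξ).one_mem⟩ : L ξ) = 1 := rfl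
        rw [this, map_one]
        rfl
      rw [Finset.sum_congr rfl (fun x _ => h2 x)]
      simp only [Finset.sum_const, Finset.card_univ, nsmul_eq_mul, mul_one]
      rw [← Nat.card_eq_fintype_card, ← Subgroup.card_mul_index (L ξ)]
      push_cast
      rw [← mul_assoc, inv_mul_cancel₀ (by exact_mod_cast (Nat.card_pos (α := L ξ)).ne'), one_mul]
    rw [Cfsg.Agent.Lib.helper82.irr_one_eq] at h1
    exact_mod_cast h1
  let Ω := Σ ξ : {ξ : IrrCharacter P // f ξ ≠ 0}, P ⧸ L ξ.1
  let φ : P →* Equiv.Perm Ω := MulAction.toPermHom P Ω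
  refine ⟨φ.ker, ?_, ?_⟩
  · have hmem : ∀ b ∈ φ.ker, ∀ ξ : IrrCharacter P, f ξ ≠ 0 → ∀ x : P, x⁻¹ * b * x ∈ L ξ := by
      intro b hb ξ hξ x
      have h1 : φ b = 1 := MonoidHom.mem_ker.mp hb
      have h2 : b • (⟨⟨ξ, hξ⟩, (x : P ⧸ L ξ)⟩ : Ω) = ⟨⟨ξ, hξ⟩, (x : P ⧸ L ξ)⟩ :=
        congrArg (fun e : Equiv.Perm Ω => e ⟨⟨ξ, hξ⟩, (x : P ⧸ L ξ)⟩) h1
      have h3 : ((b * x : P) : P ⧸ L ξ) = (x : P ⧸ L ξ) := by simpa using h2
      rw [QuotientGroup.eq] at h3
      have := (L ξ).inv_mem h3
      simpa [mul_assoc] using this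
    intro a ha b hb
    have hc : ψ (a * b * a⁻¹ * b⁻¹) = ψ 1 := by
      rw [hf2, hf2]
      apply Finset.sum_congr rfl
      intro ξ _
      by_cases hξ : f ξ = 0
      · rw [hξ]; simp
      · congr 1
        rw [hL ξ, Cfsg.Agent.Lib.helper19.indFun_apply, Cfsg.Agent.Lib.helper19.indFun_apply]
        congr 1
        apply Finset.sum_congr rfl
        intro x _
        have hax := hmem a ha ξ hξ x
        have hbx := hmem b hb ξ hξ x
        have e1 : x⁻¹ * (a * b * a⁻¹ * b⁻¹) * x
            = (x⁻¹ * a * x) * (x⁻¹ * b * x) * (x⁻¹ * a * x)⁻¹ * (x⁻¹ * b * x)⁻¹ := by group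
        have hmemc : (x⁻¹ * a * x) * (x⁻¹ * b * x) * (x⁻¹ * a * x)⁻¹ * (x⁻¹ * b * x)⁻¹ ∈ L ξ :=
          (L ξ).mul_mem ((L ξ).mul_mem ((L ξ).mul_mem hax hbx) ((L ξ).inv_mem hax))
            ((L ξ).inv_mem hbx)
        rw [e1, Cfsg.Agent.Lib.helper19.extendByZero_of_mem _ _ _ hmemc, mul_one, inv_mul_cancel,
          Cfsg.Agent.Lib.helper19.extendByZero_of_mem _ _ _ (L ξ).one_mem]
        have h1 : (⟨1, (L ξ).one_mem⟩ : L ξ) = 1 := rfl
        have h2 : (⟨(x⁻¹ * a * x) * (x⁻¹ * b * x) * (x⁻¹ * a * x)⁻¹ * (x⁻¹ * b * x)⁻¹, hmemc⟩ : L ξ)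
            = (⟨_, hax⟩ : L ξ) * ⟨_, hbx⟩ * (⟨_, hax⟩ : L ξ)⁻¹ * (⟨_, hbx⟩ : L ξ)⁻¹ := rfl
        rw [h1, h2, map_mul, map_mul, map_mul, map_inv, map_inv, map_one]
        rw [mul_comm (lam ξ ⟨_, hax⟩) (lam ξ ⟨_, hbx⟩), mul_inv_cancel_right, mul_inv_cancel]
    have h1 := hfaith _ hc
    calc a * b = (a * b * a⁻¹ * b⁻¹) * (b * a) := by group
      _ = b * a := by rw [h1, one_mul]
  · rw [Subgroup.index_ker]
    have h1 : Nat.card φ.range ∣ Nat.card (Equiv.Perm Ω) := Subgroup.card_subgroup_dvd_card _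
    rw [Nat.card_perm] at h1
    refine h1.trans (Nat.factorial_dvd_factorial ?_)
    have hcard : Nat.card Ω = ∑ ξ : {ξ : IrrCharacter P // f ξ ≠ 0}, (L ξ.1).index := by
      rw [Nat.card_sigma]
      rfl
    rw [hcard]
    have hn' : ∑ ξ : IrrCharacter P, f ξ * charDegree (ξ : P → ℂ) = n := by
      rw [← hn]
      show _ = ⌊(ψ 1).re⌋₊
      rw [hf3, Complex.natCast_re, Nat.floor_natCast]
    rw [← hn', ← Finset.sum_subtype (Finset.univ.filter (fun ξ : IrrCharacter P => f ξ ≠ 0))
      (by intro ξ; simp) (fun ξ => (L ξ).index)]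
    calc ∑ ξ ∈ Finset.univ.filter (fun ξ : IrrCharacter P => f ξ ≠ 0), (L ξ).index
        ≤ ∑ ξ ∈ Finset.univ.filter (fun ξ : IrrCharacter P => f ξ ≠ 0),
            f ξ * charDegree (ξ : P → ℂ) := by
          apply Finset.sum_le_sum
          intro ξ hξ
          rw [hdegξ ξ]
          have : 1 ≤ f ξ := Nat.one_le_iff_ne_zero.mpr (Finset.mem_filter.mp hξ).2
          exact Nat.le_mul_of_pos_left _ this
      _ ≤ ∑ ξ : IrrCharacter P, f ξ * charDegree (ξ : P → ℂ) :=
          Finset.sum_le_sum_of_subset (Finset.filter_subset _ _)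

/-- A product of powers of distinct primes, each dividing `c`, divides `c`. -/
theorem prod_prime_pow_dvd (s : Finset ℕ) (hs : ∀ p ∈ s, p.Prime) (e : ℕ → ℕ) (c : ℕ)
    (h : ∀ p ∈ s, p ^ e p ∣ c) : ∏ p ∈ s, p ^ e p ∣ c := by
  classical
  induction s using Finset.induction_on with
  | empty => simp
  | insert a s ha ih =>
    rw [Finset.prod_insert ha]
    apply Nat.Coprime.mul_dvd_of_dvd_of_dvd
    · apply Nat.Coprime.prod_right
      intro p hp
      apply Nat.Coprime.pow
      rw [Nat.coprime_primes (hs a (Finset.mem_insert_self a s))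
        (hs p (Finset.mem_insert_of_mem hp))]
      rintro rfl
      exact ha hp
    · exact h a (Finset.mem_insert_self a s)
    · exact ih (fun p hp => hs p (Finset.mem_insert_of_mem hp))
        (fun p hp => h p (Finset.mem_insert_of_mem hp))

/-- `|G : A|` divides `|G : B| * |B : B ∩ A|`. -/
theorem index_dvd_index_mul_subgroupOf {G : Type u} [Group G] (A B : Subgroup G) :
    A.index ∣ B.index * (A.subgroupOf B).index := by
  have h1 : A.index ∣ (B ⊓ A).index := Subgroup.index_dvd_of_le inf_le_right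
  have h2 : (B ⊓ A).relIndex B * B.index = (B ⊓ A).index :=
    Subgroup.relIndex_mul_index inf_le_left
  rw [Subgroup.inf_relIndex_left] at h2
  rw [← h2, mul_comm] at h1
  exact h1

/-- The arithmetic of the explicit Jordan bound: if every abelian subgroup `H` has
`|H : H ∩ A| ≤ 12 ^ n`, for each prime `p` there is an abelian subgroup whose index has `p`-part
dividing that of `n!`, and there is an abelian subgroup whose index involves only primes
`≤ n + 1`, then `|G : A| ≤ n! * 12 ^ (n * (π(n + 1) + 1))`. -/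
theorem index_le_of_local_bounds {G : Type u} [Group G] [Finite G] (A : Subgroup G) (n : ℕ)
    (hA : ∀ H : Subgroup G, (∀ x ∈ H, ∀ y ∈ H, x * y = y * x) →
      (A.subgroupOf H).index ≤ 12 ^ n)
    (hsmall : ∀ p : ℕ, p.Prime → ∃ B : Subgroup G, (∀ x ∈ B, ∀ y ∈ B, x * y = y * x) ∧
      ∃ t : ℕ, ¬ p ∣ t ∧ B.index ∣ t * p ^ (n.factorial.factorization p))
    (hlarge : ∃ B : Subgroup G, (∀ x ∈ B, ∀ y ∈ B, x * y = y * x) ∧
      ∀ q : ℕ, q.Prime → q ∣ B.index → q ≤ n + 1) :
    A.index ≤ n.factorial * 12 ^ (n * (Nat.primeCounting (n + 1) + 1)) := by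
  classical
  obtain ⟨I, hI⟩ : ∃ I : ℕ, I = A.index := ⟨_, rfl⟩
  rw [← hI]
  have hI0 : I ≠ 0 := by rw [hI]; exact Subgroup.index_ne_zero_of_finite
  have hc0 : ∀ H : Subgroup G, (A.subgroupOf H).index ≠ 0 :=
    fun H => Subgroup.index_ne_zero_of_finite
  have hdvd : ∀ B : Subgroup G, I ∣ B.index * (A.subgroupOf B).index := by
    intro B; rw [hI]; exact index_dvd_index_mul_subgroupOf A B
  have hS : ∀ p ∈ I.primeFactors,
      p ^ I.factorization p ≤ p ^ (n.factorial.factorization p) * 12 ^ n := by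
    intro p hp
    have hpp := Nat.prime_of_mem_primeFactors hp
    obtain ⟨B, hB, t, ht, hBt⟩ := hsmall p hpp
    have h2 : p ^ I.factorization p
        ∣ t * (p ^ (n.factorial.factorization p) * (A.subgroupOf B).index) := by
      refine (Nat.ordProj_dvd I p).trans ((hdvd B).trans ?_)
      rw [← mul_assoc]
      exact Nat.mul_dvd_mul_right hBt _
    have h3 : p ^ I.factorization p
        ∣ p ^ (n.factorial.factorization p) * (A.subgroupOf B).index :=
      (Nat.Coprime.pow_left _ ((Nat.Prime.coprime_iff_not_dvd hpp).mpr ht)).dvd_of_dvd_mul_left h2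
    calc p ^ I.factorization p
        ≤ p ^ (n.factorial.factorization p) * (A.subgroupOf B).index :=
          Nat.le_of_dvd (Nat.mul_pos (pow_pos hpp.pos _) (Nat.pos_of_ne_zero (hc0 B))) h3
      _ ≤ _ := Nat.mul_le_mul_left _ (hA B hB)
  obtain ⟨B, hB, hBq⟩ := hlarge
  have hLdvd : ∏ p ∈ I.primeFactors.filter (fun p => n + 1 < p), p ^ I.factorization p
      ∣ (A.subgroupOf B).index := by
    apply prod_prime_pow_dvd
    · intro p hp
      exact Nat.prime_of_mem_primeFactors (Finset.mem_filter.mp hp).1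
    · intro p hp
      obtain ⟨hp1, hp2⟩ := Finset.mem_filter.mp hp
      have hpp := Nat.prime_of_mem_primeFactors hp1
      have hnd : ¬ p ∣ B.index := fun h => absurd (hBq p hpp h) (not_le.mpr hp2)
      exact (Nat.Coprime.pow_left _ ((Nat.Prime.coprime_iff_not_dvd hpp).mpr hnd)).dvd_of_dvd_mul_left
        ((Nat.ordProj_dvd I p).trans (hdvd B))
  have hL : ∏ p ∈ I.primeFactors.filter (fun p => n + 1 < p), p ^ I.factorization p ≤ 12 ^ n :=
    (Nat.le_of_dvd (Nat.pos_of_ne_zero (hc0 B)) hLdvd).trans (hA B hB)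
  have hprod : I = ∏ p ∈ I.primeFactors, p ^ I.factorization p := by
    conv_lhs => rw [← Nat.prod_factorization_pow_eq_self hI0]
    rw [Nat.prod_factorization_eq_prod_primeFactors]
  have hSm : ∏ p ∈ I.primeFactors.filter (fun p => ¬ n + 1 < p), p ^ I.factorization p
      ≤ n.factorial * 12 ^ (n * Nat.primeCounting (n + 1)) := by
    calc ∏ p ∈ I.primeFactors.filter (fun p => ¬ n + 1 < p), p ^ I.factorization p
        ≤ ∏ p ∈ I.primeFactors.filter (fun p => ¬ n + 1 < p),
            (p ^ (n.factorial.factorization p) * 12 ^ n) :=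
          Finset.prod_le_prod' (fun p hp => hS p (Finset.mem_filter.mp hp).1)
      _ = (∏ p ∈ I.primeFactors.filter (fun p => ¬ n + 1 < p),
            p ^ (n.factorial.factorization p))
            * 12 ^ (n * (I.primeFactors.filter (fun p => ¬ n + 1 < p)).card) := by
          rw [Finset.prod_mul_distrib, Finset.prod_const, ← pow_mul]
      _ ≤ n.factorial * 12 ^ (n * Nat.primeCounting (n + 1)) := by
          apply Nat.mul_le_mul
          · apply Nat.le_of_dvd (Nat.factorial_pos n)
            apply prod_prime_pow_dvd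
            · intro p hp
              exact Nat.prime_of_mem_primeFactors (Finset.mem_filter.mp hp).1
            · intro p _
              exact Nat.ordProj_dvd _ p
          · apply Nat.pow_le_pow_right (by norm_num)
            apply Nat.mul_le_mul_left
            have hsub : I.primeFactors.filter (fun p => ¬ n + 1 < p)
                ⊆ (Finset.range (n + 2)).filter Nat.Prime := by
              intro p hp
              obtain ⟨hp1, hp2⟩ := Finset.mem_filter.mp hp
              exact Finset.mem_filter.mpr ⟨Finset.mem_range.mpr (by omega),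
                Nat.prime_of_mem_primeFactors hp1⟩
            calc (I.primeFactors.filter (fun p => ¬ n + 1 < p)).card
                ≤ ((Finset.range (n + 2)).filter Nat.Prime).card := Finset.card_le_card hsub
              _ = Nat.primeCounting (n + 1) := by
                  rw [Nat.primeCounting, Nat.primeCounting', Nat.count_eq_card_filter_range]
  rw [hprod, ← Finset.prod_filter_mul_prod_filter_not I.primeFactors (fun p => n + 1 < p)]
  calc _ ≤ 12 ^ n * (n.factorial * 12 ^ (n * Nat.primeCounting (n + 1))) :=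
        Nat.mul_le_mul hL hSm
    _ = n.factorial * 12 ^ (n * (Nat.primeCounting (n + 1) + 1)) := by ring

end Cfsg.Agent.Lib.helper4
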