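import Mathlib
import Cfsg.Agent.Lib.helper4.CanonExt
import Cfsg.Agent.Lib.helper4.CharTheory
import Cfsg.Agent.Lib.helper78.RealBlock
import Cfsg.Agent.Lib.helper79.GaloisChar
import Cfsg.Agent.Lib.helper80.InvAlg
import Cfsg.Agent.Lib.helper82.Ramification
import Cfsg.Agent.Lib.helper82.CliffordCorr
import Cfsg.Agent.Lib.helper84.LinTwist
import Cfsg.Agent.Lib.helper32.CyclicTIGalois

/-!
# Galois-fixed characters over normal subgroups of odd index (helper4 library)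

Let `N ⊴ G` have odd index, and let `σ : g ↦ g ^ k` (with `k` coprime to `|G|`) invert the
elements of odd order.  Every `σ`-fixed irreducible character of `N` lies under a unique
`σ`-fixed irreducible character of `G`, which is an extension when `θ` is invariant.
-/

set_option autoImplicit false

namespace Cfsg.Agent.Lib.helper4

open Cfsg
open scoped ComplexConjugate

universe u

theorem isCyclic_quotient_of_sup_zpowers {Γ : Type u} [Group Γ] (Ν : Subgroup Γ) [Ν.Normal]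
    (c : Γ) (hc : Ν ⊔ Subgroup.zpowers c = ⊤) : IsCyclic (Γ ⧸ Ν) := by
  have hz : Subgroup.zpowers (QuotientGroup.mk' Ν c) = ⊤ := by
    have h1 := congrArg (Subgroup.map (QuotientGroup.mk' Ν)) hc
    rw [Subgroup.map_sup, MonoidHom.map_zpowers,
      Subgroup.map_top_of_surjective _ (QuotientGroup.mk'_surjective Ν),
      (Subgroup.map_eq_bot_iff _).mpr (le_of_eq (QuotientGroup.ker_mk' Ν).symm), bot_sup_eq] at h1
    exact h1
  exact ⟨⟨QuotientGroup.mk' Ν c, fun q => by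
    have hq : q ∈ Subgroup.zpowers (QuotientGroup.mk' Ν c) := by rw [hz]; exact Subgroup.mem_top q
    exact hq⟩⟩

theorem subgroupOf_sup_zpowers_eq_top {G : Type u} [Group G] (K H : Subgroup G) (hKH : K ≤ H)
    (g : G) (hg : g ∈ H) (hH : H = K ⊔ Subgroup.zpowers g) :
    K.subgroupOf H ⊔ Subgroup.zpowers (⟨g, hg⟩ : H) = ⊤ := by
  apply Subgroup.map_injective H.subtype_injective
  rw [Subgroup.map_sup, Subgroup.map_subgroupOf_eq_of_le hKH, MonoidHom.map_zpowers,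
    ← MonoidHom.range_eq_map, Subgroup.range_subtype]
  exact hH.symm

/-- If `g ↦ g ^ k` inverts the elements of odd order, then `g ^ (k + 1)` lies in every normal
subgroup of odd index. -/
theorem pow_succ_mem_of_odd_index {Γ : Type u} [Group Γ] [Finite Γ] (Ν : Subgroup Γ) [Ν.Normal]
    (hodd : Odd Ν.index) (k : ℕ) (hk₂ : ∀ g : Γ, Odd (orderOf g) → g ^ k = g⁻¹) (g : Γ) :
    g ^ (k + 1) ∈ Ν := by
  obtain ⟨a, m, hm, hn⟩ := Nat.exists_eq_two_pow_mul_odd (orderOf_pos g).ne'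
  have hy : Odd (orderOf (g ^ 2 ^ a)) := by
    apply Odd.of_dvd_nat hm
    apply orderOf_dvd_of_pow_eq_one
    rw [← pow_mul, ← hn, pow_orderOf_eq_one]
  have h1 := hk₂ _ hy
  have h2 : g ^ (2 ^ a * (k + 1)) = 1 := by
    rw [pow_mul, pow_succ, h1, inv_mul_cancel]
  have h3 : ((g : Γ ⧸ Ν)) ^ (2 ^ a * (k + 1)) = 1 := by
    rw [← QuotientGroup.mk_pow, h2, QuotientGroup.mk_one]
  have h4 : orderOf (g : Γ ⧸ Ν) ∣ 2 ^ a * (k + 1) := orderOf_dvd_of_pow_eq_one h3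
  have h5 : Odd (orderOf (g : Γ ⧸ Ν)) := by
    apply Odd.of_dvd_nat hodd
    rw [Subgroup.index_eq_card]
    exact orderOf_dvd_natCard _
  have h6 : orderOf (g : Γ ⧸ Ν) ∣ k + 1 :=
    Nat.Coprime.dvd_of_dvd_mul_left (Nat.Coprime.pow_right a (Nat.coprime_two_right.mpr h5)) h4
  rw [← QuotientGroup.eq_one_iff, QuotientGroup.mk_pow]
  exact orderOf_dvd_iff_pow_eq_one.mp h6

/-- A `σ`-fixed irreducible character of an odd-order quotient is trivial. -/
theorem irr_eq_one_of_sigma_fixed_of_odd {Γ : Type u} [Group Γ] [Finite Γ] (Ν : Subgroup Γ)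
    [Ν.Normal] (hodd : Odd Ν.index) (k : ℕ) (hk₂ : ∀ g : Γ, Odd (orderOf g) → g ^ k = g⁻¹)
    {β : Γ → ℂ} (hβ : IsIrrCharacter Γ β) (hβΝ : ∀ x ∈ Ν, β x = β 1)
    (hσ : ∀ g, β (g ^ k) = β g) : ∀ g, β g = 1 := by
  classical
  obtain ⟨ψ, hψ, hψeq⟩ := helper82.isIrrCharacter_deflation Ν hβ hβΝ
  have : Fintype (Γ ⧸ Ν) := Fintype.ofFinite _
  have hβc := isCharacter_of_isIrrCharacter hβ
  have hcos := helper19.irr_trivial_coset Ν β hβc hβΝ
  have hreal : ∀ g : Γ, conj (β g) = β g := by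
    intro g
    have h1 : g ^ k = g ^ (k + 1) * g⁻¹ := by rw [pow_succ, mul_inv_cancel_right]
    have h2 : β (g ^ k) = β g⁻¹ := by
      rw [h1]
      exact hcos _ (pow_succ_mem_of_odd_index Ν hodd k hk₂ g) _
    rw [← helper83.isCharacter_inv hβc g, ← h2, hσ g]
  have hodd' : (Nat.card (Γ ⧸ Ν)).Coprime 2 := by
    rw [← Subgroup.index_eq_card]
    exact Nat.coprime_two_right.mpr hodd
  have htriv := helper78.irr_eq_one_of_real_of_odd hodd' (⟨ψ, hψ⟩ : IrrCharacter (Γ ⧸ Ν))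
    (fun q => by
      obtain ⟨g, rfl⟩ := QuotientGroup.mk_surjective q
      show conj (ψ (g : Γ ⧸ Ν)) = ψ (g : Γ ⧸ Ν)
      rw [hψeq]
      exact hreal g)
  intro g
  rw [← hψeq g]
  have h1 := congrArg (fun χ : IrrCharacter (Γ ⧸ Ν) => (χ : Γ ⧸ Ν → ℂ) (g : Γ ⧸ Ν)) htriv
  simpa using h1

/-- Uniqueness of `σ`-fixed characters over an irreducible restriction (odd index). -/
theorem eq_of_sigma_fixed_of_over {Γ : Type u} [Group Γ] [Fintype Γ] (Ν : Subgroup Γ)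
    [Ν.Normal] [Fintype Ν] (hodd : Odd Ν.index) (k : ℕ) (hk : k.Coprime (Nat.card Γ))
    (hk₂ : ∀ g : Γ, Odd (orderOf g) → g ^ k = g⁻¹) {χ₁ χ₂ : Γ → ℂ} (h₁ : IsIrrCharacter Γ χ₁)
    (h₁Ν : IsIrrCharacter Ν (fun n : Ν => χ₁ n)) (h₂ : IsIrrCharacter Γ χ₂)
    (hne : classInner (fun n : Ν => χ₂ n) (fun n : Ν => χ₁ n) ≠ 0)
    (hσ₁ : ∀ g, χ₁ (g ^ k) = χ₁ g) (hσ₂ : ∀ g, χ₂ (g ^ k) = χ₂ g) : χ₂ = χ₁ := by
  obtain ⟨β, hβ, hβΝ, hβeq⟩ := helper19.gallagher Ν χ₁ h₁ h₁Ν χ₂ h₂ hne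
  have hβσ : IsIrrCharacter Γ (fun g => β (g ^ k)) :=
    helper79.isIrrCharacter_pow_coprime k hk hβ
  have hβσΝ : ∀ x ∈ Ν, (fun g => β (g ^ k)) x = (fun g => β (g ^ k)) 1 := by
    intro x hx
    show β (x ^ k) = β (1 ^ k)
    rw [one_pow]
    exact hβΝ _ (Ν.pow_mem hx k)
  have hmul : χ₁ * (fun g => β (g ^ k)) = χ₁ * β := by
    funext g
    have h3 := congrFun hβeq (g ^ k)
    have h4 := congrFun hβeq g
    simp only [Pi.mul_apply] at h3 h4 ⊢
    calc χ₁ g * β (g ^ k) = χ₁ (g ^ k) * β (g ^ k) := by rw [hσ₁ g]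
      _ = χ₂ (g ^ k) := h3.symm
      _ = χ₂ g := hσ₂ g
      _ = χ₁ g * β g := h4
  have hβfix := helper19.mul_injective_of_trivial Ν χ₁ h₁ h₁Ν _ β hβσ hβσΝ hβ hβΝ hmul
  have hone := irr_eq_one_of_sigma_fixed_of_odd Ν hodd k hk₂ hβ hβΝ (fun g => congrFun hβfix g)
  rw [hβeq]
  funext g
  simp [hone g]

/-- Subgroup form of the uniqueness. -/
theorem eq_on_of_sigma_fixed {G : Type u} [Group G] [Finite G] (K H : Subgroup G) (hKH : K ≤ H)
    (hnorm : ∀ h ∈ H, ∀ x ∈ K, h * x * h⁻¹ ∈ K) (hodd : Odd (K.relIndex H)) (k : ℕ)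
    (hk : k.Coprime (Nat.card G)) (hk₂ : ∀ g : G, Odd (orderOf g) → g ^ k = g⁻¹) (f₁ f₂ : G → ℂ)
    (h₁ : IsIrrCharacter H (fun h : H => f₁ h)) (h₁K : IsIrrCharacter K (fun x : K => f₁ x))
    (h₂ : IsIrrCharacter H (fun h : H => f₂ h)) [Fintype K]
    (hne : classInner (fun x : K => f₂ x) (fun x : K => f₁ x) ≠ 0)
    (hσ₁ : ∀ h ∈ H, f₁ (h ^ k) = f₁ h) (hσ₂ : ∀ h ∈ H, f₂ (h ^ k) = f₂ h) :
    ∀ h ∈ H, f₂ h = f₁ h := by
  classical
  have : Fintype H := Fintype.ofFinite H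
  have : Fintype (K.subgroupOf H) := Fintype.ofFinite _
  haveI : (K.subgroupOf H).Normal := ⟨fun n hn g => by
    rw [Subgroup.mem_subgroupOf] at hn ⊢
    exact hnorm g g.2 n hn⟩
  have hne' : classInner (fun n : K.subgroupOf H => (fun h : H => f₂ h) n)
      (fun n : K.subgroupOf H => (fun h : H => f₁ h) n) ≠ 0 := by
    have h3 := helper82.classInner_subRes K H hKH (fun x : K => f₂ x) (fun x : K => f₁ x)
    intro h4
    apply hne
    rw [← h3]
    exact h4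
  have hkH : k.Coprime (Nat.card H) :=
    Nat.Coprime.coprime_dvd_right (Subgroup.card_subgroup_dvd_card H) hk
  have hk₂H : ∀ g : H, Odd (orderOf g) → g ^ k = g⁻¹ := by
    intro g hg
    apply Subtype.ext
    rw [Subgroup.coe_pow, Subgroup.coe_inv]
    apply hk₂
    rwa [Subgroup.orderOf_coe]
  have key := eq_of_sigma_fixed_of_over (K.subgroupOf H) hodd k hkH hk₂H h₁
    (helper82.isIrrCharacter_subRes K H hKH h₁K) h₂ hne'
    (fun g => hσ₁ g g.2) (fun g => hσ₂ g g.2)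
  intro h hh
  exact congrFun key ⟨h, hh⟩

/-- The cyclic step: a `σ`-fixed invariant character extends to a `σ`-fixed character. -/
theorem exists_sigma_fixed_extension_of_cyclic {Γ : Type u} [Group Γ] [Finite Γ]
    (Ν : Subgroup Γ) [Ν.Normal] (hodd : Odd Ν.index) (hcyc : IsCyclic (Γ ⧸ Ν)) (k : ℕ)
    (hk : k.Coprime (Nat.card Γ)) (hk₂ : ∀ g : Γ, Odd (orderOf g) → g ^ k = g⁻¹) {θ : Ν → ℂ}
    (hθ : IsIrrCharacter Ν θ) (hinv : ∀ g : Γ, helper82.cconj Ν g θ = θ)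
    (hσ : ∀ n : Ν, θ (n ^ k) = θ n) :
    ∃ χ : Γ → ℂ, IsIrrCharacter Γ χ ∧ (∀ n : Ν, χ n = θ n) ∧ ∀ g, χ (g ^ k) = χ g := by
  classical
  have : Fintype Γ := Fintype.ofFinite Γ
  have : Fintype Ν := Fintype.ofFinite Ν
  obtain ⟨χ₀, hχ₀, hext⟩ := helper82.exists_extension_of_cyclic Ν hcyc hθ hinv
  have hres : (fun n : Ν => χ₀ n) = θ := funext hext
  have hχσ : IsIrrCharacter Γ (fun g => χ₀ (g ^ k)) :=
    helper79.isIrrCharacter_pow_coprime k hk hχ₀
  have hresσ : (fun n : Ν => (fun g => χ₀ (g ^ k)) n) = θ := by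
    funext n
    show χ₀ ((n : Γ) ^ k) = θ n
    have h1 := hext (n ^ k)
    rw [Subgroup.coe_pow] at h1
    rw [h1, hσ n]
  obtain ⟨β, hβ, hβΝ, hβeq⟩ := helper19.gallagher Ν χ₀ hχ₀ (by rw [hres]; exact hθ)
    (fun g => χ₀ (g ^ k)) hχσ (by rw [hresσ, hres, classInner_irr_self hθ]; exact one_ne_zero)
  have hχ1 : χ₀ 1 ≠ 0 := irr_degree_ne_zero hχ₀
  have hβ1 : β 1 = 1 := by
    have h1 := congrFun hβeq 1
    simp only [Pi.mul_apply, one_pow] at h1
    have h2 : χ₀ 1 * (β 1 - 1) = 0 := by rw [mul_sub, ← h1]; ring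
    rcases mul_eq_zero.mp h2 with h3 | h3
    · exact absurd h3 hχ1
    · exact sub_eq_zero.mp h3
  obtain ⟨f, hf⟩ := helper82.exists_hom_of_linear (isCharacter_of_isIrrCharacter hβ) hβ1
  have hfΝ : ∀ x ∈ Ν, f x = 1 := by
    intro x hx
    apply Units.ext
    rw [← hf, hβΝ x hx, hβ1, Units.val_one]
  have hfσ : ∀ g : Γ, χ₀ (g ^ k) = χ₀ g * ((f g : ℂˣ) : ℂ) := by
    intro g
    have h1 := congrFun hβeq g
    simp only [Pi.mul_apply] at h1
    rw [h1, hf]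
  have hfk : ∀ g : Γ, ((f g : ℂˣ) : ℂ) ^ (k + 1) = 1 := by
    intro g
    rw [← Units.val_pow_eq_pow_val, ← map_pow,
      hfΝ _ (pow_succ_mem_of_odd_index Ν hodd k hk₂ g), Units.val_one]
  have hfm : ∀ g : Γ, ((f g : ℂˣ) : ℂ) ^ Ν.index = 1 := by
    intro g
    rw [← Units.val_pow_eq_pow_val, ← map_pow, hfΝ, Units.val_one]
    rw [← QuotientGroup.eq_one_iff, QuotientGroup.mk_pow, Subgroup.index_eq_card]
    exact pow_card_eq_one'
  obtain ⟨j, hj⟩ : ∃ j, Ν.index + 1 = j + j := by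
    obtain ⟨c, hc⟩ := hodd
    exact ⟨c + 1, by omega⟩
  set lam : Γ →* ℂˣ := f ^ j with hlam
  have hlv : ∀ g : Γ, ((lam g : ℂˣ) : ℂ) = ((f g : ℂˣ) : ℂ) ^ j := by
    intro g
    rw [hlam, MonoidHom.pow_apply, Units.val_pow_eq_pow_val]
  refine ⟨fun g => ((lam g : ℂˣ) : ℂ) * χ₀ g, helper84.irr_twist lam ⟨χ₀, hχ₀⟩, ?_, ?_⟩
  · intro n
    show ((lam (n : Γ) : ℂˣ) : ℂ) * χ₀ n = θ n
    rw [hlam, MonoidHom.pow_apply, hfΝ n n.2, one_pow, Units.val_one, one_mul, hext n]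
  · intro g
    show ((lam (g ^ k) : ℂˣ) : ℂ) * χ₀ (g ^ k) = ((lam g : ℂˣ) : ℂ) * χ₀ g
    rw [hfσ g, hlv, hlv, map_pow, Units.val_pow_eq_pow_val]
    have hz0 : ((f g : ℂˣ) : ℂ) ≠ 0 := (f g).ne_zero
    have e1 : (((f g : ℂˣ) : ℂ) ^ k) ^ j * ((f g : ℂˣ) : ℂ) * ((f g : ℂˣ) : ℂ) ^ j
        = ((f g : ℂˣ) : ℂ) := by
      calc (((f g : ℂˣ) : ℂ) ^ k) ^ j * ((f g : ℂˣ) : ℂ) * ((f g : ℂˣ) : ℂ) ^ j
          = (((f g : ℂˣ) : ℂ) ^ (k + 1)) ^ j * ((f g : ℂˣ) : ℂ) := by ring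
        _ = ((f g : ℂˣ) : ℂ) := by rw [hfk g, one_pow, one_mul]
    have e2 : ((f g : ℂˣ) : ℂ) ^ j * ((f g : ℂˣ) : ℂ) ^ j = ((f g : ℂˣ) : ℂ) := by
      rw [← pow_add, ← hj, pow_succ, hfm g, one_mul]
    have e3 : (((f g : ℂˣ) : ℂ) ^ k) ^ j * ((f g : ℂˣ) : ℂ) = ((f g : ℂˣ) : ℂ) ^ j :=
      mul_right_cancel₀ (pow_ne_zero j hz0) (e1.trans e2.symm)
    rw [← e3]
    ring

/-- Subgroup form of the cyclic step. -/
theorem exists_sigma_fixed_cyclic_step {G : Type u} [Group G] [Finite G] (K H : Subgroup G)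
    (hKH : K ≤ H) (hnorm : ∀ h ∈ H, ∀ x ∈ K, h * x * h⁻¹ ∈ K) (hodd : Odd (K.relIndex H))
    (k : ℕ) (hk : k.Coprime (Nat.card G)) (hk₂ : ∀ g : G, Odd (orderOf g) → g ^ k = g⁻¹)
    (hcyc : ∃ g ∈ H, H = K ⊔ Subgroup.zpowers g) (f : G → ℂ)
    (hf : IsIrrCharacter K (fun x : K => f x)) (hσ : ∀ x ∈ K, f (x ^ k) = f x)
    (hinv : ∀ h ∈ H, ∀ x ∈ K, f (h * x * h⁻¹) = f x) :
    ∃ f' : G → ℂ, IsIrrCharacter H (fun h : H => f' h) ∧ (∀ h ∈ H, f' (h ^ k) = f' h) ∧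
      ∀ x ∈ K, f' x = f x := by
  classical
  haveI : (K.subgroupOf H).Normal := ⟨fun n hn g => by
    rw [Subgroup.mem_subgroupOf] at hn ⊢
    exact hnorm g g.2 n hn⟩
  have hkH : k.Coprime (Nat.card H) :=
    Nat.Coprime.coprime_dvd_right (Subgroup.card_subgroup_dvd_card H) hk
  have hk₂H : ∀ g : H, Odd (orderOf g) → g ^ k = g⁻¹ := by
    intro g hg
    apply Subtype.ext
    rw [Subgroup.coe_pow, Subgroup.coe_inv]
    apply hk₂
    rwa [Subgroup.orderOf_coe]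
  obtain ⟨g, hg, hH⟩ := hcyc
  have hcyc' : IsCyclic (H ⧸ K.subgroupOf H) :=
    isCyclic_quotient_of_sup_zpowers (K.subgroupOf H) ⟨g, hg⟩
      (subgroupOf_sup_zpowers_eq_top K H hKH g hg hH)
  have hinv' : ∀ y : H, helper82.cconj (K.subgroupOf H) y
      (helper82.subRes K H (fun x : K => f x)) = helper82.subRes K H (fun x : K => f x) := by
    intro y
    rw [helper82.cconj_eq_iff]
    intro n
    exact hinv y y.2 n (Subgroup.mem_subgroupOf.mp n.2)
  obtain ⟨χ, hχ, hχext, hχσ⟩ := exists_sigma_fixed_extension_of_cyclic (K.subgroupOf H) hodd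
    hcyc' k hkH hk₂H (helper82.isIrrCharacter_subRes K H hKH hf) hinv'
    (fun n => hσ n (Subgroup.mem_subgroupOf.mp n.2))
  refine ⟨helper80.extFun H χ, ?_, ?_, ?_⟩
  · have h1 : (fun h : H => helper80.extFun H χ h) = χ := by
      funext h
      exact helper80.extFun_coe H _ h
    rw [h1]
    exact hχ
  · intro h hh
    rw [helper80.extFun_of_mem H _ (H.pow_mem hh k), helper80.extFun_of_mem H _ hh]
    exact hχσ ⟨h, hh⟩
  · intro x hx
    rw [helper80.extFun_of_mem H _ (hKH hx)]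
    exact hχext ⟨⟨x, hKH hx⟩, Subgroup.mem_subgroupOf.mpr hx⟩

/-- **Unique `σ`-fixed character over a `σ`-fixed character of a normal subgroup of odd
index.** -/
theorem exists_unique_sigma_fixed_over {G : Type u} [Group G] [Fintype G] (N : Subgroup G)
    [hN : N.Normal] [Fintype N] (hidx : Odd N.index) (k : ℕ) (hk : k.Coprime (Nat.card G))
    (hk₂ : ∀ g : G, Odd (orderOf g) → g ^ k = g⁻¹) (θ : IrrCharacter N)
    (hθ : ∀ n : N, (θ : N → ℂ) (n ^ k) = (θ : N → ℂ) n) :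
    ∃ χ : IrrCharacter G, (classInner (fun n : N => (χ : G → ℂ) n) (θ : N → ℂ) ≠ 0 ∧
      (∀ g : G, (χ : G → ℂ) (g ^ k) = (χ : G → ℂ) g) ∧
      ((∀ g : G, ∀ n : N, (θ : N → ℂ) ⟨g * n * g⁻¹, hN.conj_mem n n.2 g⟩ = (θ : N → ℂ) n) →
        ∀ n : N, (χ : G → ℂ) n = (θ : N → ℂ) n)) ∧
      ∀ χ' : IrrCharacter G, classInner (fun n : N => (χ' : G → ℂ) n) (θ : N → ℂ) ≠ 0 →
        (∀ g : G, (χ' : G → ℂ) (g ^ k) = (χ' : G → ℂ) g) → χ' = χ := by
  classical
  set T := helper82.inertia N (θ : N → ℂ) with hT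
  have hNT : N ≤ T := helper82.le_inertia N (isClassFunction_of_isIrrCharacter θ.2)
  have : Fintype T := Fintype.ofFinite T
  set f₀ := helper80.extFun N (θ : N → ℂ) with hf₀
  have hf₀N : ∀ n : N, f₀ n = (θ : N → ℂ) n := fun n => helper80.extFun_coe N _ n
  have hirr : IsIrrCharacter N (fun x : N => f₀ x) := by
    have h1 : (fun x : N => f₀ x) = (θ : N → ℂ) := funext hf₀N
    rw [h1]
    exact θ.2
  have hoddKH : ∀ K H : Subgroup G, N ≤ K → Odd (K.relIndex H) := by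
    intro K H hNK
    exact Odd.of_dvd_nat hidx ((Subgroup.relIndex_dvd_of_le_left H hNK).trans
      (Subgroup.relIndex_dvd_index_of_normal N H))
  have hσ₀ : ∀ h ∈ N, f₀ (h ^ k) = f₀ h := by
    intro h hh
    have h1 := hf₀N (⟨h, hh⟩ ^ k)
    rw [Subgroup.coe_pow] at h1
    rw [h1, hθ]
    exact (hf₀N ⟨h, hh⟩).symm
  have hinvT : ∀ h ∈ T, ∀ x ∈ N, f₀ (h * x * h⁻¹) = f₀ x := by
    intro h hh x hx
    have h1 := (helper82.mem_inertia_iff N (θ : N → ℂ) h).mp hh ⟨x, hx⟩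
    rw [hf₀, helper80.extFun_of_mem N _ (hN.conj_mem x hx h), helper80.extFun_of_mem N _ hx]
    exact h1
  obtain ⟨f', hf', hσ', hext⟩ := canonical_extension N
    (fun H f => ∀ h ∈ H, f (h ^ k) = f h)
    (fun H f f' heq hQ h hh => by
      rw [← heq h hh, ← heq _ (H.pow_mem hh k)]
      exact hQ h hh)
    (fun H' H f hle hQ h hh => hQ h (hle hh))
    (fun H f hloc h hh => by
      obtain ⟨L, -, hhL, hQL⟩ := hloc h hh
      exact hQL h hhL)
    (fun H H' f x hx hQ h hh => by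
      show f (x⁻¹ * h ^ k * x) = f (x⁻¹ * h * x)
      have h1 : x⁻¹ * h ^ k * x = (x⁻¹ * h * x) ^ k := by
        have h2 := conj_pow (a := x⁻¹) (b := h) (i := k)
        simpa using h2.symm
      rw [h1]
      exact hQ _ ((hx h).mp hh))
    (fun K H f f₁ f₂ hNK hKH hnorm hfK hf₁ hQ₁ hext₁ hf₂ hQ₂ hext₂ h hh => by
      have : Fintype K := Fintype.ofFinite K
      have h1K : (fun x : K => f₁ x) = fun x : K => f x := funext (fun x => hext₁ x x.2)
      have h2K : (fun x : K => f₂ x) = fun x : K => f x := funext (fun x => hext₂ x x.2)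
      have hne : classInner (fun x : K => f₂ x) (fun x : K => f₁ x) ≠ 0 := by
        rw [h1K, h2K, classInner_irr_self hfK]
        exact one_ne_zero
      exact (eq_on_of_sigma_fixed K H hKH hnorm (hoddKH K H hNK) k hk hk₂ f₁ f₂ hf₁
        (by rw [h1K]; exact hfK) hf₂ hne hQ₁ hQ₂ h hh).symm)
    (fun K H f hNK hKH hnorm hcyc hfK hQK hinvK =>
      exists_sigma_fixed_cyclic_step K H hKH hnorm (hoddKH K H hNK) k hk hk₂ hcyc f hfK hQK hinvK)
    N T f₀ le_rfl hNT (fun h _ x hx => hN.conj_mem x hx h) hirr hσ₀ hinvT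
  set ψ : T → ℂ := fun t => f' t with hψ
  have hf'N : (fun x : N => f' x) = (θ : N → ℂ) :=
    funext (fun n => by rw [hext n n.2]; exact hf₀N n)
  have hψN : (fun n : N => ψ ⟨n, hNT n.2⟩) = (θ : N → ℂ) := hf'N
  have hψθ : classInner (fun n : N => ψ ⟨n, hNT n.2⟩) (θ : N → ℂ) ≠ 0 := by
    rw [hψN, classInner_irr_self θ.2]
    exact one_ne_zero
  obtain ⟨hχirr, hχθ⟩ := helper82.clifford_corr_irr N T hNT θ.2 hT hf' hψθ
  have hψσ : (fun t : T => ψ (t ^ k)) = ψ := by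
    funext t
    show f' (((t ^ k : T) : G)) = f' t
    rw [Subgroup.coe_pow]
    exact hσ' t t.2
  have hχσ : ∀ g : G, indFun T ψ (g ^ k) = indFun T ψ g := by
    intro g
    rw [helper32.indFun_pow_coprime T ψ k hk g, hψσ]
  refine ⟨⟨indFun T ψ, hχirr⟩, ⟨?_, hχσ, ?_⟩, ?_⟩
  · show classInner (fun n : N => indFun T ψ n) (θ : N → ℂ) ≠ 0
    rw [hχθ]
    exact hψθ
  · intro hinvG n
    have hinv' : ∀ g : G, helper82.cconj N g (θ : N → ℂ) = (θ : N → ℂ) :=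
      fun g => (helper82.cconj_eq_iff N g _).mpr (hinvG g)
    have he : classInner (fun n : N => indFun T ψ n) (θ : N → ℂ) = ((1 : ℕ) : ℂ) := by
      rw [hχθ, hψN, classInner_irr_self θ.2]
      simp
    have h1 := helper82.clifford_invariant N hχirr θ.2 hinv' 1 he one_ne_zero n
    show indFun T ψ n = _
    rw [h1]
    simp
  · intro χ' hover hσχ'
    obtain ⟨ψ', hψ', hind', hψ'θ⟩ := helper82.clifford_corr_surj N T hNT θ.2 hT χ'.2 hover
    have hkT : k.Coprime (Nat.card T) :=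
      Nat.Coprime.coprime_dvd_right (Subgroup.card_subgroup_dvd_card T) hk
    have hkN : k.Coprime (Nat.card N) :=
      Nat.Coprime.coprime_dvd_right (Subgroup.card_subgroup_dvd_card N) hk
    have hψ'σirr : IsIrrCharacter T (fun t : T => ψ' (t ^ k)) :=
      helper79.isIrrCharacter_pow_coprime k hkT hψ'
    have hψ'σθ : classInner (fun n : N => (fun t : T => ψ' (t ^ k)) ⟨n, hNT n.2⟩)
        (θ : N → ℂ) ≠ 0 := by
      have h1 : classInner (fun n : N => (fun t : T => ψ' (t ^ k)) ⟨n, hNT n.2⟩) (θ : N → ℂ)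
          = classInner (fun n : N => ψ' ⟨n, hNT n.2⟩) (θ : N → ℂ) := by
        unfold classInner
        congr 1
        refine Fintype.sum_equiv (powCoprime hkN.symm) _ _ (fun n => ?_)
        show ψ' (⟨n, hNT n.2⟩ ^ k) * conj ((θ : N → ℂ) n)
          = ψ' ⟨((n ^ k : N) : G), hNT (n ^ k).2⟩ * conj ((θ : N → ℂ) (n ^ k))
        rw [hθ n]
        rfl
      rw [h1, hψ'θ]
      exact hover
    have hindσ : indFun T (fun t : T => ψ' (t ^ k)) = indFun T ψ' := by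
      funext g
      rw [← helper32.indFun_pow_coprime T ψ' k hk g, hind', hσχ' g]
    have hfix := helper82.clifford_corr_inj N T hNT θ.2 hT hψ'σirr hψ' hψ'σθ
      (by rw [hψ'θ]; exact hover) hindσ
    have key := eq_on_of_sigma_fixed N T hNT (fun h _ x hx => hN.conj_mem x hx h)
      (hoddKH N T le_rfl) k hk hk₂ f' (helper80.extFun T ψ') hf'
      (by rw [hf'N]; exact θ.2)
      (by
        have h1 : (fun t : T => helper80.extFun T ψ' t) = ψ' :=
          funext (fun t => helper80.extFun_coe T _ t)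
        rw [h1]
        exact hψ')
      (by
        have h2 : (fun x : N => helper80.extFun T ψ' x) = fun n : N => ψ' ⟨n, hNT n.2⟩ :=
          funext (fun n => helper80.extFun_of_mem T _ (hNT n.2))
        rw [hf'N, h2, hψ'θ]
        exact hover)
      hσ'
      (by
        intro h hh
        rw [helper80.extFun_of_mem T _ (T.pow_mem hh k), helper80.extFun_of_mem T _ hh]
        exact congrFun hfix ⟨h, hh⟩)
    have hψeq : ψ' = ψ := by
      funext t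
      have h1 := key t t.2
      rw [helper80.extFun_coe] at h1
      exact h1
    apply Subtype.ext
    show (χ' : G → ℂ) = indFun T ψ
    rw [← hind', hψeq]

end Cfsg.Agent.Lib.helper4
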