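import Mathlib
import Cfsg.Agent.Lib.helper4.OddIndex
import Cfsg.Agent.Lib.helper4.BlockNormal
import Cfsg.Agent.Lib.helper79.GaloisSum
import Cfsg.Agent.Lib.helper80.LocalInt
import Cfsg.Agent.Lib.helper81.PrincipalInfl

/-!
# Galois-fixed characters over odd index normal subgroups and principal `2`-blocks
(helper4 library)

For `N ⊴ G` of odd index and `σ : g ↦ g ^ k` of `2`-power order inverting the elements of odd
order: the unique `σ`-fixed character of `G` over a `σ`-fixed `θ ∈ Irr(N)` lies in the principal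
`2`-block of `G` if and only if `θ` lies in the principal `2`-block of `N`.
-/

set_option autoImplicit false

namespace Cfsg.Agent.Lib.helper4

open Cfsg
open scoped ComplexConjugate

universe u

/-- Weighted fixed-point count modulo `2` for a permutation of `2`-power order. -/
theorem sum_eq_sum_fixed_zmod_two {X : Type*} [Fintype X] [DecidableEq X] (w : X → ℕ) :
    ∀ (e : ℕ) (π : Equiv.Perm X), π ^ (2 ^ e) = 1 → (∀ x, w (π x) = w x) →
      (∑ x : X, (w x : ZMod 2))
        = ∑ x ∈ Finset.univ.filter (fun x => π x = x), (w x : ZMod 2) := by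
  intro e
  induction e with
  | zero =>
    intro π hπ _
    have h1 : π = 1 := by simpa using hπ
    subst h1
    simp
  | succ e ih =>
    intro π hπ hw
    have hτ : (π ^ 2) ^ (2 ^ e) = 1 := by
      rw [← pow_mul, ← pow_succ']
      exact hπ
    have hwτ : ∀ x, w ((π ^ 2) x) = w x := by
      intro x
      rw [pow_two, Equiv.Perm.mul_apply, hw, hw]
    rw [ih (π ^ 2) hτ hwτ]
    rw [← Finset.sum_filter_add_sum_filter_not (Finset.univ.filter (fun x => (π ^ 2) x = x))
      (fun x => π x = x)]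
    have h1 : (Finset.univ.filter (fun x => (π ^ 2) x = x)).filter (fun x => π x = x)
        = Finset.univ.filter (fun x => π x = x) := by
      ext x
      simp only [Finset.mem_filter, Finset.mem_univ, true_and]
      constructor
      · exact fun h => h.2
      · intro h
        refine ⟨?_, h⟩
        rw [pow_two, Equiv.Perm.mul_apply, h, h]
    rw [h1]
    have h2 : ∑ x ∈ (Finset.univ.filter (fun x => (π ^ 2) x = x)).filter (fun x => ¬ π x = x),
        (w x : ZMod 2) = 0 := by
      apply Finset.sum_involution (fun x _ => π x)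
      · intro x _
        rw [hw x]
        exact CharTwo.add_self_eq_zero _
      · intro x hx _
        exact (Finset.mem_filter.mp hx).2
      · intro x hx
        simp only [Finset.mem_filter, Finset.mem_univ, true_and] at hx ⊢
        have hx2 : π (π x) = x := by
          have h3 := hx.1
          rwa [pow_two, Equiv.Perm.mul_apply] at h3
        refine ⟨?_, ?_⟩
        · rw [pow_two, Equiv.Perm.mul_apply, hx2]
        · rw [hx2]
          exact fun h => hx.2 h.symm
      · intro x hx
        simp only [Finset.mem_filter, Finset.mem_univ, true_and] at hx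
        have h3 := hx.1
        rwa [pow_two, Equiv.Perm.mul_apply] at h3
    rw [h2, add_zero]

section

variable {G : Type u} [Group G] [Fintype G] {M : Ideal AlgInt}

open scoped Classical in
/-- The weights of the covering congruence for a `σ`-fixed character `θ'` of `N`. -/
theorem exists_sigma_weight (hM : IsPModular 2 M) (N : Subgroup G) [hN : N.Normal] [Fintype N]
    (hidx : Odd N.index) (k e : ℕ) (hk : k.Coprime (Nat.card G))
    (hke : k ^ (2 ^ e) ≡ 1 [MOD Nat.card G]) (hk₂ : ∀ g : G, Odd (orderOf g) → g ^ k = g⁻¹)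
    (θ' : IrrCharacter N) (hθ' : ∀ n : N, (θ' : N → ℂ) (n ^ k) = (θ' : N → ℂ) n) :
    ∃ (tn ee : IrrCharacter G → ℕ) (χ' : IrrCharacter G),
      (∀ χ : IrrCharacter G, classInner (fun n : N => (χ : G → ℂ) n) (θ' : N → ℂ) = ee χ) ∧
      (∀ χ : IrrCharacter G, tn χ = if χ ∈ principalBlock M G then
        ee χ * ee χ * (helper82.inertia N (θ' : N → ℂ)).index else 0) ∧
      helper80.om (θ' : N → ℂ) (helper80.resFun N (blockCoeff (principalBlock M G)))
        = (Nat.card N : ℂ) / (Nat.card G : ℂ) * ((∑ χ : IrrCharacter G, tn χ : ℕ) : ℂ) ∧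
      ((∑ χ : IrrCharacter G, tn χ : ℕ) : ZMod 2) = (tn χ' : ZMod 2) ∧
      classInner (fun n : N => (χ' : G → ℂ) n) (θ' : N → ℂ) ≠ 0 ∧
      (∀ g : G, (χ' : G → ℂ) (g ^ k) = (χ' : G → ℂ) g) ∧
      ∀ χ : IrrCharacter G, classInner (fun n : N => (χ : G → ℂ) n) (θ' : N → ℂ) ≠ 0 →
        (∀ g : G, (χ : G → ℂ) (g ^ k) = (χ : G → ℂ) g) → χ = χ' := by
  haveI : Fact (Nat.Prime 2) := ⟨Nat.prime_two⟩
  obtain ⟨χ', ⟨hov', hσ', -⟩, huniq'⟩ := exists_unique_sigma_fixed_over N hidx k hk hk₂ θ' hθ'
  have hee : ∀ χ : IrrCharacter G, ∃ m : ℕ,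
      classInner (fun n : N => (χ : G → ℂ) n) (θ' : N → ℂ) = m := fun χ =>
    exists_nat_classInner_irr (isCharacter_restrict N (isCharacter_of_isIrrCharacter χ.2)) θ'.2
  choose ee hee using hee
  set idx := (helper82.inertia N (θ' : N → ℂ)).index with hidxdef
  set tn : IrrCharacter G → ℕ := fun χ =>
    if χ ∈ principalBlock M G then ee χ * ee χ * idx else 0 with htn
  -- the permutation
  set π : Equiv.Perm (IrrCharacter G) :=
    Equiv.ofBijective (helper79.irrPow k hk) (helper79.irrPow_bijective k hk) with hπdef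
  have hπapp : ∀ (χ : IrrCharacter G) (g : G), (π χ : G → ℂ) g = (χ : G → ℂ) (g ^ k) :=
    fun χ g => rfl
  have hπpow : ∀ (n : ℕ) (χ : IrrCharacter G) (g : G),
      ((π ^ n) χ : G → ℂ) g = (χ : G → ℂ) (g ^ (k ^ n)) := by
    intro n
    induction n with
    | zero => intro χ g; simp
    | succ n ih =>
      intro χ g
      rw [pow_succ, Equiv.Perm.mul_apply, ih, hπapp, ← pow_mul, ← pow_succ]
  have hπ2 : π ^ (2 ^ e) = 1 := by
    ext χ g
    rw [hπpow, Equiv.Perm.one_apply]
    rw [← pow_mod_natCard, hke, pow_mod_natCard, pow_one]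
  have hkN : k.Coprime (Nat.card N) :=
    Nat.Coprime.coprime_dvd_right (Subgroup.card_subgroup_dvd_card N) hk
  have heeπ : ∀ χ : IrrCharacter G, ee (π χ) = ee χ := by
    intro χ
    have h1 : classInner (fun n : N => (π χ : G → ℂ) n) (θ' : N → ℂ)
        = classInner (fun n : N => (χ : G → ℂ) n) (θ' : N → ℂ) := by
      unfold classInner
      congr 1
      refine Fintype.sum_equiv (powCoprime hkN.symm) _ _ (fun n => ?_)
      show (χ : G → ℂ) ((n : G) ^ k) * conj ((θ' : N → ℂ) n)
        = (χ : G → ℂ) ((n ^ k : N) : G) * conj ((θ' : N → ℂ) (n ^ k))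
      rw [hθ' n]
      rfl
    rw [hee, hee] at h1
    exact_mod_cast h1
  have htnπ : ∀ χ : IrrCharacter G, tn (π χ) = tn χ := by
    intro χ
    have h1 : π χ ∈ principalBlock M G ↔ χ ∈ principalBlock M G :=
      helper81.irrPow_mem_principalBlock_iff hM k hk χ
    simp only [htn]
    by_cases h : χ ∈ principalBlock M G
    · rw [if_pos h, if_pos (h1.mpr h), heeπ]
    · rw [if_neg h, if_neg (fun h' => h (h1.mp h'))]
  refine ⟨tn, ee, χ', hee, fun χ => rfl, ?_, ?_, hov', hσ', huniq'⟩
  · -- evaluation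
    rw [om_resFun_blockCoeff]
    have hθ1 : (θ' : N → ℂ) 1 ≠ 0 := irr_degree_ne_zero θ'.2
    have hterm : ∀ χ : IrrCharacter G, (if χ ∈ principalBlock M G then
        (χ : G → ℂ) 1 * classInner (θ' : N → ℂ) (fun n : N => (χ : G → ℂ) n) else 0)
        = (θ' : N → ℂ) 1 * (tn χ : ℂ) := by
      intro χ
      simp only [htn]
      by_cases h : χ ∈ principalBlock M G
      · rw [if_pos h, if_pos h, ← classInner_conj_symm, hee, Complex.conj_natCast]
        by_cases he0 : ee χ = 0
        · rw [he0]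
          simp
        · rw [helper82.clifford_degree N χ.2 θ'.2 (ee χ) (hee χ) he0]
          push_cast
          ring
      · rw [if_neg h, if_neg h]
        simp
    rw [Finset.sum_congr rfl (fun χ _ => hterm χ), ← Finset.mul_sum]
    push_cast
    field_simp
  · -- parity
    rw [Nat.cast_sum, sum_eq_sum_fixed_zmod_two tn e π hπ2 htnπ]
    have hmem : χ' ∈ Finset.univ.filter (fun x : IrrCharacter G => π x = x) := by
      rw [Finset.mem_filter]
      refine ⟨Finset.mem_univ _, ?_⟩
      apply Subtype.ext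
      funext g
      rw [hπapp]
      exact hσ' g
    rw [Finset.sum_eq_single_of_mem χ' hmem]
    intro χ hχ hne
    rw [Finset.mem_filter] at hχ
    have hσχ : ∀ g : G, (χ : G → ℂ) (g ^ k) = (χ : G → ℂ) g := by
      intro g
      have h1 := congrArg (fun ψ : IrrCharacter G => (ψ : G → ℂ) g) hχ.2
      exact h1
    have he0 : ee χ = 0 := by
      by_contra he0
      apply hne
      apply huniq' χ _ hσχ
      rw [hee]
      exact_mod_cast he0
    simp only [htn]
    split_ifs
    · rw [he0]
      simp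
    · simp

/-- **Principal blocks and `σ`-fixed characters over odd index normal subgroups.** -/
theorem mem_principalBlock_of_sigma_fixed_over (hM : IsPModular 2 M) (N : Subgroup G)
    [hN : N.Normal] [Fintype N] (hidx : Odd N.index) (k e : ℕ) (hk : k.Coprime (Nat.card G))
    (hke : k ^ (2 ^ e) ≡ 1 [MOD Nat.card G]) (hk₂ : ∀ g : G, Odd (orderOf g) → g ^ k = g⁻¹)
    (θ : IrrCharacter N) (hθ : ∀ n : N, (θ : N → ℂ) (n ^ k) = (θ : N → ℂ) n)
    (hθB : θ ∈ principalBlock M N) (χ : IrrCharacter G)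
    (hχ : ∀ g : G, (χ : G → ℂ) (g ^ k) = (χ : G → ℂ) g)
    (hover : classInner (fun n : N => (χ : G → ℂ) n) (θ : N → ℂ) ≠ 0) :
    χ ∈ principalBlock M G := by
  classical
  haveI : Fact (Nat.Prime 2) := ⟨Nat.prime_two⟩
  have hMp := helper20.isPrime_of_isPModular hM
  obtain ⟨tn, ee, χθ, hee, htn, hom, hpar, -, -, huniq⟩ :=
    exists_sigma_weight hM N hidx k e hk hke hk₂ θ hθ
  obtain ⟨tn1, ee1, χ1, hee1, htn1, hom1, hpar1, -, -, huniq1⟩ :=
    exists_sigma_weight hM N hidx k e hk hke hk₂ (helper81.trivChar N) (fun _ => rfl)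
  have hχeq : χ = χθ := huniq χ hover hχ
  rw [hχeq]
  by_contra hnot
  -- the trivial character
  have hres1 : (fun n : N => ((helper81.trivChar G : IrrCharacter G) : G → ℂ) n)
      = ((helper81.trivChar N : IrrCharacter N) : N → ℂ) := rfl
  have hinner1 : classInner (fun n : N => ((helper81.trivChar G : IrrCharacter G) : G → ℂ) n)
      ((helper81.trivChar N : IrrCharacter N) : N → ℂ) = 1 := by
    rw [hres1, classInner_irr_self (helper81.trivChar N).2]
  have hχ1 : helper81.trivChar G = χ1 :=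
    huniq1 (helper81.trivChar G) (by rw [hinner1]; exact one_ne_zero) (fun _ => rfl)
  have hee1t : ee1 (helper81.trivChar G) = 1 := by
    have h1 := hee1 (helper81.trivChar G)
    rw [hinner1] at h1
    exact_mod_cast h1.symm
  have hin1 : helper82.inertia N ((helper81.trivChar N : IrrCharacter N) : N → ℂ) = ⊤ := by
    rw [eq_top_iff]
    intro g _
    rw [helper82.mem_inertia]
    rfl
  have htn1t : tn1 χ1 = 1 := by
    rw [← hχ1, htn1, if_pos (helper81.trivChar_mem_principalBlock hMp), hee1t, hin1,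
      Subgroup.index_top]
  have htnθ : tn χθ = 0 := by
    rw [htn, if_neg hnot]
  rw [htn1t] at hpar1
  rw [htnθ] at hpar
  -- parity information
  set S1 := ∑ χ : IrrCharacter G, tn1 χ with hS1
  set Sθ := ∑ χ : IrrCharacter G, tn χ with hSθ
  have h2θ : 2 ∣ Sθ := by
    have h1 : ((Sθ : ℕ) : ZMod 2) = 0 := by
      rw [hpar]
      simp
    exact (ZMod.natCast_eq_zero_iff Sθ 2).mp h1
  have h21 : 2 ∣ S1 - 1 ∧ 1 ≤ S1 := by
    have h1 : ((S1 : ℕ) : ZMod 2) = 1 := by
      rw [hpar1]
      simp
    have hpos : 1 ≤ S1 := by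
      by_contra hlt
      have h0 : S1 = 0 := by omega
      rw [h0] at h1
      simp at h1
    refine ⟨?_, hpos⟩
    apply (ZMod.natCast_eq_zero_iff (S1 - 1) 2).mp
    rw [Nat.cast_sub hpos, h1]
    simp
  -- the congruence
  set f := helper80.resFun N (blockCoeff (principalBlock M G)) with hf
  have hfc : IsClassFunction N f := by
    intro g h
    have h1 := helper80.blockCoeff_classFun (principalBlock M G) (g : G) (h : G)
    simpa [hf, helper80.resFun] using h1
  have hfR : ∀ n, MemLocalRing M (f n) := fun n =>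
    helper81.memLocalRing_blockCoeff' hMp helper81.isPBlock_principalBlock _
  have h1 := helper80.memLocalIdeal_om_sub hMp (helper81.trivChar N) θ hθB f hfc hfR
  rw [hom, hom1] at h1
  have hN0 : (Nat.card N : ℂ) ≠ 0 := by exact_mod_cast (Nat.card_pos (α := N)).ne'
  have hI0 : (N.index : ℂ) ≠ 0 := by
    have h3 : N.index ≠ 0 := Subgroup.index_ne_zero_of_finite
    exact_mod_cast h3
  have h12 : (Nat.card G : ℂ) = (Nat.card N : ℂ) * (N.index : ℂ) := by
    rw [← Subgroup.card_mul_index N]
    push_cast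
    rfl
  have h3 := helper20.memLocalIdeal_mul_left hMp (helper20.memLocalRing_natCast hMp N.index) h1
  have h4 : (N.index : ℂ) * ((Nat.card N : ℂ) / (Nat.card G : ℂ) * ((S1 : ℕ) : ℂ)
      - (Nat.card N : ℂ) / (Nat.card G : ℂ) * ((Sθ : ℕ) : ℂ)) = ((S1 : ℕ) : ℂ) - ((Sθ : ℕ) : ℂ) := by
    rw [h12]
    field_simp
  rw [h4] at h3
  have h5 : MemLocalIdeal M ((Sθ : ℕ) : ℂ) := helper80.memLocalIdeal_natCast hM h2θ
  have h6 : MemLocalIdeal M (((S1 - 1 : ℕ) : ℕ) : ℂ) := helper80.memLocalIdeal_natCast hM h21.1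
  have h7 := helper20.memLocalIdeal_sub hMp (helper20.memLocalIdeal_add hMp h3 h5) h6
  have h8 : ((S1 : ℕ) : ℂ) - ((Sθ : ℕ) : ℂ) + ((Sθ : ℕ) : ℂ) - (((S1 - 1 : ℕ) : ℕ) : ℂ) = 1 := by
    rw [Nat.cast_sub h21.2]
    push_cast
    ring
  rw [h8] at h7
  exact helper20.not_memLocalIdeal_one h7

end

end Cfsg.Agent.Lib.helper4
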