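import Mathlib
import Cfsg.Agent.Lib.helper79.PearlX
import Cfsg.Agent.Lib.helper12.PGroupGens

set_option autoImplicit false

namespace Cfsg.Agent.Lib.helper79.P3

open Cfsg.Agent.Lib.helper68

/-- A subgroup of order at most 9 of a group of order 81 is 2-generated. -/
theorem h4_n4_small {G : Type*} [Group G] [Finite G] (hG : Nat.card G = 3 ^ 4) (H : Subgroup G)
    (hH : Nat.card H ≤ 9) : ∃ T : Finset G, T.card ≤ 2 ∧ Subgroup.closure (T : Set G) = H := by
  haveI : Fact (Nat.Prime 3) := ⟨by norm_num⟩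
  have hGp : IsPGroup 3 G := IsPGroup.of_card hG
  obtain ⟨k, hk⟩ : ∃ k, Nat.card H = 3 ^ k := IsPGroup.iff_card.mp (hGp.to_subgroup H)
  have hk2 : k ≤ 2 := by
    by_contra hcon
    have h3 : 3 ≤ k := by omega
    have : 3 ^ 3 ≤ 3 ^ k := Nat.pow_le_pow_right (by norm_num) h3
    rw [hk] at hH
    omega
  obtain ⟨T, hT, hcl⟩ := Cfsg.Agent.Lib.helper12.h12_pgroup_gens 3 k H hk
  exact ⟨T, by omega, hcl⟩

/-- An abelian-free statement: a subgroup `M` of order 27 of a 3-group with an element whose cube is not 1 is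
2-generated. -/
theorem h4_n4_two_gen {G : Type*} [Group G] [Finite G] (hG : Nat.card G = 3 ^ 4) (M : Subgroup G)
    (hM : Nat.card M = 27) (a : G) (haM : a ∈ M) (ha : a ^ 3 ≠ 1) :
    ∃ T : Finset G, T.card ≤ 2 ∧ Subgroup.closure (T : Set G) = M := by
  classical
  haveI : Fact (Nat.Prime 3) := ⟨by norm_num⟩
  have hGp : IsPGroup 3 G := IsPGroup.of_card hG
  have hzM : Subgroup.zpowers a ≤ M := (Subgroup.zpowers_le).mpr haM
  obtain ⟨i, hi⟩ : ∃ i, Nat.card (Subgroup.zpowers a) = 3 ^ i :=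
    IsPGroup.iff_card.mp (hGp.to_subgroup _)
  have hi2 : 2 ≤ i := by
    by_contra hcon
    have hi1 : i ≤ 1 := by omega
    have h1 : orderOf a ∣ 3 := by
      rw [← Nat.card_zpowers, hi]
      exact pow_dvd_pow 3 hi1
    exact ha (orderOf_dvd_iff_pow_eq_one.mp h1)
  obtain ⟨b, hbM, hb⟩ : ∃ b ∈ M, Subgroup.closure ({a, b} : Set G) = M := by
    by_cases hz : Subgroup.zpowers a = M
    · refine ⟨a, haM, ?_⟩
      rw [Set.pair_eq_singleton, ← Subgroup.zpowers_eq_closure, hz]
    · obtain ⟨b, hbM, hbz⟩ : ∃ b ∈ M, b ∉ Subgroup.zpowers a := by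
        by_contra hcon
        push_neg at hcon
        exact hz (le_antisymm hzM hcon)
      refine ⟨b, hbM, ?_⟩
      set B : Subgroup G := Subgroup.closure ({a, b} : Set G) with hB
      have haB : a ∈ B := Subgroup.subset_closure (Set.mem_insert _ _)
      have hbB : b ∈ B := Subgroup.subset_closure (Set.mem_insert_of_mem _ rfl)
      have hBM : B ≤ M := by
        rw [hB, Subgroup.closure_le]
        rintro y (rfl | rfl)
        · exact haM
        · exact hbM
      have hzB : Subgroup.zpowers a ≤ B := (Subgroup.zpowers_le).mpr haB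
      obtain ⟨j, hj⟩ : ∃ j, Nat.card B = 3 ^ j := IsPGroup.iff_card.mp (hGp.to_subgroup _)
      have hij : i ≤ j := by
        have h1 : Nat.card (Subgroup.zpowers a) ∣ Nat.card B := Subgroup.card_dvd_of_le hzB
        rw [hi, hj] at h1
        exact (Nat.pow_dvd_pow_iff_le_right (show 1 < 3 by norm_num)).mp h1
      have hne : i ≠ j := by
        intro hij'
        have h2 : Subgroup.zpowers a = B :=
          Subgroup.eq_of_le_of_card_ge hzB (by rw [hi, hj, hij'])
        exact hbz (h2 ▸ hbB)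
      have hj3 : j ≤ 3 := by
        have h1 : Nat.card B ∣ Nat.card M := Subgroup.card_dvd_of_le hBM
        rw [hj, hM, show (27 : ℕ) = 3 ^ 3 by norm_num] at h1
        exact (Nat.pow_dvd_pow_iff_le_right (show 1 < 3 by norm_num)).mp h1
      have hj3' : j = 3 := by omega
      exact Subgroup.eq_of_le_of_card_ge hBM (by rw [hj, hM, hj3']; norm_num)
  refine ⟨{a, b}, Finset.card_le_two, ?_⟩
  rw [Finset.coe_pair]
  exact hb

/-- N4 core: the order-81 dichotomy from the statements of UNIF, NONUNIF (at `j = 2`) and FRAT. -/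
theorem h4_p3_n4_core {G : Type*} [Group G] [Finite G] (hG : Nat.card G = 3 ^ 4) (x : G)
    (hC : Nat.card (Subgroup.centralizer ({x} : Set G)) = 3 ^ 2)
    (hUNIF : ∀ h : G, Nat.card (Subgroup.centralizer ({h} : Set G)) = 3 ^ 2 → ∀ H : Subgroup G, h ∈ H →
      ∃ T : Finset G, T.card ≤ 2 ∧ Subgroup.closure (T : Set G) = H)
    (hNON : ∀ h : G, h ∉ gam G 2 → Nat.card (Subgroup.centralizer ({h} : Set G)) ≠ 3 ^ 2 →
      ∀ v ∈ gam G 2, com v h ∈ gam G 4)
    (hFRAT : ∀ H : Subgroup G, H ⊔ gam G 2 = ⊤ → H = ⊤) :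
    (∀ H : Subgroup G, ∃ T : Finset G, T.card ≤ 2 ∧ Subgroup.closure (T : Set G) = H) ∨
      ∃ M : Subgroup G, Nat.card M = 27 ∧ (∀ a ∈ M, ∀ b ∈ M, a * b = b * a) ∧ ∀ a ∈ M, a ^ 3 = 1 := by
  classical
  haveI : Fact (Nat.Prime 3) := ⟨by norm_num⟩
  have hGp : IsPGroup 3 G := IsPGroup.of_card hG
  by_cases hall : ∀ H : Subgroup G, ∃ T : Finset G, T.card ≤ 2 ∧ Subgroup.closure (T : Set G) = H
  · exact Or.inl hall
  right
  push_neg at hall
  obtain ⟨H, hH⟩ := hall
  have hcP2 : Nat.card (gam G 2) = 9 := by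
    have := h79_px_card 3 4 hG x hC (by norm_num) 2 le_rfl (by norm_num)
    simpa using this
  have hcP4 : Nat.card (gam G 4) = 1 := by
    have := h79_px_card 3 4 hG x hC (by norm_num) 4 (by norm_num) le_rfl
    simpa using this
  have hP4 : gam G 4 = ⊥ := Subgroup.card_eq_one.mp hcP4
  have hHP2 : ¬ H ≤ gam G 2 := by
    intro hle
    have h9 : Nat.card H ≤ 9 := by
      rw [← hcP2]
      exact Subgroup.card_le_of_le hle
    obtain ⟨T, hT, hcl⟩ := h4_n4_small hG H h9
    exact hH T hT hcl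
  obtain ⟨h, hhH, hh2⟩ := SetLike.not_le_iff_exists.mp hHP2
  have hCh : Nat.card (Subgroup.centralizer ({h} : Set G)) ≠ 3 ^ 2 := by
    intro hCh
    obtain ⟨T, hT, hcl⟩ := hUNIF h hCh H hhH
    exact hH T hT hcl
  have hcomm : ∀ v ∈ gam G 2, v * h = h * v := by
    intro v hv
    have h1 := hNON h hh2 hCh v hv
    rw [hP4, Subgroup.mem_bot] at h1
    unfold com at h1
    have h2 : v * h = h * v * (v⁻¹ * h⁻¹ * v * h) := by group
    rw [h2, h1, mul_one]
  have hP2ab : ∀ a ∈ gam G 2, ∀ b ∈ gam G 2, a * b = b * a := by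
    intro a ha b hb
    have hc : Nat.card (gam G 2) = 3 ^ 2 := by rw [hcP2]; norm_num
    have := IsPGroup.commutative_of_card_eq_prime_sq hc ⟨a, ha⟩ ⟨b, hb⟩
    exact congrArg Subtype.val this
  have hk : ∀ a ∈ insert h ((gam G 2 : Subgroup G) : Set G), ∀ b ∈ insert h ((gam G 2 : Subgroup G) : Set G),
      a * b = b * a := by
    rintro a (rfl | ha) b (rfl | hb)
    · rfl
    · exact (hcomm b hb).symm
    · exact hcomm a ha
    · exact hP2ab a ha b hb
  obtain ⟨M, hMdef⟩ : ∃ M : Subgroup G, M = Subgroup.closure (insert h ((gam G 2 : Subgroup G) : Set G)) :=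
    ⟨_, rfl⟩
  have hMab : ∀ a ∈ M, ∀ b ∈ M, a * b = b * a := by
    intro a ha b hb
    rw [hMdef] at ha hb
    have := (Subgroup.closureCommGroupOfComm hk).mul_comm ⟨a, ha⟩ ⟨b, hb⟩
    exact congrArg Subtype.val this
  have hP2M : gam G 2 ≤ M := by
    intro v hv
    rw [hMdef]
    exact Subgroup.subset_closure (Set.mem_insert_of_mem _ hv)
  have hhM : h ∈ M := by
    rw [hMdef]
    exact Subgroup.subset_closure (Set.mem_insert _ _)
  have hMtop : M ≠ ⊤ := by
    intro htop
    have h1 : Subgroup.centralizer ({x} : Set G) = ⊤ := by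
      rw [eq_top_iff]
      intro g _
      rw [Subgroup.mem_centralizer_iff]
      intro y hy
      rw [Set.mem_singleton_iff] at hy
      subst hy
      exact hMab _ (htop ▸ Subgroup.mem_top _) _ (htop ▸ Subgroup.mem_top _)
    rw [h1, Subgroup.card_top, hG] at hC
    norm_num at hC
  have hcM : Nat.card M = 27 := by
    obtain ⟨k, hk'⟩ := IsPGroup.iff_card.mp (hGp.to_subgroup M)
    have hk4 : k ≤ 4 :=
      (Nat.pow_dvd_pow_iff_le_right (show 1 < 3 by norm_num)).mp
        (by rw [← hk', ← hG]; exact Subgroup.card_subgroup_dvd_card M)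
    have h9 : 9 ∣ Nat.card M := by
      rw [← hcP2]
      exact Subgroup.card_dvd_of_le hP2M
    interval_cases k
    · rw [hk'] at h9; norm_num at h9
    · rw [hk'] at h9; norm_num at h9
    · exfalso
      have h2 : gam G 2 = M := Subgroup.eq_of_le_of_card_ge hP2M (by rw [hk', hcP2]; norm_num)
      exact hh2 (h2 ▸ hhM)
    · rw [hk']; norm_num
    · exfalso
      exact hMtop (Subgroup.eq_top_of_card_eq M (by rw [hk', hG]))
  have hKtop : H ⊔ gam G 2 ≠ ⊤ := by
    intro htop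
    have hHtop := hFRAT H htop
    obtain ⟨T, hT, hcl⟩ := hUNIF x hC H (hHtop ▸ Subgroup.mem_top _)
    exact hH T hT hcl
  have hMK : M ≤ H ⊔ gam G 2 := by
    rw [hMdef, Subgroup.closure_le]
    rintro y (rfl | hy)
    · exact (le_sup_left : H ≤ H ⊔ gam G 2) hhH
    · exact (le_sup_right : gam G 2 ≤ H ⊔ gam G 2) hy
  have hKM : H ⊔ gam G 2 = M := by
    obtain ⟨j, hj⟩ := IsPGroup.iff_card.mp (hGp.to_subgroup (H ⊔ gam G 2))
    have hj4 : j ≤ 4 :=
      (Nat.pow_dvd_pow_iff_le_right (show 1 < 3 by norm_num)).mp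
        (by rw [← hj, ← hG]; exact Subgroup.card_subgroup_dvd_card _)
    have hj3 : 3 ≤ j := by
      have h1 : Nat.card M ∣ Nat.card (H ⊔ gam G 2 : Subgroup G) := Subgroup.card_dvd_of_le hMK
      rw [hj, hcM, show (27 : ℕ) = 3 ^ 3 by norm_num] at h1
      exact (Nat.pow_dvd_pow_iff_le_right (show 1 < 3 by norm_num)).mp h1
    have hj4' : j ≠ 4 := by
      intro h4
      exact hKtop (Subgroup.eq_top_of_card_eq _ (by rw [hj, hG, h4]))
    have hj3' : j = 3 := by omega
    exact (Subgroup.eq_of_le_of_card_ge hMK (by rw [hj, hcM, hj3']; norm_num)).symm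
  have hHM : H ≤ M := hKM ▸ (le_sup_left : H ≤ H ⊔ gam G 2)
  have hHeq : H = M := by
    obtain ⟨i, hi⟩ := IsPGroup.iff_card.mp (hGp.to_subgroup H)
    have hi3 : i ≤ 3 := by
      have h1 : Nat.card H ∣ Nat.card M := Subgroup.card_dvd_of_le hHM
      rw [hi, hcM, show (27 : ℕ) = 3 ^ 3 by norm_num] at h1
      exact (Nat.pow_dvd_pow_iff_le_right (show 1 < 3 by norm_num)).mp h1
    by_cases hi3' : i = 3
    · exact Subgroup.eq_of_le_of_card_ge hHM (by rw [hi, hcM, hi3']; norm_num)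
    · exfalso
      have hi2 : i ≤ 2 := by omega
      have h9 : Nat.card H ≤ 9 := by
        rw [hi]
        calc 3 ^ i ≤ 3 ^ 2 := Nat.pow_le_pow_right (by norm_num) hi2
          _ = 9 := by norm_num
      obtain ⟨T, hT, hcl⟩ := h4_n4_small hG H h9
      exact hH T hT hcl
  refine ⟨M, hcM, hMab, ?_⟩
  intro a haM
  by_contra ha
  obtain ⟨T, hT, hcl⟩ := h4_n4_two_gen hG M hcM a haM ha
  exact hH T hT (hcl.trans hHeq.symm)

end Cfsg.Agent.Lib.helper79.P3
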