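import Mathlib
import Cfsg.Agent.Lib.helper4.P3N4core
import Cfsg.Agent.Lib.helper15.P3UNIF
import Cfsg.Agent.Lib.helper58.P3FRAT
import Cfsg.Agent.Lib.helper46.P3NUA
import Cfsg.Agent.Lib.helper68.P3NUB

set_option autoImplicit false

namespace Cfsg.Agent.Lib.helper79.P3

open Cfsg.Agent.Lib.helper68

/-- N4 (L; uses UNIF, FRAT and the sub-pieces NUA, NUB of NONUNIF). Order 81: all subgroups 2-generated, or an
elementary abelian subgroup of order 27. -/
theorem p3_n4 {G : Type*} [Group G] [Finite G] (hG : Nat.card G = 3 ^ 4) (x : G)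
    (hx : x ^ 3 = 1) (hC : Nat.card (Subgroup.centralizer ({x} : Set G)) = 3 ^ 2) :
    (∀ H : Subgroup G, ∃ T : Finset G, T.card ≤ 2 ∧ Subgroup.closure (T : Set G) = H) ∨
      ∃ M : Subgroup G, Nat.card M = 27 ∧ (∀ a ∈ M, ∀ b ∈ M, a * b = b * a) ∧ ∀ a ∈ M, a ^ 3 = 1 := by
  haveI : Fact (Nat.Prime 3) := ⟨by norm_num⟩
  have hab : ∀ a ∈ gam G 2, ∀ b ∈ gam G 2, a * b = b * a := by
    intro a ha b hb
    have hc : Nat.card (gam G 2) = 3 ^ 2 := by
      have := Cfsg.Agent.Lib.helper79.h79_px_card 3 4 hG x hC (by norm_num) 2 le_rfl (by norm_num)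
      simpa using this
    have := IsPGroup.commutative_of_card_eq_prime_sq hc ⟨a, ha⟩ ⟨b, hb⟩
    exact congrArg Subtype.val this
  refine h4_p3_n4_core hG x hC (fun h hCh H hh => p3_gen_uniform 4 (by norm_num) hG h hCh H hh) ?_
    (fun H h => p3_frat 4 (by norm_num) hG H h)
  intro h hh hCh v hv
  obtain ⟨u, hu2, hun, huh⟩ := p3_nu_a 4 le_rfl hG x hx hC h hh hCh
  exact p3_nu_b 4 le_rfl hG x hx hC hab h u hu2 hun huh 2 le_rfl v hv

end Cfsg.Agent.Lib.helper79.P3
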