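import Mathlib
import Cfsg.Agent.Lib.helper4.BlockNormal
import Cfsg.Agent.Lib.helper4.RepEquiv
import Cfsg.Agent.Lib.helper20.OrbitSum
import Cfsg.Agent.Lib.helper82.CharSums

/-!
# Multiplicativity of character ratios on the centralizer of a Sylow subgroup (helper4 library)

Let `Ν ⊴ Γ`, let `f` be an irreducible character of `Γ` whose restriction to `Ν` is irreducible,
of degree prime to `p`, and let `P` be a `p`-subgroup of `Ν` of index prime to `p`.  If
`f n / f 1 ≡ 1` modulo the maximal ideal for every `n ∈ C_Ν(P)` then `c ↦ f c / f 1` is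
multiplicative modulo the maximal ideal on `C_Γ(P)`.
-/

set_option autoImplicit false

namespace Cfsg.Agent.Lib.helper4

open Cfsg
open scoped ComplexConjugate

universe u

/-- The relative class sum formula: if the restriction of `f` to `Ν` is irreducible then
`∑_{n ∈ Ν} f (x · n y n⁻¹) = |Ν| f x f y / f 1`. -/
theorem sum_mul_conj_of_restrict_irr {Γ : Type u} [Group Γ] [Finite Γ] (Ν : Subgroup Γ)
    [Fintype Ν] {f : Γ → ℂ} (hf : IsIrrCharacter Γ f)
    (hfΝ : IsIrrCharacter Ν (fun n : Ν => f n)) (x y : Γ) :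
    ∑ n : Ν, f (x * ((n : Γ) * y * (n : Γ)⁻¹)) = (Nat.card Ν : ℂ) * f x * f y / f 1 := by
  obtain ⟨d, ρ, hirr, rfl⟩ := hf
  set ρΝ : Representation ℂ Ν (Fin d → ℂ) := MonoidHom.comp ρ Ν.subtype with hρΝdef
  have hρΝ : ρΝ.IsIrreducible := by
    obtain ⟨d', σ, hσ, hσc⟩ := hfΝ
    have hc : σ.character = ρΝ.character := by
      rw [hσc]
      rfl
    obtain ⟨e⟩ := nonempty_equiv_of_character_eq σ ρΝ hc
    exact isIrreducible_of_equiv e hσ
  have := hρΝ
  set T : Module.End ℂ (Fin d → ℂ) := ∑ n : Ν, ρ ((n : Γ) * y * (n : Γ)⁻¹) with hT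
  have hcomm : ∀ m : Ν, T * ρΝ m = ρΝ m * T := by
    intro m
    rw [hT, Finset.sum_mul, Finset.mul_sum]
    rw [← Equiv.sum_comp (Equiv.mulLeft m)
      (fun n : Ν => ρ ((n : Γ) * y * (n : Γ)⁻¹) * ρΝ m)]
    refine Finset.sum_congr rfl (fun n _ => ?_)
    simp only [Equiv.coe_mulLeft]
    show ρ (((m * n : Ν) : Γ) * y * ((m * n : Ν) : Γ)⁻¹) * ρ (m : Γ)
      = ρ (m : Γ) * ρ ((n : Γ) * y * (n : Γ)⁻¹)
    rw [← map_mul, ← map_mul]
    congr 1
    rw [Subgroup.coe_mul]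
    group
  have hsc := helper82.schur_scalar_trace ρΝ T hcomm
  have htr : LinearMap.trace ℂ (Fin d → ℂ) T = (Nat.card Ν : ℂ) * ρ.character y := by
    rw [hT, map_sum]
    have : ∀ n : Ν, LinearMap.trace ℂ (Fin d → ℂ) (ρ ((n : Γ) * y * (n : Γ)⁻¹)) = ρ.character y :=
      fun n => Representation.char_conj ρ y n
    simp only [this, Finset.sum_const, Finset.card_univ, nsmul_eq_mul, Nat.card_eq_fintype_card]
  have h1 : ∀ n : Ν, ρ.character (x * ((n : Γ) * y * (n : Γ)⁻¹)) =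
      LinearMap.trace ℂ _ (ρ x * ρ ((n : Γ) * y * (n : Γ)⁻¹)) := by
    intro n
    rw [← map_mul]
    rfl
  simp only [h1]
  rw [← map_sum, ← Finset.mul_sum, ← hT, hsc, mul_smul_comm, mul_one, map_smul, smul_eq_mul, htr]
  have h2 : LinearMap.trace ℂ _ (ρ x) = ρ.character x := rfl
  have h3 : ρ.character 1 = (Module.finrank ℂ (Fin d → ℂ) : ℂ) := Representation.char_one ρ
  rw [h2, h3]
  ring

section Reduction

variable {p : ℕ} [Fact p.Prime] {M : Ideal AlgInt}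

open scoped Classical in
/-- The number of fixed points of `P` acting on its cosets. -/
noncomputable def fixCard {Ν : Type u} [Group Ν] [Fintype Ν] (P : Subgroup Ν) : ℕ :=
  (Finset.univ.filter (fun X : Ν ⧸ P => X ∈ MulAction.fixedPoints P (Ν ⧸ P))).card

open scoped Classical in
/-- Reduction of a sum of a `P`-biinvariant function to the normalizer of the `p`-group `P`. -/
theorem sum_quot_reduction (hM : IsPModular p M) {Ν : Type u} [Group Ν] [Fintype Ν]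
    (P : Subgroup Ν) (hP : IsPGroup p P) (F : Ν → ℂ) (hFr : ∀ n : Ν, ∀ q ∈ P, F (n * q) = F n)
    (hFl : ∀ n : Ν, ∀ q ∈ P, F (q * n) = F n) (hloc : ∀ n, MemLocalRing M (F n)) (c : ℂ)
    (hN : ∀ n ∈ Subgroup.normalizer (P : Set Ν), MemLocalIdeal M (F n - c)) :
    MemLocalIdeal M ((∑ n : Ν, F n) / (Nat.card P : ℂ) - (fixCard P : ℂ) * c) := by
  have hMp : M.IsPrime := hM.2.1.isPrime
  set Ft : Ν ⧸ P → ℂ := fun X => F X.out with hFt
  have hFmk : ∀ n : Ν, Ft (QuotientGroup.mk n) = F n := by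
    intro n
    obtain ⟨h, hh⟩ := QuotientGroup.mk_out_eq_mul P n
    show F (QuotientGroup.mk n : Ν ⧸ P).out = F n
    rw [hh]
    exact hFr n h h.2
  -- the sum over the group is `|P|` times the sum over the cosets
  have hsum : ∑ n : Ν, F n = (Nat.card P : ℂ) * ∑ X : Ν ⧸ P, Ft X := by
    set φ : (Ν ⧸ P) × P → Ν := fun z => z.1.out * (z.2 : Ν) with hφ
    have hbij : Function.Bijective φ := by
      constructor
      · rintro ⟨X, q⟩ ⟨X', q'⟩ h
        have h1 : (QuotientGroup.mk (X.out * (q : Ν)) : Ν ⧸ P)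
            = QuotientGroup.mk (X'.out * (q' : Ν)) := congrArg _ h
        rw [QuotientGroup.mk_mul_of_mem _ q.2, QuotientGroup.mk_mul_of_mem _ q'.2,
          QuotientGroup.out_eq', QuotientGroup.out_eq'] at h1
        subst h1
        have h2 : (q : Ν) = q' := mul_left_cancel h
        rw [Subtype.ext h2]
      · intro n
        obtain ⟨h, hh⟩ := QuotientGroup.mk_out_eq_mul P n
        refine ⟨(QuotientGroup.mk n, h⁻¹), ?_⟩
        show (QuotientGroup.mk n : Ν ⧸ P).out * ((h⁻¹ : P) : Ν) = n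
        rw [hh, Subgroup.coe_inv, mul_inv_cancel_right]
    rw [← Fintype.sum_bijective φ hbij (fun z => F (φ z)) F (fun z => rfl),
      Fintype.sum_prod_type, Finset.mul_sum]
    refine Finset.sum_congr rfl (fun X _ => ?_)
    have h1 : ∀ q : P, F (φ (X, q)) = Ft X := fun q => hFr _ q q.2
    simp only [h1, Finset.sum_const, Finset.card_univ, nsmul_eq_mul, Nat.card_eq_fintype_card]
  have hP0 : (Nat.card P : ℂ) ≠ 0 := by
    exact_mod_cast Nat.card_pos.ne'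
  rw [hsum, mul_div_assoc, mul_comm, div_mul_cancel₀ _ hP0]
  -- invariance of `Ft`
  have hFinv : ∀ (u : P) (X : Ν ⧸ P), Ft (u • X) = Ft X := by
    intro u X
    induction X using QuotientGroup.induction_on with
    | H n =>
      have h1 : u • (QuotientGroup.mk n : Ν ⧸ P) = QuotientGroup.mk ((u : Ν) * n) := rfl
      rw [h1, hFmk, hFmk]
      exact hFl n u u.2
  have hFloc : ∀ X : Ν ⧸ P, MemLocalRing M (Ft X) := fun X => hloc _
  set S : Finset (Ν ⧸ P) :=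
    Finset.univ.filter (fun X : Ν ⧸ P => X ∈ MulAction.fixedPoints P (Ν ⧸ P)) with hS
  have hsplit : ∑ X : Ν ⧸ P, Ft X = ∑ X ∈ S, Ft X + ∑ X ∈ Finset.univ.filter
      (fun X : Ν ⧸ P => ¬ X ∈ MulAction.fixedPoints P (Ν ⧸ P)), Ft X :=
    (Finset.sum_filter_add_sum_filter_not _ _ _).symm
  have hbad : MemLocalIdeal M (∑ X ∈ Finset.univ.filter
      (fun X : Ν ⧸ P => ¬ X ∈ MulAction.fixedPoints P (Ν ⧸ P)), Ft X) := by
    apply helper20.sum_memLocalIdeal_of_pgroup_action hM hP _ _ _ Ft hFinv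
      (fun X _ => hFloc X)
    · intro X hX u
      rw [Finset.mem_filter] at hX ⊢
      refine ⟨Finset.mem_univ _, fun h => hX.2 ?_⟩
      rw [MulAction.mem_fixedPoints] at h ⊢
      have h1 : X = u • X := by
        have := h u⁻¹
        rwa [inv_smul_smul] at this
      intro v
      rw [h1]
      exact h v
    · intro X hX
      rw [Finset.mem_filter, MulAction.mem_fixedPoints] at hX
      have := hX.2
      push Not at this
      exact this
  have hgood : MemLocalIdeal M (∑ X ∈ S, Ft X - (fixCard P : ℂ) * c) := by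
    have h1 : ∑ X ∈ S, Ft X - (fixCard P : ℂ) * c = ∑ X ∈ S, (Ft X - c) := by
      rw [Finset.sum_sub_distrib, Finset.sum_const, nsmul_eq_mul]
      rfl
    rw [h1]
    apply memLocalIdeal_sum hMp
    intro X hX
    rw [hS, Finset.mem_filter] at hX
    induction X using QuotientGroup.induction_on with
    | H n =>
      rw [hFmk]
      exact hN n (Sylow.mem_fixedPoints_mul_left_cosets_iff_mem_normalizer.mp hX.2)
  rw [hsplit]
  have h2 : ∑ X ∈ S, Ft X + ∑ X ∈ Finset.univ.filter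
      (fun X : Ν ⧸ P => ¬ X ∈ MulAction.fixedPoints P (Ν ⧸ P)), Ft X - (fixCard P : ℂ) * c
      = (∑ X ∈ S, Ft X - (fixCard P : ℂ) * c) + ∑ X ∈ Finset.univ.filter
      (fun X : Ν ⧸ P => ¬ X ∈ MulAction.fixedPoints P (Ν ⧸ P)), Ft X := by ring
  rw [h2]
  exact helper20.memLocalIdeal_add hMp hgood hbad

end Reduction

section Mult

variable {p : ℕ} [Fact p.Prime] {M : Ideal AlgInt}

/-- The ratio `f w / f 1` is a local integer when `p ∤ f 1`. -/
theorem memLocalRing_ratio (hM : IsPModular p M) {Γ : Type u} [Group Γ] [Finite Γ] {f : Γ → ℂ}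
    (hf : IsIrrCharacter Γ f) (hdeg : ¬ p ∣ charDegree f) (w : Γ) :
    MemLocalRing M (f w / f 1) := by
  have h1 : f 1 = (charDegree f : ℂ) := helper82.irr_one_eq (⟨f, hf⟩ : IrrCharacter Γ)
  rw [h1]
  exact helper80.memLocalRing_div_natCast hM
    (⟨f w, isIntegral_of_isCharacter (isCharacter_of_isIrrCharacter hf) w⟩ : AlgInt) hdeg

/-- The reduction of the product of two ratios to the normalizer of `P`. -/
theorem ratio_mul_reduction (hM : IsPModular p M) {Γ : Type u} [Group Γ] [Finite Γ]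
    (Ν : Subgroup Γ) [Fintype Ν] (P : Subgroup Ν) (hP : IsPGroup p P) {f : Γ → ℂ}
    (hf : IsIrrCharacter Γ f) (hfΝ : IsIrrCharacter Ν (fun n : Ν => f n))
    (hdeg : ¬ p ∣ charDegree f) (x y : Γ)
    (hx : ∀ q ∈ P, x * ((q : Ν) : Γ) = ((q : Ν) : Γ) * x)
    (hy : ∀ q ∈ P, y * ((q : Ν) : Γ) = ((q : Ν) : Γ) * y) (c : ℂ)
    (hc : ∀ n ∈ Subgroup.normalizer (P : Set Ν),
      MemLocalIdeal M (f (x * ((n : Γ) * y * (n : Γ)⁻¹)) / f 1 - c)) :
    MemLocalIdeal M ((P.index : ℂ) * (f x / f 1) * (f y / f 1) - (fixCard P : ℂ) * c) := by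
  have hcf := isClassFunction_of_isIrrCharacter hf
  have h1 := sum_quot_reduction hM P hP (fun n : Ν => f (x * ((n : Γ) * y * (n : Γ)⁻¹)) / f 1)
    (fun n q hq => by
      show f (x * (((n * q : Ν) : Γ) * y * ((n * q : Ν) : Γ)⁻¹)) / f 1
        = f (x * ((n : Γ) * y * (n : Γ)⁻¹)) / f 1
      have h2 : ((n * q : Ν) : Γ) * y * ((n * q : Ν) : Γ)⁻¹ = (n : Γ) * y * (n : Γ)⁻¹ := by
        rw [Subgroup.coe_mul, mul_inv_rev]
        have h3 := hy q hq
        calc (n : Γ) * (q : Γ) * y * ((q : Γ)⁻¹ * (n : Γ)⁻¹)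
            = (n : Γ) * ((q : Γ) * y) * (q : Γ)⁻¹ * (n : Γ)⁻¹ := by group
          _ = (n : Γ) * (y * (q : Γ)) * (q : Γ)⁻¹ * (n : Γ)⁻¹ := by rw [h3]
          _ = (n : Γ) * y * (n : Γ)⁻¹ := by group
      rw [h2])
    (fun n q hq => by
      show f (x * (((q * n : Ν) : Γ) * y * ((q * n : Ν) : Γ)⁻¹)) / f 1
        = f (x * ((n : Γ) * y * (n : Γ)⁻¹)) / f 1
      have h2 : x * (((q * n : Ν) : Γ) * y * ((q * n : Ν) : Γ)⁻¹)
          = (q : Γ) * (x * ((n : Γ) * y * (n : Γ)⁻¹)) * (q : Γ)⁻¹ := by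
        rw [Subgroup.coe_mul, mul_inv_rev]
        have h3 := hx q hq
        calc x * ((q : Γ) * (n : Γ) * y * ((n : Γ)⁻¹ * (q : Γ)⁻¹))
            = (x * (q : Γ)) * ((n : Γ) * y * (n : Γ)⁻¹) * (q : Γ)⁻¹ := by group
          _ = ((q : Γ) * x) * ((n : Γ) * y * (n : Γ)⁻¹) * (q : Γ)⁻¹ := by rw [h3]
          _ = (q : Γ) * (x * ((n : Γ) * y * (n : Γ)⁻¹)) * (q : Γ)⁻¹ := by group
      rw [h2, hcf])
    (fun n => memLocalRing_ratio hM hf hdeg _) c hc
  have h4 := sum_mul_conj_of_restrict_irr Ν hf hfΝ x y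
  have h5 : ∑ n : Ν, f (x * ((n : Γ) * y * (n : Γ)⁻¹)) / f 1
      = (Nat.card Ν : ℂ) * f x * f y / f 1 / f 1 := by
    rw [← Finset.sum_div, h4]
  have h6 : (Nat.card Ν : ℂ) = (Nat.card P : ℂ) * (P.index : ℂ) := by
    rw [← Nat.cast_mul, Subgroup.card_mul_index]
  have hP0 : (Nat.card P : ℂ) ≠ 0 := by
    exact_mod_cast Nat.card_pos.ne'
  have h7 : (∑ n : Ν, f (x * ((n : Γ) * y * (n : Γ)⁻¹)) / f 1) / (Nat.card P : ℂ)
      = (P.index : ℂ) * (f x / f 1) * (f y / f 1) := by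
    rw [h5, h6]
    field_simp
  rw [h7] at h1
  exact h1

/-- **Multiplicativity of the ratio on the centralizer of a Sylow subgroup.** -/
theorem ratio_mul_of_centralizer (hM : IsPModular p M) {Γ : Type u} [Group Γ] [Finite Γ]
    (Ν : Subgroup Γ) [hΝ : Ν.Normal] (P : Subgroup Ν) (hP : IsPGroup p P)
    (hPidx : ¬ p ∣ P.index) {f : Γ → ℂ} (hf : IsIrrCharacter Γ f)
    (hfΝ : IsIrrCharacter Ν (fun n : Ν => f n)) (hdeg : ¬ p ∣ charDegree f)
    (hB : ∀ n : Ν, (∀ q ∈ P, n * q = q * n) → MemLocalIdeal M (f n / f 1 - 1)) (x y : Γ)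
    (hx : ∀ q ∈ P, x * ((q : Ν) : Γ) = ((q : Ν) : Γ) * x)
    (hy : ∀ q ∈ P, y * ((q : Ν) : Γ) = ((q : Ν) : Γ) * y) :
    MemLocalIdeal M (f (x * y) / f 1 - f x / f 1 * (f y / f 1)) := by
  classical
  have : Fintype Ν := Fintype.ofFinite Ν
  have hMp : M.IsPrime := hM.2.1.isPrime
  have hf1 : f 1 ≠ 0 := irr_degree_ne_zero hf
  have hloc : ∀ w : Γ, MemLocalRing M (f w / f 1) := fun w => memLocalRing_ratio hM hf hdeg w
  have hone : ∀ q ∈ P, (1 : Γ) * ((q : Ν) : Γ) = ((q : Ν) : Γ) * 1 := fun q _ => by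
    rw [one_mul, mul_one]
  -- `r ≡ φ`
  have hrφ : MemLocalIdeal M ((P.index : ℂ) - (fixCard P : ℂ)) := by
    have h1 := ratio_mul_reduction hM Ν P hP hf hfΝ hdeg 1 1 hone hone 1 (fun n _ => by
      have h2 : (1 : Γ) * ((n : Γ) * 1 * (n : Γ)⁻¹) = 1 := by group
      rw [h2, div_self hf1, sub_self]
      exact helper20.memLocalIdeal_zero hMp)
    rw [div_self hf1, mul_one, mul_one, mul_one] at h1
    exact h1
  -- conjugates by the normalizer stay in the centralizer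
  have hconj : ∀ (z : Γ), (∀ q ∈ P, z * ((q : Ν) : Γ) = ((q : Ν) : Γ) * z) →
      ∀ n ∈ Subgroup.normalizer (P : Set Ν), ∀ q ∈ P,
        ((n : Γ) * z * (n : Γ)⁻¹) * ((q : Ν) : Γ) = ((q : Ν) : Γ) * ((n : Γ) * z * (n : Γ)⁻¹) := by
    intro z hz n hn q hq
    have h1 : n⁻¹ * q * n ∈ P := by
      have h2 := (Subgroup.mem_normalizer_iff.mp (Subgroup.inv_mem _ hn) q).mp hq
      rwa [inv_inv] at h2
    have h3 := hz _ h1
    rw [Subgroup.coe_mul, Subgroup.coe_mul, Subgroup.coe_inv] at h3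
    calc (n : Γ) * z * (n : Γ)⁻¹ * (q : Γ)
        = (n : Γ) * (z * ((n : Γ)⁻¹ * (q : Γ) * (n : Γ))) * (n : Γ)⁻¹ := by group
      _ = (n : Γ) * (((n : Γ)⁻¹ * (q : Γ) * (n : Γ)) * z) * (n : Γ)⁻¹ := by rw [h3]
      _ = (q : Γ) * ((n : Γ) * z * (n : Γ)⁻¹) := by group
  have hmulc : ∀ (a b : Γ), (∀ q ∈ P, a * ((q : Ν) : Γ) = ((q : Ν) : Γ) * a) →
      (∀ q ∈ P, b * ((q : Ν) : Γ) = ((q : Ν) : Γ) * b) →
      ∀ q ∈ P, (a * b) * ((q : Ν) : Γ) = ((q : Ν) : Γ) * (a * b) := by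
    intro a b ha hb q hq
    rw [mul_assoc, hb q hq, ← mul_assoc, ha q hq, mul_assoc]
  have hinvc : ∀ (a : Γ), (∀ q ∈ P, a * ((q : Ν) : Γ) = ((q : Ν) : Γ) * a) →
      ∀ q ∈ P, a⁻¹ * ((q : Ν) : Γ) = ((q : Ν) : Γ) * a⁻¹ := by
    intro a ha q hq
    have h1 := ha q hq
    calc a⁻¹ * (q : Γ) = a⁻¹ * ((q : Γ) * a) * a⁻¹ := by group
      _ = a⁻¹ * (a * (q : Γ)) * a⁻¹ := by rw [h1]
      _ = (q : Γ) * a⁻¹ := by group
  -- the case `x y ∈ Ν`
  have hC : ∀ (a b : Γ), (∀ q ∈ P, a * ((q : Ν) : Γ) = ((q : Ν) : Γ) * a) →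
      (∀ q ∈ P, b * ((q : Ν) : Γ) = ((q : Ν) : Γ) * b) → a * b ∈ Ν →
      MemLocalIdeal M (f a / f 1 * (f b / f 1) - 1) := by
    intro a b ha hb hab
    have h1 := ratio_mul_reduction hM Ν P hP hf hfΝ hdeg a b ha hb 1 (fun n hn => by
      have hw : a * ((n : Γ) * b * (n : Γ)⁻¹) ∈ Ν := by
        have h2 : a * ((n : Γ) * b * (n : Γ)⁻¹)
            = (a * b) * ((b⁻¹ * (n : Γ) * b⁻¹⁻¹) * (n : Γ)⁻¹) := by group
        rw [h2]
        exact Ν.mul_mem hab (Ν.mul_mem (hΝ.conj_mem _ n.2 _) (Ν.inv_mem n.2))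
      have h3 := hB ⟨_, hw⟩ (fun q hq => by
        apply Subtype.ext
        rw [Subgroup.coe_mul, Subgroup.coe_mul]
        exact hmulc a _ ha (hconj b hb n hn) q hq)
      exact h3)
    rw [mul_one] at h1
    have h4 : (P.index : ℂ) * (f a / f 1 * (f b / f 1) - 1)
        = ((P.index : ℂ) * (f a / f 1) * (f b / f 1) - (fixCard P : ℂ))
          - ((P.index : ℂ) - (fixCard P : ℂ)) := by ring
    apply memLocalIdeal_of_natCast_mul hM hPidx
    rw [h4]
    exact helper20.memLocalIdeal_sub hMp h1 hrφ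
  -- the general case
  have hxy := hmulc x y hx hy
  have hxyi := hinvc (x * y) hxy
  have h1 := ratio_mul_reduction hM Ν P hP hf hfΝ hdeg x y hx hy (f (x * y) / f 1)
    (fun n hn => by
      set w := x * ((n : Γ) * y * (n : Γ)⁻¹) with hw
      have hwc := hmulc x _ hx (hconj y hy n hn)
      have hwΝ : w * (x * y)⁻¹ ∈ Ν := by
        have h2 : w * (x * y)⁻¹ = x * ((n : Γ) * (y * (n : Γ)⁻¹ * y⁻¹)) * x⁻¹ := by
          rw [hw]; group
        rw [h2]
        exact hΝ.conj_mem _ (Ν.mul_mem n.2 (hΝ.conj_mem _ (Ν.inv_mem n.2) _)) _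
      have h3 := hC w (x * y)⁻¹ hwc hxyi hwΝ
      have h4 := hC (x * y) (x * y)⁻¹ hxy hxyi (by rw [mul_inv_cancel]; exact Ν.one_mem)
      have h5 : f w / f 1 - f (x * y) / f 1
          = f (x * y) / f 1 * (f w / f 1 * (f (x * y)⁻¹ / f 1) - 1)
            - f w / f 1 * (f (x * y) / f 1 * (f (x * y)⁻¹ / f 1) - 1) := by ring
      rw [h5]
      exact helper20.memLocalIdeal_sub hMp (helper20.memLocalIdeal_mul_left hMp (hloc _) h3)
        (helper20.memLocalIdeal_mul_left hMp (hloc _) h4))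
  have h6 : (P.index : ℂ) * (f (x * y) / f 1 - f x / f 1 * (f y / f 1))
      = ((P.index : ℂ) - (fixCard P : ℂ)) * (f (x * y) / f 1)
        - ((P.index : ℂ) * (f x / f 1) * (f y / f 1) - (fixCard P : ℂ) * (f (x * y) / f 1)) := by
    ring
  apply memLocalIdeal_of_natCast_mul hM hPidx
  rw [h6]
  exact helper20.memLocalIdeal_sub hMp (helper20.memLocalIdeal_mul_right hMp hrφ (hloc _)) h1

end Mult

end Cfsg.Agent.Lib.helper4
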