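import Mathlib
import Cfsg.Agent.Lib.helper4.PRatMult
import Cfsg.Agent.Lib.helper4.OddIndex
import Cfsg.Agent.Lib.helper20.NilTrace
import Cfsg.Agent.Lib.helper80.PolyConv
import Cfsg.Agent.Lib.helper79.CycloLocal
import Cfsg.Agent.Lib.helper79.GaloisChar
import Cfsg.Agent.Lib.helper84.LinTwist

/-!
# Extension steps for `p`-rational characters congruent to their degree (helper4 library)

Abstract cyclic extension steps and the uniqueness statement used for the `p`-rational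
extension of a `p`-rational character of the principal block.
-/

set_option autoImplicit false
set_option linter.unusedSectionVars false

namespace Cfsg.Agent.Lib.helper4

open Cfsg
open scoped ComplexConjugate

universe u

section LocalLemmas

variable {p : ℕ} [Fact p.Prime] {M : Ideal AlgInt}

/-- A root of unity of order prime to `p` which is `≡ 1` is `1`. -/
theorem eq_one_of_pow_eq_one_of_memLocalIdeal (hM : IsPModular p M) {ζ : ℂ} {n : ℕ}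
    (hn : ¬ p ∣ n) (hζ : ζ ^ n = 1) (h : MemLocalIdeal M (ζ - 1)) : ζ = 1 := by
  have hMp : M.IsPrime := hM.2.1.isPrime
  by_contra hne
  have hn0 : n ≠ 0 := by
    rintro rfl
    exact hn (dvd_zero p)
  have hint : IsIntegral ℤ ζ := ⟨Polynomial.X ^ n - 1, Polynomial.monic_X_pow_sub_C 1 hn0, by
    simp [hζ]⟩
  have hsum : ∑ j ∈ Finset.range n, ζ ^ j = 0 := by
    have h1 := mul_geom_sum ζ n
    rw [hζ, sub_self] at h1
    rcases mul_eq_zero.mp h1 with h2 | h2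
    · exact absurd (sub_eq_zero.mp h2) hne
    · exact h2
  have hterm : ∀ j ∈ Finset.range n, MemLocalIdeal M (ζ ^ j - 1) := by
    intro j _
    have h1 := mul_geom_sum ζ j
    rw [← h1]
    apply helper20.memLocalIdeal_mul_right hMp h
    exact helper79.memLocalRing_of_isIntegral hMp
      (IsIntegral.sum _ (fun i _ => IsIntegral.pow hint i))
  have h3 := helper20.memLocalIdeal_sum hMp (Finset.range n) _ hterm
  rw [Finset.sum_sub_distrib, hsum, Finset.sum_const, Finset.card_range, nsmul_eq_mul, mul_one,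
    zero_sub] at h3
  have h4 := helper20.memLocalIdeal_neg h3
  rw [neg_neg] at h4
  exact helper80.not_memLocalIdeal_natCast hM hn h4

/-- Frobenius is injective modulo the maximal ideal: `z ^ p ^ a ≡ 1` forces `z ≡ 1`. -/
theorem memLocalIdeal_sub_one_of_pow_prime_pow (hM : IsPModular p M) {z : ℂ}
    (hz : MemLocalRing M z) (a : ℕ) (h : MemLocalIdeal M (z ^ (p ^ a) - 1)) :
    MemLocalIdeal M (z - 1) := by
  have hMp : M.IsPrime := hM.2.1.isPrime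
  have hp : p.Prime := Fact.out
  induction a generalizing z with
  | zero => simpa using h
  | succ a ih =>
    have h1 : z ^ (p ^ (a + 1)) = (z ^ p) ^ (p ^ a) := by
      rw [← pow_mul, pow_succ, mul_comm]
    rw [h1] at h
    have hzp : MemLocalRing M (z ^ p) := by
      have := helper20.memLocalRing_prod hMp (Finset.range p) (fun _ => z) (fun _ _ => hz)
      simpa using this
    have h2 := ih hzp h
    have h3 := add_pow_prime_eq hp (z - 1) 1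
    rw [sub_add_cancel] at h3
    have hw : MemLocalRing M (z - 1) := helper20.memLocalRing_sub hMp hz (helper20.memLocalRing_one hMp)
    have hS : MemLocalRing M (∑ k ∈ Finset.Ioo 0 p,
        (z - 1) ^ (k - 1) * (1 : ℂ) ^ (p - k - 1) * ((p.choose k / p : ℕ) : ℂ)) := by
      apply helper20.memLocalRing_sum hMp
      intro k _
      apply helper20.memLocalRing_mul hMp (helper20.memLocalRing_mul hMp _ _)
        (helper20.memLocalRing_natCast hMp _)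
      · have := helper20.memLocalRing_prod hMp (Finset.range (k - 1)) (fun _ => z - 1)
          (fun _ _ => hw)
        simpa using this
      · rw [one_pow]
        exact helper20.memLocalRing_one hMp
    have h4 : (z - 1) ^ p = (z ^ p - 1) - (p : ℂ) * ((z - 1) * 1 * ∑ k ∈ Finset.Ioo 0 p,
        (z - 1) ^ (k - 1) * (1 : ℂ) ^ (p - k - 1) * ((p.choose k / p : ℕ) : ℂ)) := by
      rw [h3]
      ring
    have h5 : MemLocalIdeal M ((z - 1) ^ p) := by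
      rw [h4]
      apply helper20.memLocalIdeal_sub hMp h2
      apply helper20.memLocalIdeal_mul_right hMp (helper20.memLocalIdeal_prime hM)
      exact helper20.memLocalRing_mul hMp (helper20.memLocalRing_mul hMp hw
        (helper20.memLocalRing_one hMp)) hS
    exact helper20.memLocalIdeal_of_pow hMp hw p h5

/-- An element whose `n`-th power is `≡ 1` is `≡` an `n`-th root of unity. -/
theorem exists_root_of_pow_sub_one (hM : IsPModular p M) {z : ℂ} (hz : MemLocalRing M z)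
    {n : ℕ} (hn : 0 < n) (h : MemLocalIdeal M (z ^ n - 1)) :
    ∃ ζ : ℂ, ζ ^ n = 1 ∧ MemLocalIdeal M (z - ζ) := by
  have hMp : M.IsPrime := hM.2.1.isPrime
  have hprim := Complex.isPrimitiveRoot_exp n hn.ne'
  have h1 := congrArg (Polynomial.eval z) (Polynomial.X_pow_sub_one_eq_prod hn hprim)
  rw [Polynomial.eval_sub, Polynomial.eval_pow, Polynomial.eval_X, Polynomial.eval_one,
    Polynomial.eval_prod] at h1
  simp only [Polynomial.eval_sub, Polynomial.eval_X, Polynomial.eval_C] at h1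
  rw [h1] at h
  by_contra hcon
  push Not at hcon
  apply helper80.not_memLocalIdeal_prod hMp _ _ _ _ h
  · intro ζ hζ
    have hζn : ζ ^ n = 1 := (Polynomial.mem_nthRootsFinset hn 1).mp hζ
    have hint : IsIntegral ℤ ζ := ⟨Polynomial.X ^ n - 1, Polynomial.monic_X_pow_sub_C 1 hn.ne', by
      simp [hζn]⟩
    exact helper20.memLocalRing_sub hMp hz (helper79.memLocalRing_of_isIntegral hMp hint)
  · intro ζ hζ
    exact hcon ζ ((Polynomial.mem_nthRootsFinset hn 1).mp hζ)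

end LocalLemmas

section Steps

variable {p : ℕ} [Fact p.Prime] {M : Ideal AlgInt}

/-- Powers: a multiplicative-mod-`M` ratio is power-compatible. -/
theorem ratio_pow (hMp : M.IsPrime) {Γ : Type u} [Group Γ] (S : Subgroup Γ) (χ : Γ → ℂ)
    (hloc : ∀ w, MemLocalRing M (χ w / χ 1)) (h1 : χ 1 ≠ 0)
    (hmul : ∀ x ∈ S, ∀ y ∈ S, MemLocalIdeal M (χ (x * y) / χ 1 - χ x / χ 1 * (χ y / χ 1)))
    (c : Γ) (hc : c ∈ S) (j : ℕ) : MemLocalIdeal M (χ (c ^ j) / χ 1 - (χ c / χ 1) ^ j) := by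
  induction j with
  | zero =>
    rw [pow_zero, pow_zero, div_self h1, sub_self]
    exact helper20.memLocalIdeal_zero hMp
  | succ j ih =>
    have h2 := hmul (c ^ j) (S.pow_mem hc j) c hc
    have h3 : χ (c ^ (j + 1)) / χ 1 - (χ c / χ 1) ^ (j + 1)
        = (χ (c ^ j * c) / χ 1 - χ (c ^ j) / χ 1 * (χ c / χ 1))
          + (χ (c ^ j) / χ 1 - (χ c / χ 1) ^ j) * (χ c / χ 1) := by
      rw [pow_succ, pow_succ]
      ring
    rw [h3]
    exact helper20.memLocalIdeal_add hMp h2 (helper20.memLocalIdeal_mul_right hMp ih (hloc c))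

/-- The degree of an extension. -/
theorem charDegree_eq_of_extends {Γ : Type u} [Group Γ] (Ν : Subgroup Γ) {χ : Γ → ℂ} {θ : Ν → ℂ}
    (hext : ∀ n : Ν, χ n = θ n) : charDegree χ = charDegree θ := by
  unfold charDegree
  have h1 := hext 1
  rw [Subgroup.coe_one] at h1
  rw [h1]

/-- The `p`-power step: congruence of the extension on `S`. -/
theorem ratio_congr_of_pow (hM : IsPModular p M) {Γ : Type u} [Group Γ] [Finite Γ]
    (Ν : Subgroup Γ) (a : ℕ) (hpow : ∀ g : Γ, g ^ (p ^ a) ∈ Ν) (S : Subgroup Γ) {θ : Ν → ℂ}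
    (hdeg : ¬ p ∣ charDegree θ) {χ : Γ → ℂ} (hχ : IsIrrCharacter Γ χ)
    (hext : ∀ n : Ν, χ n = θ n)
    (hmul : ∀ x ∈ S, ∀ y ∈ S, MemLocalIdeal M (χ (x * y) / χ 1 - χ x / χ 1 * (χ y / χ 1)))
    (hC : ∀ c : Ν, (c : Γ) ∈ S → MemLocalIdeal M (θ c / θ 1 - 1)) :
    ∀ c ∈ S, MemLocalIdeal M (χ c / χ 1 - 1) := by
  have hMp : M.IsPrime := hM.2.1.isPrime
  have hdeg' : ¬ p ∣ charDegree χ := by rw [charDegree_eq_of_extends Ν hext]; exact hdeg
  have hloc : ∀ w, MemLocalRing M (χ w / χ 1) := fun w => memLocalRing_ratio hM hχ hdeg' w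
  have hχ1 : χ 1 ≠ 0 := irr_degree_ne_zero hχ
  have h11 : χ 1 = θ 1 := by
    have h1 := hext 1
    rwa [Subgroup.coe_one] at h1
  intro c hc
  have h2 := ratio_pow hMp S χ hloc hχ1 hmul c hc (p ^ a)
  have h3 := hC ⟨c ^ (p ^ a), hpow c⟩ (S.pow_mem hc _)
  rw [← hext, ← h11] at h3
  apply memLocalIdeal_sub_one_of_pow_prime_pow hM (hloc c) a
  have h4 : (χ c / χ 1) ^ (p ^ a) - 1
      = (χ (c ^ (p ^ a)) / χ 1 - 1) - (χ (c ^ (p ^ a)) / χ 1 - (χ c / χ 1) ^ (p ^ a)) := by ring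
  rw [h4]
  exact helper20.memLocalIdeal_sub hMp h3 h2

/-- **The `p`-power cyclic step.** -/
theorem exists_ext_pstep (hM : IsPModular p M) {Γ : Type u} [Group Γ] [Finite Γ]
    (Ν : Subgroup Γ) [Ν.Normal] (hcyc : IsCyclic (Γ ⧸ Ν)) (a : ℕ)
    (hpow : ∀ g : Γ, g ^ (p ^ a) ∈ Ν) (k : ℕ) (hk : k.Coprime (Nat.card Γ))
    (hk2 : ∀ ζ : ℂ, ζ ^ (p ^ a) = 1 → ζ ^ k = ζ ^ 2) (S : Subgroup Γ) {θ : Ν → ℂ}
    (hθ : IsIrrCharacter Ν θ) (hinv : ∀ g : Γ, helper82.cconj Ν g θ = θ)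
    (hσ : ∀ n : Ν, θ (n ^ k) = θ n) (hdeg : ¬ p ∣ charDegree θ)
    (hmul : ∀ χ : Γ → ℂ, IsIrrCharacter Γ χ → (∀ n : Ν, χ n = θ n) → ∀ x ∈ S, ∀ y ∈ S,
      MemLocalIdeal M (χ (x * y) / χ 1 - χ x / χ 1 * (χ y / χ 1)))
    (hC : ∀ c : Ν, (c : Γ) ∈ S → MemLocalIdeal M (θ c / θ 1 - 1)) :
    ∃ χ : Γ → ℂ, IsIrrCharacter Γ χ ∧ (∀ n : Ν, χ n = θ n) ∧ (∀ g, χ (g ^ k) = χ g) ∧
      ∀ c ∈ S, MemLocalIdeal M (χ c / χ 1 - 1) := by
  classical
  have : Fintype Γ := Fintype.ofFinite Γ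
  have : Fintype Ν := Fintype.ofFinite Ν
  obtain ⟨χ₀, hχ₀, hext⟩ := helper82.exists_extension_of_cyclic Ν hcyc hθ hinv
  have hres : (fun n : Ν => χ₀ n) = θ := funext hext
  have hχσ : IsIrrCharacter Γ (fun g => χ₀ (g ^ k)) :=
    helper79.isIrrCharacter_pow_coprime k hk hχ₀
  have hresσ : (fun n : Ν => (fun g => χ₀ (g ^ k)) n) = θ := by
    funext n
    show χ₀ ((n : Γ) ^ k) = θ n
    have h1 := hext (n ^ k)
    rw [Subgroup.coe_pow] at h1
    rw [h1, hσ n]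
  obtain ⟨β, hβ, hβΝ, hβeq⟩ := helper19.gallagher Ν χ₀ hχ₀ (by rw [hres]; exact hθ)
    (fun g => χ₀ (g ^ k)) hχσ (by rw [hresσ, hres, classInner_irr_self hθ]; exact one_ne_zero)
  have hχ1 : χ₀ 1 ≠ 0 := irr_degree_ne_zero hχ₀
  have hβ1 : β 1 = 1 := by
    have h1 := congrFun hβeq 1
    simp only [Pi.mul_apply, one_pow] at h1
    have h2 : χ₀ 1 * (β 1 - 1) = 0 := by rw [mul_sub, ← h1]; ring
    rcases mul_eq_zero.mp h2 with h3 | h3
    · exact absurd h3 hχ1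
    · exact sub_eq_zero.mp h3
  obtain ⟨f, hf⟩ := helper82.exists_hom_of_linear (isCharacter_of_isIrrCharacter hβ) hβ1
  have hfΝ : ∀ x ∈ Ν, f x = 1 := by
    intro x hx
    apply Units.ext
    rw [← hf, hβΝ x hx, hβ1, Units.val_one]
  have hfσ : ∀ g : Γ, χ₀ (g ^ k) = χ₀ g * ((f g : ℂˣ) : ℂ) := by
    intro g
    have h1 := congrFun hβeq g
    simp only [Pi.mul_apply] at h1
    rw [h1, hf]
  have hfp : ∀ g : Γ, ((f g : ℂˣ) : ℂ) ^ (p ^ a) = 1 := by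
    intro g
    rw [← Units.val_pow_eq_pow_val, ← map_pow, hfΝ _ (hpow g), Units.val_one]
  set lam : Γ →* ℂˣ := f⁻¹ with hlam
  have hlv : ∀ g : Γ, ((lam g : ℂˣ) : ℂ) = ((f g : ℂˣ) : ℂ)⁻¹ := by
    intro g
    rw [hlam, MonoidHom.inv_apply, Units.val_inv_eq_inv_val]
  have hχ : IsIrrCharacter Γ (fun g => ((lam g : ℂˣ) : ℂ) * χ₀ g) :=
    helper84.irr_twist lam ⟨χ₀, hχ₀⟩
  have hχext : ∀ n : Ν, (fun g => ((lam g : ℂˣ) : ℂ) * χ₀ g) n = θ n := by
    intro n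
    show ((lam (n : Γ) : ℂˣ) : ℂ) * χ₀ n = θ n
    rw [hlv, hfΝ n n.2, Units.val_one, inv_one, one_mul, hext n]
  refine ⟨fun g => ((lam g : ℂˣ) : ℂ) * χ₀ g, hχ, hχext, ?_,
    ratio_congr_of_pow hM Ν a hpow S hdeg hχ hχext (hmul _ hχ hχext) hC⟩
  intro g
  show ((lam (g ^ k) : ℂˣ) : ℂ) * χ₀ (g ^ k) = ((lam g : ℂˣ) : ℂ) * χ₀ g
  rw [hfσ g, hlv, hlv, map_pow, Units.val_pow_eq_pow_val, hk2 _ (hfp g)]
  have hz0 : ((f g : ℂˣ) : ℂ) ≠ 0 := (f g).ne_zero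
  field_simp

/-- Elements of `Γ = Ν ⟨c₀⟩` are of the form `x c₀ ^ i`. -/
theorem exists_mul_pow_of_sup_zpowers {Γ : Type u} [Group Γ] [Finite Γ] (Ν : Subgroup Γ)
    [Ν.Normal] (c₀ : Γ) (hc₀ : Ν ⊔ Subgroup.zpowers c₀ = ⊤) (g : Γ) :
    ∃ x ∈ Ν, ∃ i : ℕ, g = x * c₀ ^ i := by
  have h1 : g ∈ ((Ν ⊔ Subgroup.zpowers c₀ : Subgroup Γ) : Set Γ) := by
    rw [hc₀]
    exact Subgroup.mem_top g
  rw [Subgroup.normal_mul] at h1
  obtain ⟨x, hx, z, hz, rfl⟩ := Set.mem_mul.mp h1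
  have hz' : z ∈ Submonoid.powers c₀ := (mem_powers_iff_mem_zpowers).mpr hz
  obtain ⟨i, rfl⟩ := (Submonoid.mem_powers_iff _ _).mp hz'
  exact ⟨x, hx, i, rfl⟩

/-- **The `p'` cyclic step.** -/
theorem exists_ext_p'step (hM : IsPModular p M) {Γ : Type u} [Group Γ] [Finite Γ]
    (Ν : Subgroup Γ) [Ν.Normal] (hidx : ¬ p ∣ Ν.index) (c₀ : Γ)
    (hc₀ : Ν ⊔ Subgroup.zpowers c₀ = ⊤) (S : Subgroup Γ) (hc₀S : c₀ ∈ S) (k : ℕ)
    (hk : k.Coprime (Nat.card Γ)) {θ : Ν → ℂ}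
    (hθ : IsIrrCharacter Ν θ) (hinv : ∀ g : Γ, helper82.cconj Ν g θ = θ)
    (hσ : ∀ n : Ν, θ (n ^ k) = θ n) (hdeg : ¬ p ∣ charDegree θ)
    (hmul : ∀ χ : Γ → ℂ, IsIrrCharacter Γ χ → (∀ n : Ν, χ n = θ n) → ∀ x ∈ S, ∀ y ∈ S,
      MemLocalIdeal M (χ (x * y) / χ 1 - χ x / χ 1 * (χ y / χ 1)))
    (hC : ∀ c : Ν, (c : Γ) ∈ S → MemLocalIdeal M (θ c / θ 1 - 1)) :
    ∃ χ : Γ → ℂ, IsIrrCharacter Γ χ ∧ (∀ n : Ν, χ n = θ n) ∧ (∀ g, χ (g ^ k) = χ g) ∧
      ∀ c ∈ S, MemLocalIdeal M (χ c / χ 1 - 1) := by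
  classical
  have : Fintype Γ := Fintype.ofFinite Γ
  have : Fintype Ν := Fintype.ofFinite Ν
  have hMp : M.IsPrime := hM.2.1.isPrime
  have hcyc : IsCyclic (Γ ⧸ Ν) := isCyclic_quotient_of_sup_zpowers Ν c₀ hc₀
  have hdec := exists_mul_pow_of_sup_zpowers Ν c₀ hc₀
  obtain ⟨χ₀, hχ₀, hext⟩ := helper82.exists_extension_of_cyclic Ν hcyc hθ hinv
  set n := Ν.index with hn
  have hn0 : 0 < n := Nat.pos_of_ne_zero Subgroup.index_ne_zero_of_finite
  have hc₀n : c₀ ^ n ∈ Ν := by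
    rw [← QuotientGroup.eq_one_iff, QuotientGroup.mk_pow, hn, Subgroup.index_eq_card]
    exact pow_card_eq_one'
  have hdeg₀ : ¬ p ∣ charDegree χ₀ := by rw [charDegree_eq_of_extends Ν hext]; exact hdeg
  have hloc₀ : ∀ w, MemLocalRing M (χ₀ w / χ₀ 1) := fun w => memLocalRing_ratio hM hχ₀ hdeg₀ w
  have hχ₀1 : χ₀ 1 ≠ 0 := irr_degree_ne_zero hχ₀
  have h11 : χ₀ 1 = θ 1 := by
    have h1 := hext 1
    rwa [Subgroup.coe_one] at h1
  -- the ratio at `c₀` is congruent to a root of unity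
  obtain ⟨ζ, hζn, hζ⟩ : ∃ ζ : ℂ, ζ ^ n = 1 ∧ MemLocalIdeal M (χ₀ c₀ / χ₀ 1 - ζ) := by
    apply exists_root_of_pow_sub_one hM (hloc₀ c₀) hn0
    have h2 := ratio_pow hMp S χ₀ hloc₀ hχ₀1 (hmul χ₀ hχ₀ hext) c₀ hc₀S n
    have h3 := hC ⟨c₀ ^ n, hc₀n⟩ (S.pow_mem hc₀S _)
    rw [← hext, ← h11] at h3
    have h4 : (χ₀ c₀ / χ₀ 1) ^ n - 1
        = (χ₀ (c₀ ^ n) / χ₀ 1 - 1) - (χ₀ (c₀ ^ n) / χ₀ 1 - (χ₀ c₀ / χ₀ 1) ^ n) := by ring
    rw [h4]
    exact helper20.memLocalIdeal_sub hMp h3 h2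
  have hζ0 : ζ ≠ 0 := by
    rintro rfl
    rw [zero_pow hn0.ne'] at hζn
    exact zero_ne_one hζn
  -- the linear character of `Γ / Ν` with value `ζ⁻¹` at `c₀`
  set gen : Γ ⧸ Ν := QuotientGroup.mk c₀ with hgen
  have hgenall : ∀ x : Γ ⧸ Ν, x ∈ Subgroup.zpowers gen := by
    intro x
    obtain ⟨g, rfl⟩ := QuotientGroup.mk_surjective x
    obtain ⟨y, hy, i, rfl⟩ := hdec g
    rw [QuotientGroup.mk_mul, (QuotientGroup.eq_one_iff y).mpr hy, one_mul, QuotientGroup.mk_pow]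
    exact Subgroup.pow_mem _ (Subgroup.mem_zpowers gen) i
  have hord : orderOf gen = n := by
    rw [orderOf_eq_card_of_forall_mem_zpowers hgenall, hn, Subgroup.index_eq_card]
  set ξ : ℂˣ := (Units.mk0 ζ hζ0)⁻¹ with hξ
  have hξn : ξ ^ n = 1 := by
    rw [hξ, inv_pow]
    apply Units.ext
    rw [Units.val_inv_eq_inv_val, Units.val_pow_eq_pow_val, Units.val_mk0, hζn, inv_one,
      Units.val_one]
  have hdvd : orderOf ξ ∣ orderOf gen := by
    rw [hord]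
    exact orderOf_dvd_of_pow_eq_one hξn
  set lam : Γ →* ℂˣ := (monoidHomOfForallMemZpowers hgenall hdvd).comp (QuotientGroup.mk' Ν)
    with hlam
  have hlamc : lam c₀ = ξ := by
    rw [hlam, MonoidHom.comp_apply]
    exact monoidHomOfForallMemZpowers_apply_gen hgenall hdvd
  have hlamΝ : ∀ x ∈ Ν, lam x = 1 := by
    intro x hx
    rw [hlam, MonoidHom.comp_apply, QuotientGroup.mk'_apply, (QuotientGroup.eq_one_iff x).mpr hx,
      map_one]
  set χ : Γ → ℂ := fun g => ((lam g : ℂˣ) : ℂ) * χ₀ g with hχdef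
  have hχ : IsIrrCharacter Γ χ := helper84.irr_twist lam ⟨χ₀, hχ₀⟩
  have hχext : ∀ n : Ν, χ n = θ n := by
    intro x
    show ((lam (x : Γ) : ℂˣ) : ℂ) * χ₀ x = θ x
    rw [hlamΝ x x.2, Units.val_one, one_mul, hext x]
  have hχmul := hmul χ hχ hχext
  have hdegχ : ¬ p ∣ charDegree χ := by rw [charDegree_eq_of_extends Ν hχext]; exact hdeg
  have hloc : ∀ w, MemLocalRing M (χ w / χ 1) := fun w => memLocalRing_ratio hM hχ hdegχ w
  have hχ1 : χ 1 ≠ 0 := irr_degree_ne_zero hχ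
  have hχ11 : χ 1 = χ₀ 1 := by
    show ((lam 1 : ℂˣ) : ℂ) * χ₀ 1 = χ₀ 1
    rw [map_one, Units.val_one, one_mul]
  have hζinv_int : IsIntegral ℤ ζ⁻¹ := ⟨Polynomial.X ^ n - 1,
    Polynomial.monic_X_pow_sub_C 1 hn0.ne', by simp [hζn]⟩
  -- congruence at `c₀`
  have hcc : MemLocalIdeal M (χ c₀ / χ 1 - 1) := by
    have h1 : χ c₀ / χ 1 - 1 = ζ⁻¹ * (χ₀ c₀ / χ₀ 1 - ζ) := by
      rw [hχ11]
      show ((lam c₀ : ℂˣ) : ℂ) * χ₀ c₀ / χ₀ 1 - 1 = ζ⁻¹ * (χ₀ c₀ / χ₀ 1 - ζ)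
      rw [hlamc, hξ, Units.val_inv_eq_inv_val, Units.val_mk0]
      field_simp
    rw [h1]
    exact helper20.memLocalIdeal_mul_left hMp (helper79.memLocalRing_of_isIntegral hMp hζinv_int) hζ
  -- powers of a ratio `≡ 1`
  have hpow1 : ∀ (u : ℂ), MemLocalRing M u → MemLocalIdeal M (u - 1) → ∀ i : ℕ,
      MemLocalIdeal M (u ^ i - 1) := by
    intro u hu hu1 i
    rw [← mul_geom_sum u i]
    exact helper20.memLocalIdeal_mul_right hMp hu1
      (helper20.memLocalRing_sum hMp _ _ (fun j _ => by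
        have := helper20.memLocalRing_prod hMp (Finset.range j) (fun _ => u) (fun _ _ => hu)
        simpa using this))
  -- congruence on `S`
  have hSall : ∀ c ∈ S, MemLocalIdeal M (χ c / χ 1 - 1) := by
    intro c hc
    obtain ⟨x, hx, i, rfl⟩ := hdec c
    have hxS : x ∈ S := by
      have h1 : x = x * c₀ ^ i * (c₀ ^ i)⁻¹ := by group
      rw [h1]
      exact S.mul_mem hc (S.inv_mem (S.pow_mem hc₀S i))
    have h2 := hχmul x hxS (c₀ ^ i) (S.pow_mem hc₀S i)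
    have h3 : MemLocalIdeal M (χ x / χ 1 - 1) := by
      have h4 := hC ⟨x, hx⟩ hxS
      rw [← hχext, ← h11, ← hχ11] at h4
      exact h4
    have h5 := ratio_pow hMp S χ hloc hχ1 hχmul c₀ hc₀S i
    have h6 := hpow1 _ (hloc c₀) hcc i
    have h7 : χ (x * c₀ ^ i) / χ 1 - 1
        = (χ (x * c₀ ^ i) / χ 1 - χ x / χ 1 * (χ (c₀ ^ i) / χ 1))
          + (χ x / χ 1 - 1) * (χ (c₀ ^ i) / χ 1)
          + ((χ (c₀ ^ i) / χ 1 - (χ c₀ / χ 1) ^ i) + ((χ c₀ / χ 1) ^ i - 1)) := by ring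
    rw [h7]
    exact helper20.memLocalIdeal_add hMp (helper20.memLocalIdeal_add hMp h2
      (helper20.memLocalIdeal_mul_right hMp h3 (hloc _))) (helper20.memLocalIdeal_add hMp h5 h6)
  refine ⟨χ, hχ, hχext, ?_, hSall⟩
  -- invariance under the power map
  have hres : (fun n : Ν => χ n) = θ := funext hχext
  have hχσ : IsIrrCharacter Γ (fun g => χ (g ^ k)) :=
    helper79.isIrrCharacter_pow_coprime k hk hχ
  have hresσ : (fun n : Ν => (fun g => χ (g ^ k)) n) = θ := by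
    funext x
    show χ ((x : Γ) ^ k) = θ x
    have h1 := hχext (x ^ k)
    rw [Subgroup.coe_pow] at h1
    rw [h1, hσ x]
  obtain ⟨β, hβ, hβΝ, hβeq⟩ := helper19.gallagher Ν χ hχ (by rw [hres]; exact hθ)
    (fun g => χ (g ^ k)) hχσ (by rw [hresσ, hres, classInner_irr_self hθ]; exact one_ne_zero)
  have hβ1 : β 1 = 1 := by
    have h1 := congrFun hβeq 1
    simp only [Pi.mul_apply, one_pow] at h1
    have h2 : χ 1 * (β 1 - 1) = 0 := by rw [mul_sub, ← h1]; ring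
    rcases mul_eq_zero.mp h2 with h3 | h3
    · exact absurd h3 hχ1
    · exact sub_eq_zero.mp h3
  obtain ⟨f, hf⟩ := helper82.exists_hom_of_linear (isCharacter_of_isIrrCharacter hβ) hβ1
  have hfΝ : ∀ x ∈ Ν, f x = 1 := by
    intro x hx
    apply Units.ext
    rw [← hf, hβΝ x hx, hβ1, Units.val_one]
  have hfσ : ∀ g : Γ, χ (g ^ k) = χ g * ((f g : ℂˣ) : ℂ) := by
    intro g
    have h1 := congrFun hβeq g
    simp only [Pi.mul_apply] at h1
    rw [h1, hf]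
  have hfc : ((f c₀ : ℂˣ) : ℂ) = 1 := by
    apply eq_one_of_pow_eq_one_of_memLocalIdeal hM hidx (n := n)
    · rw [← Units.val_pow_eq_pow_val, ← map_pow, hfΝ _ hc₀n, Units.val_one]
    · have h1 := hSall (c₀ ^ k) (S.pow_mem hc₀S k)
      rw [hfσ c₀] at h1
      have hint : IsIntegral ℤ ((f c₀ : ℂˣ) : ℂ) := by
        rw [← hf]
        exact isIntegral_of_isCharacter (isCharacter_of_isIrrCharacter hβ) c₀
      have h2 : ((f c₀ : ℂˣ) : ℂ) - 1
          = (χ c₀ * ((f c₀ : ℂˣ) : ℂ) / χ 1 - 1) - (χ c₀ / χ 1 - 1) * ((f c₀ : ℂˣ) : ℂ) := by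
        ring
      rw [h2]
      exact helper20.memLocalIdeal_sub hMp h1 (helper20.memLocalIdeal_mul_right hMp hcc
        (helper79.memLocalRing_of_isIntegral hMp hint))
  intro g
  rw [hfσ g]
  obtain ⟨x, hx, i, rfl⟩ := hdec g
  have h1 : f (x * c₀ ^ i) = 1 := by
    rw [map_mul, map_pow, hfΝ x hx, one_mul]
    have : f c₀ = 1 := Units.ext (by rw [hfc, Units.val_one])
    rw [this, one_pow]
  rw [h1, Units.val_one, mul_one]

/-- **Uniqueness** of power-map-fixed extensions congruent to their degree on `S`. -/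
theorem eq_of_kfixed_of_ratio (hM : IsPModular p M) {Γ : Type u} [Group Γ] [Fintype Γ]
    (Ν : Subgroup Γ) [Ν.Normal] [Fintype Ν] (a n' : ℕ) (hn' : ¬ p ∣ n')
    (hexp : ∀ g : Γ, g ^ (p ^ a * n') = 1) (k : ℕ) (hk : k.Coprime (Nat.card Γ))
    (hk2 : ∀ ζ : ℂ, ζ ^ (p ^ a) = 1 → ζ ^ k = ζ ^ 2) (S : Subgroup Γ)
    (hS : ∀ g : Γ, ∃ x ∈ Ν, ∃ c ∈ S, g ^ (p ^ a) = x * c) {χ₁ χ₂ : Γ → ℂ}
    (h₁ : IsIrrCharacter Γ χ₁) (h₁Ν : IsIrrCharacter Ν (fun n : Ν => χ₁ n))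
    (h₂ : IsIrrCharacter Γ χ₂) (hres : ∀ n : Ν, χ₂ n = χ₁ n)
    (hσ₁ : ∀ g, χ₁ (g ^ k) = χ₁ g) (hσ₂ : ∀ g, χ₂ (g ^ k) = χ₂ g)
    (hQ₁ : ∀ c ∈ S, MemLocalIdeal M (χ₁ c / χ₁ 1 - 1))
    (hQ₂ : ∀ c ∈ S, MemLocalIdeal M (χ₂ c / χ₂ 1 - 1)) : χ₂ = χ₁ := by
  have hMp : M.IsPrime := hM.2.1.isPrime
  have hresf : (fun n : Ν => χ₂ n) = fun n : Ν => χ₁ n := funext hres
  obtain ⟨β, hβ, hβΝ, hβeq⟩ := helper19.gallagher Ν χ₁ h₁ h₁Ν χ₂ h₂
    (by rw [hresf, classInner_irr_self h₁Ν]; exact one_ne_zero)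
  have hχ1 : χ₁ 1 ≠ 0 := irr_degree_ne_zero h₁
  have h21 : χ₂ 1 = χ₁ 1 := by
    have h1 := hres 1
    rwa [Subgroup.coe_one] at h1
  have hβ1 : β 1 = 1 := by
    have h1 := congrFun hβeq 1
    simp only [Pi.mul_apply] at h1
    rw [h21] at h1
    have h2 : χ₁ 1 * (β 1 - 1) = 0 := by rw [mul_sub, ← h1]; ring
    rcases mul_eq_zero.mp h2 with h3 | h3
    · exact absurd h3 hχ1
    · exact sub_eq_zero.mp h3
  obtain ⟨f, hf⟩ := helper82.exists_hom_of_linear (isCharacter_of_isIrrCharacter hβ) hβ1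
  have hfΝ : ∀ x ∈ Ν, f x = 1 := by
    intro x hx
    apply Units.ext
    rw [← hf, hβΝ x hx, hβ1, Units.val_one]
  have hβσ : IsIrrCharacter Γ (fun g => β (g ^ k)) :=
    helper79.isIrrCharacter_pow_coprime k hk hβ
  have hβσΝ : ∀ x ∈ Ν, (fun g => β (g ^ k)) x = (fun g => β (g ^ k)) 1 := by
    intro x hx
    show β (x ^ k) = β (1 ^ k)
    rw [one_pow]
    exact hβΝ _ (Ν.pow_mem hx k)
  have hmul : χ₁ * (fun g => β (g ^ k)) = χ₁ * β := by
    funext g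
    have h3 := congrFun hβeq (g ^ k)
    have h4 := congrFun hβeq g
    simp only [Pi.mul_apply] at h3 h4 ⊢
    calc χ₁ g * β (g ^ k) = χ₁ (g ^ k) * β (g ^ k) := by rw [hσ₁ g]
      _ = χ₂ (g ^ k) := h3.symm
      _ = χ₂ g := hσ₂ g
      _ = χ₁ g * β g := h4
  have hβfix := helper19.mul_injective_of_trivial Ν χ₁ h₁ h₁Ν _ β hβσ hβσΝ hβ hβΝ hmul
  have hfk : ∀ g : Γ, ((f g : ℂˣ) : ℂ) ^ k = ((f g : ℂˣ) : ℂ) := by
    intro g
    have h1 : β (g ^ k) = β g := congrFun hβfix g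
    rw [hf, hf, map_pow, Units.val_pow_eq_pow_val] at h1
    exact h1
  have hidem : ∀ η : ℂ, η ≠ 0 → η ^ (p ^ a) = 1 → η ^ k = η → η = 1 := by
    intro η hη0 hη hηk
    have h1 := hk2 η hη
    rw [hηk, pow_two] at h1
    have h2 : η * (η - 1) = 0 := by rw [mul_sub, ← h1]; ring
    rcases mul_eq_zero.mp h2 with h3 | h3
    · exact absurd h3 hη0
    · exact sub_eq_zero.mp h3
  -- `β = 1` on `S`
  have hfS : ∀ c ∈ S, ((f c : ℂˣ) : ℂ) = 1 := by
    intro c hc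
    have hint : IsIntegral ℤ ((f c : ℂˣ) : ℂ) := by
      rw [← hf]
      exact isIntegral_of_isCharacter (isCharacter_of_isIrrCharacter hβ) c
    apply eq_one_of_pow_eq_one_of_memLocalIdeal hM hn' (n := n')
    · apply hidem _ (pow_ne_zero _ (f c).ne_zero)
      · rw [← pow_mul, mul_comm, ← Units.val_pow_eq_pow_val, ← map_pow, hexp, map_one,
          Units.val_one]
      · rw [← pow_mul, mul_comm, pow_mul, hfk]
    · have h1 := hQ₂ c hc
      have h2 := hQ₁ c hc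
      have h3 := congrFun hβeq c
      simp only [Pi.mul_apply] at h3
      rw [h3, h21, hf] at h1
      have h4 : ((f c : ℂˣ) : ℂ) - 1
          = (χ₁ c * ((f c : ℂˣ) : ℂ) / χ₁ 1 - 1) - (χ₁ c / χ₁ 1 - 1) * ((f c : ℂˣ) : ℂ) := by
        ring
      rw [h4]
      exact helper20.memLocalIdeal_sub hMp h1 (helper20.memLocalIdeal_mul_right hMp h2
        (helper79.memLocalRing_of_isIntegral hMp hint))
  have hfall : ∀ g : Γ, ((f g : ℂˣ) : ℂ) = 1 := by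
    intro g
    apply hidem _ (f g).ne_zero _ (hfk g)
    obtain ⟨x, hx, c, hc, hg⟩ := hS g
    rw [← Units.val_pow_eq_pow_val, ← map_pow, hg, map_mul, hfΝ x hx, one_mul, hfS c hc]
  rw [hβeq]
  funext g
  simp only [Pi.mul_apply]
  rw [hf, hfall g, mul_one]

end Steps

end Cfsg.Agent.Lib.helper4
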