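import Mathlib
import Cfsg.Agent.Lib.helper4.PRatStep
import Cfsg.Agent.Lib.helper4.AlperinDade

/-!
# Subgroup forms of the `p`-rational extension steps (helper4 library)
-/

set_option autoImplicit false
set_option linter.unusedSectionVars false

namespace Cfsg.Agent.Lib.helper4

open Cfsg
open scoped ComplexConjugate

universe u

/-- The centralizer in `G` of (the image of) a subgroup `Q` of `N`. -/
def centQ {G : Type u} [Group G] (N : Subgroup G) (Q : Subgroup N) : Subgroup G :=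
  Subgroup.centralizer ((Q.map N.subtype : Subgroup G) : Set G)

theorem mem_centQ {G : Type u} [Group G] (N : Subgroup G) (Q : Subgroup N) (c : G) :
    c ∈ centQ N Q ↔ ∀ q ∈ Q, c * ((q : N) : G) = ((q : N) : G) * c := by
  unfold centQ
  rw [Subgroup.mem_centralizer_iff]
  constructor
  · intro h q hq
    exact (h _ (Subgroup.mem_map.mpr ⟨q, hq, rfl⟩)).symm
  · intro h s hs
    obtain ⟨q, hq, rfl⟩ := Subgroup.mem_map.mp hs
    exact (h q hq).symm

section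

variable {p : ℕ} [Fact p.Prime] {M : Ideal AlgInt}

/-- Multiplicativity of the ratio on `H ∩ C_G(Q)`, for characters of `H` extending a member of
the principal block of `N` of degree prime to `p`. -/
theorem ratio_mul_sub (hM : IsPModular p M) {G : Type u} [Group G] [Finite G] (N : Subgroup G)
    [hN : N.Normal] (θ : IrrCharacter N) (hθ : θ ∈ principalBlock M N)
    (hdeg : ¬ p ∣ charDegree (θ : N → ℂ)) (Q : Sylow p N) (H : Subgroup G) (hNH : N ≤ H)
    {χ : H → ℂ} (hχ : IsIrrCharacter H χ)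
    (hχN : ∀ n : N, χ ⟨n, hNH n.2⟩ = (θ : N → ℂ) n) (x y : H)
    (hx : (x : G) ∈ centQ N (Q : Subgroup N)) (hy : (y : G) ∈ centQ N (Q : Subgroup N)) :
    MemLocalIdeal M (χ (x * y) / χ 1 - χ x / χ 1 * (χ y / χ 1)) := by
  classical
  have : (N.subgroupOf H).Normal := ⟨fun n hn g => by
    rw [Subgroup.mem_subgroupOf] at hn ⊢
    exact hN.conj_mem _ hn _⟩
  set e := Subgroup.subgroupOfEquivOfLe hNH with he
  have hecoe : ∀ n : N.subgroupOf H, ((e n : N) : G) = ((n : H) : G) := fun n => rfl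
  set P : Subgroup (N.subgroupOf H) := (Q : Subgroup N).comap e.toMonoidHom with hP
  have hPp : IsPGroup p P := Q.2.comap_of_injective e.toMonoidHom e.injective
  have hQidx : ¬ p ∣ (Q : Subgroup N).index := Q.not_dvd_index
  have hPidx : ¬ p ∣ P.index := by
    rw [hP, Subgroup.index_comap_of_surjective _ e.surjective]
    exact hQidx
  have hχe : ∀ n : N.subgroupOf H, χ n = (θ : N → ℂ) (e n) := by
    intro n
    rw [← hχN (e n)]
    rfl
  have hχ1 : χ 1 = (θ : N → ℂ) 1 := by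
    have h1 := hχN 1
    rw [← h1]
    rfl
  have hfΝ : IsIrrCharacter (N.subgroupOf H) (fun n : N.subgroupOf H => χ n) := by
    have h1 : (fun n : N.subgroupOf H => χ n) = helper82.subRes N H (θ : N → ℂ) := by
      funext n
      rw [hχe n]
      rfl
    rw [h1]
    exact helper82.isIrrCharacter_subRes N H hNH θ.2
  have hdeg' : ¬ p ∣ charDegree χ := by
    unfold charDegree
    rw [hχ1]
    exact hdeg
  have hB : ∀ n : N.subgroupOf H, (∀ q ∈ P, n * q = q * n) →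
      MemLocalIdeal M (χ n / χ 1 - 1) := by
    intro n hn
    rw [hχe n, hχ1]
    apply memLocalIdeal_ratio_of_mem_principalBlock hM hθ
    have hle : (Q : Subgroup N) ≤ Subgroup.centralizer ({e n} : Set N) := by
      intro q hq
      rw [Subgroup.mem_centralizer_iff]
      intro z hz
      rw [Set.mem_singleton_iff] at hz
      subst hz
      have h1 : e.symm q ∈ P := by
        rw [hP, Subgroup.mem_comap]
        show e (e.symm q) ∈ (Q : Subgroup N)
        rw [MulEquiv.apply_symm_apply]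
        exact hq
      have h2 := congrArg e (hn _ h1)
      rw [map_mul, map_mul, MulEquiv.apply_symm_apply] at h2
      exact h2
    exact fun h => hQidx (dvd_trans h (Subgroup.index_dvd_of_le hle))
  have hcent : ∀ z : H, (z : G) ∈ centQ N (Q : Subgroup N) →
      ∀ q ∈ P, z * ((q : N.subgroupOf H) : H) = ((q : N.subgroupOf H) : H) * z := by
    intro z hz q hq
    apply Subtype.ext
    rw [Subgroup.coe_mul, Subgroup.coe_mul]
    have h1 := (mem_centQ N (Q : Subgroup N) z).mp hz (e q) (by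
      rw [hP, Subgroup.mem_comap] at hq
      exact hq)
    rw [hecoe] at h1
    exact h1
  exact ratio_mul_of_centralizer hM (N.subgroupOf H) P hPp hPidx hχ hfΝ hdeg' hB x y
    (hcent x hx) (hcent y hy)

/-- Frattini: every element is `m u` with `m ∈ N` and `u` normalizing `C_G(Q)`. -/
theorem exists_mul_normalizer {G : Type u} [Group G] [Finite G] (N : Subgroup G) [hN : N.Normal]
    (Q : Sylow p N) (x : G) :
    ∃ m ∈ N, ∃ u : G, (∀ y : G, y ∈ centQ N (Q : Subgroup N) ↔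
      u * y * u⁻¹ ∈ centQ N (Q : Subgroup N)) ∧ x = m * u := by
  have hnc : ∀ v ∈ Subgroup.normalizer (((Q : Subgroup N).map N.subtype : Subgroup G) : Set G),
      ∀ y ∈ centQ N (Q : Subgroup N), v * y * v⁻¹ ∈ centQ N (Q : Subgroup N) := by
    intro v hv y hy
    unfold centQ at hy ⊢
    rw [Subgroup.mem_centralizer_iff] at hy ⊢
    intro s hs
    have hv' := Subgroup.inv_mem _ hv
    have h1 : v⁻¹ * s * v ∈ (((Q : Subgroup N).map N.subtype : Subgroup G) : Set G) := by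
      have h2 := (Subgroup.mem_normalizer_iff.mp hv' s).mp hs
      rwa [inv_inv] at h2
    have h3 := hy _ h1
    calc s * (v * y * v⁻¹) = v * ((v⁻¹ * s * v) * y) * v⁻¹ := by group
      _ = v * (y * (v⁻¹ * s * v)) * v⁻¹ := by rw [h3]
      _ = v * y * v⁻¹ * s := by group
  have h1 : x ∈ ((Subgroup.normalizer (((Q : Subgroup N).map N.subtype : Subgroup G) : Set G) ⊔ N
      : Subgroup G) : Set G) := by
    rw [Sylow.normalizer_sup_eq_top Q]
    exact Subgroup.mem_top x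
  rw [Subgroup.mul_normal] at h1
  obtain ⟨u, hu, n, hn, rfl⟩ := Set.mem_mul.mp h1
  refine ⟨u * n * u⁻¹, hN.conj_mem n hn u, u, fun y => ⟨fun hy => hnc u hu y hy, fun hy => ?_⟩,
    by group⟩
  have h2 := hnc u⁻¹ (Subgroup.inv_mem _ hu) _ hy
  have h3 : u⁻¹ * (u * y * u⁻¹) * u⁻¹⁻¹ = y := by group
  rwa [h3] at h2

/-- Reduction of a conjugation-closed condition to `C_G(Q)`. -/
theorem conj_reduction {G : Type u} [Group G] [Finite G] (N : Subgroup G) [hN : N.Normal]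
    (Q : Sylow p N) (H : Subgroup G) (hNH : N ≤ H) (f : G → ℂ)
    (hcf : ∀ h ∈ H, ∀ c ∈ H, f (h * c * h⁻¹) = f c) (P : ℂ → Prop)
    (h : ∀ c ∈ H, c ∈ centQ N (Q : Subgroup N) → P (f c)) :
    ∀ c ∈ H, ∀ x : G, x⁻¹ * c * x ∈ centQ N (Q : Subgroup N) → P (f c) := by
  intro c hc x hx
  obtain ⟨m, hm, u, hu, rfl⟩ := exists_mul_normalizer N Q x
  have h1 : m⁻¹ * c * m ∈ centQ N (Q : Subgroup N) := by
    have h2 := (hu ((m * u)⁻¹ * c * (m * u))).mp hx
    have h3 : u * ((m * u)⁻¹ * c * (m * u)) * u⁻¹ = m⁻¹ * c * m := by group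
    rwa [h3] at h2
  have hmH : m ∈ H := hNH hm
  have h4 := h (m⁻¹ * c * m) (H.mul_mem (H.mul_mem (H.inv_mem hmH) hc) hmH) h1
  have h5 := hcf m⁻¹ (H.inv_mem hmH) c hc
  rw [inv_inv] at h5
  rwa [h5] at h4

/-- Every `p ^ a`-th power lies in `N C_G(Q)` when the index of `N C_G(Q)` divides `p ^ a`. -/
theorem exists_mul_centQ_of_index {G : Type u} [Group G] [Finite G] (N : Subgroup G)
    [hN : N.Normal] (Q : Sylow p N) (a₀ a : ℕ)
    (hidx : (N ⊔ centQ N (Q : Subgroup N)).index = p ^ a₀) (ha : a₀ ≤ a) (g : G) :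
    ∃ n ∈ N, ∃ c ∈ centQ N (Q : Subgroup N), g ^ (p ^ a) = n * c := by
  have hnorm : (N ⊔ centQ N (Q : Subgroup N)).Normal := ⟨fun y hy x => by
    obtain ⟨m, hm, u, hu, rfl⟩ := exists_mul_normalizer N Q x
    have h1 : y ∈ ((N ⊔ centQ N (Q : Subgroup N) : Subgroup G) : Set G) := hy
    rw [Subgroup.normal_mul] at h1
    obtain ⟨n₁, hn₁, c₁, hc₁, rfl⟩ := Set.mem_mul.mp h1
    have h2 : m * u * (n₁ * c₁) * (m * u)⁻¹ = m * (u * n₁ * u⁻¹) * (u * c₁ * u⁻¹) * m⁻¹ := by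
      group
    rw [h2]
    exact Subgroup.mul_mem _ (Subgroup.mul_mem _ (Subgroup.mul_mem _ (Subgroup.mem_sup_left hm)
      (Subgroup.mem_sup_left (hN.conj_mem n₁ hn₁ u))) (Subgroup.mem_sup_right ((hu c₁).mp hc₁)))
      (Subgroup.mem_sup_left (N.inv_mem hm))⟩
  have h1 : g ^ (p ^ a₀) ∈ N ⊔ centQ N (Q : Subgroup N) := by
    rw [← QuotientGroup.eq_one_iff, QuotientGroup.mk_pow, ← hidx, Subgroup.index_eq_card]
    exact pow_card_eq_one'
  have h2 : g ^ (p ^ a) ∈ N ⊔ centQ N (Q : Subgroup N) := by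
    obtain ⟨b, rfl⟩ := Nat.exists_eq_add_of_le ha
    rw [pow_add, pow_mul]
    exact Subgroup.pow_mem _ h1 _
  have h3 : g ^ (p ^ a) ∈ ((N ⊔ centQ N (Q : Subgroup N) : Subgroup G) : Set G) := h2
  rw [Subgroup.normal_mul] at h3
  obtain ⟨n, hn, c, hc, h4⟩ := Set.mem_mul.mp h3
  exact ⟨n, hn, c, hc, h4.symm⟩

/-- Subgroup form of the uniqueness. -/
theorem eq_on_of_kfixed_ratio (hM : IsPModular p M) {G : Type u} [Group G] [Finite G]
    (N : Subgroup G) (Q : Subgroup N) (K H : Subgroup G) (hNK : N ≤ K) (hKH : K ≤ H)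
    (hnorm : ∀ h ∈ H, ∀ x ∈ K, h * x * h⁻¹ ∈ K) (a n' : ℕ) (hn' : ¬ p ∣ n')
    (hcard : Nat.card G = p ^ a * n') (k : ℕ) (hk : k.Coprime (Nat.card G))
    (hk2 : ∀ ζ : ℂ, ζ ^ (p ^ a) = 1 → ζ ^ k = ζ ^ 2)
    (hG : ∀ g : G, ∃ n ∈ N, ∃ c ∈ centQ N Q, g ^ (p ^ a) = n * c) (f₁ f₂ : G → ℂ)
    (h₁ : IsIrrCharacter H (fun h : H => f₁ h)) (h₁K : IsIrrCharacter K (fun x : K => f₁ x))
    (h₂ : IsIrrCharacter H (fun h : H => f₂ h)) (hres : ∀ x ∈ K, f₂ x = f₁ x)
    (hσ₁ : ∀ h ∈ H, f₁ (h ^ k) = f₁ h) (hσ₂ : ∀ h ∈ H, f₂ (h ^ k) = f₂ h)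
    (hQ₁ : ∀ c ∈ H, c ∈ centQ N Q → MemLocalIdeal M (f₁ c / f₁ 1 - 1))
    (hQ₂ : ∀ c ∈ H, c ∈ centQ N Q → MemLocalIdeal M (f₂ c / f₂ 1 - 1)) :
    ∀ h ∈ H, f₂ h = f₁ h := by
  classical
  have : Fintype H := Fintype.ofFinite H
  have : Fintype (K.subgroupOf H) := Fintype.ofFinite _
  have : (K.subgroupOf H).Normal := ⟨fun n hn g => by
    rw [Subgroup.mem_subgroupOf] at hn ⊢
    exact hnorm g g.2 n hn⟩
  have hkH : k.Coprime (Nat.card H) :=
    Nat.Coprime.coprime_dvd_right (Subgroup.card_subgroup_dvd_card H) hk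
  have key := eq_of_kfixed_of_ratio hM (K.subgroupOf H) a n' hn'
    (fun g => by
      apply Subtype.ext
      rw [Subgroup.coe_pow, Subgroup.coe_one, ← hcard]
      exact pow_card_eq_one')
    k hkH hk2 ((centQ N Q).subgroupOf H)
    (fun g => by
      obtain ⟨n, hn, c, hc, hg⟩ := hG (g : G)
      have hnH : n ∈ H := hKH (hNK hn)
      have hcH : c ∈ H := by
        have h1 : c = n⁻¹ * (g : G) ^ (p ^ a) := by rw [hg]; group
        rw [h1]
        exact H.mul_mem (H.inv_mem hnH) (H.pow_mem g.2 _)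
      exact ⟨⟨n, hnH⟩, Subgroup.mem_subgroupOf.mpr (hNK hn), ⟨c, hcH⟩,
        Subgroup.mem_subgroupOf.mpr hc, Subtype.ext hg⟩)
    h₁ (helper82.isIrrCharacter_subRes K H hKH h₁K) h₂
    (fun n => hres n (Subgroup.mem_subgroupOf.mp n.2))
    (fun g => hσ₁ g g.2) (fun g => hσ₂ g g.2)
    (fun c hc => hQ₁ c c.2 (Subgroup.mem_subgroupOf.mp hc))
    (fun c hc => hQ₂ c c.2 (Subgroup.mem_subgroupOf.mp hc))
  intro h hh
  exact congrFun key ⟨h, hh⟩

/-- The hypotheses of the abstract steps, in the subgroup setting. -/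
theorem step_hyps (hM : IsPModular p M) {G : Type u} [Group G] [Finite G] (N : Subgroup G)
    [hN : N.Normal] (θ : IrrCharacter N) (hθ : θ ∈ principalBlock M N)
    (hdeg : ¬ p ∣ charDegree (θ : N → ℂ)) (Q : Sylow p N) (K H : Subgroup G) (hNK : N ≤ K)
    (hKH : K ≤ H) (hKn : (K.subgroupOf H).Normal) (k : ℕ) (f : G → ℂ)
    (hf : IsIrrCharacter K (fun x : K => f x)) (hfN : ∀ n : N, f n = (θ : N → ℂ) n)
    (hσ : ∀ x ∈ K, f (x ^ k) = f x) (hinv : ∀ h ∈ H, ∀ x ∈ K, f (h * x * h⁻¹) = f x)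
    (hC : ∀ c ∈ K, c ∈ centQ N (Q : Subgroup N) → MemLocalIdeal M (f c / f 1 - 1)) :
    IsIrrCharacter (K.subgroupOf H) (helper82.subRes K H (fun x : K => f x)) ∧
    (∀ g : H, helper82.cconj (K.subgroupOf H) g (helper82.subRes K H (fun x : K => f x))
      = helper82.subRes K H (fun x : K => f x)) ∧
    (∀ n : K.subgroupOf H, helper82.subRes K H (fun x : K => f x) (n ^ k)
      = helper82.subRes K H (fun x : K => f x) n) ∧
    ¬ p ∣ charDegree (helper82.subRes K H (fun x : K => f x)) ∧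
    (∀ χ : H → ℂ, IsIrrCharacter H χ →
      (∀ n : K.subgroupOf H, χ n = helper82.subRes K H (fun x : K => f x) n) →
      ∀ x ∈ (centQ N (Q : Subgroup N)).subgroupOf H, ∀ y ∈ (centQ N (Q : Subgroup N)).subgroupOf H,
        MemLocalIdeal M (χ (x * y) / χ 1 - χ x / χ 1 * (χ y / χ 1))) ∧
    (∀ c : K.subgroupOf H, (c : H) ∈ (centQ N (Q : Subgroup N)).subgroupOf H →
      MemLocalIdeal M (helper82.subRes K H (fun x : K => f x) c
        / helper82.subRes K H (fun x : K => f x) 1 - 1)) := by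
  refine ⟨helper82.isIrrCharacter_subRes K H hKH hf, ?_, ?_, ?_, ?_, ?_⟩
  · intro y
    rw [helper82.cconj_eq_iff]
    intro n
    exact hinv y y.2 n (Subgroup.mem_subgroupOf.mp n.2)
  · intro n
    exact hσ n (Subgroup.mem_subgroupOf.mp n.2)
  · have h1 : helper82.subRes K H (fun x : K => f x) 1 = (θ : N → ℂ) 1 := hfN 1
    unfold charDegree
    rw [h1]
    exact hdeg
  · intro χ hχ hχext x hx y hy
    exact ratio_mul_sub hM N θ hθ hdeg Q H (hNK.trans hKH) hχ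
      (fun n => by
        have h1 := hχext ⟨⟨n, (hNK.trans hKH) n.2⟩, Subgroup.mem_subgroupOf.mpr (hNK n.2)⟩
        rw [h1]
        exact hfN n)
      x y (Subgroup.mem_subgroupOf.mp hx) (Subgroup.mem_subgroupOf.mp hy)
  · intro c hc
    exact hC c (Subgroup.mem_subgroupOf.mp c.2) (Subgroup.mem_subgroupOf.mp hc)

/-- The conclusion of the steps, in the subgroup setting. -/
theorem step_concl {G : Type u} [Group G] [Finite G] (N : Subgroup G)
    [hN : N.Normal] (Q : Sylow p N) (K H : Subgroup G) (hNK : N ≤ K)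
    (hKH : K ≤ H) (k : ℕ) (f : G → ℂ)
    (h : ∃ χ : H → ℂ, IsIrrCharacter H χ ∧
      (∀ n : K.subgroupOf H, χ n = helper82.subRes K H (fun x : K => f x) n) ∧
      (∀ g, χ (g ^ k) = χ g) ∧
      ∀ c ∈ (centQ N (Q : Subgroup N)).subgroupOf H, MemLocalIdeal M (χ c / χ 1 - 1)) :
    ∃ f' : G → ℂ, IsIrrCharacter H (fun h : H => f' h) ∧ (∀ x ∈ K, f' x = f x) ∧
      (∀ h ∈ H, f' (h ^ k) = f' h) ∧
      ∀ c ∈ H, ∀ x : G, x⁻¹ * c * x ∈ centQ N (Q : Subgroup N) →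
        MemLocalIdeal M (f' c / f' 1 - 1) := by
  obtain ⟨χ, hχ, hχext, hχσ, hχC⟩ := h
  have hirr : IsIrrCharacter H (fun h : H => helper80.extFun H χ h) := by
    have h1 : (fun h : H => helper80.extFun H χ h) = χ := by
      funext h
      exact helper80.extFun_coe H _ h
    rw [h1]
    exact hχ
  refine ⟨helper80.extFun H χ, hirr, ?_, ?_, ?_⟩
  · intro x hx
    rw [helper80.extFun_of_mem H _ (hKH hx)]
    exact hχext ⟨⟨x, hKH hx⟩, Subgroup.mem_subgroupOf.mpr hx⟩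
  · intro h hh
    rw [helper80.extFun_of_mem H _ (H.pow_mem hh k), helper80.extFun_of_mem H _ hh]
    exact hχσ ⟨h, hh⟩
  · have hcf := isClassFunction_of_isIrrCharacter hirr
    apply conj_reduction N Q H (hNK.trans hKH) (helper80.extFun H χ)
      (fun h hh c hc => hcf ⟨c, hc⟩ ⟨h, hh⟩)
      (fun z => MemLocalIdeal M (z / helper80.extFun H χ 1 - 1))
    intro c hc hcQ
    rw [helper80.extFun_of_mem H _ hc, helper80.extFun_of_mem H _ H.one_mem]
    exact hχC ⟨c, hc⟩ (Subgroup.mem_subgroupOf.mpr hcQ)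

/-- The `p`-power cyclic step, subgroup form. -/
theorem exists_pstep_sub (hM : IsPModular p M) {G : Type u} [Group G] [Finite G]
    (N : Subgroup G) [hN : N.Normal] (θ : IrrCharacter N) (hθ : θ ∈ principalBlock M N)
    (hdeg : ¬ p ∣ charDegree (θ : N → ℂ)) (Q : Sylow p N) (K H : Subgroup G) (hNK : N ≤ K)
    (hKH : K ≤ H) (hnorm : ∀ h ∈ H, ∀ x ∈ K, h * x * h⁻¹ ∈ K)
    (hcyc : ∃ g ∈ H, H = K ⊔ Subgroup.zpowers g) (a : ℕ) (hpow : ∀ h ∈ H, h ^ (p ^ a) ∈ K)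
    (k : ℕ) (hk : k.Coprime (Nat.card G)) (hk2 : ∀ ζ : ℂ, ζ ^ (p ^ a) = 1 → ζ ^ k = ζ ^ 2)
    (f : G → ℂ) (hf : IsIrrCharacter K (fun x : K => f x))
    (hfN : ∀ n : N, f n = (θ : N → ℂ) n) (hσ : ∀ x ∈ K, f (x ^ k) = f x)
    (hinv : ∀ h ∈ H, ∀ x ∈ K, f (h * x * h⁻¹) = f x)
    (hC : ∀ c ∈ K, c ∈ centQ N (Q : Subgroup N) → MemLocalIdeal M (f c / f 1 - 1)) :
    ∃ f' : G → ℂ, IsIrrCharacter H (fun h : H => f' h) ∧ (∀ x ∈ K, f' x = f x) ∧
      (∀ h ∈ H, f' (h ^ k) = f' h) ∧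
      ∀ c ∈ H, ∀ x : G, x⁻¹ * c * x ∈ centQ N (Q : Subgroup N) →
        MemLocalIdeal M (f' c / f' 1 - 1) := by
  classical
  have hKn : (K.subgroupOf H).Normal := ⟨fun n hn g => by
    rw [Subgroup.mem_subgroupOf] at hn ⊢
    exact hnorm g g.2 n hn⟩
  have hkH : k.Coprime (Nat.card H) :=
    Nat.Coprime.coprime_dvd_right (Subgroup.card_subgroup_dvd_card H) hk
  obtain ⟨g, hg, hH⟩ := hcyc
  have hcyc' : IsCyclic (H ⧸ K.subgroupOf H) :=
    isCyclic_quotient_of_sup_zpowers (K.subgroupOf H) ⟨g, hg⟩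
      (subgroupOf_sup_zpowers_eq_top K H hKH g hg hH)
  obtain ⟨h1, h2, h3, h4, h5, h6⟩ := step_hyps hM N θ hθ hdeg Q K H hNK hKH hKn k f hf hfN hσ
    hinv hC
  apply step_concl N Q K H hNK hKH k f
  exact exists_ext_pstep hM (K.subgroupOf H) hcyc' a
    (fun y => Subgroup.mem_subgroupOf.mpr (by
      rw [Subgroup.coe_pow]
      exact hpow y y.2))
    k hkH hk2 _ h1 h2 h3 h4 h5 h6

/-- The `p'` cyclic step, subgroup form. -/
theorem exists_p'step_sub (hM : IsPModular p M) {G : Type u} [Group G] [Finite G]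
    (N : Subgroup G) [hN : N.Normal] (θ : IrrCharacter N) (hθ : θ ∈ principalBlock M N)
    (hdeg : ¬ p ∣ charDegree (θ : N → ℂ)) (Q : Sylow p N) (K H : Subgroup G) (hNK : N ≤ K)
    (hKH : K ≤ H) (hnorm : ∀ h ∈ H, ∀ x ∈ K, h * x * h⁻¹ ∈ K)
    (hidx : ¬ p ∣ K.relIndex H) (c₀ : G) (hc₀H : c₀ ∈ H)
    (hc₀ : c₀ ∈ centQ N (Q : Subgroup N)) (hH : H = K ⊔ Subgroup.zpowers c₀)
    (k : ℕ) (hk : k.Coprime (Nat.card G))
    (f : G → ℂ) (hf : IsIrrCharacter K (fun x : K => f x))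
    (hfN : ∀ n : N, f n = (θ : N → ℂ) n) (hσ : ∀ x ∈ K, f (x ^ k) = f x)
    (hinv : ∀ h ∈ H, ∀ x ∈ K, f (h * x * h⁻¹) = f x)
    (hC : ∀ c ∈ K, c ∈ centQ N (Q : Subgroup N) → MemLocalIdeal M (f c / f 1 - 1)) :
    ∃ f' : G → ℂ, IsIrrCharacter H (fun h : H => f' h) ∧ (∀ x ∈ K, f' x = f x) ∧
      (∀ h ∈ H, f' (h ^ k) = f' h) ∧
      ∀ c ∈ H, ∀ x : G, x⁻¹ * c * x ∈ centQ N (Q : Subgroup N) →
        MemLocalIdeal M (f' c / f' 1 - 1) := by
  classical
  have hKn : (K.subgroupOf H).Normal := ⟨fun n hn g => by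
    rw [Subgroup.mem_subgroupOf] at hn ⊢
    exact hnorm g g.2 n hn⟩
  have hkH : k.Coprime (Nat.card H) :=
    Nat.Coprime.coprime_dvd_right (Subgroup.card_subgroup_dvd_card H) hk
  obtain ⟨h1, h2, h3, h4, h5, h6⟩ := step_hyps hM N θ hθ hdeg Q K H hNK hKH hKn k f hf hfN hσ
    hinv hC
  apply step_concl N Q K H hNK hKH k f
  exact exists_ext_p'step hM (K.subgroupOf H) hidx ⟨c₀, hc₀H⟩
    (subgroupOf_sup_zpowers_eq_top K H hKH c₀ hc₀H hH) _ (Subgroup.mem_subgroupOf.mpr hc₀)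
    k hkH h1 h2 h3 h4 h5 h6

end

end Cfsg.Agent.Lib.helper4
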