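import Mathlib
import Cfsg.Agent.Lib.helper4.PRatSub

/-!
# The general cyclic step for `p`-rational extensions (helper4 library)
-/

set_option autoImplicit false
set_option linter.unusedSectionVars false

namespace Cfsg.Agent.Lib.helper4

open Cfsg
open scoped ComplexConjugate

universe u

/-- Elements of `H = K ⟨g⟩` are of the form `x g ^ i`. -/
theorem exists_mul_pow_sub {G : Type u} [Group G] [Finite G] (K H : Subgroup G) (hKH : K ≤ H)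
    (hnorm : ∀ h ∈ H, ∀ x ∈ K, h * x * h⁻¹ ∈ K) (g : G) (hg : g ∈ H)
    (hH : H = K ⊔ Subgroup.zpowers g) : ∀ h ∈ H, ∃ x ∈ K, ∃ i : ℕ, h = x * g ^ i := by
  have : (K.subgroupOf H).Normal := ⟨fun n hn y => by
    rw [Subgroup.mem_subgroupOf] at hn ⊢
    exact hnorm y y.2 n hn⟩
  intro h hh
  obtain ⟨x, hx, i, hi⟩ := exists_mul_pow_of_sup_zpowers (K.subgroupOf H) ⟨g, hg⟩
    (subgroupOf_sup_zpowers_eq_top K H hKH g hg hH) ⟨h, hh⟩
  refine ⟨x, Subgroup.mem_subgroupOf.mp hx, i, ?_⟩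
  have := congrArg Subtype.val hi
  simpa using this

/-- If `g ^ m ∈ K` then the `m`-th power of every element of `K ⟨g⟩` lies in `K`. -/
theorem pow_mem_of_sup_zpowers {G : Type u} [Group G] [Finite G] (K H : Subgroup G) (hKH : K ≤ H)
    (hnorm : ∀ h ∈ H, ∀ x ∈ K, h * x * h⁻¹ ∈ K) (g : G) (hg : g ∈ H)
    (hH : H = K ⊔ Subgroup.zpowers g) (m : ℕ) (hm : g ^ m ∈ K) : ∀ h ∈ H, h ^ m ∈ K := by
  have : (K.subgroupOf H).Normal := ⟨fun n hn y => by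
    rw [Subgroup.mem_subgroupOf] at hn ⊢
    exact hnorm y y.2 n hn⟩
  intro h hh
  obtain ⟨x, hx, i, hi⟩ := exists_mul_pow_of_sup_zpowers (K.subgroupOf H) ⟨g, hg⟩
    (subgroupOf_sup_zpowers_eq_top K H hKH g hg hH) ⟨h, hh⟩
  have h1 : ((⟨h, hh⟩ : H) : H ⧸ K.subgroupOf H) ^ m = 1 := by
    rw [hi, QuotientGroup.mk_mul, (QuotientGroup.eq_one_iff x).mpr hx, one_mul,
      QuotientGroup.mk_pow, ← pow_mul, mul_comm, pow_mul, ← QuotientGroup.mk_pow]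
    have h2 : ((⟨g, hg⟩ : H) ^ m : H) ∈ K.subgroupOf H := by
      rw [Subgroup.mem_subgroupOf, Subgroup.coe_pow]
      exact hm
    rw [(QuotientGroup.eq_one_iff _).mpr h2, one_pow]
  rw [← QuotientGroup.mk_pow, QuotientGroup.eq_one_iff, Subgroup.mem_subgroupOf,
    Subgroup.coe_pow] at h1
  exact h1

/-- Commutators of `H = K ⟨g⟩` lie in `K`. -/
theorem commutator_mem_of_sup_zpowers {G : Type u} [Group G] [Finite G] (K H : Subgroup G)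
    (hKH : K ≤ H) (hnorm : ∀ h ∈ H, ∀ x ∈ K, h * x * h⁻¹ ∈ K) (g : G) (hg : g ∈ H)
    (hH : H = K ⊔ Subgroup.zpowers g) : ∀ h ∈ H, ∀ y ∈ H, h * y * h⁻¹ * y⁻¹ ∈ K := by
  have : (K.subgroupOf H).Normal := ⟨fun n hn y => by
    rw [Subgroup.mem_subgroupOf] at hn ⊢
    exact hnorm y y.2 n hn⟩
  have hdec := exists_mul_pow_of_sup_zpowers (K.subgroupOf H) ⟨g, hg⟩
    (subgroupOf_sup_zpowers_eq_top K H hKH g hg hH)
  have hmk : ∀ z : H, ∃ i : ℕ, (z : H ⧸ K.subgroupOf H)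
      = ((⟨g, hg⟩ : H) : H ⧸ K.subgroupOf H) ^ i := by
    intro z
    obtain ⟨x, hx, i, hi⟩ := hdec z
    exact ⟨i, by rw [hi, QuotientGroup.mk_mul, (QuotientGroup.eq_one_iff x).mpr hx, one_mul,
      QuotientGroup.mk_pow]⟩
  intro h hh y hy
  obtain ⟨i, hi⟩ := hmk ⟨h, hh⟩
  obtain ⟨j, hj⟩ := hmk ⟨y, hy⟩
  have h1 : (((⟨h, hh⟩ : H) * ⟨y, hy⟩ * (⟨h, hh⟩ : H)⁻¹ * (⟨y, hy⟩ : H)⁻¹ : H)
      : H ⧸ K.subgroupOf H) = 1 := by
    rw [QuotientGroup.mk_mul, QuotientGroup.mk_mul, QuotientGroup.mk_mul, QuotientGroup.mk_inv,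
      QuotientGroup.mk_inv, hi, hj]
    have hc : Commute (((⟨g, hg⟩ : H) : H ⧸ K.subgroupOf H) ^ i)
        (((⟨g, hg⟩ : H) : H ⧸ K.subgroupOf H) ^ j) := (Commute.refl _).pow_pow i j
    rw [hc.eq, mul_inv_cancel_right, mul_inv_cancel]
  rw [QuotientGroup.eq_one_iff, Subgroup.mem_subgroupOf] at h1
  exact h1

/-- An element with two coprime powers in a subgroup lies in the subgroup. -/
theorem mem_of_pow_mem_of_coprime {G : Type u} [Group G] (S : Subgroup G) (g : G) (u v : ℕ)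
    (huv : u.Coprime v) (hu : g ^ u ∈ S) (hv : g ^ v ∈ S) : g ∈ S := by
  have h1 := Nat.gcd_eq_gcd_ab u v
  rw [huv.gcd_eq_one] at h1
  have h2 : g = (g ^ u) ^ (Nat.gcdA u v) * (g ^ v) ^ (Nat.gcdB u v) := by
    rw [← zpow_natCast g u, ← zpow_natCast g v, ← zpow_mul, ← zpow_mul, ← zpow_add, ← h1]
    simp
  rw [h2]
  exact S.mul_mem (S.zpow_mem hu _) (S.zpow_mem hv _)

section

variable {p : ℕ} [Fact p.Prime] {M : Ideal AlgInt}

/-- **The general cyclic step.** -/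
theorem exists_cyclic_step_gen (hM : IsPModular p M) {G : Type u} [Group G] [Finite G]
    (N : Subgroup G) [hN : N.Normal] (θ : IrrCharacter N) (hθ : θ ∈ principalBlock M N)
    (hdeg : ¬ p ∣ charDegree (θ : N → ℂ)) (Q : Sylow p N) (K H : Subgroup G) (hNK : N ≤ K)
    (hKH : K ≤ H) (hnorm : ∀ h ∈ H, ∀ x ∈ K, h * x * h⁻¹ ∈ K)
    (hcyc : ∃ g ∈ H, H = K ⊔ Subgroup.zpowers g) (a n' : ℕ) (hn' : ¬ p ∣ n')
    (hcard : Nat.card G = p ^ a * n') (k : ℕ) (hk : k.Coprime (Nat.card G))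
    (hk2 : ∀ ζ : ℂ, ζ ^ (p ^ a) = 1 → ζ ^ k = ζ ^ 2)
    (hG : ∀ g : G, ∃ n ∈ N, ∃ c ∈ centQ N (Q : Subgroup N), g ^ (p ^ a) = n * c)
    (f : G → ℂ) (hf : IsIrrCharacter K (fun x : K => f x))
    (hfN : ∀ n : N, f n = (θ : N → ℂ) n) (hσ : ∀ x ∈ K, f (x ^ k) = f x)
    (hinv : ∀ h ∈ H, ∀ x ∈ K, f (h * x * h⁻¹) = f x)
    (hC : ∀ c ∈ K, c ∈ centQ N (Q : Subgroup N) → MemLocalIdeal M (f c / f 1 - 1)) :
    ∃ f' : G → ℂ, IsIrrCharacter H (fun h : H => f' h) ∧ (∀ x ∈ K, f' x = f x) ∧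
      (∀ h ∈ H, f' (h ^ k) = f' h) ∧
      ∀ c ∈ H, ∀ x : G, x⁻¹ * c * x ∈ centQ N (Q : Subgroup N) →
        MemLocalIdeal M (f' c / f' 1 - 1) := by
  classical
  have hp : p.Prime := Fact.out
  obtain ⟨g, hg, hH⟩ := hcyc
  set g₁ := g ^ n' with hg₁
  set K₁ := K ⊔ Subgroup.zpowers g₁ with hK₁
  have hg₁H : g₁ ∈ H := H.pow_mem hg _
  have hKK₁ : K ≤ K₁ := le_sup_left
  have hg₁K₁ : g₁ ∈ K₁ := Subgroup.mem_sup_right (Subgroup.mem_zpowers g₁)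
  have hK₁H : K₁ ≤ H := sup_le hKH (Subgroup.zpowers_le.mpr hg₁H)
  have hnorm₁ : ∀ h ∈ K₁, ∀ x ∈ K, h * x * h⁻¹ ∈ K := fun h hh x hx => hnorm h (hK₁H hh) x hx
  have hcomm := commutator_mem_of_sup_zpowers K H hKH hnorm g hg hH
  -- `K₁` is normalized by `H`
  have hnormK₁ : ∀ h ∈ H, ∀ y ∈ K₁, h * y * h⁻¹ ∈ K₁ := by
    intro h hh y hy
    have h1 : h * y * h⁻¹ = (h * y * h⁻¹ * y⁻¹) * y := by group
    rw [h1]
    exact K₁.mul_mem (hKK₁ (hcomm h hh y (hK₁H hy))) hy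
  have hgexp : g ^ (p ^ a * n') = 1 := by
    rw [← hcard]
    exact pow_card_eq_one'
  -- the `p`-power step
  have hpow₁ : ∀ h ∈ K₁, h ^ (p ^ a) ∈ K := by
    apply pow_mem_of_sup_zpowers K K₁ hKK₁ hnorm₁ g₁ hg₁K₁ rfl
    rw [hg₁, ← pow_mul, mul_comm, hgexp]
    exact K.one_mem
  obtain ⟨f₁, hf₁, hext₁, hσ₁, hC₁⟩ := exists_pstep_sub hM N θ hθ hdeg Q K K₁ hNK hKK₁ hnorm₁
    ⟨g₁, hg₁K₁, rfl⟩ a hpow₁ k hk hk2 f hf hfN hσ
    (fun h hh x hx => hinv h (hK₁H hh) x hx) hC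
  have hC₁' : ∀ c ∈ K₁, c ∈ centQ N (Q : Subgroup N) → MemLocalIdeal M (f₁ c / f₁ 1 - 1) := by
    intro c hc hcQ
    apply hC₁ c hc 1
    rwa [inv_one, one_mul, mul_one]
  have hf₁K : IsIrrCharacter K (fun x : K => f₁ x) := by
    have h1 : (fun x : K => f₁ x) = fun x : K => f x := funext (fun x => hext₁ x x.2)
    rw [h1]
    exact hf
  -- `f₁` is `H`-invariant
  have hinv₁ : ∀ h ∈ H, ∀ y ∈ K₁, f₁ (h * y * h⁻¹) = f₁ y := by
    intro h hh y hy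
    have hmem : ∀ z, z ∈ K₁ ↔ h⁻¹⁻¹ * z * h⁻¹ ∈ K₁ := by
      intro z
      rw [inv_inv]
      constructor
      · intro hz
        exact hnormK₁ h hh z hz
      · intro hz
        have := hnormK₁ h⁻¹ (H.inv_mem hh) _ hz
        have h2 : h⁻¹ * (h * z * h⁻¹) * h⁻¹⁻¹ = z := by group
        rwa [h2] at this
    have h3 := eq_on_of_kfixed_ratio hM N (Q : Subgroup N) K K₁ hNK hKK₁ hnorm₁ a n' hn' hcard k
      hk hk2 hG f₁ (fun z => f₁ (h⁻¹⁻¹ * z * h⁻¹)) hf₁ hf₁K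
      (isIrrCharacter_conj_sub K₁ K₁ h⁻¹ hmem hf₁)
      (fun x hx => by
        show f₁ (h⁻¹⁻¹ * x * h⁻¹) = f₁ x
        rw [inv_inv, hext₁ _ (hnorm h hh x hx), hinv h hh x hx, hext₁ x hx])
      hσ₁
      (fun z hz => by
        show f₁ (h⁻¹⁻¹ * z ^ k * h⁻¹) = f₁ (h⁻¹⁻¹ * z * h⁻¹)
        have h4 : h⁻¹⁻¹ * z ^ k * h⁻¹ = (h⁻¹⁻¹ * z * h⁻¹) ^ k := by
          have := @conj_pow G _ k h⁻¹⁻¹ z
          rw [inv_inv] at this ⊢
          exact this.symm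
        rw [h4]
        exact hσ₁ _ ((hmem z).mp hz))
      hC₁'
      (fun c hc hcQ => by
        show MemLocalIdeal M (f₁ (h⁻¹⁻¹ * c * h⁻¹) / f₁ (h⁻¹⁻¹ * 1 * h⁻¹) - 1)
        have h5 : h⁻¹⁻¹ * 1 * h⁻¹ = 1 := by group
        rw [h5]
        apply hC₁ _ ((hmem c).mp hc) h⁻¹⁻¹
        have h6 : h⁻¹⁻¹⁻¹ * (h⁻¹⁻¹ * c * h⁻¹) * h⁻¹⁻¹ = c := by group
        rwa [h6])
      y hy
    have h7 : f₁ (h⁻¹⁻¹ * y * h⁻¹) = f₁ y := h3
    rwa [inv_inv] at h7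
  -- the generator of the `p'`-step
  obtain ⟨n, hn, c, hc, hgc⟩ := hG g
  have hnK : n ∈ K := hNK hn
  have hcH : c ∈ H := by
    have h1 : c = n⁻¹ * g ^ (p ^ a) := by rw [hgc]; group
    rw [h1]
    exact H.mul_mem (H.inv_mem (hKH hnK)) (H.pow_mem hg _)
  have hHg : H = K₁ ⊔ Subgroup.zpowers g := by
    apply le_antisymm
    · rw [hH]
      exact sup_le (hKK₁.trans le_sup_left) le_sup_right
    · exact sup_le hK₁H (Subgroup.zpowers_le.mpr hg)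
  have hHc : H = K₁ ⊔ Subgroup.zpowers c := by
    apply le_antisymm
    · rw [hH]
      refine sup_le (hKK₁.trans le_sup_left) (Subgroup.zpowers_le.mpr ?_)
      apply mem_of_pow_mem_of_coprime _ g n' (p ^ a)
      · exact Nat.Coprime.pow_right a ((Nat.Prime.coprime_iff_not_dvd hp).mpr hn').symm
      · exact Subgroup.mem_sup_left hg₁K₁
      · rw [hgc]
        exact Subgroup.mul_mem _ (Subgroup.mem_sup_left (hKK₁ hnK))
          (Subgroup.mem_sup_right (Subgroup.mem_zpowers c))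
    · exact sup_le hK₁H (Subgroup.zpowers_le.mpr hcH)
  have hpow₂ : ∀ h ∈ H, h ^ n' ∈ K₁ :=
    pow_mem_of_sup_zpowers K₁ H hK₁H hnormK₁ g hg hHg n' hg₁K₁
  have hidx : ¬ p ∣ K₁.relIndex H := by
    have : (K₁.subgroupOf H).Normal := ⟨fun z hz y => by
      rw [Subgroup.mem_subgroupOf] at hz ⊢
      exact hnormK₁ y y.2 z hz⟩
    intro hdvd
    have hdvd' : p ∣ Nat.card (H ⧸ K₁.subgroupOf H) := by
      rw [← Subgroup.index_eq_card]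
      exact hdvd
    obtain ⟨x, hx⟩ := exists_prime_orderOf_dvd_card' p hdvd'
    obtain ⟨y, rfl⟩ := QuotientGroup.mk_surjective x
    have h1 : ((y : H ⧸ K₁.subgroupOf H)) ^ n' = 1 := by
      rw [← QuotientGroup.mk_pow, QuotientGroup.eq_one_iff, Subgroup.mem_subgroupOf,
        Subgroup.coe_pow]
      exact hpow₂ y y.2
    have h2 := orderOf_dvd_of_pow_eq_one h1
    rw [hx] at h2
    exact hn' h2
  obtain ⟨f', hf', hext', hσ', hC'⟩ := exists_p'step_sub hM N θ hθ hdeg Q K₁ H (hNK.trans hKK₁)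
    hK₁H hnormK₁ hidx c hcH hc hHc k hk f₁ hf₁
    (fun x => by rw [hext₁ _ (hNK x.2)]; exact hfN x) hσ₁ hinv₁ hC₁'
  exact ⟨f', hf', fun x hx => by rw [hext' x (hKK₁ hx), hext₁ x hx], hσ', hC'⟩

end

end Cfsg.Agent.Lib.helper4
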