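import Mathlib
import Cfsg.Agent.Lib.helper4.PRatCyc

/-!
# The canonical power-map-fixed extension congruent to its degree (helper4 library)
-/

set_option autoImplicit false
set_option linter.unusedSectionVars false

namespace Cfsg.Agent.Lib.helper4

open Cfsg
open scoped ComplexConjugate

universe u

section

variable {p : ℕ} [Fact p.Prime] {M : Ideal AlgInt}

/-- Members of the principal block of `N` are `≡` their degree on `C_N(Q)`. -/
theorem ratio_of_mem_centQ (hM : IsPModular p M) {G : Type u} [Group G] [Finite G]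
    (N : Subgroup G) (θ : IrrCharacter N) (hθ : θ ∈ principalBlock M N) (Q : Sylow p N) (n : N)
    (hn : (n : G) ∈ centQ N (Q : Subgroup N)) :
    MemLocalIdeal M ((θ : N → ℂ) n / (θ : N → ℂ) 1 - 1) := by
  have hQidx : ¬ p ∣ (Q : Subgroup N).index := Q.not_dvd_index
  apply memLocalIdeal_ratio_of_mem_principalBlock hM hθ
  have hle : (Q : Subgroup N) ≤ Subgroup.centralizer ({n} : Set N) := by
    intro q hq
    rw [Subgroup.mem_centralizer_iff]
    intro z hz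
    rw [Set.mem_singleton_iff] at hz
    subst hz
    apply Subtype.ext
    rw [Subgroup.coe_mul, Subgroup.coe_mul]
    exact (mem_centQ N (Q : Subgroup N) z).mp hn q hq
  exact fun h => hQidx (dvd_trans h (Subgroup.index_dvd_of_le hle))

/-- **Existence and uniqueness of the power-map-fixed extension congruent to its degree on the
conjugates of `C_G(Q)`.** -/
theorem exists_kfixed_extension (hM : IsPModular p M) {G : Type u} [Group G] [Finite G]
    (N : Subgroup G) [hN : N.Normal] (θ : IrrCharacter N) (hθ : θ ∈ principalBlock M N)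
    (hdeg : ¬ p ∣ charDegree (θ : N → ℂ)) (Q : Sylow p N)
    (hinv : ∀ g : G, ∀ n n' : N, (n' : G) = g * (n : G) * g⁻¹ →
      (θ : N → ℂ) n' = (θ : N → ℂ) n)
    (a n' : ℕ) (hn' : ¬ p ∣ n') (hcard : Nat.card G = p ^ a * n') (k : ℕ)
    (hk : k.Coprime (Nat.card G)) (hk2 : ∀ ζ : ℂ, ζ ^ (p ^ a) = 1 → ζ ^ k = ζ ^ 2)
    (hG : ∀ g : G, ∃ n ∈ N, ∃ c ∈ centQ N (Q : Subgroup N), g ^ (p ^ a) = n * c)
    (hθk : ∀ n : N, (θ : N → ℂ) (n ^ k) = (θ : N → ℂ) n) :
    ∃ χ : G → ℂ, IsIrrCharacter G χ ∧ (∀ n : N, χ n = (θ : N → ℂ) n) ∧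
      (∀ g, χ (g ^ k) = χ g) ∧
      (∀ c x : G, x⁻¹ * c * x ∈ centQ N (Q : Subgroup N) → MemLocalIdeal M (χ c / χ 1 - 1)) ∧
      ∀ χ' : G → ℂ, IsIrrCharacter G χ' → (∀ n : N, χ' n = (θ : N → ℂ) n) →
        (∀ g, χ' (g ^ k) = χ' g) →
        (∀ c ∈ centQ N (Q : Subgroup N), MemLocalIdeal M (χ' c / χ' 1 - 1)) → χ' = χ := by
  classical
  set f₀ := helper80.extFun N (θ : N → ℂ) with hf₀
  have hf₀N : ∀ n : N, f₀ n = (θ : N → ℂ) n := fun n => helper80.extFun_coe N _ n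
  have hirr : IsIrrCharacter N (fun x : N => f₀ x) := by
    have h1 : (fun x : N => f₀ x) = (θ : N → ℂ) := funext hf₀N
    rw [h1]
    exact θ.2
  have hinv₀ : ∀ x n : G, n ∈ N → f₀ (x * n * x⁻¹) = f₀ n := by
    intro x n hn
    rw [hf₀, helper80.extFun_of_mem N _ (hN.conj_mem n hn x), helper80.extFun_of_mem N _ hn]
    exact hinv x ⟨n, hn⟩ ⟨x * n * x⁻¹, hN.conj_mem n hn x⟩ rfl
  have hf₀1 : f₀ 1 = (θ : N → ℂ) 1 := hf₀N 1
  -- the initial congruence
  have hC₀ : ∀ c ∈ N, ∀ x : G, x⁻¹ * c * x ∈ centQ N (Q : Subgroup N) →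
      MemLocalIdeal M (f₀ c / f₀ 1 - 1) := by
    intro c hc x hx
    have hc' : x⁻¹ * c * x ∈ N := by
      have := hN.conj_mem c hc x⁻¹
      rwa [inv_inv] at this
    have h1 := ratio_of_mem_centQ hM N θ hθ Q ⟨x⁻¹ * c * x, hc'⟩ hx
    have h2 := hinv₀ x⁻¹ c hc
    rw [inv_inv] at h2
    rw [← hf₀N, h2] at h1
    rw [hf₀1]
    exact h1
  -- the uniqueness statement in subgroup form
  have huniq : ∀ (K H : Subgroup G) (f₁ f₂ : G → ℂ), N ≤ K → K ≤ H →
      (∀ h ∈ H, ∀ x ∈ K, h * x * h⁻¹ ∈ K) → IsIrrCharacter K (fun x : K => f₁ x) →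
      IsIrrCharacter H (fun h : H => f₁ h) → (∀ h ∈ H, f₁ (h ^ k) = f₁ h) →
      (∀ c ∈ H, c ∈ centQ N (Q : Subgroup N) → MemLocalIdeal M (f₁ c / f₁ 1 - 1)) →
      IsIrrCharacter H (fun h : H => f₂ h) → (∀ h ∈ H, f₂ (h ^ k) = f₂ h) →
      (∀ c ∈ H, c ∈ centQ N (Q : Subgroup N) → MemLocalIdeal M (f₂ c / f₂ 1 - 1)) →
      (∀ x ∈ K, f₂ x = f₁ x) → ∀ h ∈ H, f₂ h = f₁ h := by
    intro K H f₁ f₂ hNK hKH hnorm h₁K h₁ hσ₁ hQ₁ h₂ hσ₂ hQ₂ hres
    exact eq_on_of_kfixed_ratio hM N (Q : Subgroup N) K H hNK hKH hnorm a n' hn' hcard k hk hk2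
      hG f₁ f₂ h₁ h₁K h₂ hres hσ₁ hσ₂ hQ₁ hQ₂
  obtain ⟨f', hf', hQ', hext⟩ := canonical_extension N
    (fun H f => (∀ n ∈ N, n ∈ H → f n = f₀ n) ∧ (∀ h ∈ H, f (h ^ k) = f h) ∧
      ∀ c ∈ H, ∀ x : G, x⁻¹ * c * x ∈ centQ N (Q : Subgroup N) →
        MemLocalIdeal M (f c / f 1 - 1))
    (fun H f f' heq hQ => ⟨fun n hn hnH => by rw [← heq n hnH]; exact hQ.1 n hn hnH,
      fun h hh => by rw [← heq h hh, ← heq _ (H.pow_mem hh k)]; exact hQ.2.1 h hh,
      fun c hc x hx => by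
        rw [← heq c hc, ← heq 1 H.one_mem]
        exact hQ.2.2 c hc x hx⟩)
    (fun H' H f hle hQ => ⟨fun n hn hnH => hQ.1 n hn (hle hnH),
      fun h hh => hQ.2.1 h (hle hh), fun c hc x hx => hQ.2.2 c (hle hc) x hx⟩)
    (fun H f hloc => ⟨fun n hn hnH => by
        obtain ⟨L, -, hnL, hQL⟩ := hloc n hnH
        exact hQL.1 n hn hnL,
      fun h hh => by
        obtain ⟨L, -, hhL, hQL⟩ := hloc h hh
        exact hQL.2.1 h hhL,
      fun c hc x hx => by
        obtain ⟨L, -, hcL, hQL⟩ := hloc c hc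
        exact hQL.2.2 c hcL x hx⟩)
    (fun H H' f x hx hQ => ⟨fun n hn hnH => by
        have h1 : x⁻¹ * n * x ∈ N := by
          have := hN.conj_mem n hn x⁻¹
          rwa [inv_inv] at this
        show f (x⁻¹ * n * x) = f₀ n
        rw [hQ.1 _ h1 ((hx n).mp hnH)]
        have h2 := hinv₀ x⁻¹ n hn
        rwa [inv_inv] at h2,
      fun h hh => by
        show f (x⁻¹ * h ^ k * x) = f (x⁻¹ * h * x)
        have h4 : x⁻¹ * h ^ k * x = (x⁻¹ * h * x) ^ k := by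
          have := @conj_pow G _ k x⁻¹ h
          rw [inv_inv] at this
          exact this.symm
        rw [h4]
        exact hQ.2.1 _ ((hx h).mp hh),
      fun c hc y hy => by
        show MemLocalIdeal M (f (x⁻¹ * c * x) / f (x⁻¹ * 1 * x) - 1)
        have h1 : x⁻¹ * 1 * x = 1 := by group
        rw [h1]
        apply hQ.2.2 _ ((hx c).mp hc) (x⁻¹ * y)
        have h2 : (x⁻¹ * y)⁻¹ * (x⁻¹ * c * x) * (x⁻¹ * y) = y⁻¹ * c * y := by group
        rwa [h2]⟩)
    (fun K H f f₁ f₂ hNK hKH hnorm hfK hf₁ hQ₁ hext₁ hf₂ hQ₂ hext₂ h hh => by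
      have h1K : (fun x : K => f₁ x) = fun x : K => f x := funext (fun x => hext₁ x x.2)
      exact (huniq K H f₁ f₂ hNK hKH hnorm (by rw [h1K]; exact hfK) hf₁ hQ₁.2.1
        (fun c hc hcQ => hQ₁.2.2 c hc 1 (by rwa [inv_one, one_mul, mul_one])) hf₂ hQ₂.2.1
        (fun c hc hcQ => hQ₂.2.2 c hc 1 (by rwa [inv_one, one_mul, mul_one]))
        (fun x hx => by rw [hext₂ x hx, hext₁ x hx]) h hh).symm)
    (fun K H f hNK hKH hnorm hcyc hfK hQK hinvK => by
      obtain ⟨f', hf', hext', hσ', hC'⟩ := exists_cyclic_step_gen hM N θ hθ hdeg Q K H hNK hKH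
        hnorm hcyc a n' hn' hcard k hk hk2 hG f hfK
        (fun n => by rw [hQK.1 n n.2 (hNK n.2)]; exact hf₀N n) hQK.2.1 hinvK
        (fun c hc hcQ => hQK.2.2 c hc 1 (by rwa [inv_one, one_mul, mul_one]))
      exact ⟨f', hf', ⟨fun n hn _ => by rw [hext' n (hNK hn)]; exact hQK.1 n hn (hNK hn),
        hσ', hC'⟩, hext'⟩)
    N ⊤ f₀ le_rfl le_top (fun h _ x hx => hN.conj_mem x hx h) hirr
    ⟨fun _ _ _ => rfl, fun h hh => by
        have h1 := hf₀N (⟨h, hh⟩ ^ k)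
        rw [Subgroup.coe_pow] at h1
        rw [h1, hθk]
        exact (hf₀N ⟨h, hh⟩).symm, hC₀⟩
    (fun h _ x hx => hinv₀ h x hx)
  have htop : ∀ ψ : G → ℂ, IsIrrCharacter (⊤ : Subgroup G) (fun h : (⊤ : Subgroup G) => ψ h) ↔
      IsIrrCharacter G ψ := by
    intro ψ
    constructor
    · intro h
      let φ : G →* (⊤ : Subgroup G) :=
        { toFun := fun g => ⟨g, Subgroup.mem_top g⟩
          map_one' := rfl
          map_mul' := fun _ _ => rfl }
      have hφ : Function.Surjective φ := fun y => ⟨y, Subtype.ext rfl⟩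
      exact isIrrCharacter_comp_surjective φ hφ h
    · intro h
      exact isIrrCharacter_comp_surjective (⊤ : Subgroup G).subtype
        (fun y => ⟨⟨y, Subgroup.mem_top y⟩, rfl⟩) h
  have hirrG : IsIrrCharacter G f' := (htop f').mp hf'
  refine ⟨f', hirrG, fun n => ?_, fun g => hQ'.2.1 g (Subgroup.mem_top g),
    fun c x hx => hQ'.2.2 c (Subgroup.mem_top c) x hx, ?_⟩
  · rw [hext n n.2]
    exact hf₀N n
  · intro χ' hχ' hχ'N hχ'k hχ'C
    funext g
    have hf'N : IsIrrCharacter N (fun x : N => f' x) := by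
      have h1 : (fun x : N => f' x) = (θ : N → ℂ) := by
        funext x
        rw [hext x x.2]
        exact hf₀N x
      rw [h1]
      exact θ.2
    exact huniq N ⊤ f' χ' le_rfl le_top (fun h _ x hx => hN.conj_mem x hx h) hf'N hf'
      (fun h hh => hQ'.2.1 h hh)
      (fun c hc hcQ => hQ'.2.2 c hc 1 (by rwa [inv_one, one_mul, mul_one]))
      ((htop χ').mpr hχ') (fun h _ => hχ'k h) (fun c _ hcQ => hχ'C c hcQ)
      (fun x hx => by
        rw [hχ'N ⟨x, hx⟩, hext x hx]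
        exact (hf₀N ⟨x, hx⟩).symm)
      g (Subgroup.mem_top g)

end

end Cfsg.Agent.Lib.helper4
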