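import Mathlib
import Cfsg.Agent.Lib.helper79.GaloisChar
import Cfsg.Agent.Lib.helper79.FiniteOrderTrace

/-!
# `p`-rationality: cyclotomic fields versus power maps (helper4 library)
-/

set_option autoImplicit false

namespace Cfsg.Agent.Lib.helper4

open Cfsg

universe u

/-- Powers of an element of exponent `m` depend on the exponent modulo `m`. -/
theorem pow_eq_pow_of_modEq_of_pow_eq_one {α : Type*} [Monoid α] (x : α) (m u v : ℕ)
    (hx : x ^ m = 1) (h : u ≡ v [MOD m]) : x ^ u = x ^ v := by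
  have h1 : ∀ w : ℕ, x ^ w = x ^ (w % m) := by
    intro w
    conv_lhs => rw [← Nat.mod_add_div w m, pow_add, pow_mul, hx, one_pow, mul_one]
  rw [h1 u, h1 v, h]

/-- A character with values in the `m`-th cyclotomic field, `p ∤ m`, is fixed by the power maps
`k ≡ 1 (mod n')` coprime to the group order `p ^ a n'`. -/
theorem char_pow_eq_of_mem_adjoin {N : Type u} [Group N] {θ : N → ℂ}
    (hθ : IsCharacter N θ) (p a n' m : ℕ) (hp : p.Prime) (hn' : ¬ p ∣ n') (hm : ¬ p ∣ m)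
    (hexp : ∀ n : N, n ^ (p ^ a * n') = 1)
    (hrat : ∀ n : N, θ n ∈ IntermediateField.adjoin ℚ
      ({Complex.exp (2 * Real.pi * Complex.I / m)} : Set ℂ))
    (k : ℕ) (hk : k.Coprime (p ^ a * n')) (hk1 : k ≡ 1 [MOD n']) (n : N) :
    θ (n ^ k) = θ n := by
  have hn'0 : n' ≠ 0 := by
    rintro rfl
    exact hn' (dvd_zero p)
  have hm0 : m ≠ 0 := by
    rintro rfl
    exact hm (dvd_zero p)
  have co1 : (p ^ a).Coprime n' :=
    Nat.Coprime.pow_left a ((Nat.Prime.coprime_iff_not_dvd hp).mpr hn')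
  have co : (p ^ a).Coprime (n' * m) :=
    Nat.Coprime.mul_right co1 (Nat.Coprime.pow_left a ((Nat.Prime.coprime_iff_not_dvd hp).mpr hm))
  obtain ⟨kt, hkt1, hkt2⟩ := Nat.chineseRemainder co k 1
  have hL0 : 0 < p ^ a * (n' * m) :=
    Nat.mul_pos (pow_pos hp.pos a) (Nat.mul_pos (Nat.pos_of_ne_zero hn'0) (Nat.pos_of_ne_zero hm0))
  have hktL : kt.Coprime (p ^ a * (n' * m)) := by
    apply Nat.Coprime.mul_right
    · have h1 := hkt1.gcd_eq
      unfold Nat.Coprime
      rw [h1]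
      exact Nat.Coprime.coprime_mul_right_right hk
    · have h1 := hkt2.gcd_eq
      unfold Nat.Coprime
      rw [h1]
      exact Nat.gcd_one_left _
  obtain ⟨τ, hτ⟩ := helper79.exists_ringEquiv_complex_pow (p ^ a * (n' * m)) hL0 kt hktL
  set ζ := Complex.exp (2 * Real.pi * Complex.I / m) with hζ
  have hζm : ζ ^ m = 1 := (Complex.isPrimitiveRoot_exp m hm0).pow_eq_one
  have hτζ : τ ζ = ζ := by
    rw [hτ ζ (by rw [show p ^ a * (n' * m) = m * (p ^ a * n') by ring, pow_mul, hζm, one_pow])]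
    have h1 : kt ≡ 1 [MOD m] := hkt2.of_mul_left n'
    rw [pow_eq_pow_of_modEq_of_pow_eq_one ζ m kt 1 hζm h1, pow_one]
  have hfix : ∀ x ∈ IntermediateField.adjoin ℚ ({ζ} : Set ℂ), τ x = x := by
    intro x hx
    induction hx using IntermediateField.adjoin_induction with
    | mem x hx =>
      rw [Set.mem_singleton_iff] at hx
      rw [hx]
      exact hτζ
    | algebraMap q => exact map_ratCast τ q
    | add x y _ _ hx hy => rw [map_add, hx, hy]
    | inv x _ hx => rw [map_inv₀, hx]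
    | mul x y _ _ hx hy => rw [map_mul, hx, hy]
  have h1 := helper79.ringHom_character_eq_character_pow (τ : ℂ →+* ℂ) (p ^ a * (n' * m)) kt
    hL0.ne' (fun z hz => hτ z hz) hθ n
    (by rw [show p ^ a * (n' * m) = (p ^ a * n') * m by ring, pow_mul, hexp, one_pow])
  have h2 : n ^ kt = n ^ k := by
    apply pow_eq_pow_of_modEq_of_pow_eq_one n (p ^ a * n') kt k (hexp n)
    rw [← Nat.modEq_and_modEq_iff_modEq_mul co1]
    exact ⟨hkt1, (hkt2.of_mul_right m).trans hk1.symm⟩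
  rw [← h2, ← h1]
  exact hfix _ (hrat n)

/-- Geometric sums of roots of unity over a full period are integers. -/
theorem geom_sum_int (ω : ℂ) (N : ℕ) (h : ω ^ N = 1) :
    ∃ z : ℤ, ∑ j ∈ Finset.range N, ω ^ j = z := by
  by_cases h1 : ω = 1
  · exact ⟨N, by rw [h1]; simp⟩
  · refine ⟨0, ?_⟩
    have h2 := mul_geom_sum ω N
    rw [h, sub_self] at h2
    rcases mul_eq_zero.mp h2 with h3 | h3
    · exact absurd (sub_eq_zero.mp h3) h1
    · rw [h3]
      simp

/-- The sum of the powers of a `p ^ a`-th root of unity over the units modulo `p ^ a` is an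
integer. -/
theorem sum_units_pow_int (p : ℕ) (hp : p.Prime) (a : ℕ) (α : ℂ) (hα : α ^ (p ^ a) = 1) :
    ∃ z : ℤ, ∑ j ∈ (Finset.range (p ^ a)).filter (fun j => (p ^ a).Coprime j), α ^ j = z := by
  rcases Nat.eq_zero_or_pos a with ha | ha
  · subst ha
    refine ⟨1, ?_⟩
    simp
  · obtain ⟨b, rfl⟩ : ∃ b, a = b + 1 := ⟨a - 1, by omega⟩
    have hcop : ∀ j, (p ^ (b + 1)).Coprime j ↔ ¬ p ∣ j := by
      intro j
      rw [Nat.coprime_pow_left_iff (Nat.succ_pos b), Nat.Prime.coprime_iff_not_dvd hp]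
    obtain ⟨z₁, hz₁⟩ := geom_sum_int α (p ^ (b + 1)) hα
    obtain ⟨z₂, hz₂⟩ := geom_sum_int (α ^ p) (p ^ b) (by rw [← pow_mul, ← pow_succ']; exact hα)
    refine ⟨z₁ - z₂, ?_⟩
    have h1 : ∑ j ∈ (Finset.range (p ^ (b + 1))).filter (fun j => ¬ (p ^ (b + 1)).Coprime j),
        α ^ j = ∑ i ∈ Finset.range (p ^ b), (α ^ p) ^ i := by
      symm
      apply Finset.sum_bij (fun i _ => p * i)
      · intro i hi
        rw [Finset.mem_filter, Finset.mem_range, hcop, not_not]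
        refine ⟨?_, dvd_mul_right p i⟩
        rw [pow_succ']
        exact Nat.mul_lt_mul_of_pos_left (Finset.mem_range.mp hi) hp.pos
      · intro i _ i' _ h
        exact Nat.eq_of_mul_eq_mul_left hp.pos h
      · intro j hj
        rw [Finset.mem_filter, Finset.mem_range, hcop, not_not] at hj
        obtain ⟨i, rfl⟩ := hj.2
        refine ⟨i, Finset.mem_range.mpr ?_, rfl⟩
        have h3 := hj.1
        rw [pow_succ'] at h3
        exact Nat.lt_of_mul_lt_mul_left h3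
      · intro i _
        rw [← pow_mul]
    have h2 := Finset.sum_filter_add_sum_filter_not (Finset.range (p ^ (b + 1)))
      (fun j => (p ^ (b + 1)).Coprime j) (fun j => α ^ j)
    rw [h1, hz₁, hz₂] at h2
    push_cast
    linear_combination h2

/-- A character fixed by the power maps `k ≡ 1 (mod n')` coprime to the group order `p ^ a n'`
has its values in the `n'`-th cyclotomic field. -/
theorem mem_adjoin_of_pow_fixed {G : Type u} [Group G] {χ : G → ℂ} (hχ : IsCharacter G χ)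
    (p a n' : ℕ) (hp : p.Prime) (hn' : ¬ p ∣ n') (hexp : ∀ g : G, g ^ (p ^ a * n') = 1)
    (hfix : ∀ k : ℕ, k.Coprime (p ^ a * n') → k ≡ 1 [MOD n'] → ∀ g : G, χ (g ^ k) = χ g)
    (g : G) :
    χ g ∈ IntermediateField.adjoin ℚ ({Complex.exp (2 * Real.pi * Complex.I / n')} : Set ℂ) := by
  classical
  obtain ⟨d, ρ, rfl⟩ := hχ
  have hn'0 : n' ≠ 0 := by
    rintro rfl
    exact hn' (dvd_zero p)
  have hL : p ^ a * n' ≠ 0 := Nat.mul_ne_zero (pow_ne_zero a hp.ne_zero) hn'0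
  obtain ⟨S, mult, hS, -, hsum, -⟩ := helper79.character_pow_eq_sum ρ g (p ^ a * n') hL (hexp g)
  set ζ := Complex.exp (2 * Real.pi * Complex.I / n') with hζ
  have co : (p ^ a).Coprime n' :=
    Nat.Coprime.pow_left a ((Nat.Prime.coprime_iff_not_dvd hp).mpr hn')
  set J := (Finset.range (p ^ a)).filter (fun j => (p ^ a).Coprime j) with hJ
  have hJpos : 0 < J.card := by
    have h1 : J.card = Nat.totient (p ^ a) := by
      rw [hJ, Nat.totient_eq_card_coprime]
    rw [h1]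
    exact Nat.totient_pos.mpr (pow_pos hp.pos a)
  set kk : ℕ → ℕ := fun j => (Nat.chineseRemainder co j 1 : ℕ) with hkk
  have hkk1 : ∀ j, kk j ≡ j [MOD p ^ a] := fun j => (Nat.chineseRemainder co j 1).2.1
  have hkk2 : ∀ j, kk j ≡ 1 [MOD n'] := fun j => (Nat.chineseRemainder co j 1).2.2
  have hkkc : ∀ j ∈ J, (kk j).Coprime (p ^ a * n') := by
    intro j hj
    apply Nat.Coprime.mul_right
    · unfold Nat.Coprime
      rw [(hkk1 j).gcd_eq]
      exact ((Finset.mem_filter.mp hj).2).symm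
    · unfold Nat.Coprime
      rw [(hkk2 j).gcd_eq]
      exact Nat.gcd_one_left _
  have h1 : (J.card : ℂ) * ρ.character g = ∑ μ ∈ S, (mult μ : ℂ) * ∑ j ∈ J, μ ^ (kk j) := by
    calc (J.card : ℂ) * ρ.character g = ∑ j ∈ J, ρ.character (g ^ kk j) := by
          rw [Finset.sum_congr rfl (fun j hj => hfix (kk j) (hkkc j hj) (hkk2 j) g),
            Finset.sum_const, nsmul_eq_mul]
      _ = ∑ j ∈ J, ∑ μ ∈ S, (mult μ : ℂ) * μ ^ (kk j) :=
          Finset.sum_congr rfl (fun j _ => hsum (kk j))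
      _ = ∑ μ ∈ S, ∑ j ∈ J, (mult μ : ℂ) * μ ^ (kk j) := Finset.sum_comm
      _ = ∑ μ ∈ S, (mult μ : ℂ) * ∑ j ∈ J, μ ^ (kk j) := by simp only [Finset.mul_sum]
  have hinner : ∀ μ ∈ S, ∑ j ∈ J, μ ^ (kk j) ∈ IntermediateField.adjoin ℚ ({ζ} : Set ℂ) := by
    intro μ hμ
    have hμL := hS μ hμ
    obtain ⟨e₁, he₁a, he₁b⟩ := Nat.chineseRemainder co 1 0
    obtain ⟨e₂, he₂a, he₂b⟩ := Nat.chineseRemainder co 0 1
    have hα : (μ ^ e₁) ^ (p ^ a) = 1 := by
      obtain ⟨t, ht⟩ := (Nat.modEq_zero_iff_dvd.mp he₁b)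
      rw [← pow_mul, ht, show n' * t * p ^ a = (p ^ a * n') * t by ring, pow_mul, hμL, one_pow]
    have hβ : (μ ^ e₂) ^ n' = 1 := by
      obtain ⟨t, ht⟩ := (Nat.modEq_zero_iff_dvd.mp he₂a)
      rw [← pow_mul, ht, show p ^ a * t * n' = (p ^ a * n') * t by ring, pow_mul, hμL, one_pow]
    have hμk : ∀ j, μ ^ (kk j) = (μ ^ e₁) ^ j * μ ^ e₂ := by
      intro j
      rw [← pow_mul, ← pow_add]
      apply pow_eq_pow_of_modEq_of_pow_eq_one μ (p ^ a * n') _ _ hμL
      rw [← Nat.modEq_and_modEq_iff_modEq_mul co]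
      constructor
      · have h3 : e₁ * j + e₂ ≡ 1 * j + 0 [MOD p ^ a] := (he₁a.mul_right j).add he₂a
        rw [one_mul, add_zero] at h3
        exact (hkk1 j).trans h3.symm
      · have h3 : e₁ * j + e₂ ≡ 0 * j + 1 [MOD n'] := (he₁b.mul_right j).add he₂b
        rw [zero_mul, zero_add] at h3
        exact (hkk2 j).trans h3.symm
    obtain ⟨z, hz⟩ := sum_units_pow_int p hp a (μ ^ e₁) hα
    have hβF : μ ^ e₂ ∈ IntermediateField.adjoin ℚ ({ζ} : Set ℂ) := by
      have hprim := Complex.isPrimitiveRoot_exp n' hn'0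
      have : NeZero n' := ⟨hn'0⟩
      obtain ⟨i, -, hi⟩ := hprim.eq_pow_of_pow_eq_one hβ
      rw [← hi]
      exact pow_mem (IntermediateField.subset_adjoin ℚ _ (Set.mem_singleton _)) i
    have h4 : ∑ j ∈ J, μ ^ (kk j) = (z : ℂ) * μ ^ e₂ := by
      simp only [hμk]
      rw [← Finset.sum_mul, hz]
    rw [h4]
    exact mul_mem (intCast_mem _ z) hβF
  have hJ0 : (J.card : ℂ) ≠ 0 := by
    exact_mod_cast hJpos.ne'
  have h2 : ρ.character g = (J.card : ℂ)⁻¹ * ∑ μ ∈ S, (mult μ : ℂ) * ∑ j ∈ J, μ ^ (kk j) := by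
    rw [← h1]
    field_simp
  rw [h2]
  exact mul_mem (inv_mem (natCast_mem _ _))
    (sum_mem (fun μ hμ => mul_mem (natCast_mem _ _) (hinner μ hμ)))

end Cfsg.Agent.Lib.helper4
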