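import Mathlib

/-!
S5238 block G END split (architect helper91), piece E0: a subgroup of order `p ^ k` is generated
by at most `k` elements.
-/

set_option autoImplicit false

namespace Cfsg.Agent.Lib.helper91.PearlEnd

/-- E0 (S/M). A subgroup of order `p ^ k` is generated by at most `k` elements. -/
theorem gen_le_log {G : Type*} [Group G] [Finite G] (p : ℕ) [Fact p.Prime] (H : Subgroup G) (k : ℕ)
    (hH : Nat.card H = p ^ k) : ∃ T : Finset G, T.card ≤ k ∧ Subgroup.closure (T : Set G) = H := by
  classical
  have hp : p.Prime := Fact.out
  induction k generalizing H with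
  | zero =>
    refine ⟨∅, le_rfl, ?_⟩
    rw [pow_zero] at hH
    rw [Finset.coe_empty, Subgroup.closure_empty]
    exact ((Subgroup.card_eq_one).mp hH).symm
  | succ k ih =>
    obtain ⟨K, hK⟩ := Sylow.exists_subgroup_card_pow_prime (G := ↥H) p (n := k)
      (by rw [hH]; exact pow_dvd_pow p (Nat.le_succ k))
    have hM : Nat.card (K.map H.subtype) = p ^ k := by
      rw [Subgroup.card_map_of_injective (Subgroup.subtype_injective H)]
      exact hK
    have hMH : K.map H.subtype ≤ H := Subgroup.map_subtype_le K
    obtain ⟨T', hT', hcl'⟩ := ih (K.map H.subtype) hM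
    have hne : K.map H.subtype ≠ H := by
      intro h
      rw [h, hH] at hM
      have := Nat.pow_right_injective hp.two_le hM
      omega
    obtain ⟨h, hhH, hhM⟩ := SetLike.exists_of_lt (lt_of_le_of_ne hMH hne)
    refine ⟨insert h T', le_trans (Finset.card_insert_le h T') (by omega), ?_⟩
    have hML : K.map H.subtype ≤ Subgroup.closure ((insert h T' : Finset G) : Set G) := by
      rw [← hcl']
      exact Subgroup.closure_mono (by
        rw [Finset.coe_insert]
        exact Set.subset_insert h _)
    have hhL : h ∈ Subgroup.closure ((insert h T' : Finset G) : Set G) :=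
      Subgroup.subset_closure (by
        rw [Finset.coe_insert]
        exact Set.mem_insert h _)
    have hLH : Subgroup.closure ((insert h T' : Finset G) : Set G) ≤ H := by
      rw [Subgroup.closure_le, Finset.coe_insert]
      intro x hx
      rcases hx with rfl | hx
      · exact hhH
      · exact hMH (by rw [← hcl']; exact Subgroup.subset_closure hx)
    refine Subgroup.eq_of_le_of_card_ge hLH ?_
    have hlt : Nat.card (K.map H.subtype) <
        Nat.card (Subgroup.closure ((insert h T' : Finset G) : Set G)) := by
      by_contra hcon
      have heq := Subgroup.eq_of_le_of_card_ge hML (not_lt.mp hcon)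
      exact hhM (by rw [heq]; exact hhL)
    have hdvd : Nat.card (Subgroup.closure ((insert h T' : Finset G) : Set G)) ∣ p ^ (k + 1) := by
      rw [← hH]
      exact Subgroup.card_dvd_of_le hLH
    obtain ⟨j, hj, hcj⟩ := (Nat.dvd_prime_pow hp).mp hdvd
    rw [hM, hcj] at hlt
    have hkj : k < j := (Nat.pow_lt_pow_iff_right hp.one_lt).mp hlt
    have hj' : j = k + 1 := by omega
    rw [hH, hcj, hj']

end Cfsg.Agent.Lib.helper91.PearlEnd
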