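import Mathlib
import Cfsg.Agent.Lib.helper68.HallPet
import Cfsg.Agent.Lib.helper65.PearlDefs

/-!
S5238 BLOCK G (architect helper33), leaf ONTO.
-/

set_option autoImplicit false

namespace Cfsg.Agent.Lib.helper33.PearlG

open Cfsg.Agent.Lib.helper68 Cfsg.Agent.Lib.helper65.PearlPow

variable {G : Type*} [Group G] [Finite G]

/-- ONTO. -/
theorem onto (p : ℕ) [Fact p.Prime] (n : ℕ) (hn : 2 ≤ n) (x : G)
    (hsurj : ∀ m ∈ gam G 2, ∃ g : G, com x g = m)
    (hkeq : ∀ M N : Subgroup G, M ≤ gam G 2 → x ∉ N → (∀ h ∈ N, com x h ∈ M) →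
      Nat.card N = p * Nat.card M → ∀ g : G, com x g ∈ M → ∃ k : ℕ, ∃ h ∈ N, g = x ^ k * h)
    (hcard : ∀ i, 2 ≤ i → i ≤ n → Nat.card (gam G i) = p ^ (n - i))
    (hxn : 3 ≤ n → x ∉ gam G 2) (w : ℕ) (hw : 1 ≤ w) (m : G) (hm : m ∈ gam G (w + 1)) :
    ∃ h ∈ gam G w, com x h = m := by
  have hx1 : x ∈ gam G 1 := by
    unfold gam
    simp
  have hm2 : m ∈ gam G 2 := gam_antitone (by omega) hm
  have hbot : gam G n = ⊥ := by
    have h := hcard n hn le_rfl
    rw [Nat.sub_self, pow_zero] at h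
    exact (Subgroup.card_eq_one).mp h
  have hone : com x 1 = 1 := by
    unfold com
    group
  -- the trivial case `m = 1`
  by_cases hsmall : n ≤ w + 1
  · have h1 : m ∈ gam G n := gam_antitone hsmall hm
    rw [hbot, Subgroup.mem_bot] at h1
    exact ⟨1, one_mem _, by rw [hone, h1]⟩
  · obtain ⟨g, hg⟩ := hsurj m hm2
    rcases Nat.lt_or_ge w 2 with hw2 | hw2
    · have hw1 : w = 1 := by omega
      refine ⟨g, ?_, hg⟩
      rw [hw1]
      unfold gam
      simp
    · have hxN : x ∉ gam G w := fun h => hxn (by omega) (gam_antitone hw2 h)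
      have hNM : ∀ h ∈ gam G w, com x h ∈ gam G (w + 1) := by
        intro h hh
        have := com_mem hx1 hh
        rwa [add_comm] at this
      have hc : Nat.card (gam G w) = p * Nat.card (gam G (w + 1)) := by
        rw [hcard w hw2 (by omega), hcard (w + 1) (by omega) (by omega), ← pow_succ']
        congr 1
        omega
      obtain ⟨k, h, hh, hgk⟩ := hkeq (gam G (w + 1)) (gam G w) (gam_antitone (by omega)) hxN hNM hc
        g (by rw [hg]; exact hm)
      refine ⟨h, hh, ?_⟩
      rw [← hg, hgk]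
      have e : com x (x ^ k * h) = com x h := by
        unfold com
        group
      exact e.symm

end Cfsg.Agent.Lib.helper33.PearlG
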