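import Mathlib
import Cfsg.Agent.Lib.helper68.HallPet
import Cfsg.Agent.Lib.helper65.PearlDefs

/-!
S5238 BLOCK G (architect helper33), leaf UNI: `x` acts uniserially.
-/

set_option autoImplicit false

namespace Cfsg.Agent.Lib.helper33.PearlG

open Cfsg.Agent.Lib.helper68 Cfsg.Agent.Lib.helper65.PearlPow

variable {G : Type*} [Group G] [Finite G]

/-- The elements `g` with `com x g` in a normal subgroup `M` form a subgroup. -/
def h4CStar (x : G) (M : Subgroup G) [M.Normal] : Subgroup G where
  carrier := {g | com x g ∈ M}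
  mul_mem' := by
    intro a b ha hb
    have e : com x (a * b) = com x b * (b⁻¹ * com x a * b) := by
      unfold com
      group
    show com x (a * b) ∈ M
    rw [e]
    have hconj : b⁻¹ * com x a * b ∈ M := by
      have := (inferInstance : M.Normal).conj_mem (com x a) ha b⁻¹
      simpa using this
    exact M.mul_mem hb hconj
  one_mem' := by
    show com x 1 ∈ M
    have e : com x (1 : G) = 1 := by
      unfold com
      group
    rw [e]
    exact M.one_mem
  inv_mem' := by
    intro a ha
    have e : com x a⁻¹ = a * (com x a)⁻¹ * a⁻¹ := by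
      unfold com
      group
    show com x a⁻¹ ∈ M
    rw [e]
    exact (inferInstance : M.Normal).conj_mem _ (M.inv_mem ha) a

theorem h4_mem_CStar (x : G) (M : Subgroup G) [M.Normal] (g : G) :
    g ∈ h4CStar x M ↔ com x g ∈ M := Iff.rfl

/-- UNI. `x` acts uniserially. -/
theorem uniserial (p : ℕ) [Fact p.Prime] (n : ℕ) (x : G)
    (hkey : ∀ M N : Subgroup G, M ≤ gam G 2 → x ∉ N → (∀ h ∈ N, com x h ∈ M) →
      Nat.card N ≤ p * Nat.card M)
    (hcard : ∀ i, 2 ≤ i → i ≤ n → Nat.card (gam G i) = p ^ (n - i))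
    (hxn : x ∉ gam G 2) (i : ℕ) (hi : 2 ≤ i) (hin : i + 2 ≤ n) (m : G) (hm : m ∈ gam G i)
    (hm' : m ∉ gam G (i + 1)) : com m x ∉ gam G (i + 2) := by
  intro hcon
  have hx1 : x ∈ gam G 1 := by
    unfold gam
    simp
  have hmC : m ∈ h4CStar x (gam G (i + 2)) := by
    rw [h4_mem_CStar]
    have e : com x m = (com m x)⁻¹ := by
      unfold com
      group
    rw [e]
    exact (gam G (i + 2)).inv_mem hcon
  have hgC : gam G (i + 1) ≤ h4CStar x (gam G (i + 2)) := by
    intro h hh
    rw [h4_mem_CStar]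
    have := com_mem hx1 hh
    have e : 1 + (i + 1) = i + 2 := by omega
    rwa [e] at this
  have hNC : gam G (i + 1) ⊔ Subgroup.zpowers m ≤ h4CStar x (gam G (i + 2)) :=
    sup_le hgC ((Subgroup.zpowers_le).mpr hmC)
  have hNi : gam G (i + 1) ⊔ Subgroup.zpowers m ≤ gam G i :=
    sup_le (gam_antitone (by omega)) ((Subgroup.zpowers_le).mpr hm)
  have hxN : x ∉ gam G (i + 1) ⊔ Subgroup.zpowers m :=
    fun h => hxn (gam_antitone hi (hNi h))
  have hle := hkey (gam G (i + 2)) (gam G (i + 1) ⊔ Subgroup.zpowers m) (gam_antitone (by omega))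
    hxN (fun h hh => (h4_mem_CStar x _ h).mp (hNC hh))
  have hc : p * Nat.card (gam G (i + 2)) = Nat.card (gam G (i + 1)) := by
    rw [hcard (i + 2) (by omega) hin, hcard (i + 1) (by omega) (by omega), ← pow_succ']
    congr 1
    omega
  rw [hc] at hle
  have heq := Subgroup.eq_of_le_of_card_ge
    (le_sup_left : gam G (i + 1) ≤ gam G (i + 1) ⊔ Subgroup.zpowers m) hle
  apply hm'
  rw [heq]
  exact (le_sup_right : Subgroup.zpowers m ≤ _) (Subgroup.mem_zpowers m)

end Cfsg.Agent.Lib.helper33.PearlG
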