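import Mathlib
import Cfsg.Prelude.Def_Characters
import Cfsg.Prelude.Def_Blocks
import Cfsg.Agent.Lib.helper81.Faithful
import Cfsg.Agent.Lib.helper81.CharOrtho
import Cfsg.Agent.Lib.helper82.Ramification
import Cfsg.Agent.Lib.helper82.CharQuot
import Cfsg.Agent.Lib.helper82.CharInt
import Cfsg.Agent.Lib.helper82.CharDeg
import Cfsg.Agent.Lib.helper19.DetChar
import Cfsg.Agent.Lib.helper4.Burnside2
import Cfsg.Agent.Lib.helper4.CharDecomp

/-!
# Groups whose nonlinear irreducible characters have prime degree are solvable (helper4)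

The reduction to a perfect minimal normal subgroup `M` all of whose nonlinear irreducible
characters are faithful of prime degree, and the contradiction for such an `M` given Blichfeldt's
theorem on abelian Hall subgroups of linear groups (taken as a hypothesis `hBl` here).
-/

set_option autoImplicit false

open Cfsg
open scoped ComplexConjugate commutatorElement

namespace Cfsg.Agent.Lib.helper4

universe u

/-- A `2 × 2` complex matrix of square one and determinant one is scalar. -/
theorem scalar_of_sq_one_det_one (A : Matrix (Fin 2) (Fin 2) ℂ) (h2 : A * A = 1)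
    (hd : A.det = 1) : ∃ c : ℂ, A = c • (1 : Matrix (Fin 2) (Fin 2) ℂ) := by
  have h00 := congrFun (congrFun h2 0) 0
  have h01 := congrFun (congrFun h2 0) 1
  have h10 := congrFun (congrFun h2 1) 0
  have h11 := congrFun (congrFun h2 1) 1
  simp only [Matrix.mul_apply, Fin.sum_univ_two, Matrix.one_apply_eq] at h00 h11
  simp only [Matrix.mul_apply, Fin.sum_univ_two] at h01 h10
  rw [Matrix.one_apply_ne (by decide)] at h01 h10
  rw [Matrix.det_fin_two] at hd
  have hs : A 0 0 * (A 0 0 + A 1 1) = 2 := by linear_combination h00 + hd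
  have hs0 : A 0 0 + A 1 1 ≠ 0 := by
    intro h
    rw [h, mul_zero] at hs
    norm_num at hs
  have hb : A 0 1 = 0 := by
    have : A 0 1 * (A 0 0 + A 1 1) = 0 := by linear_combination h01
    rcases mul_eq_zero.mp this with h | h
    · exact h
    · exact absurd h hs0
  have hc : A 1 0 = 0 := by
    have : A 1 0 * (A 0 0 + A 1 1) = 0 := by linear_combination h10
    rcases mul_eq_zero.mp this with h | h
    · exact h
    · exact absurd h hs0
  have ha0 : A 0 0 ≠ 0 := by
    intro h
    rw [h, zero_mul] at hs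
    norm_num at hs
  have had : A 0 0 = A 1 1 := by
    have : A 0 0 * (A 0 0 - A 1 1) = 0 := by
      rw [hb, hc] at hd h00
      linear_combination h00 - hd
    rcases mul_eq_zero.mp this with h | h
    · exact absurd h ha0
    · exact sub_eq_zero.mp h
  refine ⟨A 0 0, ?_⟩
  ext i j
  fin_cases i <;> fin_cases j
  · simp
  · simpa using hb
  · simpa using hc
  · simpa using had.symm

variable {M : Type u} [Group M] [Finite M]

omit [Finite M] in
/-- In a perfect group every representation has determinant one. -/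
theorem det_rep_eq_one_of_perfect {n : ℕ} (ρ : Representation ℂ M (Fin n → ℂ))
    (hperf : commutator M = ⊤) (g : M) : LinearMap.det (ρ g) = 1 := by
  have h1 : g ∈ (Cfsg.Agent.Lib.helper19.detHom ρ).ker := by
    have := Abelianization.commutator_subset_ker (Cfsg.Agent.Lib.helper19.detHom ρ)
    rw [hperf] at this
    exact this (Subgroup.mem_top g)
  have h2 : Cfsg.Agent.Lib.helper19.detHom ρ g = 1 := MonoidHom.mem_ker.mp h1
  rw [← Cfsg.Agent.Lib.helper19.detHom_apply, h2]
  rfl

/-- A perfect group with trivial centre has no faithful irreducible character of degree two. -/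
theorem charDegree_ne_two_of_perfect (hperf : commutator M = ⊤) (hZ : Subgroup.center M = ⊥)
    (θ : IrrCharacter M) (hfaith : ∀ g : M, (θ : M → ℂ) g = (θ : M → ℂ) 1 → g = 1) :
    charDegree (θ : M → ℂ) ≠ 2 := by
  intro hdeg
  obtain ⟨n, ρ, hρ, hρθ⟩ := θ.2
  have := hρ
  have hn : n = 2 := by
    have h1 := Cfsg.Agent.Lib.helper82.charDegree_char ρ
    rw [hρθ, hdeg] at h1
    simpa using h1.symm
  subst hn
  have hdvd : 2 ∣ Nat.card M := by
    have := Cfsg.Agent.Lib.helper82.finrank_dvd_card ρ
    simpa using this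
  have : Fact (Nat.Prime 2) := ⟨Nat.prime_two⟩
  obtain ⟨t, ht⟩ := exists_prime_orderOf_dvd_card' 2 hdvd
  have htt : t * t = 1 := by
    have := pow_orderOf_eq_one t
    rw [ht, pow_two] at this
    exact this
  have ht1 : t ≠ 1 := by
    intro h
    rw [h, orderOf_one] at ht
    norm_num at ht
  obtain ⟨c, hc⟩ := scalar_of_sq_one_det_one (LinearMap.toMatrix' (ρ t))
    (by rw [← LinearMap.toMatrix'_mul, ← map_mul, htt, map_one, LinearMap.toMatrix'_one])
    (by rw [LinearMap.det_toMatrix']; exact det_rep_eq_one_of_perfect ρ hperf t)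
  have hsc : ρ t = c • (1 : Module.End ℂ (Fin 2 → ℂ)) := by
    apply LinearMap.toMatrix'.injective
    rw [hc, map_smul, LinearMap.toMatrix'_one]
  apply ht1
  have htc : t ∈ Subgroup.center M := by
    rw [Subgroup.mem_center_iff]
    intro h
    have hcomm : ρ (h * t) = ρ (t * h) := by
      rw [map_mul, map_mul, hsc]
      simp
    have h1 : ρ ((h * t) * (t * h)⁻¹) = 1 :=
      calc ρ ((h * t) * (t * h)⁻¹) = ρ (h * t) * ρ ((t * h)⁻¹) := map_mul ρ _ _
        _ = ρ (t * h) * ρ ((t * h)⁻¹) := by rw [hcomm]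
        _ = ρ ((t * h) * (t * h)⁻¹) := (map_mul ρ _ _).symm
        _ = 1 := by rw [mul_inv_cancel, map_one]
    have h4 : (θ : M → ℂ) ((h * t) * (t * h)⁻¹) = (θ : M → ℂ) 1 := by
      rw [← hρθ]
      show LinearMap.trace ℂ _ (ρ ((h * t) * (t * h)⁻¹)) = LinearMap.trace ℂ _ (ρ 1)
      rw [h1, map_one ρ]
    exact mul_inv_eq_one.mp (hfaith _ h4)
  rw [hZ] at htc
  exact Subgroup.mem_bot.mp htc

/-- There is no nontrivial perfect group with trivial centre all of whose nonlinear irreducible
characters are faithful of prime degree, given Blichfeldt's theorem `hBl` for it. -/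
theorem false_of_perfect_prime_faithful (hperf : commutator M = ⊤)
    (hZ : Subgroup.center M = ⊥) (hnt : Nontrivial M)
    (hBl : ∀ (χ : M → ℂ), IsCharacter M χ → (∀ g : M, χ g = χ 1 → g = 1) → ∀ n : ℕ,
      charDegree χ = n → ∃ A : Subgroup M, (∀ x ∈ A, ∀ y ∈ A, x * y = y * x) ∧
        (∀ q : ℕ, q.Prime → q ∣ Nat.card A → n + 1 < q) ∧
        ∀ q : ℕ, q.Prime → q ∣ A.index → q ≤ n + 1)
    (hdeg : ∀ θ : IrrCharacter M, charDegree (θ : M → ℂ) ≠ 1 →
      (charDegree (θ : M → ℂ)).Prime ∧ ∀ g : M, (θ : M → ℂ) g = (θ : M → ℂ) 1 → g = 1) :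
    False := by
  classical
  have := Fintype.ofFinite M
  have hlin : ∀ θ : IrrCharacter M, charDegree (θ : M → ℂ) = 1 →
      ∀ z : M, (θ : M → ℂ) z = 1 := by
    intro θ h1 z
    have h1' : (θ : M → ℂ) 1 = 1 := by
      rw [Cfsg.Agent.Lib.helper82.irr_one_eq, h1]; simp
    have := Cfsg.Agent.Lib.helper82.linear_commutator
      (Cfsg.Agent.Lib.helper83.isCharacter_of_irr θ.2) h1' z (by rw [hperf]; trivial)
    rw [this, h1']
  have hfilt : (Finset.univ.filter (fun θ : IrrCharacter M => charDegree (θ : M → ℂ) = 1))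
      = {Cfsg.Agent.Lib.helper83.trivIrr M} := by
    ext θ
    simp only [Finset.mem_filter, Finset.mem_univ, true_and, Finset.mem_singleton]
    constructor
    · intro h
      exact Subtype.ext (funext (hlin θ h))
    · rintro rfl
      show charDegree (fun _ : M => (1 : ℂ)) = 1
      unfold charDegree
      simp
  obtain ⟨z0, hz0⟩ := exists_ne (1 : M)
  have hcol : ∀ z : M, z ≠ 1 →
      ∑ θ : IrrCharacter M, (θ : M → ℂ) z * conj ((θ : M → ℂ) 1) = 0 := by
    intro z hz
    rw [Cfsg.Agent.Lib.helper81.irr_col_orth, if_neg]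
    intro h
    exact hz (isConj_one_left.mp h)
  by_cases hex : ∃ θ : IrrCharacter M, charDegree (θ : M → ℂ) ≠ 1
  · obtain ⟨θ0, hθ0⟩ := hex
    set S : Set ℕ := {d | ∃ θ : IrrCharacter M, charDegree (θ : M → ℂ) = d ∧ d ≠ 1} with hS
    have hSne : S.Nonempty := ⟨_, θ0, rfl, hθ0⟩
    obtain ⟨θ₁, hθ₁, hq1⟩ := Nat.sInf_mem hSne
    set q := sInf S with hq
    have hmin : ∀ θ : IrrCharacter M, charDegree (θ : M → ℂ) ≠ 1 →
        q ≤ charDegree (θ : M → ℂ) := fun θ h => Nat.sInf_le ⟨θ, rfl, h⟩
    obtain ⟨hqp, hf1⟩ := hdeg θ₁ (by rw [hθ₁]; exact hq1)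
    rw [hθ₁] at hqp
    have hq2 : q ≠ 2 := fun h =>
      charDegree_ne_two_of_perfect hperf hZ θ₁ hf1 (hθ₁.trans h)
    have hqodd : ¬ (q + 1).Prime := by
      intro hp1
      have hodd : q % 2 = 1 := by
        rcases Nat.Prime.eq_two_or_odd hqp with h | h
        · exact absurd h hq2
        · exact h
      have h2 : 2 ∣ q + 1 := by omega
      have := (Nat.prime_dvd_prime_iff_eq Nat.prime_two hp1).mp h2
      have := hqp.two_le
      omega
    obtain ⟨A, hAab, -, hAidx⟩ :=
      hBl (θ₁ : M → ℂ) (Cfsg.Agent.Lib.helper83.isCharacter_of_irr θ₁.2) hf1 q hθ₁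
    obtain ⟨z, hz, hAz⟩ : ∃ z : M, z ≠ 1 ∧ A ≤ Subgroup.centralizer ({z} : Set M) := by
      by_cases hA : A = ⊥
      · exact ⟨z0, hz0, by rw [hA]; exact bot_le⟩
      · obtain ⟨⟨z, hzA⟩, hz1⟩ := Subgroup.ne_bot_iff_exists_ne_one.mp hA
        refine ⟨z, fun h => hz1 (Subtype.ext h), fun x hx => ?_⟩
        rw [Subgroup.mem_centralizer_iff]
        intro y hy
        rw [Set.mem_singleton_iff] at hy
        subst hy
        exact hAab y hzA x hx
    have hvan : ∀ θ : IrrCharacter M, charDegree (θ : M → ℂ) ≠ 1 →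
        charDegree (θ : M → ℂ) ≠ q → (θ : M → ℂ) z = 0 := by
      intro θ h1 hq'
      obtain ⟨hp, hf⟩ := hdeg θ h1
      apply Cfsg.Agent.Lib.helper81.irr_vanish_of_coprime_of_faithful hZ θ hf z hz
      rw [Nat.Prime.coprime_iff_not_dvd hp]
      intro hd
      have hd' : charDegree (θ : M → ℂ) ∣ A.index := hd.trans (Subgroup.index_dvd_of_le hAz)
      have hle := hAidx _ hp hd'
      have hge := hmin θ h1
      have : charDegree (θ : M → ℂ) = q + 1 := by omega
      rw [this] at hp
      exact hqodd hp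
    have hterm : ∀ θ : IrrCharacter M, (θ : M → ℂ) z * conj ((θ : M → ℂ) 1)
        = (if charDegree (θ : M → ℂ) = 1 then (1 : ℂ) else 0)
          + (q : ℂ) * (if charDegree (θ : M → ℂ) = q then (θ : M → ℂ) z else 0) := by
      intro θ
      by_cases h1 : charDegree (θ : M → ℂ) = 1
      · rw [if_pos h1, if_neg (by rw [h1]; exact fun h => hqp.one_lt.ne h), hlin θ h1 z,
          hlin θ h1 1]
        simp
      · rw [if_neg h1]
        by_cases hq' : charDegree (θ : M → ℂ) = q
        · rw [if_pos hq', Cfsg.Agent.Lib.helper82.irr_one_eq, hq']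
          simp [mul_comm]
        · rw [if_neg hq', hvan θ h1 hq']
          simp
    have hsum := hcol z hz
    rw [Finset.sum_congr rfl (fun θ _ => hterm θ), Finset.sum_add_distrib, ← Finset.mul_sum,
      Finset.sum_boole, hfilt, Finset.card_singleton] at hsum
    have hβ : IsIntegral ℤ (∑ θ : IrrCharacter M,
        (if charDegree (θ : M → ℂ) = q then (θ : M → ℂ) z else 0)) := by
      apply IsIntegral.sum
      intro θ _
      split_ifs
      · exact Cfsg.Agent.Lib.helper81.irr_isIntegral θ z
      · exact isIntegral_zero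
    have hq0 : (q : ℂ) ≠ 0 := by
      exact_mod_cast hqp.ne_zero
    have hinv : (q : ℂ)⁻¹ = -(∑ θ : IrrCharacter M,
        (if charDegree (θ : M → ℂ) = q then (θ : M → ℂ) z else 0)) := by
      field_simp
      push_cast at hsum
      linear_combination hsum
    exact not_isIntegral_inv_prime hqp (hinv ▸ hβ.neg)
  · push Not at hex
    have hsum := hcol z0 hz0
    rw [Finset.sum_congr rfl (fun θ _ => by
      rw [hlin θ (hex θ) z0, hlin θ (hex θ) 1, map_one, mul_one])] at hsum
    simp only [Finset.sum_const, Finset.card_univ, nsmul_eq_mul, mul_one] at hsum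
    have hpos : 0 < Fintype.card (IrrCharacter M) :=
      Fintype.card_pos_iff.mpr ⟨Cfsg.Agent.Lib.helper83.trivIrr M⟩
    have : (Fintype.card (IrrCharacter M) : ℂ) ≠ 0 := by
      exact_mod_cast hpos.ne'
    exact this hsum

/-- A nontrivial finite group has a minimal normal subgroup. -/
theorem exists_minimal_normal_subgroup (G : Type u) [Group G] [Finite G] [Nontrivial G] :
    ∃ N : Subgroup G, N.Normal ∧ N ≠ ⊥ ∧
      ∀ L : Subgroup G, L.Normal → L ≤ N → L = ⊥ ∨ L = N := by
  classical
  have hP : ∃ k : ℕ, ∃ N : Subgroup G, N.Normal ∧ N ≠ ⊥ ∧ Nat.card N = k :=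
    ⟨_, ⊤, inferInstance, top_ne_bot, rfl⟩
  obtain ⟨N, hN, hNb, hNc⟩ := Nat.find_spec hP
  refine ⟨N, hN, hNb, fun L hL hLN => ?_⟩
  by_contra h
  push Not at h
  have h1 : Nat.find hP ≤ Nat.card L := Nat.find_min' hP ⟨L, hL, h.1, rfl⟩
  exact h.2 (Subgroup.eq_of_le_of_card_ge hLN (by rw [hNc]; exact h1))

/-- An irreducible character of a normal subgroup `N` lying under an irreducible character of
the same degree is its restriction. -/
theorem restrict_eq_of_degree_eq {G : Type u} [Group G] [Finite G] (N : Subgroup G)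
    {χ : G → ℂ} (hχ : IsIrrCharacter G χ) (θ : IrrCharacter N)
    [Fintype N] (hcon : classInner (fun n : N => χ n) (θ : N → ℂ) ≠ 0)
    (hdeg : χ 1 = (θ : N → ℂ) 1) : ∀ n : N, χ n = (θ : N → ℂ) n := by
  classical
  obtain ⟨f, hf1, hf2, hf3⟩ := Cfsg.Agent.Lib.helper82.exists_nat_decomp
    (isCharacter_restrict N (Cfsg.Agent.Lib.helper83.isCharacter_of_irr hχ))
  have hθ0 : f θ ≠ 0 := by
    intro h
    apply hcon
    rw [hf1 θ, h]
    simp
  have hsum : ∑ ψ : IrrCharacter N, f ψ * charDegree (ψ : N → ℂ) = charDegree (θ : N → ℂ) := by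
    have h1 : χ ((1 : N) : G) = ((∑ ψ : IrrCharacter N, f ψ * charDegree (ψ : N → ℂ) : ℕ) : ℂ) :=
      hf3
    rw [Subgroup.coe_one, hdeg, Cfsg.Agent.Lib.helper82.irr_one_eq] at h1
    exact_mod_cast h1.symm
  have hpos : ∀ ψ : IrrCharacter N, 0 < charDegree (ψ : N → ℂ) :=
    fun ψ => Cfsg.Agent.Lib.helper82.irr_charDegree_pos ψ
  have hsplit := Finset.add_sum_erase Finset.univ
    (fun ψ : IrrCharacter N => f ψ * charDegree (ψ : N → ℂ)) (Finset.mem_univ θ)
  rw [hsum] at hsplit
  have hfθ : f θ = 1 := by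
    have h1 : 1 ≤ f θ := Nat.one_le_iff_ne_zero.mpr hθ0
    have h2 : f θ * charDegree (θ : N → ℂ) ≤ charDegree (θ : N → ℂ) := Nat.le.intro hsplit
    have h3 := hpos θ
    nlinarith
  have hrest : ∀ ψ ∈ Finset.univ.erase θ, f ψ = 0 := by
    have h0 : ∑ ψ ∈ Finset.univ.erase θ, f ψ * charDegree (ψ : N → ℂ) = 0 := by
      rw [hfθ, one_mul] at hsplit
      omega
    intro ψ hψ
    have := (Finset.sum_eq_zero_iff.mp h0) ψ hψ
    rcases Nat.mul_eq_zero.mp this with h | h
    · exact h
    · exact absurd h (hpos ψ).ne'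
  intro n
  have h1 := hf2 n
  rw [← Finset.add_sum_erase Finset.univ _ (Finset.mem_univ θ), hfθ,
    Finset.sum_eq_zero (fun ψ hψ => by rw [hrest ψ hψ]; simp)] at h1
  simpa using h1

/-- Groups all of whose nonlinear irreducible characters have prime degree are solvable, given
Blichfeldt's theorem `hBl` on abelian Hall subgroups of linear groups. -/
theorem isSolvable_of_prime_degrees_aux
    (hBl : ∀ (M : Type u) [Group M] [Finite M] (χ : M → ℂ), IsCharacter M χ →
      (∀ g : M, χ g = χ 1 → g = 1) → ∀ n : ℕ, charDegree χ = n →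
      ∃ A : Subgroup M, (∀ x ∈ A, ∀ y ∈ A, x * y = y * x) ∧
        (∀ q : ℕ, q.Prime → q ∣ Nat.card A → n + 1 < q) ∧
        ∀ q : ℕ, q.Prime → q ∣ A.index → q ≤ n + 1) :
    ∀ (n : ℕ) (G : Type u) [Group G] [Finite G], Nat.card G ≤ n →
      (∀ χ : IrrCharacter G, charDegree (χ : G → ℂ) ≠ 1 → (charDegree (χ : G → ℂ)).Prime) →
      Group.IsSolvable G := by
  intro n
  induction n with
  | zero =>
    intro G _ _ hc _
    have := Nat.card_pos (α := G)
    omega
  | succ n ih =>
    intro G _ _ hcard h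
    classical
    by_cases hsub : Subsingleton G
    · infer_instance
    rw [not_subsingleton_iff_nontrivial] at hsub
    obtain ⟨N, hN, hNb, hNmin⟩ := exists_minimal_normal_subgroup G
    have := Fintype.ofFinite G
    have := Fintype.ofFinite N
    -- the quotient is solvable
    have hquot : Group.IsSolvable (G ⧸ N) := by
      apply ih (G ⧸ N)
      · have h1 : Nat.card G = Nat.card (G ⧸ N) * Nat.card N := Subgroup.card_eq_card_quotient_mul_card_subgroup N
        have h2 : 1 < Nat.card N := by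
          rw [Subgroup.one_lt_card_iff_ne_bot]; exact hNb
        have h3 : 0 < Nat.card (G ⧸ N) := Nat.card_pos
        nlinarith
      · intro χ' hχ'
        exact h ⟨fun g => (χ' : G ⧸ N → ℂ) (g : G ⧸ N),
          Cfsg.Agent.Lib.helper82.isIrrCharacter_inflation N χ'.2⟩ hχ'
    by_cases hNs : Group.IsSolvable N
    · exact Group.isSolvable_of_ker_le_range N.subtype (QuotientGroup.mk' N)
        (by rw [QuotientGroup.ker_mk', Subgroup.range_subtype])
    exfalso
    have hNnc : ¬ ∀ a b : N, a * b = b * a := fun hc => hNs (Group.isSolvable_of_comm hc)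
    -- N is perfect
    have hperf : commutator N = ⊤ := by
      have hle : ⁅N, N⁆ ≤ N := (Subgroup.commutator_le_inf N N).trans inf_le_left
      rcases hNmin ⁅N, N⁆ inferInstance hle with h0 | h1
      · exfalso
        apply hNnc
        intro a b
        have hab : ⁅(a : G), (b : G)⁆ ∈ ⁅N, N⁆ := Subgroup.commutator_mem_commutator a.2 b.2
        rw [h0, Subgroup.mem_bot, commutatorElement_eq_one_iff_mul_comm] at hab
        exact Subtype.ext hab
      · apply Subgroup.map_injective (Subgroup.subtype_injective N)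
        rw [Subgroup.map_subtype_commutator, h1, ← MonoidHom.range_eq_map, Subgroup.range_subtype]
    -- N has trivial centre
    have hZ : Subgroup.center N = ⊥ := by
      have hZn : ((Subgroup.center N).map N.subtype).Normal :=
        ConjAct.normal_of_characteristic_of_normal
      rcases hNmin _ hZn (Subgroup.map_subtype_le _) with h0 | h1
      · exact (Subgroup.map_eq_bot_iff_of_injective _ (Subgroup.subtype_injective N)).mp h0
      · exfalso
        apply hNnc
        intro a b
        have ha : (a : G) ∈ (Subgroup.center N).map N.subtype := by rw [h1]; exact a.2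
        obtain ⟨a', ha', haa⟩ := ha
        have : a' = a := Subtype.ext haa
        subst this
        exact ((Subgroup.mem_center_iff.mp ha') b).symm
    have hnt : Nontrivial N := (Subgroup.nontrivial_iff_ne_bot N).mpr hNb
    apply false_of_perfect_prime_faithful hperf hZ hnt (hBl N)
    intro θ hθ1
    obtain ⟨χ, hχ, hcon⟩ := Cfsg.Agent.Lib.helper82.exists_irr_over N θ.2
    obtain ⟨k, -, hk⟩ := Cfsg.Agent.Lib.helper82.degree_quot_dvd_index N hχ θ.2 hcon
    have hk' : charDegree χ = k * charDegree (θ : N → ℂ) := by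
      have h1 := Cfsg.Agent.Lib.helper82.irr_one_eq (⟨χ, hχ⟩ : IrrCharacter G)
      have h2 := Cfsg.Agent.Lib.helper82.irr_one_eq θ
      simp only at h1
      rw [h1, h2] at hk
      exact_mod_cast hk
    have hχ1 : charDegree χ ≠ 1 := by
      intro h1
      rw [h1] at hk'
      exact hθ1 (Nat.eq_one_of_mul_eq_one_left hk'.symm)
    have hχp := h ⟨χ, hχ⟩ hχ1
    have hdeq : charDegree (θ : N → ℂ) = charDegree χ := by
      rcases (Nat.dvd_prime hχp).mp (Dvd.intro_left k hk'.symm) with h1 | h1
      · exact absurd h1 hθ1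
      · exact h1
    refine ⟨hdeq ▸ hχp, ?_⟩
    have hχθ : ∀ n : N, χ n = (θ : N → ℂ) n := by
      apply restrict_eq_of_degree_eq N hχ θ hcon
      have h1 := Cfsg.Agent.Lib.helper82.irr_one_eq (⟨χ, hχ⟩ : IrrCharacter G)
      have h2 := Cfsg.Agent.Lib.helper82.irr_one_eq θ
      simp only at h1
      rw [h1, h2, hdeq]
    obtain ⟨Kc, hKn, hKmem⟩ := Cfsg.Agent.Lib.helper82.exists_ker_of_isCharacter
      (Cfsg.Agent.Lib.helper83.isCharacter_of_irr hχ)
    have hLn : (Kc ⊓ N).Normal := Subgroup.normal_inf_normal Kc N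
    intro g hg
    have hgK : (g : G) ∈ Kc ⊓ N := by
      refine ⟨(hKmem _).mpr ?_, g.2⟩
      rw [hχθ g, hg, ← hχθ 1, Subgroup.coe_one]
    rcases hNmin _ hLn inf_le_right with h0 | h1
    · rw [h0, Subgroup.mem_bot] at hgK
      exact Subtype.ext hgK
    · exfalso
      have hconst : ∀ x : N, (θ : N → ℂ) x = (θ : N → ℂ) 1 := by
        intro x
        have hx : (x : G) ∈ Kc ⊓ N := by rw [h1]; exact x.2
        rw [← hχθ x, (hKmem _).mp hx.1, ← hχθ 1, Subgroup.coe_one]
      have hself := Cfsg.Agent.Lib.helper81.irr_classInner_self θ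
      unfold classInner at hself
      rw [Finset.sum_congr rfl (fun x _ => by rw [hconst x]),
        Cfsg.Agent.Lib.helper82.irr_one_eq θ] at hself
      simp only [Finset.sum_const, Finset.card_univ, nsmul_eq_mul, Complex.conj_natCast] at hself
      rw [← Nat.card_eq_fintype_card, ← mul_assoc,
        inv_mul_cancel₀ (by exact_mod_cast (Nat.card_pos (α := N)).ne'), one_mul] at hself
      have : charDegree (θ : N → ℂ) * charDegree (θ : N → ℂ) = 1 := by exact_mod_cast hself
      exact hθ1 (Nat.eq_one_of_mul_eq_one_left this)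

end Cfsg.Agent.Lib.helper4
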