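import Mathlib
import Cfsg.Prelude.Def_Characters
import Cfsg.Prelude.Def_Blocks
import Cfsg.Prelude.Def_DegreeGraph
import Cfsg.Agent.Lib.helper4.PrimeDegSolv
import Cfsg.Agent.Lib.helper81.CharTools
import Cfsg.Agent.Lib.helper82.CharNormal
import Cfsg.Agent.Lib.helper82.CharMore
import Cfsg.Agent.Lib.helper82.Ito
import Cfsg.Agent.Lib.helper19.Gallagher

/-!
# Solvable groups whose nonlinear irreducible characters have prime degree (helper4)

Such a group has at most three irreducible character degrees.  With `K` maximal normal such that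
`G/K` is nonabelian, `Q = G/K` has order divisible by at most two primes `r` (the prime dividing
`|Q'|`) and `s` (the degree of an irreducible character of `Q` not trivial on `Q'`), and every
nonlinear degree of `G` divides `|G : K|` (Gallagher and `χ(1)/θ(1) ∣ |G : K|`).
-/

set_option autoImplicit false

open Cfsg
open scoped ComplexConjugate commutatorElement

namespace Cfsg.Agent.Lib.helper4

universe u

/-- A finite solvable nonabelian group `Q` every nontrivial normal subgroup of which contains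
`Q'`, and whose nonlinear irreducible characters have prime degree: the order of `Q` is divisible
by at most two primes, one of them the degree of a nonlinear irreducible character. -/
theorem primes_of_minimal_nonabelian_quotient {Q : Type u} [Group Q] [Finite Q]
    [hsolv : Group.IsSolvable Q]
    (hna : ¬ ∀ a b : Q, a * b = b * a)
    (hmin : ∀ L : Subgroup Q, L.Normal → L ≠ ⊥ → commutator Q ≤ L)
    (hdeg : ∀ χ : IrrCharacter Q, charDegree (χ : Q → ℂ) ≠ 1 →
      (charDegree (χ : Q → ℂ)).Prime) :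
    ∃ (r : ℕ) (β : IrrCharacter Q), charDegree (β : Q → ℂ) ≠ 1 ∧
      ∀ p : ℕ, p.Prime → p ∣ Nat.card Q → p = r ∨ p = charDegree (β : Q → ℂ) := by
  classical
  have := Fintype.ofFinite Q
  obtain ⟨N, hNdef⟩ : ∃ N : Subgroup Q, N = commutator Q := ⟨_, rfl⟩
  have hNn : N.Normal := by rw [hNdef]; infer_instance
  have := Fintype.ofFinite N
  have hcomm_mem : ∀ a b : Q, ⁅a, b⁆ ∈ N := by
    intro a b
    rw [hNdef, commutator_def]
    exact Subgroup.commutator_mem_commutator (Subgroup.mem_top a) (Subgroup.mem_top b)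
  have hmin' : ∀ L : Subgroup Q, L.Normal → L ≠ ⊥ → N ≤ L := by
    rw [hNdef]; exact hmin
  have hNb : N ≠ ⊥ := by
    intro h
    apply hna
    intro a b
    have := hcomm_mem a b
    rw [h, Subgroup.mem_bot, commutatorElement_eq_one_iff_mul_comm] at this
    exact this
  -- `N` is abelian
  have hNab : ∀ a ∈ N, ∀ b ∈ N, a * b = b * a := by
    have hlt : ⁅N, N⁆ < N := Group.IsSolvable.commutator_lt_of_ne_bot hNb
    have hbot : ⁅N, N⁆ = ⊥ := by
      by_contra hne
      exact absurd (hmin' ⁅N, N⁆ inferInstance hne) (not_le_of_gt hlt)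
    intro a ha b hb
    have : ⁅a, b⁆ ∈ ⁅N, N⁆ := Subgroup.commutator_mem_commutator ha hb
    rw [hbot, Subgroup.mem_bot, commutatorElement_eq_one_iff_mul_comm] at this
    exact this
  have hNcard : Nat.card N ≠ 1 := fun h => hNb (Subgroup.card_eq_one.mp h)
  obtain ⟨r, hr, hrN⟩ := Nat.exists_prime_and_dvd hNcard
  -- `r` is the only prime dividing `|N|`
  have hN1 : ∀ p : ℕ, p.Prime → p ∣ Nat.card N → p = r := by
    intro p hp hpN
    by_contra hpr
    let Np : Subgroup Q :=
      { carrier := {v | v ∈ N ∧ v ^ p = 1}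
        mul_mem' := by
          rintro a b ⟨ha, ha'⟩ ⟨hb, hb'⟩
          refine ⟨N.mul_mem ha hb, ?_⟩
          rw [(show Commute a b from hNab a ha b hb).mul_pow, ha', hb', one_mul]
        one_mem' := ⟨N.one_mem, one_pow p⟩
        inv_mem' := by
          rintro a ⟨ha, ha'⟩
          exact ⟨N.inv_mem ha, by rw [inv_pow, ha', inv_one]⟩ }
    have hNpn : Np.Normal := by
      refine ⟨fun v hv g => ⟨hNn.conj_mem v hv.1 g, ?_⟩⟩
      rw [conj_pow, hv.2, mul_one, mul_inv_cancel]
    have : Fact p.Prime := ⟨hp⟩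
    obtain ⟨x, hx⟩ := exists_prime_orderOf_dvd_card' (G := N) p hpN
    have hxNp : (x : Q) ∈ Np := by
      refine ⟨x.2, ?_⟩
      have := pow_orderOf_eq_one x
      rw [hx] at this
      have h2 := congrArg Subtype.val this
      simpa using h2
    have hNpb : Np ≠ ⊥ := by
      intro h
      rw [h, Subgroup.mem_bot] at hxNp
      have hx1 : x = 1 := Subtype.ext hxNp
      rw [hx1, orderOf_one] at hx
      exact hp.one_lt.ne hx
    have hNNp := hmin' Np hNpn hNpb
    have : Fact r.Prime := ⟨hr⟩
    obtain ⟨y, hy⟩ := exists_prime_orderOf_dvd_card' (G := N) r hrN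
    have hyp : (y : Q) ^ p = 1 := (hNNp y.2).2
    have hyp' : y ^ p = 1 := Subtype.ext (by simpa using hyp)
    have h1 : r ∣ p := hy ▸ orderOf_dvd_of_pow_eq_one hyp'
    exact hpr ((Nat.prime_dvd_prime_iff_eq hr hp).mp h1).symm
  -- elements of prime order `p ≠ r` act without fixed points on `N`
  have hC : ∀ p : ℕ, p.Prime → p ≠ r → ∀ u : Q, u ≠ 1 → u ^ p = 1 →
      ∀ v ∈ N, v * u = u * v → v = 1 := by
    intro p hp hpr u hu hup
    let C : Subgroup Q :=
      { carrier := {v | v ∈ N ∧ v * u = u * v}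
        mul_mem' := by
          rintro a b ⟨ha, ha'⟩ ⟨hb, hb'⟩
          refine ⟨N.mul_mem ha hb, ?_⟩
          rw [mul_assoc, hb', ← mul_assoc, ha', mul_assoc]
        one_mem' := ⟨N.one_mem, by rw [one_mul, mul_one]⟩
        inv_mem' := by
          rintro a ⟨ha, ha'⟩
          refine ⟨N.inv_mem ha, ?_⟩
          calc a⁻¹ * u = a⁻¹ * (u * a) * a⁻¹ := by group
            _ = a⁻¹ * (a * u) * a⁻¹ := by rw [ha']
            _ = u * a⁻¹ := by group }
    have hCn : C.Normal := by
      refine ⟨fun v hv g => ⟨hNn.conj_mem v hv.1 g, ?_⟩⟩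
      have hw : u⁻¹ * g⁻¹ * u * g ∈ N := by
        have := hcomm_mem u⁻¹ g⁻¹
        rw [commutatorElement_def] at this
        simpa using this
      have hvw : v * (u⁻¹ * g⁻¹ * u * g) = (u⁻¹ * g⁻¹ * u * g) * v := hNab v hv.1 _ hw
      have hvu : v * u = u * v := hv.2
      calc g * v * g⁻¹ * u = g * (v * u * (u⁻¹ * g⁻¹ * u * g)) * g⁻¹ := by group
        _ = g * (u * (v * (u⁻¹ * g⁻¹ * u * g))) * g⁻¹ := by rw [hvu, mul_assoc u v]
        _ = g * (u * ((u⁻¹ * g⁻¹ * u * g) * v)) * g⁻¹ := by rw [hvw]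
        _ = u * (g * v * g⁻¹) := by group
    intro v hvN hvu
    by_contra hv1
    have hCb : C ≠ ⊥ := by
      intro h
      have : v ∈ C := ⟨hvN, hvu⟩
      rw [h, Subgroup.mem_bot] at this
      exact hv1 this
    have hNC : N ≤ C := hmin' C hCn hCb
    have hpN : ¬ p ∣ Nat.card N := fun h => hpr (hN1 p hp h)
    have hcent : ∀ g : Q, g * u * g⁻¹ = u := by
      intro g
      have hnN : u⁻¹ * (g * u * g⁻¹) ∈ N := by
        have := hcomm_mem u⁻¹ g
        rw [commutatorElement_def] at this
        simpa [mul_assoc] using this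
      have hnu : (u⁻¹ * (g * u * g⁻¹)) * u = u * (u⁻¹ * (g * u * g⁻¹)) := (hNC hnN).2
      have hcomm : Commute u⁻¹ (g * u * g⁻¹) := by
        have h1 : g * u * g⁻¹ = u * (u⁻¹ * (g * u * g⁻¹)) := by group
        rw [h1]
        exact (Commute.refl u).inv_left.mul_right (Commute.inv_left hnu.symm)
      have hnp : (u⁻¹ * (g * u * g⁻¹)) ^ p = 1 := by
        rw [hcomm.mul_pow, inv_pow, hup, inv_one, one_mul, conj_pow, hup, mul_one,
          mul_inv_cancel]
      have hn1 : u⁻¹ * (g * u * g⁻¹) = 1 := by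
        have h1 : orderOf (u⁻¹ * (g * u * g⁻¹)) ∣ p := orderOf_dvd_of_pow_eq_one hnp
        have h2 : orderOf (u⁻¹ * (g * u * g⁻¹)) ∣ Nat.card N := by
          have := orderOf_dvd_natCard (⟨_, hnN⟩ : N)
          rwa [Subgroup.orderOf_mk] at this
        have h3 : orderOf (u⁻¹ * (g * u * g⁻¹)) = 1 := by
          rcases (Nat.dvd_prime hp).mp h1 with h | h
          · exact h
          · exact absurd (h ▸ h2) hpN
        exact orderOf_eq_one_iff.mp h3
      exact (inv_mul_eq_one.mp hn1).symm
    have hZn : (Subgroup.zpowers u).Normal := by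
      refine ⟨fun x hx g => ?_⟩
      obtain ⟨k, rfl⟩ := Subgroup.mem_zpowers_iff.mp hx
      rw [← conj_zpow, hcent g]
      exact Subgroup.zpow_mem_zpowers u k
    have hZb : Subgroup.zpowers u ≠ ⊥ := by
      rw [Ne, Subgroup.zpowers_eq_bot]; exact hu
    have hNZ := hmin' _ hZn hZb
    have h1 : Nat.card N ∣ Nat.card (Subgroup.zpowers u) := Subgroup.card_dvd_of_le hNZ
    rw [Nat.card_zpowers] at h1
    have h2 : r ∣ p := (hrN.trans h1).trans (orderOf_dvd_of_pow_eq_one hup)
    exact hpr ((Nat.prime_dvd_prime_iff_eq hr hp).mp h2).symm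
  -- an irreducible character not trivial on `N`
  obtain ⟨x, hxN, hx1⟩ : ∃ x ∈ N, x ≠ 1 := by
    obtain ⟨⟨x, hx⟩, hx1⟩ := Subgroup.ne_bot_iff_exists_ne_one.mp hNb
    exact ⟨x, hx, fun h => hx1 (Subtype.ext h)⟩
  obtain ⟨β, hβx⟩ : ∃ β : IrrCharacter Q, (β : Q → ℂ) x ≠ (β : Q → ℂ) 1 := by
    by_contra hcon
    push Not at hcon
    exact hx1 (isConj_one_left.mp (Cfsg.Agent.Lib.helper82.isConj_of_forall_irr_eq hcon))
  have hβ1 : charDegree (β : Q → ℂ) ≠ 1 := by
    intro h1
    have h1' : (β : Q → ℂ) 1 = 1 := by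
      rw [Cfsg.Agent.Lib.helper82.irr_one_eq, h1]; simp
    exact hβx (Cfsg.Agent.Lib.helper82.linear_commutator
      (Cfsg.Agent.Lib.helper83.isCharacter_of_irr β.2) h1' x (hNdef ▸ hxN))
  refine ⟨r, β, hβ1, fun p hp hpQ => ?_⟩
  by_contra hne
  push Not at hne
  have hβp := hdeg β hβ1
  have : Fact p.Prime := ⟨hp⟩
  obtain ⟨u, hu⟩ := exists_prime_orderOf_dvd_card' p hpQ
  have hup : u ^ p = 1 := hu ▸ pow_orderOf_eq_one u
  have hvan : ∀ y : Q, y ≠ 1 → y ^ p = 1 → (β : Q → ℂ) y = 0 := by
    intro y hy hyp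
    have hCy := hC p hp hne.1 y hy hyp
    have hsum := Cfsg.Agent.Lib.helper82.irr_sum_mul_normal β N ⟨x, hxN, hβx⟩ y
    have hconj : ∀ n : N, (β : Q → ℂ) (y * (n : Q)) = (β : Q → ℂ) y := by
      let φ : N → N := fun v => ⟨y⁻¹ * (v : Q) * y * (v : Q)⁻¹,
        N.mul_mem (by have := hNn.conj_mem v v.2 y⁻¹; simpa using this) (N.inv_mem v.2)⟩
      have hφinj : Function.Injective φ := by
        intro v w hvw
        have h1 : y⁻¹ * (v : Q) * y * (v : Q)⁻¹ = y⁻¹ * (w : Q) * y * (w : Q)⁻¹ :=
          congrArg Subtype.val hvw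
        have h3 : (v : Q) * y * (v : Q)⁻¹ = (w : Q) * y * (w : Q)⁻¹ := by
          have := congrArg (fun t => y * t) h1
          simpa [mul_assoc] using this
        have h2 : ((w : Q)⁻¹ * v) * y = y * ((w : Q)⁻¹ * v) := by
          calc (w : Q)⁻¹ * v * y = (w : Q)⁻¹ * ((v : Q) * y * (v : Q)⁻¹) * v := by group
            _ = (w : Q)⁻¹ * ((w : Q) * y * (w : Q)⁻¹) * v := by rw [h3]
            _ = y * ((w : Q)⁻¹ * v) := by group
        have h4 := hCy ((w : Q)⁻¹ * v) (N.mul_mem (N.inv_mem w.2) v.2) h2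
        exact Subtype.ext (inv_mul_eq_one.mp h4).symm
      have hφsurj : Function.Surjective φ := Finite.injective_iff_surjective.mp hφinj
      intro n
      obtain ⟨v, hv⟩ := hφsurj n
      have h1 : (n : Q) = y⁻¹ * (v : Q) * y * (v : Q)⁻¹ := (congrArg Subtype.val hv).symm
      have h2 : y * (n : Q) = (v : Q) * y * (v : Q)⁻¹ := by rw [h1]; group
      rw [h2]
      exact Cfsg.Agent.Lib.helper83.irr_conj β y v
    rw [Finset.sum_congr rfl (fun n _ => hconj n)] at hsum
    simp only [Finset.sum_const, Finset.card_univ, nsmul_eq_mul] at hsum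
    rcases mul_eq_zero.mp hsum with h | h
    · exfalso
      have : Fintype.card N ≠ 0 := Fintype.card_ne_zero
      exact this (by exact_mod_cast h)
    · exact h
  have := Fintype.ofFinite (Subgroup.zpowers u)
  obtain ⟨m, hm⟩ := Cfsg.Agent.Lib.helper81.sum_subgroup_char
    (Cfsg.Agent.Lib.helper83.isCharacter_of_irr β.2) (Subgroup.zpowers u)
  have hs : ∑ y : Subgroup.zpowers u, (β : Q → ℂ) (y : Q) = (β : Q → ℂ) 1 := by
    rw [Finset.sum_eq_single (1 : Subgroup.zpowers u)]
    · rfl
    · intro y _ hy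
      apply hvan
      · intro h; exact hy (Subtype.ext h)
      · obtain ⟨k, hk⟩ := Subgroup.mem_zpowers_iff.mp y.2
        rw [← hk, ← zpow_natCast, ← zpow_mul, mul_comm, zpow_mul, zpow_natCast, hup, one_zpow]
    · intro h; exact absurd (Finset.mem_univ _) h
  rw [hs, Cfsg.Agent.Lib.helper82.irr_one_eq, Nat.card_zpowers, hu] at hm
  have hm' : charDegree (β : Q → ℂ) = p * m := by exact_mod_cast hm
  exact hne.2 ((Nat.prime_dvd_prime_iff_eq hp hβp).mp ⟨m, hm'⟩)

/-- A finite solvable group all of whose nonlinear irreducible characters have prime degree has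
at most three irreducible character degrees. -/
theorem card_charDegrees_le_three_of_solvable {G : Type u} [Group G] [Finite G]
    [hsolv : Group.IsSolvable G] (hprime : ∀ d ∈ charDegrees G, d = 1 ∨ d.Prime) :
    Nat.card ↥(charDegrees G) ≤ 3 := by
  classical
  have := Fintype.ofFinite G
  by_cases hab : ∀ a b : G, a * b = b * a
  · have hsub : charDegrees G ⊆ {1} := by
      rintro d ⟨χ, rfl⟩
      have h1 := Cfsg.Agent.Lib.helper82.irr_one_of_commutative hab χ.2
      rw [Cfsg.Agent.Lib.helper82.irr_one_eq] at h1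
      have : charDegree (χ : G → ℂ) = 1 := by exact_mod_cast h1
      exact this
    calc Nat.card ↥(charDegrees G) = (charDegrees G).ncard := Nat.card_coe_set_eq _
      _ ≤ ({1} : Set ℕ).ncard := Set.ncard_le_ncard hsub (Set.finite_singleton 1)
      _ ≤ 3 := by rw [Set.ncard_singleton]; norm_num
  · -- a normal subgroup `K` maximal with `G/K` nonabelian
    have hP : ∃ k : ℕ, ∃ K : Subgroup G, K.Normal ∧ ¬ commutator G ≤ K ∧ K.index = k := by
      refine ⟨_, ⊥, inferInstance, ?_, rfl⟩
      intro hle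
      apply hab
      intro a b
      have : ⁅a, b⁆ ∈ commutator G := by
        rw [commutator_def]
        exact Subgroup.commutator_mem_commutator (Subgroup.mem_top a) (Subgroup.mem_top b)
      have := hle this
      rw [Subgroup.mem_bot, commutatorElement_eq_one_iff_mul_comm] at this
      exact this
    obtain ⟨K, hKn, hKc, hKi⟩ := Nat.find_spec hP
    have hKmax : ∀ L : Subgroup G, L.Normal → ¬ commutator G ≤ L → K ≤ L → L = K := by
      intro L hL hLc hKL
      have h1 : Nat.find hP ≤ L.index := Nat.find_min' hP ⟨L, hL, hLc, rfl⟩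
      rw [← hKi] at h1
      have h2 : L.index ∣ K.index := Subgroup.index_dvd_of_le hKL
      have h3 : L.index = K.index :=
        le_antisymm (Nat.le_of_dvd (Nat.pos_of_ne_zero Subgroup.index_ne_zero_of_finite) h2) h1
      have h4 : Nat.card L = Nat.card K := by
        have hL' := Subgroup.card_mul_index L
        have hK' := Subgroup.card_mul_index K
        rw [h3] at hL'
        have hpos : 0 < K.index := Nat.pos_of_ne_zero Subgroup.index_ne_zero_of_finite
        exact Nat.eq_of_mul_eq_mul_right hpos (hL'.trans hK'.symm)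
      exact (Subgroup.eq_of_le_of_card_ge hKL h4.le).symm
    have := Fintype.ofFinite K
    have hQna : ¬ ∀ a b : G ⧸ K, a * b = b * a := by
      intro hc
      apply hKc
      rw [commutator_def, Subgroup.commutator_le]
      intro a _ b _
      rw [← QuotientGroup.eq_one_iff, commutatorElement_def]
      simp only [QuotientGroup.mk_mul, QuotientGroup.mk_inv]
      rw [hc (a : G ⧸ K) b]
      group
    have hQmin : ∀ L : Subgroup (G ⧸ K), L.Normal → L ≠ ⊥ → commutator (G ⧸ K) ≤ L := by
      intro L hL hLb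
      have hcomL : commutator G ≤ L.comap (QuotientGroup.mk' K) := by
        by_contra hnot
        have hKL : K ≤ L.comap (QuotientGroup.mk' K) := by
          intro x hx
          rw [Subgroup.mem_comap]
          have : (QuotientGroup.mk' K) x = 1 := (QuotientGroup.eq_one_iff x).mpr hx
          rw [this]
          exact L.one_mem
        have hLK := hKmax _ (hL.comap _) hnot hKL
        apply hLb
        rw [eq_bot_iff]
        intro y hy
        obtain ⟨x, rfl⟩ := QuotientGroup.mk_surjective y
        have hx : x ∈ L.comap (QuotientGroup.mk' K) := hy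
        rw [hLK] at hx
        rw [Subgroup.mem_bot]
        exact (QuotientGroup.eq_one_iff x).mpr hx
      rw [commutator_def, Subgroup.commutator_le]
      intro a _ b _
      obtain ⟨a, rfl⟩ := QuotientGroup.mk_surjective a
      obtain ⟨b, rfl⟩ := QuotientGroup.mk_surjective b
      have h1 : ⁅a, b⁆ ∈ commutator G := by
        rw [commutator_def]
        exact Subgroup.commutator_mem_commutator (Subgroup.mem_top _) (Subgroup.mem_top _)
      have h2 := hcomL h1
      rw [Subgroup.mem_comap, map_commutatorElement] at h2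
      exact h2
    have hQdeg : ∀ χ : IrrCharacter (G ⧸ K), charDegree (χ : G ⧸ K → ℂ) ≠ 1 →
        (charDegree (χ : G ⧸ K → ℂ)).Prime := by
      intro χ' hχ'
      have hmem : charDegree (χ' : G ⧸ K → ℂ) ∈ charDegrees G :=
        ⟨⟨fun g => (χ' : G ⧸ K → ℂ) (g : G ⧸ K),
          Cfsg.Agent.Lib.helper82.isIrrCharacter_inflation K χ'.2⟩, rfl⟩
      rcases hprime _ hmem with h | h
      · exact absurd h hχ'
      · exact h
    obtain ⟨r, β, hβ1, hpr⟩ := primes_of_minimal_nonabelian_quotient hQna hQmin hQdeg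
    have hβp := hQdeg β hβ1
    have hsub : charDegrees G ⊆ {1, r, charDegree (β : G ⧸ K → ℂ)} := by
      rintro d ⟨χ, rfl⟩
      rcases hprime _ ⟨χ, rfl⟩ with h1 | hq
      · simp [h1]
      · by_contra hnot
        simp only [Set.mem_insert_iff, Set.mem_singleton_iff, not_or] at hnot
        obtain ⟨-, hqr, hqs⟩ := hnot
        have hqK : ¬ charDegree (χ : G → ℂ) ∣ K.index := by
          intro hd
          rw [Subgroup.index_eq_card] at hd
          rcases hpr _ hq hd with h | h
          · exact hqr h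
          · exact hqs h
        obtain ⟨θ, hθ, e, he, he0⟩ := Cfsg.Agent.Lib.helper82.exists_constituent_restrict K χ.2
        have hcon : classInner (fun n : K => (χ : G → ℂ) n) θ ≠ 0 := by
          rw [he]; exact_mod_cast he0
        obtain ⟨k, hkK, hk⟩ := Cfsg.Agent.Lib.helper82.degree_quot_dvd_index K χ.2 hθ hcon
        have h1 := Cfsg.Agent.Lib.helper82.irr_one_eq χ
        have h2 := Cfsg.Agent.Lib.helper82.irr_one_eq (⟨θ, hθ⟩ : IrrCharacter K)
        simp only at h2
        have hk' : charDegree (χ : G → ℂ) = k * charDegree θ := by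
          rw [h1, h2] at hk
          exact_mod_cast hk
        have hk1 : k = 1 := by
          rcases (Nat.dvd_prime hq).mp (Dvd.intro _ hk'.symm) with h | h
          · exact h
          · exact absurd (h ▸ hkK) hqK
        have hχK : IsIrrCharacter K (fun n : K => (χ : G → ℂ) n) := by
          have : (fun n : K => (χ : G → ℂ) n) = θ :=
            funext (restrict_eq_of_degree_eq K χ.2 ⟨θ, hθ⟩ hcon (by
              show (χ : G → ℂ) 1 = θ 1
              rw [h1, h2, hk', hk1, one_mul]))
          rw [this]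
          exact hθ
        have hβ' : IsIrrCharacter G (fun g => (β : G ⧸ K → ℂ) (g : G ⧸ K)) :=
          Cfsg.Agent.Lib.helper82.isIrrCharacter_inflation K β.2
        have hβK : ∀ x ∈ K, (fun g : G => (β : G ⧸ K → ℂ) (g : G ⧸ K)) x
            = (fun g : G => (β : G ⧸ K → ℂ) (g : G ⧸ K)) 1 := by
          intro x hx
          show (β : G ⧸ K → ℂ) (x : G ⧸ K) = (β : G ⧸ K → ℂ) ((1 : G) : G ⧸ K)
          rw [(QuotientGroup.eq_one_iff x).mpr hx, QuotientGroup.mk_one]
        have hprod := Cfsg.Agent.Lib.helper19.isIrr_mul_of_trivial K (χ : G → ℂ) χ.2 hχK _ hβ' hβK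
        have hdprod : charDegree ((χ : G → ℂ) * fun g : G => (β : G ⧸ K → ℂ) (g : G ⧸ K))
            = charDegree (χ : G → ℂ) * charDegree (β : G ⧸ K → ℂ) := by
          show ⌊((χ : G → ℂ) 1 * (β : G ⧸ K → ℂ) ((1 : G) : G ⧸ K)).re⌋₊ = _
          rw [QuotientGroup.mk_one, h1, Cfsg.Agent.Lib.helper82.irr_one_eq β, ← Nat.cast_mul,
            Complex.natCast_re, Nat.floor_natCast]
        rcases hprime _ ⟨⟨_, hprod⟩, rfl⟩ with h1' | hp
        · rw [hdprod] at h1'
          have := hq.two_le
          have := hβp.two_le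
          nlinarith
        · rw [hdprod] at hp
          exact Nat.not_prime_mul hq.one_lt.ne' hβp.one_lt.ne' hp
    calc Nat.card ↥(charDegrees G) = (charDegrees G).ncard := Nat.card_coe_set_eq _
      _ ≤ ({1, r, charDegree (β : G ⧸ K → ℂ)} : Set ℕ).ncard :=
          Set.ncard_le_ncard hsub (Set.toFinite _)
      _ ≤ 3 := by
          refine (Set.ncard_insert_le _ _).trans ?_
          have := Set.ncard_insert_le r ({charDegree (β : G ⧸ K → ℂ)} : Set ℕ)
          rw [Set.ncard_singleton] at this
          omega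

end Cfsg.Agent.Lib.helper4
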