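import Mathlib
import Cfsg.Agent.Lib.helper4.BlockNormal
import Cfsg.Agent.Lib.helper80.LocalInt

/-!
# Relative conjugacy classes and a local calculus for class functions (helper4 library)

For a subgroup `H` of a finite group `Γ` we consider the `H`-conjugacy classes of elements of `Γ`
(`clsF`), their sizes (`relIdx`) and an induction principle for sums of `H`-invariant functions.
Then, for `Q ≤ Ν ≤ Γ` with `Q` a `p`-group of index prime to `p` in `Ν`, and a function `A` on `Γ`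
satisfying the relative class-sum relations (`RelCalc`), we prove that `A` is multiplicative
modulo the maximal ideal on the centralizer of `Q`.
-/

set_option autoImplicit false

namespace Cfsg.Agent.Lib.helper4

open Cfsg

universe u

section RelClass

variable {Γ : Type u} [Group Γ] [Fintype Γ]

open scoped Classical in
/-- The `H`-conjugacy class of `w`, as a finset of `Γ`. -/
noncomputable def clsF (H : Subgroup Γ) (w : Γ) : Finset Γ :=
  Finset.univ.filter (fun g => ∃ h ∈ H, h * w * h⁻¹ = g)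

/-- The size of the `H`-conjugacy class of `w`: the index of the centralizer of `w` in `H`. -/
noncomputable def relIdx (H : Subgroup Γ) (w : Γ) : ℕ :=
  (Subgroup.centralizer ({w} : Set Γ)).relIndex H

theorem mem_clsF (H : Subgroup Γ) (w g : Γ) : g ∈ clsF H w ↔ ∃ h ∈ H, h * w * h⁻¹ = g := by
  classical
  unfold clsF
  rw [Finset.mem_filter]
  exact ⟨fun h => h.2, fun h => ⟨Finset.mem_univ _, h⟩⟩

theorem self_mem_clsF (H : Subgroup Γ) (w : Γ) : w ∈ clsF H w :=
  (mem_clsF H w w).mpr ⟨1, H.one_mem, by group⟩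

theorem conj_mem_clsF (H : Subgroup Γ) {w g : Γ} (hg : g ∈ clsF H w) {u : Γ} (hu : u ∈ H) :
    u * g * u⁻¹ ∈ clsF H w := by
  obtain ⟨h, hh, rfl⟩ := (mem_clsF H w g).mp hg
  exact (mem_clsF H w _).mpr ⟨u * h, H.mul_mem hu hh, by group⟩

omit [Fintype Γ] in
theorem mem_centralizer_singleton (w g : Γ) :
    g ∈ Subgroup.centralizer ({w} : Set Γ) ↔ w * g = g * w := by
  rw [Subgroup.mem_centralizer_iff]
  constructor
  · intro h
    exact h w rfl
  · intro h x hx
    rw [Set.mem_singleton_iff] at hx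
    rw [hx, h]

/-- Sums over `H` of a function of the conjugate and sums over the `H`-class. -/
theorem sum_conj_eq (H : Subgroup Γ) [Fintype H] (w : Γ) (g : Γ → ℂ) :
    ∑ h : H, g ((h : Γ) * w * (h : Γ)⁻¹)
      = (Nat.card ((Subgroup.centralizer ({w} : Set Γ)).subgroupOf H) : ℂ)
        * ∑ w' ∈ clsF H w, g w' := by
  classical
  rw [← Finset.sum_fiberwise_of_maps_to (s := Finset.univ) (t := clsF H w)
    (g := fun h : H => (h : Γ) * w * (h : Γ)⁻¹)
    (fun h _ => (mem_clsF H w _).mpr ⟨h, h.2, rfl⟩) (fun h => g ((h : Γ) * w * (h : Γ)⁻¹)),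
    Finset.mul_sum]
  refine Finset.sum_congr rfl (fun w' hw' => ?_)
  obtain ⟨h₀, hh₀, rfl⟩ := (mem_clsF H w w').mp hw'
  rw [Finset.sum_congr rfl (fun h hh => by rw [(Finset.mem_filter.mp hh).2]), Finset.sum_const,
    nsmul_eq_mul]
  congr 1
  rw [← Fintype.card_subtype, ← Nat.card_eq_fintype_card]
  congr 1
  apply Nat.card_congr
  refine
    { toFun := fun x => ⟨(⟨h₀, hh₀⟩ : H)⁻¹ * x.1, ?_⟩
      invFun := fun z => ⟨(⟨h₀, hh₀⟩ : H) * z.1, ?_⟩
      left_inv := fun x => by simp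
      right_inv := fun z => by simp }
  · rw [Subgroup.mem_subgroupOf, mem_centralizer_singleton]
    have hx : ((x.1 : H) : Γ) * w * ((x.1 : H) : Γ)⁻¹ = h₀ * w * h₀⁻¹ := x.2
    show w * (h₀⁻¹ * ((x.1 : H) : Γ)) = h₀⁻¹ * ((x.1 : H) : Γ) * w
    calc w * (h₀⁻¹ * ((x.1 : H) : Γ))
        = h₀⁻¹ * (h₀ * w * h₀⁻¹) * ((x.1 : H) : Γ) := by group
      _ = h₀⁻¹ * (((x.1 : H) : Γ) * w * ((x.1 : H) : Γ)⁻¹) * ((x.1 : H) : Γ) := by rw [hx]
      _ = h₀⁻¹ * ((x.1 : H) : Γ) * w := by group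
  · have hz : w * ((z.1 : H) : Γ) = ((z.1 : H) : Γ) * w :=
      (mem_centralizer_singleton w _).mp (Subgroup.mem_subgroupOf.mp z.2)
    show h₀ * ((z.1 : H) : Γ) * w * (h₀ * ((z.1 : H) : Γ))⁻¹ = h₀ * w * h₀⁻¹
    calc h₀ * ((z.1 : H) : Γ) * w * (h₀ * ((z.1 : H) : Γ))⁻¹
        = h₀ * (((z.1 : H) : Γ) * w) * ((z.1 : H) : Γ)⁻¹ * h₀⁻¹ := by group
      _ = h₀ * (w * ((z.1 : H) : Γ)) * ((z.1 : H) : Γ)⁻¹ * h₀⁻¹ := by rw [hz]
      _ = h₀ * w * h₀⁻¹ := by group

theorem card_clsF (H : Subgroup Γ) (w : Γ) : (clsF H w).card = relIdx H w := by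
  classical
  have : Fintype H := Fintype.ofFinite H
  have h1 := sum_conj_eq H w (fun _ => (1 : ℂ))
  simp only [Finset.sum_const, Finset.card_univ, nsmul_eq_mul, mul_one] at h1
  have h2 := Subgroup.index_mul_card ((Subgroup.centralizer ({w} : Set Γ)).subgroupOf H)
  have h3 : (relIdx H w : ℂ)
      * (Nat.card ((Subgroup.centralizer ({w} : Set Γ)).subgroupOf H) : ℂ)
      = (Fintype.card H : ℂ) := by
    rw [← Nat.cast_mul, ← Nat.card_eq_fintype_card, ← h2]
    rfl
  have hk : (Nat.card ((Subgroup.centralizer ({w} : Set Γ)).subgroupOf H) : ℂ) ≠ 0 := by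
    exact_mod_cast Nat.card_pos.ne'
  have h4 : ((clsF H w).card : ℂ) = (relIdx H w : ℂ) := by
    apply mul_left_cancel₀ hk
    rw [← h1, mul_comm, h3]
  exact_mod_cast h4

/-- Induction principle for sums of `H`-invariant functions over `H`-stable sets. -/
theorem sum_relcls_induction (H : Subgroup Γ) (P : ℂ → Prop) (h0 : P 0)
    (hadd : ∀ a b, P a → P b → P (a + b)) (F : Γ → ℂ)
    (hF : ∀ x, ∀ u ∈ H, F (u * x * u⁻¹) = F x) :
    ∀ S : Finset Γ, (∀ x ∈ S, ∀ u ∈ H, u * x * u⁻¹ ∈ S) →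
      (∀ x ∈ S, P ((relIdx H x : ℂ) * F x)) → P (∑ x ∈ S, F x) := by
  classical
  intro S
  induction S using Finset.strongInduction with
  | H S ih =>
    intro hS hcl
    by_cases hne : S.Nonempty
    · obtain ⟨x, hx⟩ := hne
      have hsub : clsF H x ⊆ S := by
        intro g hg
        obtain ⟨h, hh, rfl⟩ := (mem_clsF H x g).mp hg
        exact hS x hx h hh
      rw [← Finset.sum_sdiff hsub]
      apply hadd
      · apply ih (S \ clsF H x) (Finset.sdiff_ssubset hsub ⟨x, self_mem_clsF H x⟩)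
        · intro y hy u hu
          rw [Finset.mem_sdiff] at hy ⊢
          refine ⟨hS y hy.1 u hu, fun hc => hy.2 ?_⟩
          obtain ⟨h, hh, he⟩ := (mem_clsF H x _).mp hc
          rw [mem_clsF]
          refine ⟨u⁻¹ * h, H.mul_mem (H.inv_mem hu) hh, ?_⟩
          calc u⁻¹ * h * x * (u⁻¹ * h)⁻¹ = u⁻¹ * (h * x * h⁻¹) * u := by group
            _ = u⁻¹ * (u * y * u⁻¹) * u := by rw [he]
            _ = y := by group
        · intro y hy
          exact hcl y (Finset.mem_sdiff.mp hy).1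
      · have hconst : ∀ g ∈ clsF H x, F g = F x := by
          intro g hg
          obtain ⟨h, hh, rfl⟩ := (mem_clsF H x g).mp hg
          exact hF x h hh
        rw [Finset.sum_congr rfl hconst, Finset.sum_const, card_clsF, nsmul_eq_mul]
        exact hcl x hx
    · rw [Finset.not_nonempty_iff_eq_empty] at hne
      rw [hne, Finset.sum_empty]
      exact h0

omit [Fintype Γ] in
theorem mem_centralizer_comm {Q : Subgroup Γ} {a : Γ}
    (ha : a ∈ Subgroup.centralizer (Q : Set Γ)) {q : Γ} (hq : q ∈ Q) : q * a = a * q :=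
  (Subgroup.mem_centralizer_iff.mp ha) q hq

/-- For a `p`-group `Q`, the `Q`-class of an element not centralized by `Q` has size divisible by
`p`. -/
theorem dvd_relIdx_of_not_mem_centralizer {p : ℕ} [Fact p.Prime] (Q : Subgroup Γ)
    (hQ : IsPGroup p Q) {x : Γ} (hx : x ∉ Subgroup.centralizer (Q : Set Γ)) : p ∣ relIdx Q x := by
  obtain ⟨n, hn⟩ := hQ.index ((Subgroup.centralizer ({x} : Set Γ)).subgroupOf Q)
  have hn' : relIdx Q x = p ^ n := hn
  rcases Nat.eq_zero_or_pos n with h0 | hpos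
  · exfalso
    rw [h0, pow_zero] at hn'
    have hle : Q ≤ Subgroup.centralizer ({x} : Set Γ) := Subgroup.relIndex_eq_one.mp hn'
    apply hx
    rw [Subgroup.mem_centralizer_iff]
    intro q hq
    have := (mem_centralizer_singleton x q).mp (hle hq)
    exact this.symm
  · rw [hn']
    exact dvd_pow_self p hpos.ne'

omit [Fintype Γ] in
theorem relIdx_dvd_of_mem_centralizer (Ν Q : Subgroup Γ) {b : Γ}
    (hb : b ∈ Subgroup.centralizer (Q : Set Γ)) : relIdx Ν b ∣ Q.relIndex Ν := by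
  apply Subgroup.relIndex_dvd_of_le_left
  intro q hq
  rw [mem_centralizer_singleton]
  exact (mem_centralizer_comm hb hq).symm

omit [Fintype Γ] in
theorem relIdx_mul_dvd (Ν Q : Subgroup Γ) (hQΝ : Q ≤ Ν) {a : Γ}
    (ha : a ∈ Subgroup.centralizer (Q : Set Γ)) (x : Γ) :
    relIdx Ν (a * x) ∣ Q.relIndex Ν * relIdx Q x := by
  have h1 := Subgroup.relIndex_mul_relIndex (Q ⊓ Subgroup.centralizer ({x} : Set Γ)) Q Ν
    inf_le_left hQΝ
  rw [Subgroup.inf_relIndex_left] at h1
  have h2 : Q ⊓ Subgroup.centralizer ({x} : Set Γ) ≤ Subgroup.centralizer ({a * x} : Set Γ) := by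
    intro q hq
    rw [Subgroup.mem_inf] at hq
    rw [mem_centralizer_singleton]
    have h3 := (mem_centralizer_singleton x q).mp hq.2
    have h4 := mem_centralizer_comm ha hq.1
    rw [mul_assoc, h3, ← mul_assoc, ← h4, mul_assoc]
  have h5 := Subgroup.relIndex_dvd_of_le_left Ν h2
  rw [← h1, mul_comm] at h5
  exact h5


omit [Fintype Γ] in
theorem relIdx_mul_card (H : Subgroup Γ) (w : Γ) :
    relIdx H w * Nat.card ((Subgroup.centralizer ({w} : Set Γ)).subgroupOf H) = Nat.card H :=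
  Subgroup.index_mul_card _

omit [Fintype Γ] in
theorem index_centralizer_eq_relIdx (H : Subgroup Γ) (y : H) :
    (Subgroup.centralizer ({y} : Set H)).index = relIdx H (y : Γ) := by
  unfold relIdx Subgroup.relIndex
  congr 1
  ext z
  rw [Subgroup.mem_subgroupOf, mem_centralizer_singleton, mem_centralizer_singleton]
  constructor
  · intro h
    have := congrArg Subtype.val h
    simpa using this
  · intro h
    apply Subtype.ext
    simpa using h

omit [Fintype Γ] in
theorem centralChar_sub_eq (H : Subgroup Γ) (f : Γ → ℂ) (y : H) :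
    centralChar (fun h : H => f h) y = (relIdx H (y : Γ) : ℂ) * f y / f 1 := by
  unfold centralChar
  rw [index_centralizer_eq_relIdx]
  rfl

end RelClass

section Calc

variable {p : ℕ} [Fact p.Prime] {M : Ideal AlgInt} {Γ : Type u} [Group Γ] [Fintype Γ]

/-- The relative class-sum relations for a function `A` on `Γ` with respect to `Ν`. -/
structure RelCalc (p : ℕ) (M : Ideal AlgInt) (Ν : Subgroup Γ) (A : Γ → ℂ) : Prop where
  inv : ∀ x : Γ, ∀ u ∈ Ν, A (u * x * u⁻¹) = A x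
  h1 : ∀ w : Γ, p ∣ relIdx Ν w → MemLocalIdeal M ((relIdx Ν w : ℂ) * A w)
  h2 : ∀ w : Γ, ¬ p ∣ relIdx Ν w → MemLocalRing M (A w)
  h3 : ∀ x w : Γ, ∑ w' ∈ clsF Ν w, A (x * w') = (relIdx Ν w : ℂ) * A x * A w

open scoped Classical in
/-- The class size is congruent to the number of members of the class centralized by `Q`. -/
theorem memLocalIdeal_relIdx_sub_fix (hM : IsPModular p M) (Ν Q : Subgroup Γ) (hQΝ : Q ≤ Ν)
    (hQ : IsPGroup p Q) (b : Γ) :
    MemLocalIdeal M ((relIdx Ν b : ℂ) - (((clsF Ν b).filter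
      (fun g => g ∈ Subgroup.centralizer (Q : Set Γ))).card : ℂ)) := by
  have hMp : M.IsPrime := hM.2.1.isPrime
  have h1 : (relIdx Ν b : ℂ) = ∑ _x ∈ clsF Ν b, (1 : ℂ) := by
    rw [Finset.sum_const, card_clsF, nsmul_eq_mul, mul_one]
  have h2 : (((clsF Ν b).filter (fun g => g ∈ Subgroup.centralizer (Q : Set Γ))).card : ℂ)
      = ∑ _x ∈ (clsF Ν b).filter (fun g => g ∈ Subgroup.centralizer (Q : Set Γ)), (1 : ℂ) := by
    rw [Finset.sum_const, nsmul_eq_mul, mul_one]
  rw [h1, h2, ← Finset.sum_filter_add_sum_filter_not (clsF Ν b)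
    (fun g => g ∈ Subgroup.centralizer (Q : Set Γ)), add_sub_cancel_left]
  apply sum_relcls_induction Q (MemLocalIdeal M) (helper20.memLocalIdeal_zero hMp)
    (fun a b => helper20.memLocalIdeal_add hMp) (fun _ => (1 : ℂ)) (fun _ _ _ => rfl)
  · intro x hx u hu
    rw [Finset.mem_filter] at hx ⊢
    refine ⟨conj_mem_clsF Ν hx.1 (hQΝ hu), fun hc => hx.2 ?_⟩
    have h3 := mem_centralizer_comm hc hu
    have h4 : x = u * x * u⁻¹ := by
      calc x = u⁻¹ * ((u * x * u⁻¹) * u) := by group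
        _ = u⁻¹ * (u * (u * x * u⁻¹)) := by rw [h3]
        _ = u * x * u⁻¹ := by group
    rw [h4]
    exact hc
  · intro x hx
    rw [Finset.mem_filter] at hx
    rw [mul_one]
    exact helper80.memLocalIdeal_natCast hM (dvd_relIdx_of_not_mem_centralizer Q hQ hx.2)

open scoped Classical in
/-- The basic congruence of the relative class-sum calculus. -/
theorem relcalc_sum (hM : IsPModular p M) (Ν Q : Subgroup Γ) (hQΝ : Q ≤ Ν)
    (hQ : IsPGroup p Q) (hQidx : ¬ p ∣ Q.relIndex Ν) {A : Γ → ℂ} (hA : RelCalc p M Ν A)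
    {a : Γ} (ha : a ∈ Subgroup.centralizer (Q : Set Γ)) (b : Γ) (c : ℂ)
    (hc : ∀ b' ∈ clsF Ν b, b' ∈ Subgroup.centralizer (Q : Set Γ) →
      MemLocalIdeal M (A (a * b') - c)) :
    MemLocalIdeal M ((relIdx Ν b : ℂ) * A a * A b - (((clsF Ν b).filter
      (fun g => g ∈ Subgroup.centralizer (Q : Set Γ))).card : ℂ) * c) := by
  have hMp : M.IsPrime := hM.2.1.isPrime
  rw [← hA.h3 a b, ← Finset.sum_filter_add_sum_filter_not (clsF Ν b)
    (fun g => g ∈ Subgroup.centralizer (Q : Set Γ))]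
  have hgood : MemLocalIdeal M (∑ x ∈ (clsF Ν b).filter
      (fun g => g ∈ Subgroup.centralizer (Q : Set Γ)), A (a * x) - (((clsF Ν b).filter
      (fun g => g ∈ Subgroup.centralizer (Q : Set Γ))).card : ℂ) * c) := by
    have h1 : ∑ x ∈ (clsF Ν b).filter
        (fun g => g ∈ Subgroup.centralizer (Q : Set Γ)), A (a * x) - (((clsF Ν b).filter
        (fun g => g ∈ Subgroup.centralizer (Q : Set Γ))).card : ℂ) * c
        = ∑ x ∈ (clsF Ν b).filter
        (fun g => g ∈ Subgroup.centralizer (Q : Set Γ)), (A (a * x) - c) := by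
      rw [Finset.sum_sub_distrib, Finset.sum_const, nsmul_eq_mul]
    rw [h1]
    apply helper20.memLocalIdeal_sum hMp
    intro x hx
    rw [Finset.mem_filter] at hx
    exact hc x hx.1 hx.2
  have hbad : MemLocalIdeal M (∑ x ∈ (clsF Ν b).filter
      (fun g => ¬ g ∈ Subgroup.centralizer (Q : Set Γ)), A (a * x)) := by
    apply sum_relcls_induction Q (MemLocalIdeal M) (helper20.memLocalIdeal_zero hMp)
      (fun a b => helper20.memLocalIdeal_add hMp) (fun g => A (a * g))
    · intro x u hu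
      have h1 : a * (u * x * u⁻¹) = u * (a * x) * u⁻¹ := by
        have h2 := mem_centralizer_comm ha hu
        calc a * (u * x * u⁻¹) = (a * u) * x * u⁻¹ := by group
          _ = (u * a) * x * u⁻¹ := by rw [h2]
          _ = u * (a * x) * u⁻¹ := by group
      show A (a * (u * x * u⁻¹)) = A (a * x)
      rw [h1]
      exact hA.inv _ u (hQΝ hu)
    · intro x hx u hu
      rw [Finset.mem_filter] at hx ⊢
      refine ⟨conj_mem_clsF Ν hx.1 (hQΝ hu), fun hc => hx.2 ?_⟩
      have h3 := mem_centralizer_comm hc hu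
      have h4 : x = u * x * u⁻¹ := by
        calc x = u⁻¹ * ((u * x * u⁻¹) * u) := by group
          _ = u⁻¹ * (u * (u * x * u⁻¹)) := by rw [h3]
          _ = u * x * u⁻¹ := by group
      rw [h4]
      exact hc
    · intro x hx
      rw [Finset.mem_filter] at hx
      have hp := dvd_relIdx_of_not_mem_centralizer Q hQ hx.2
      by_cases hd : p ∣ relIdx Ν (a * x)
      · have h1 := hA.h1 (a * x) hd
        obtain ⟨t, ht⟩ := relIdx_mul_dvd Ν Q hQΝ ha x
        apply memLocalIdeal_of_natCast_mul hM hQidx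
        have h2 : (Q.relIndex Ν : ℂ) * ((relIdx Q x : ℂ) * A (a * x))
            = (t : ℂ) * ((relIdx Ν (a * x) : ℂ) * A (a * x)) := by
          rw [← mul_assoc, ← Nat.cast_mul, ht]
          push_cast
          ring
        rw [h2]
        exact helper20.memLocalIdeal_mul_left hMp (helper20.memLocalRing_natCast hMp t) h1
      · exact helper20.memLocalIdeal_mul_right hMp (helper80.memLocalIdeal_natCast hM hp)
          (hA.h2 (a * x) hd)
  have h5 : ∑ x ∈ (clsF Ν b).filter (fun g => g ∈ Subgroup.centralizer (Q : Set Γ)), A (a * x)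
      + ∑ x ∈ (clsF Ν b).filter (fun g => ¬ g ∈ Subgroup.centralizer (Q : Set Γ)), A (a * x)
      - (((clsF Ν b).filter (fun g => g ∈ Subgroup.centralizer (Q : Set Γ))).card : ℂ) * c
      = (∑ x ∈ (clsF Ν b).filter (fun g => g ∈ Subgroup.centralizer (Q : Set Γ)), A (a * x)
        - (((clsF Ν b).filter (fun g => g ∈ Subgroup.centralizer (Q : Set Γ))).card : ℂ) * c)
      + ∑ x ∈ (clsF Ν b).filter (fun g => ¬ g ∈ Subgroup.centralizer (Q : Set Γ)), A (a * x) := by
    ring
  rw [h5]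
  exact helper20.memLocalIdeal_add hMp hgood hbad

omit [Fact p.Prime] in
/-- Values of `A` on the centralizer of `Q` are local integers. -/
theorem relcalc_loc (Ν Q : Subgroup Γ) (hQidx : ¬ p ∣ Q.relIndex Ν) {A : Γ → ℂ}
    (hA : RelCalc p M Ν A) {c : Γ} (hc : c ∈ Subgroup.centralizer (Q : Set Γ)) :
    MemLocalRing M (A c) :=
  hA.h2 c (fun h => hQidx (dvd_trans h (relIdx_dvd_of_mem_centralizer Ν Q hc)))

theorem relcalc_mul_of (hM : IsPModular p M) (Ν Q : Subgroup Γ) (hQΝ : Q ≤ Ν)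
    (hQ : IsPGroup p Q) (hQidx : ¬ p ∣ Q.relIndex Ν) {A : Γ → ℂ} (hA : RelCalc p M Ν A)
    {a b : Γ} (ha : a ∈ Subgroup.centralizer (Q : Set Γ))
    (hb : b ∈ Subgroup.centralizer (Q : Set Γ)) (c : ℂ) (hcl : MemLocalRing M c)
    (hc : ∀ b' ∈ clsF Ν b, b' ∈ Subgroup.centralizer (Q : Set Γ) →
      MemLocalIdeal M (A (a * b') - c)) :
    MemLocalIdeal M (A a * A b - c) := by
  classical
  have hMp : M.IsPrime := hM.2.1.isPrime
  have h1 := relcalc_sum hM Ν Q hQΝ hQ hQidx hA ha b c hc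
  have h2 := memLocalIdeal_relIdx_sub_fix (M := M) hM Ν Q hQΝ hQ b
  have hidx : ¬ p ∣ relIdx Ν b :=
    fun h => hQidx (dvd_trans h (relIdx_dvd_of_mem_centralizer Ν Q hb))
  apply memLocalIdeal_of_natCast_mul hM hidx
  have h3 : (relIdx Ν b : ℂ) * (A a * A b - c)
      = ((relIdx Ν b : ℂ) * A a * A b - (((clsF Ν b).filter
        (fun g => g ∈ Subgroup.centralizer (Q : Set Γ))).card : ℂ) * c)
        - ((relIdx Ν b : ℂ) - (((clsF Ν b).filter
        (fun g => g ∈ Subgroup.centralizer (Q : Set Γ))).card : ℂ)) * c := by ring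
  rw [h3]
  exact helper20.memLocalIdeal_sub hMp h1 (helper20.memLocalIdeal_mul_right hMp h2 hcl)

/-- **Multiplicativity modulo the maximal ideal on the centralizer of `Q`.** -/
theorem relcalc_mul (hM : IsPModular p M) (Ν Q : Subgroup Γ) [hΝ : Ν.Normal] (hQΝ : Q ≤ Ν)
    (hQ : IsPGroup p Q) (hQidx : ¬ p ∣ Q.relIndex Ν) {A : Γ → ℂ} (hA : RelCalc p M Ν A)
    (hB : ∀ n ∈ Ν, n ∈ Subgroup.centralizer (Q : Set Γ) → MemLocalIdeal M (A n - 1))
    {x y : Γ} (hx : x ∈ Subgroup.centralizer (Q : Set Γ))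
    (hy : y ∈ Subgroup.centralizer (Q : Set Γ)) :
    MemLocalIdeal M (A (x * y) - A x * A y) := by
  have hMp : M.IsPrime := hM.2.1.isPrime
  have hloc : ∀ c ∈ Subgroup.centralizer (Q : Set Γ), MemLocalRing M (A c) :=
    fun c hc => relcalc_loc Ν Q hQidx hA hc
  have hC : ∀ a b : Γ, a ∈ Subgroup.centralizer (Q : Set Γ) →
      b ∈ Subgroup.centralizer (Q : Set Γ) → a * b ∈ Ν → MemLocalIdeal M (A a * A b - 1) := by
    intro a b ha hb hab
    apply relcalc_mul_of hM Ν Q hQΝ hQ hQidx hA ha hb 1 (helper20.memLocalRing_one hMp)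
    intro b' hb' hb'c
    obtain ⟨n, hn, rfl⟩ := (mem_clsF Ν b b').mp hb'
    apply hB _ _ (Subgroup.mul_mem _ ha hb'c)
    have h2 : a * (n * b * n⁻¹) = (a * b) * ((b⁻¹ * n * b⁻¹⁻¹) * n⁻¹) := by group
    rw [h2]
    exact Ν.mul_mem hab (Ν.mul_mem (hΝ.conj_mem _ hn _) (Ν.inv_mem hn))
  have hxy := Subgroup.mul_mem _ hx hy
  have hxyi := Subgroup.inv_mem _ hxy
  have h1 := relcalc_mul_of hM Ν Q hQΝ hQ hQidx hA hx hy (A (x * y)) (hloc _ hxy) (by
    intro b' hb' hb'c
    obtain ⟨n, hn, rfl⟩ := (mem_clsF Ν y b').mp hb'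
    set w := x * (n * y * n⁻¹) with hw
    have hwc : w ∈ Subgroup.centralizer (Q : Set Γ) := Subgroup.mul_mem _ hx hb'c
    have hwΝ : w * (x * y)⁻¹ ∈ Ν := by
      have h2 : w * (x * y)⁻¹ = x * (n * (y * n⁻¹ * y⁻¹)) * x⁻¹ := by
        rw [hw]; group
      rw [h2]
      exact hΝ.conj_mem _ (Ν.mul_mem hn (hΝ.conj_mem _ (Ν.inv_mem hn) _)) _
    have h3 := hC w (x * y)⁻¹ hwc hxyi hwΝ
    have h4 := hC (x * y) (x * y)⁻¹ hxy hxyi (by rw [mul_inv_cancel]; exact Ν.one_mem)
    have h5 : A w - A (x * y)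
        = A (x * y) * (A w * A (x * y)⁻¹ - 1) - A w * (A (x * y) * A (x * y)⁻¹ - 1) := by ring
    rw [h5]
    exact helper20.memLocalIdeal_sub hMp (helper20.memLocalIdeal_mul_left hMp (hloc _ hxy) h3)
      (helper20.memLocalIdeal_mul_left hMp (hloc _ hwc) h4))
  have h6 : A (x * y) - A x * A y = -(A x * A y - A (x * y)) := by ring
  rw [h6]
  exact helper20.memLocalIdeal_neg h1

/-- The relative block criterion: if `A ≡ 1` on the centralizer of `Q` then
`|class| · (A y - 1)` lies in the local ideal for every `y`. -/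
theorem relcalc_rc (hM : IsPModular p M) (Ν Q : Subgroup Γ) (hQΝ : Q ≤ Ν)
    (hQ : IsPGroup p Q) {A : Γ → ℂ} (hA : RelCalc p M Ν A)
    (hone : ∀ c ∈ Subgroup.centralizer (Q : Set Γ), MemLocalIdeal M (A c - 1)) (y : Γ) :
    MemLocalIdeal M ((relIdx Ν y : ℂ) * (A y - 1)) := by
  classical
  have hMp : M.IsPrime := hM.2.1.isPrime
  by_cases hd : p ∣ relIdx Ν y
  · have h1 : (relIdx Ν y : ℂ) * (A y - 1) = (relIdx Ν y : ℂ) * A y - (relIdx Ν y : ℂ) := by ring
    rw [h1]
    exact helper20.memLocalIdeal_sub hMp (hA.h1 y hd) (helper80.memLocalIdeal_natCast hM hd)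
  · have h2 := memLocalIdeal_relIdx_sub_fix (M := M) hM Ν Q hQΝ hQ y
    have hne : ((clsF Ν y).filter (fun g => g ∈ Subgroup.centralizer (Q : Set Γ))).Nonempty := by
      by_contra hcon
      rw [Finset.not_nonempty_iff_eq_empty] at hcon
      rw [hcon, Finset.card_empty, Nat.cast_zero, sub_zero] at h2
      exact helper80.not_memLocalIdeal_natCast hM hd h2
    obtain ⟨y', hy'⟩ := hne
    rw [Finset.mem_filter] at hy'
    obtain ⟨n, hn, rfl⟩ := (mem_clsF Ν y y').mp hy'.1
    have h3 := hone _ hy'.2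
    rw [hA.inv y n hn] at h3
    exact helper20.memLocalIdeal_mul_left hMp (helper20.memLocalRing_natCast hMp _) h3

/-- The relative block criterion summed over the classes of an overgroup `J ≥ Ν`. -/
theorem relcalc_class (hM : IsPModular p M) (Ν Q : Subgroup Γ) (hQΝ : Q ≤ Ν)
    (hQ : IsPGroup p Q) {A : Γ → ℂ} (hA : RelCalc p M Ν A)
    (hone : ∀ c ∈ Subgroup.centralizer (Q : Set Γ), MemLocalIdeal M (A c - 1))
    (J : Subgroup Γ) (hΝJ : Ν ≤ J) (hAJ : ∀ x : Γ, ∀ u ∈ J, A (u * x * u⁻¹) = A x) (y : Γ) :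
    MemLocalIdeal M ((relIdx J y : ℂ) * (A y - 1)) := by
  have hMp : M.IsPrime := hM.2.1.isPrime
  have h1 : (relIdx J y : ℂ) * (A y - 1) = ∑ y' ∈ clsF J y, (A y' - 1) := by
    have hconst : ∀ g ∈ clsF J y, A g - 1 = A y - 1 := by
      intro g hg
      obtain ⟨h, hh, rfl⟩ := (mem_clsF J y g).mp hg
      rw [hAJ y h hh]
    rw [Finset.sum_congr rfl hconst, Finset.sum_const, card_clsF, nsmul_eq_mul]
  rw [h1]
  apply sum_relcls_induction Ν (MemLocalIdeal M) (helper20.memLocalIdeal_zero hMp)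
    (fun a b => helper20.memLocalIdeal_add hMp) (fun g => A g - 1)
  · intro x u hu
    show A (u * x * u⁻¹) - 1 = A x - 1
    rw [hA.inv x u hu]
  · intro x hx u hu
    exact conj_mem_clsF J hx (hΝJ hu)
  · intro x _
    exact relcalc_rc hM Ν Q hQΝ hQ hA hone x

end Calc

end Cfsg.Agent.Lib.helper4
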