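import Mathlib
import Cfsg.Agent.Lib.helper4.RelClass
import Cfsg.Agent.Lib.helper4.PRatMult
import Cfsg.Agent.Lib.helper20.CentralChar

/-!
# The relative class-sum calculus for an extension of a principal block character (helper4)

Let `Ν ⊴ Γ` and let `f` be an irreducible character of `Γ` whose restriction to `Ν` is
irreducible and lies in the principal block of `Ν`.  Then `A = f / f 1` satisfies the relations
`RelCalc`: for every `w ∈ Γ` the number `|Ν : C_Ν(w)| · A w` is an algebraic integer whose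
`|Γ|`-th power is congruent to the `|Γ|`-th power of `|Ν : C_Ν(w)|`.
-/

set_option autoImplicit false

namespace Cfsg.Agent.Lib.helper4

open Cfsg

universe u

section CPow

variable {Γ : Type u} [Group Γ] [Fintype Γ]

open scoped Classical in
/-- The coefficients of the `j`-th power of the sum of the elements of `cls` in the group
algebra. -/
noncomputable def cpow (cls : Finset Γ) : ℕ → Γ → ℕ
  | 0 => fun z => if z = 1 then 1 else 0
  | (j + 1) => fun z => ∑ w' ∈ cls, cpow cls j (z * w'⁻¹)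

theorem sum_cpow (cls : Finset Γ) (A : Γ → ℂ) (lam : ℂ)
    (h : ∀ x, ∑ w' ∈ cls, A (x * w') = lam * A x) (j : ℕ) :
    ∀ x, ∑ z : Γ, (cpow cls j z : ℂ) * A (x * z) = lam ^ j * A x := by
  classical
  induction j with
  | zero =>
    intro x
    rw [Finset.sum_eq_single 1]
    · simp [cpow]
    · intro z _ hz
      simp [cpow, hz]
    · intro h1
      exact absurd (Finset.mem_univ _) h1
  | succ j ih =>
    intro x
    have h1 : ∀ z : Γ, (cpow cls (j + 1) z : ℂ) * A (x * z)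
        = ∑ w' ∈ cls, (cpow cls j (z * w'⁻¹) : ℂ) * A (x * z) := by
      intro z
      show ((∑ w' ∈ cls, cpow cls j (z * w'⁻¹) : ℕ) : ℂ) * A (x * z) = _
      rw [Nat.cast_sum, Finset.sum_mul]
    rw [Finset.sum_congr rfl (fun z _ => h1 z), Finset.sum_comm]
    have h2 : ∀ w' ∈ cls, ∑ z : Γ, (cpow cls j (z * w'⁻¹) : ℂ) * A (x * z)
        = ∑ z : Γ, (cpow cls j z : ℂ) * A (x * z * w') := by
      intro w' _
      apply Fintype.sum_equiv (Equiv.mulRight w'⁻¹)
      intro z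
      show (cpow cls j (z * w'⁻¹) : ℂ) * A (x * z)
        = (cpow cls j (z * w'⁻¹) : ℂ) * A (x * (z * w'⁻¹) * w')
      congr 2
      group
    rw [Finset.sum_congr rfl h2, Finset.sum_comm]
    have h3 : ∀ z : Γ, ∑ w' ∈ cls, (cpow cls j z : ℂ) * A (x * z * w')
        = lam * ((cpow cls j z : ℂ) * A (x * z)) := by
      intro z
      rw [← Finset.mul_sum, h (x * z)]
      ring
    rw [Finset.sum_congr rfl (fun z _ => h3 z), ← Finset.mul_sum, ih x, pow_succ]
    ring

omit [Fintype Γ] in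
theorem cpow_conj (cls : Finset Γ) (Ν : Subgroup Γ)
    (hcls : ∀ g ∈ cls, ∀ n ∈ Ν, n * g * n⁻¹ ∈ cls) (j : ℕ) :
    ∀ z : Γ, ∀ n ∈ Ν, cpow cls j (n * z * n⁻¹) = cpow cls j z := by
  classical
  induction j with
  | zero =>
    intro z n _
    simp [cpow, conj_eq_one_iff]
  | succ j ih =>
    intro z n hn
    show ∑ w' ∈ cls, cpow cls j (n * z * n⁻¹ * w'⁻¹) = ∑ w' ∈ cls, cpow cls j (z * w'⁻¹)
    apply Finset.sum_nbij' (fun w' => n⁻¹ * w' * n) (fun w' => n * w' * n⁻¹)
    · intro w' hw'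
      have := hcls w' hw' n⁻¹ (Ν.inv_mem hn)
      rwa [inv_inv] at this
    · intro w' hw'
      exact hcls w' hw' n hn
    · intro w' _
      group
    · intro w' _
      group
    · intro w' _
      have h1 : n * z * n⁻¹ * w'⁻¹ = n * (z * (n⁻¹ * w' * n)⁻¹) * n⁻¹ := by group
      rw [h1, ih _ n hn]

omit [Fintype Γ] in
theorem cpow_support (cls : Finset Γ) (Ν : Subgroup Γ) [Ν.Normal] (w : Γ)
    (hcls : ∀ g ∈ cls, ∃ n ∈ Ν, n * w * n⁻¹ = g) (j : ℕ) :
    ∀ z : Γ, cpow cls j z ≠ 0 →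
      (QuotientGroup.mk z : Γ ⧸ Ν) = (QuotientGroup.mk w : Γ ⧸ Ν) ^ j := by
  classical
  induction j with
  | zero =>
    intro z hz
    have hz1 : z = 1 := by
      by_contra h
      exact hz (by simp [cpow, h])
    rw [hz1, pow_zero]
    rfl
  | succ j ih =>
    intro z hz
    have hz' : ∑ w' ∈ cls, cpow cls j (z * w'⁻¹) ≠ 0 := hz
    obtain ⟨w', hw', hne⟩ := Finset.exists_ne_zero_of_sum_ne_zero hz'
    have h1 := ih _ hne
    obtain ⟨n, hn, rfl⟩ := hcls w' hw'
    have h2 : (QuotientGroup.mk (n * w * n⁻¹) : Γ ⧸ Ν) = QuotientGroup.mk w := by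
      rw [QuotientGroup.mk_mul, QuotientGroup.mk_mul, QuotientGroup.mk_inv,
        (QuotientGroup.eq_one_iff n).mpr hn]
      simp
    rw [QuotientGroup.mk_mul, QuotientGroup.mk_inv, h2] at h1
    rw [pow_succ, ← h1]
    simp

theorem cpow_eq_zero (Ν : Subgroup Γ) [Ν.Normal] (w : Γ) (m : ℕ) (hm : w ^ m ∈ Ν) {z : Γ}
    (hz : z ∉ Ν) : cpow (clsF Ν w) m z = 0 := by
  by_contra hne
  have h1 := cpow_support (clsF Ν w) Ν w (fun g hg => (mem_clsF Ν w g).mp hg) m z hne
  rw [← QuotientGroup.mk_pow, (QuotientGroup.eq_one_iff _).mpr hm] at h1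
  exact hz ((QuotientGroup.eq_one_iff z).mp h1)

end CPow

section RelChar

variable {p : ℕ} [Fact p.Prime] {M : Ideal AlgInt} {Γ : Type u} [Group Γ] [Fintype Γ]

theorem sum_clsF_ratio (Ν : Subgroup Γ) {f : Γ → ℂ} (hf : IsIrrCharacter Γ f)
    (hfΝ : IsIrrCharacter Ν (fun n : Ν => f n)) (x w : Γ) :
    ∑ w' ∈ clsF Ν w, f (x * w') / f 1 = (relIdx Ν w : ℂ) * (f x / f 1) * (f w / f 1) := by
  classical
  have : Fintype Ν := Fintype.ofFinite Ν
  have h1 := sum_mul_conj_of_restrict_irr Ν hf hfΝ x w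
  have h2 : ∑ h : Ν, f (x * ((h : Γ) * w * (h : Γ)⁻¹))
      = (Nat.card ((Subgroup.centralizer ({w} : Set Γ)).subgroupOf Ν) : ℂ)
        * ∑ w' ∈ clsF Ν w, f (x * w') := sum_conj_eq Ν w (fun g => f (x * g))
  have h3 := relIdx_mul_card Ν w
  have hk : (Nat.card ((Subgroup.centralizer ({w} : Set Γ)).subgroupOf Ν) : ℂ) ≠ 0 := by
    exact_mod_cast Nat.card_pos.ne'
  have hf1 := irr_degree_ne_zero hf
  rw [h1] at h2
  rw [← Finset.sum_div]
  have h4 : ∑ w' ∈ clsF Ν w, f (x * w') = (relIdx Ν w : ℂ) * f x * f w / f 1 := by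
    apply mul_left_cancel₀ hk
    rw [← h2, ← h3]
    push_cast
    ring
  rw [h4]
  field_simp

/-- Induction principle for the `m`-th power of `|Ν : C_Ν(w)| · f w / f 1`. -/
theorem relX_pow_induction (Ν : Subgroup Γ) [Ν.Normal] {f : Γ → ℂ} (hf : IsIrrCharacter Γ f)
    (hfΝ : IsIrrCharacter Ν (fun n : Ν => f n)) (w : Γ) (m : ℕ) (hm : w ^ m ∈ Ν)
    (P : ℂ → Prop) (h0 : P 0) (hadd : ∀ a b, P a → P b → P (a + b)) (ε : ℂ)
    (hP : ∀ z : Ν, ∀ c : ℕ, P ((c : ℂ) * ((relIdx Ν (z : Γ) : ℂ) * (f z / f 1 - ε)))) :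
    P (((relIdx Ν w : ℂ) * (f w / f 1)) ^ m - ε * (relIdx Ν w : ℂ) ^ m) := by
  classical
  have hf1 := irr_degree_ne_zero hf
  have hcf := isClassFunction_of_isIrrCharacter hf
  have h1 := sum_cpow (clsF Ν w) (fun g => f g / f 1) ((relIdx Ν w : ℂ) * (f w / f 1))
    (fun x => by
      show ∑ w' ∈ clsF Ν w, f (x * w') / f 1 = _
      rw [sum_clsF_ratio Ν hf hfΝ x w]
      ring) m 1
  simp only [one_mul, div_self hf1, mul_one] at h1
  have h2 := sum_cpow (clsF Ν w) (fun _ => (1 : ℂ)) (relIdx Ν w : ℂ)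
    (fun x => by
      rw [Finset.sum_const, card_clsF, nsmul_eq_mul]) m 1
  simp only [mul_one] at h2
  have h3 : ((relIdx Ν w : ℂ) * (f w / f 1)) ^ m - ε * (relIdx Ν w : ℂ) ^ m
      = ∑ z : Γ, (cpow (clsF Ν w) m z : ℂ) * (f z / f 1 - ε) := by
    rw [← h1, ← h2, Finset.mul_sum, ← Finset.sum_sub_distrib]
    refine Finset.sum_congr rfl (fun z _ => ?_)
    ring
  rw [h3]
  apply sum_relcls_induction Ν P h0 hadd (fun z => (cpow (clsF Ν w) m z : ℂ) * (f z / f 1 - ε))
  · intro x u hu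
    show (cpow (clsF Ν w) m (u * x * u⁻¹) : ℂ) * (f (u * x * u⁻¹) / f 1 - ε)
      = (cpow (clsF Ν w) m x : ℂ) * (f x / f 1 - ε)
    rw [cpow_conj (clsF Ν w) Ν (fun g hg n hn => conj_mem_clsF Ν hg hn) m x u hu, hcf x u]
  · intro x _ u _
    exact Finset.mem_univ _
  · intro x _
    by_cases hx : x ∈ Ν
    · have h4 := hP ⟨x, hx⟩ (cpow (clsF Ν w) m x)
      have h5 : (relIdx Ν x : ℂ) * ((cpow (clsF Ν w) m x : ℂ) * (f x / f 1 - ε))
          = (cpow (clsF Ν w) m x : ℂ) * ((relIdx Ν x : ℂ) * (f x / f 1 - ε)) := by ring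
      rw [h5]
      exact h4
    · rw [cpow_eq_zero Ν w m hm hx, Nat.cast_zero, zero_mul, mul_zero]
      exact h0

theorem memLocalRing_npow {M : Ideal AlgInt} (hMp : M.IsPrime) {x : ℂ}
    (hx : MemLocalRing M x) (m : ℕ) : MemLocalRing M (x ^ m) := by
  induction m with
  | zero =>
    rw [pow_zero]
    exact helper20.memLocalRing_one hMp
  | succ m ih =>
    rw [pow_succ]
    exact helper20.memLocalRing_mul hMp ih hx

theorem memLocalIdeal_of_npow {M : Ideal AlgInt} (hMp : M.IsPrime) {x : ℂ}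
    (hx : MemLocalRing M x) :
    ∀ m : ℕ, MemLocalIdeal M (x ^ m) → MemLocalIdeal M x := by
  intro m
  induction m with
  | zero =>
    intro h
    rw [pow_zero] at h
    exact absurd h helper20.not_memLocalIdeal_one
  | succ m ih =>
    intro h
    by_contra hcon
    have h1 : ¬ MemLocalIdeal M (x ^ m) := fun h2 => hcon (ih h2)
    rw [pow_succ] at h
    exact helper20.not_memLocalIdeal_mul hMp (memLocalRing_npow hMp hx m) hx h1 hcon h

/-- **The relative class-sum calculus holds for extensions of principal block characters.** -/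
theorem relCalc_of_irr (hM : IsPModular p M) (Ν : Subgroup Γ) [Ν.Normal] {f : Γ → ℂ}
    (hf : IsIrrCharacter Γ f) (hfΝ : IsIrrCharacter Ν (fun n : Ν => f n))
    (hB : SameBlock M (fun _ : Ν => (1 : ℂ)) (fun n : Ν => f n)) :
    RelCalc p M Ν (fun g => f g / f 1) ∧
      ∀ w : Γ, ¬ p ∣ relIdx Ν w → MemLocalIdeal M ((f w / f 1) ^ Nat.card Γ - 1) := by
  classical
  have hMp : M.IsPrime := hM.2.1.isPrime
  have hf1 := irr_degree_ne_zero hf
  have hcf := isClassFunction_of_isIrrCharacter hf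
  have hm : ∀ w : Γ, w ^ Nat.card Γ ∈ Ν := fun w => by
    rw [pow_card_eq_one']
    exact Ν.one_mem
  have hmpos : 0 < Nat.card Γ := Nat.card_pos
  -- integrality
  have hint : ∀ w : Γ, IsIntegral ℤ ((relIdx Ν w : ℂ) * (f w / f 1)) := by
    intro w
    apply IsIntegral.of_pow hmpos
    have h1 := relX_pow_induction Ν hf hfΝ w (Nat.card Γ) (hm w) (IsIntegral ℤ) isIntegral_zero
      (fun a b ha hb => ha.add hb) 0 (fun z c => by
        have h2 := helper20.isIntegral_centralChar (fun n : Ν => f n) hfΝ z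
        rw [centralChar_sub_eq] at h2
        have h3 : (c : ℂ) * ((relIdx Ν (z : Γ) : ℂ) * (f z / f 1 - 0))
            = (c : ℂ) * ((relIdx Ν (z : Γ) : ℂ) * f z / f 1) := by ring
        rw [h3]
        have h4 := h2.nsmul c
        rw [nsmul_eq_mul] at h4
        exact h4)
    simpa using h1
  -- congruence
  have hcong : ∀ w : Γ, MemLocalIdeal M (((relIdx Ν w : ℂ) * (f w / f 1)) ^ Nat.card Γ
      - (relIdx Ν w : ℂ) ^ Nat.card Γ) := by
    intro w
    have h1 := relX_pow_induction Ν hf hfΝ w (Nat.card Γ) (hm w) (MemLocalIdeal M)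
      (helper20.memLocalIdeal_zero hMp) (fun a b => helper20.memLocalIdeal_add hMp) 1
      (fun z c => by
        have h2 := hB z
        rw [centralChar_sub_eq, centralChar] at h2
        have h3 : (relIdx Ν (z : Γ) : ℂ) * (f z / f 1 - 1)
            = -(((Subgroup.centralizer ({z} : Set Ν)).index : ℂ) * 1 / 1
              - (relIdx Ν (z : Γ) : ℂ) * f z / f 1) := by
          rw [index_centralizer_eq_relIdx]
          ring
        rw [h3]
        exact helper20.memLocalIdeal_mul_left hMp (helper20.memLocalRing_natCast hMp c)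
          (helper20.memLocalIdeal_neg h2))
    rw [one_mul] at h1
    exact h1
  refine ⟨⟨?_, ?_, ?_, ?_⟩, ?_⟩
  · intro x u _
    show f (u * x * u⁻¹) / f 1 = f x / f 1
    rw [hcf x u]
  · intro w hd
    show MemLocalIdeal M ((relIdx Ν w : ℂ) * (f w / f 1))
    have hloc : MemLocalRing M ((relIdx Ν w : ℂ) * (f w / f 1)) :=
      helper20.memLocalRing_of_algInt hMp ⟨_, hint w⟩
    apply memLocalIdeal_of_npow hMp hloc (Nat.card Γ)
    have h1 : ((relIdx Ν w : ℂ) * (f w / f 1)) ^ Nat.card Γ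
        = (((relIdx Ν w : ℂ) * (f w / f 1)) ^ Nat.card Γ - (relIdx Ν w : ℂ) ^ Nat.card Γ)
          + ((relIdx Ν w ^ Nat.card Γ : ℕ) : ℂ) := by
      push_cast
      ring
    rw [h1]
    exact helper20.memLocalIdeal_add hMp (hcong w)
      (helper80.memLocalIdeal_natCast hM (dvd_pow hd hmpos.ne'))
  · intro w hd
    show MemLocalRing M (f w / f 1)
    have h0 : (relIdx Ν w : ℂ) ≠ 0 := by
      intro h
      have h' : relIdx Ν w = 0 := by exact_mod_cast h
      exact hd (h' ▸ dvd_zero p)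
    have h1 := helper80.memLocalRing_div_natCast hM
      (⟨(relIdx Ν w : ℂ) * (f w / f 1), hint w⟩ : AlgInt) hd
    have h2 : (relIdx Ν w : ℂ) * (f w / f 1) / (relIdx Ν w : ℂ) = f w / f 1 := by
      field_simp
    rw [← h2]
    exact h1
  · intro x w
    exact sum_clsF_ratio Ν hf hfΝ x w
  · intro w hd
    have hd' : ¬ p ∣ relIdx Ν w ^ Nat.card Γ := fun h => hd ((Fact.out : p.Prime).dvd_of_dvd_pow h)
    apply memLocalIdeal_of_natCast_mul hM hd'
    have h1 : ((relIdx Ν w ^ Nat.card Γ : ℕ) : ℂ) * ((f w / f 1) ^ Nat.card Γ - 1)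
        = ((relIdx Ν w : ℂ) * (f w / f 1)) ^ Nat.card Γ - (relIdx Ν w : ℂ) ^ Nat.card Γ := by
      push_cast
      ring
    rw [h1]
    exact hcong w

end RelChar

end Cfsg.Agent.Lib.helper4
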