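import Mathlib
import Cfsg.Agent.Lib.helper4.RelChar
import Cfsg.Agent.Lib.helper4.PRatStep

/-!
# Lifting a multiplicative residue function to a linear character (helper4 library)

Let `G = N · C` with `N` normal, and let `A` be a complex function which on `C` takes local
integer values, is multiplicative modulo the maximal ideal, is congruent to `1` on `C ∩ N` and has
`m`-th powers congruent to `1`.  Then there is a linear character `L` of `G`, trivial on `N`, with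
`L c · A c ≡ 1` for every `c ∈ C`.
-/

set_option autoImplicit false

namespace Cfsg.Agent.Lib.helper4

open Cfsg

universe u

variable {p : ℕ} [Fact p.Prime] {M : Ideal AlgInt}

theorem memLocalRing_of_pow_eq_one (hMp : M.IsPrime) {ζ : ℂ} {n : ℕ} (hn : 0 < n)
    (h : ζ ^ n = 1) : MemLocalRing M ζ := by
  have h1 : IsIntegral ℤ ζ := by
    apply IsIntegral.of_pow hn
    rw [h]
    exact isIntegral_one
  exact helper20.memLocalRing_of_algInt hMp ⟨ζ, h1⟩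

theorem exists_twist (hM : IsPModular p M) {G : Type u} [Group G] [Finite G]
    (N C : Subgroup G) [hN : N.Normal] (hcov : N ⊔ C = ⊤) (A : G → ℂ) (hA1 : A 1 = 1)
    (hloc : ∀ c ∈ C, MemLocalRing M (A c))
    (hmul : ∀ x ∈ C, ∀ y ∈ C, MemLocalIdeal M (A (x * y) - A x * A y))
    (hCN : ∀ c ∈ C, c ∈ N → MemLocalIdeal M (A c - 1))
    (m : ℕ) (hm : 0 < m) (hpow : ∀ c ∈ C, MemLocalIdeal M (A c ^ m - 1)) :
    ∃ L : G →* ℂˣ, (∀ n ∈ N, L n = 1) ∧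
      ∀ c ∈ C, MemLocalIdeal M (((L c : ℂˣ) : ℂ) * A c - 1) := by
  have hMp : M.IsPrime := hM.2.1.isPrime
  have hpp : p.Prime := Fact.out
  obtain ⟨a, m', hm', hmeq⟩ := Nat.exists_eq_pow_mul_and_not_dvd hm.ne' p hpp.ne_one
  have hm'pos : 0 < m' := by
    rcases Nat.eq_zero_or_pos m' with h | h
    · exact absurd (h ▸ dvd_zero p) hm'
    · exact h
  -- congruence of `A` on cosets of `C ∩ N`
  have hcong : ∀ c₁ ∈ C, ∀ c₂ ∈ C, c₁ * c₂⁻¹ ∈ N → MemLocalIdeal M (A c₁ - A c₂) := by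
    intro c₁ h₁ c₂ h₂ hd
    have hdC : c₁ * c₂⁻¹ ∈ C := C.mul_mem h₁ (C.inv_mem h₂)
    have h3 := hmul _ hdC _ h₂
    rw [inv_mul_cancel_right] at h3
    have h4 := hCN _ hdC hd
    have h5 : A c₁ - A c₂ = (A c₁ - A (c₁ * c₂⁻¹) * A c₂) + (A (c₁ * c₂⁻¹) - 1) * A c₂ := by
      ring
    rw [h5]
    exact helper20.memLocalIdeal_add hMp h3 (helper20.memLocalIdeal_mul_right hMp h4 (hloc _ h₂))
  -- roots of unity
  have hroot : ∀ c ∈ C, ∃ ζ : ℂ, ζ ^ m' = 1 ∧ MemLocalIdeal M (A c - ζ) := by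
    intro c hc
    have h1 : MemLocalIdeal M ((A c ^ m') ^ (p ^ a) - 1) := by
      rw [← pow_mul, mul_comm, ← hmeq]
      exact hpow c hc
    have h2 := memLocalIdeal_sub_one_of_pow_prime_pow hM (memLocalRing_npow hMp (hloc c hc) m') a h1
    exact exists_root_of_pow_sub_one hM (hloc c hc) hm'pos h2
  -- the relation
  have hE : ∀ g : G, ∃ ζ : ℂ, ζ ^ m' = 1 ∧ ∃ c ∈ C, g * c⁻¹ ∈ N ∧ MemLocalIdeal M (A c - ζ) := by
    intro g
    have h1 : g ∈ ((N ⊔ C : Subgroup G) : Set G) := by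
      rw [hcov]
      exact Subgroup.mem_top g
    rw [Subgroup.normal_mul] at h1
    obtain ⟨n, hn, c, hc, rfl⟩ := Set.mem_mul.mp h1
    obtain ⟨ζ, hζ, hζc⟩ := hroot c hc
    refine ⟨ζ, hζ, c, hc, ?_, hζc⟩
    rw [mul_inv_cancel_right]
    exact hn
  have hU : ∀ (g : G) (ζ₁ ζ₂ : ℂ),
      (ζ₁ ^ m' = 1 ∧ ∃ c ∈ C, g * c⁻¹ ∈ N ∧ MemLocalIdeal M (A c - ζ₁)) →
      (ζ₂ ^ m' = 1 ∧ ∃ c ∈ C, g * c⁻¹ ∈ N ∧ MemLocalIdeal M (A c - ζ₂)) → ζ₁ = ζ₂ := by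
    rintro g ζ₁ ζ₂ ⟨h₁, c₁, hc₁, hg₁, hA₁⟩ ⟨h₂, c₂, hc₂, hg₂, hA₂⟩
    have hd : c₁ * c₂⁻¹ ∈ N := by
      have h3 : c₁ * c₂⁻¹ = (g * c₁⁻¹)⁻¹ * (g * c₂⁻¹) := by group
      rw [h3]
      exact N.mul_mem (N.inv_mem hg₁) hg₂
    have h4 := hcong c₁ hc₁ c₂ hc₂ hd
    have h5 : MemLocalIdeal M (ζ₁ - ζ₂) := by
      have h6 : ζ₁ - ζ₂ = (A c₁ - A c₂) - (A c₁ - ζ₁) + (A c₂ - ζ₂) := by ring
      rw [h6]
      exact helper20.memLocalIdeal_add hMp (helper20.memLocalIdeal_sub hMp h4 hA₁) hA₂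
    have hζ₂0 : ζ₂ ≠ 0 := by
      rintro rfl
      rw [zero_pow hm'pos.ne'] at h₂
      exact zero_ne_one h₂
    have h7 : (ζ₁ * ζ₂⁻¹) ^ m' = 1 := by
      rw [mul_pow, inv_pow, h₁, h₂, inv_one, mul_one]
    have h8 : MemLocalIdeal M (ζ₁ * ζ₂⁻¹ - 1) := by
      have h9 : ζ₁ * ζ₂⁻¹ - 1 = (ζ₁ - ζ₂) * ζ₂⁻¹ := by
        field_simp
      rw [h9]
      exact helper20.memLocalIdeal_mul_right hMp h5
        (memLocalRing_of_pow_eq_one hMp hm'pos (by rw [inv_pow, h₂, inv_one]))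
    have h10 := eq_one_of_pow_eq_one_of_memLocalIdeal hM hm' h7 h8
    field_simp at h10
    exact h10
  choose μ hμ using hE
  have hμN : ∀ n ∈ N, μ n = 1 := by
    intro n hn
    apply hU n _ _ (hμ n)
    refine ⟨one_pow _, 1, C.one_mem, ?_, ?_⟩
    · rw [inv_one, mul_one]
      exact hn
    · rw [hA1, sub_self]
      exact helper20.memLocalIdeal_zero hMp
  have hμloc : ∀ g, MemLocalRing M (μ g) :=
    fun g => memLocalRing_of_pow_eq_one hMp hm'pos (hμ g).1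
  have hμmul : ∀ g₁ g₂ : G, μ (g₁ * g₂) = μ g₁ * μ g₂ := by
    intro g₁ g₂
    apply hU (g₁ * g₂) _ _ (hμ (g₁ * g₂))
    obtain ⟨h₁, c₁, hc₁, hg₁, hA₁⟩ := hμ g₁
    obtain ⟨h₂, c₂, hc₂, hg₂, hA₂⟩ := hμ g₂
    refine ⟨by rw [mul_pow, h₁, h₂, mul_one], c₁ * c₂, C.mul_mem hc₁ hc₂, ?_, ?_⟩
    · have h3 : g₁ * g₂ * (c₁ * c₂)⁻¹ = (g₁ * c₁⁻¹) * (c₁ * (g₂ * c₂⁻¹) * c₁⁻¹) := by group
      rw [h3]
      exact N.mul_mem hg₁ (hN.conj_mem _ hg₂ _)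
    · have h4 : A (c₁ * c₂) - μ g₁ * μ g₂
          = (A (c₁ * c₂) - A c₁ * A c₂) + (A c₁ - μ g₁) * A c₂ + μ g₁ * (A c₂ - μ g₂) := by ring
      rw [h4]
      exact helper20.memLocalIdeal_add hMp (helper20.memLocalIdeal_add hMp (hmul _ hc₁ _ hc₂)
        (helper20.memLocalIdeal_mul_right hMp hA₁ (hloc _ hc₂)))
        (helper20.memLocalIdeal_mul_left hMp (hμloc g₁) hA₂)
  have hμ0 : ∀ g, μ g ≠ 0 := by
    intro g h
    have h1 := (hμ g).1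
    rw [h, zero_pow hm'pos.ne'] at h1
    exact zero_ne_one h1
  let L₀ : G →* ℂ :=
    { toFun := fun g => (μ g)⁻¹
      map_one' := by
        show (μ 1)⁻¹ = 1
        rw [hμN 1 N.one_mem, inv_one]
      map_mul' := fun g₁ g₂ => by
        show (μ (g₁ * g₂))⁻¹ = (μ g₁)⁻¹ * (μ g₂)⁻¹
        rw [hμmul, mul_inv] }
  refine ⟨L₀.toHomUnits, ?_, ?_⟩
  · intro n hn
    apply Units.ext
    rw [MonoidHom.coe_toHomUnits]
    show (μ n)⁻¹ = ((1 : ℂˣ) : ℂ)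
    rw [hμN n hn, inv_one, Units.val_one]
  · intro c hc
    rw [MonoidHom.coe_toHomUnits]
    show MemLocalIdeal M ((μ c)⁻¹ * A c - 1)
    obtain ⟨h₁, c₁, hc₁, hg₁, hA₁⟩ := hμ c
    have h2 := hcong c hc c₁ hc₁ hg₁
    have h3 : (μ c)⁻¹ * A c - 1 = (μ c)⁻¹ * ((A c - A c₁) + (A c₁ - μ c)) := by
      have := hμ0 c
      field_simp
      ring
    rw [h3]
    exact helper20.memLocalIdeal_mul_left hMp
      (memLocalRing_of_pow_eq_one hMp hm'pos (by rw [inv_pow, h₁, inv_one]))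
      (helper20.memLocalIdeal_add hMp h2 hA₁)

end Cfsg.Agent.Lib.helper4
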