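import Mathlib

/-!
helper4: S2113 piece FLBC (`fl_bc`): a bi-additive pairing on a field of `3^(2m+1)` elements,
invariant under `(s, t) ↦ (ν φ(ν) s, ν² φ(ν) t)`, `φ ν = (ν ^ 3 ^ m) ^ 3`, is trivial.
[`ν = -1` gives `B s (-t) = B s t`, so `(B s t)² = 1`; and `(B s t)³ = B s (3 t) = 1`.]
-/

set_option autoImplicit false

namespace Cfsg.Agent.Lib.helper4.S2113

/-- PIECE FLBC. -/
theorem helper4_fl_bc {K : Type*} [Field K] [Fintype K] {m : ℕ} (hm : 1 ≤ m)
    (hK : Fintype.card K = 3 ^ (2 * m + 1)) {Γ : Type*} [Group Γ] (B : K → K → Γ)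
    (hl : ∀ s s' t, B (s + s') t = B s t * B s' t) (hr : ∀ s t t', B s (t + t') = B s t * B s t')
    (hinv : ∀ ν s t, ν ≠ 0 →
      B (ν * (ν ^ 3 ^ m) ^ 3 * s) (ν ^ 2 * (ν ^ 3 ^ m) ^ 3 * t) = B s t) :
    ∀ s t, B s t = 1 := by
  have h3 : (3 : K) = 0 := by
    have h1 := FiniteField.cast_card_eq_zero K
    rw [hK] at h1
    push_cast at h1
    exact (pow_eq_zero_iff (by omega)).1 h1
  intro s t
  have hB0 : B s 0 = 1 := by
    have h1 := hr s 0 0
    rw [add_zero] at h1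
    exact left_eq_mul.1 h1
  have hneg : B s (-t) = (B s t)⁻¹ := by
    have h1 := hr s t (-t)
    rw [add_neg_cancel, hB0] at h1
    exact (inv_eq_of_mul_eq_one_right h1.symm).symm
  have hodd : ((-1 : K) ^ 3 ^ m) = -1 := Odd.neg_one_pow (Odd.pow (by decide))
  have h1 := hinv (-1) s t (neg_ne_zero.2 one_ne_zero)
  rw [hodd] at h1
  have e1 : (-1 : K) * (-1) ^ 3 * s = s := by ring
  have e2 : (-1 : K) ^ 2 * (-1) ^ 3 * t = -t := by ring
  rw [e1, e2, hneg] at h1
  have h2 : B s t * B s t * B s t = 1 := by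
    rw [← hr, ← hr]
    have h5 : t + t + t = 0 := by
      have h6 : t + t + t = 3 * t := by ring
      rw [h6, h3, zero_mul]
    rw [h5, hB0]
  have h4 : B s t * B s t = 1 := by
    nth_rewrite 1 [← h1]
    exact inv_mul_cancel _
  rw [h4, one_mul] at h2
  exact h2

end Cfsg.Agent.Lib.helper4.S2113
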