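import Mathlib

/-!
# S2930 pieces B1 and B2 (helper4): fixed points and orbits of a 3-group of permutations
-/

set_option autoImplicit false
open Equiv Equiv.Perm

namespace Cfsg.Agent.Lib.helper4.S2930

/-- PIECE B1. -/
theorem exists_fixed (n : ℕ) (P : Subgroup (Perm (Fin n))) (hP : IsPGroup 3 P) :
    (n % 3 = 1 → ∃ α : Fin n, ∀ g ∈ P, g α = α) ∧
    (n % 3 = 2 → ∃ α β : Fin n, α ≠ β ∧ (∀ g ∈ P, g α = α) ∧ (∀ g ∈ P, g β = β)) := by
  classical
  haveI : Fact (Nat.Prime 3) := ⟨by norm_num⟩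
  have hmod := hP.card_modEq_card_fixedPoints (Fin n)
  rw [Nat.card_eq_fintype_card, Fintype.card_fin] at hmod
  have hfix : ∀ α : Fin n, α ∈ MulAction.fixedPoints (↥P) (Fin n) → ∀ g ∈ P, g α = α := by
    intro α hα g hg
    exact hα ⟨g, hg⟩
  constructor
  · intro h1
    have hpos : 0 < Nat.card (MulAction.fixedPoints (↥P) (Fin n)) := by
      rcases Nat.eq_zero_or_pos (Nat.card (MulAction.fixedPoints (↥P) (Fin n))) with h0 | h0
      · rw [h0] at hmod
        have := hmod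
        unfold Nat.ModEq at this
        omega
      · exact h0
    obtain ⟨⟨α, hα⟩⟩ := (Nat.card_pos_iff.mp hpos).1
    exact ⟨α, hfix α hα⟩
  · intro h2
    have hgt : 1 < Nat.card (MulAction.fixedPoints (↥P) (Fin n)) := by
      by_contra hle
      have hle' : Nat.card (MulAction.fixedPoints (↥P) (Fin n)) ≤ 1 := not_lt.mp hle
      have := hmod
      unfold Nat.ModEq at this
      omega
    haveI : Finite (MulAction.fixedPoints (↥P) (Fin n)) := Finite.of_injective _ Subtype.val_injective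
    obtain ⟨⟨α, hα⟩, ⟨β, hβ⟩, hne⟩ := (Finite.one_lt_card_iff_nontrivial.mp hgt).exists_pair_ne
    refine ⟨α, β, ?_, hfix α hα, hfix β hβ⟩
    intro h
    exact hne (Subtype.ext h)

/-- PIECE B2. -/
theorem card_pow_of_transitive (n : ℕ) (P : Subgroup (Perm (Fin n))) (hP : IsPGroup 3 P)
    (s : Finset (Fin n)) (x : Fin n) (hx : x ∈ s)
    (htr : ∀ y ∈ s, ∃ g ∈ P, g x = y) (hinv : ∀ g ∈ P, g x ∈ s) : ∃ a : ℕ, s.card = 3 ^ a := by
  classical
  haveI : Fact (Nat.Prime 3) := ⟨by norm_num⟩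
  obtain ⟨a, ha⟩ := hP.card_orbit x
  refine ⟨a, ?_⟩
  rw [← ha]
  have hset : (s : Set (Fin n)) = MulAction.orbit (↥P) x := by
    ext y
    constructor
    · intro hy
      obtain ⟨g, hg, hgy⟩ := htr y hy
      exact ⟨⟨g, hg⟩, hgy⟩
    · rintro ⟨⟨g, hg⟩, hgy⟩
      have : g x = y := hgy
      rw [← this]
      exact hinv g hg
  rw [← hset]
  simp

end Cfsg.Agent.Lib.helper4.S2930
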