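import Mathlib

/-!
# S3174 pieces EL and IDX (helper4)
-/

set_option autoImplicit false

namespace Cfsg.Agent.Lib.helper4.S3174

open scoped commutatorElement

/-- EL -/
theorem sq_eq_one_of_comm {T : Type*} [Group T] (W Z3 : Subgroup T) (hZ : ⁅W, W⁆ = Z3)
    (hcen : ∀ w ∈ W, ∀ z ∈ Z3, w * z = z * w) (hsq : ∀ x ∈ W, x ^ 2 ∈ Z3) : ∀ z ∈ Z3, z ^ 2 = 1 := by
  have hZW : Z3 ≤ W := by
    rw [← hZ, Subgroup.commutator_le]
    intro g₁ h₁ g₂ h₂
    rw [commutatorElement_def]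
    exact W.mul_mem (W.mul_mem (W.mul_mem h₁ h₂) (W.inv_mem h₁)) (W.inv_mem h₂)
  intro z hz
  rw [← hZ, Subgroup.commutator_def] at hz
  induction hz using Subgroup.closure_induction with
  | mem c hc =>
    obtain ⟨x, hx, y, hy, rfl⟩ := hc
    have hcZ : ⁅x, y⁆ ∈ Z3 := by
      rw [← hZ]
      exact Subgroup.commutator_mem_commutator hx hy
    -- `c` commutes with `x`, and `x²` commutes with `y`
    have h1 : x * ⁅x, y⁆ = ⁅x, y⁆ * x := hcen x hx _ hcZ
    have h2 : y * x ^ 2 = x ^ 2 * y := hcen y hy _ (hsq x hx)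
    have h3 : ⁅x, y⁆ ^ 2 = x * ⁅x, y⁆ * x⁻¹ * ⁅x, y⁆ := by
      rw [h1, pow_two]
      group
    have h4 : x * ⁅x, y⁆ * x⁻¹ * ⁅x, y⁆ = x ^ 2 * y * (x ^ 2)⁻¹ * y⁻¹ := by
      rw [commutatorElement_def, pow_two]
      group
    rw [h3, h4, ← h2]
    group
  | one => simp
  | mul a b ha hb iha ihb =>
    have haZ : a ∈ Z3 := by
      rw [← hZ, Subgroup.commutator_def]; exact ha
    have hbZ : b ∈ Z3 := by
      rw [← hZ, Subgroup.commutator_def]; exact hb
    have hab : Commute a b := hcen a (hZW haZ) b hbZ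
    rw [hab.mul_pow, iha, ihb, one_mul]
  | inv a ha iha =>
    rw [inv_pow, iha, inv_one]

/-- If `A ≤ B` has index two and `v ∈ B ∖ A`, then every element of `B` lies in `A` or in `A v`. -/
theorem mem_or_mul_inv_mem {G : Type*} [Group G] [Finite G] (A B : Subgroup G) (hAB : A ≤ B)
    (hcard : Nat.card B = 2 * Nat.card A) (v : G) (hvB : v ∈ B) (hvA : v ∉ A) :
    ∀ z ∈ B, z ∈ A ∨ z * v⁻¹ ∈ A := by
  have hidx : (A.subgroupOf B).index = 2 := by
    have h1 := Subgroup.card_mul_index (A.subgroupOf B)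
    rw [Nat.card_congr (Subgroup.subgroupOfEquivOfLe hAB).toEquiv, hcard] at h1
    have hpos : 0 < Nat.card A := Nat.card_pos
    have : Nat.card A * (A.subgroupOf B).index = Nat.card A * 2 := by rw [h1]; ring
    exact Nat.eq_of_mul_eq_mul_left hpos this
  intro z hz
  by_cases hzA : z ∈ A
  · exact Or.inl hzA
  · right
    have h2 := Subgroup.mul_mem_iff_of_index_two hidx (a := (⟨z, hz⟩ : B))
      (b := (⟨v, hvB⟩ : B)⁻¹)
    have h3 : ((⟨z, hz⟩ : B) ∈ A.subgroupOf B ↔ (⟨v, hvB⟩ : B)⁻¹ ∈ A.subgroupOf B) := by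
      constructor
      · intro h
        exact absurd (Subgroup.mem_subgroupOf.mp h) hzA
      · intro h
        have : (⟨v, hvB⟩ : B) ∈ A.subgroupOf B := by
          have := inv_mem h
          rwa [inv_inv] at this
        exact absurd (Subgroup.mem_subgroupOf.mp this) hvA
    have h4 := h2.mpr h3
    exact Subgroup.mem_subgroupOf.mp h4

/-- The index of a subgroup is bounded by the size of a set onto whose fibres it refines. -/
theorem index_le_of_map {T S : Type*} [Group T] [Finite S] (K : Subgroup T) (f : T → S)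
    (h : ∀ a b, f a = f b → a⁻¹ * b ∈ K) : K.index ≤ Nat.card S := by
  have hinj : Function.Injective (fun q : T ⧸ K => f (Quotient.out q)) := by
    intro q q' hq
    have h1 := h _ _ hq
    have h2 : (QuotientGroup.mk (Quotient.out q) : T ⧸ K) = QuotientGroup.mk (Quotient.out q') :=
      QuotientGroup.eq.mpr h1
    rw [QuotientGroup.out_eq', QuotientGroup.out_eq'] at h2
    exact h2
  exact Nat.card_le_card_of_injective _ hinj

/-- IDX -/
theorem index_centralizer_le {T : Type*} [Group T] [Finite T] (hT : IsPGroup 2 T)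
    (h1 : Nat.card ↥(Subgroup.upperCentralSeries T 1) = 2) (h2 : Nat.card ↥(Subgroup.upperCentralSeries T 2) = 4)
    (h3 : Nat.card ↥(Subgroup.upperCentralSeries T 3) = 8) :
    (Subgroup.centralizer ((Subgroup.upperCentralSeries T 3 : Subgroup T) : Set T)).index ≤ 8 := by
  classical
  set Z1 := Subgroup.upperCentralSeries T 1 with hZ1
  set Z2 := Subgroup.upperCentralSeries T 2 with hZ2
  set Z3 := Subgroup.upperCentralSeries T 3 with hZ3
  have h12 : Z1 ≤ Z2 := Subgroup.upperCentralSeries_mono T (by norm_num)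
  have h23 : Z2 ≤ Z3 := Subgroup.upperCentralSeries_mono T (by norm_num)
  have hcen : ∀ z ∈ Z1, ∀ τ : T, τ * z = z * τ := by
    intro z hz τ
    rw [hZ1, Subgroup.upperCentralSeries_one] at hz
    exact Subgroup.mem_center_iff.mp hz τ
  have hc2 : ∀ z ∈ Z2, ∀ τ : T, τ * z * τ⁻¹ * z⁻¹ ∈ Z1 := by
    intro z hz τ
    have := (Subgroup.mem_upperCentralSeries_succ_iff (n := 1)).mp hz τ
    have h' := inv_mem this
    rw [commutatorElement_def] at h'
    have e : (z * τ * z⁻¹ * τ⁻¹)⁻¹ = τ * z * τ⁻¹ * z⁻¹ := by group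
    rwa [e] at h'
  have hc3 : ∀ z ∈ Z3, ∀ τ : T, τ * z * τ⁻¹ * z⁻¹ ∈ Z2 := by
    intro z hz τ
    have := (Subgroup.mem_upperCentralSeries_succ_iff (n := 2)).mp hz τ
    have h' := inv_mem this
    rw [commutatorElement_def] at h'
    have e : (z * τ * z⁻¹ * τ⁻¹)⁻¹ = τ * z * τ⁻¹ * z⁻¹ := by group
    rwa [e] at h'
  -- elements outside
  have hlt12 : Z1 < Z2 := lt_of_le_of_ne h12 (fun h => by rw [h] at h1; omega)
  have hlt23 : Z2 < Z3 := lt_of_le_of_ne h23 (fun h => by rw [h] at h2; omega)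
  obtain ⟨z2, hz2, hz2'⟩ := SetLike.exists_of_lt hlt12
  obtain ⟨z3, hz3, hz3'⟩ := SetLike.exists_of_lt hlt23
  have hgen2 := mem_or_mul_inv_mem Z1 Z2 h12 (by rw [h2, h1]) z2 hz2 hz2'
  have hgen3 := mem_or_mul_inv_mem Z2 Z3 h23 (by rw [h3, h2]) z3 hz3 hz3'
  -- the map
  let f : T → Z1 × Z2 := fun τ => (⟨τ * z2 * τ⁻¹ * z2⁻¹, hc2 z2 hz2 τ⟩, ⟨τ * z3 * τ⁻¹ * z3⁻¹, hc3 z3 hz3 τ⟩)
  have hcard : Nat.card (Z1 × Z2) = 8 := by
    rw [Nat.card_prod, h1, h2]
  rw [← hcard]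
  apply index_le_of_map _ f
  intro a b hab
  have ha2 : a * z2 * a⁻¹ * z2⁻¹ = b * z2 * b⁻¹ * z2⁻¹ := by
    have := congrArg (fun p : Z1 × Z2 => (p.1 : T)) hab
    exact this
  have ha3 : a * z3 * a⁻¹ * z3⁻¹ = b * z3 * b⁻¹ * z3⁻¹ := by
    have := congrArg (fun p : Z1 × Z2 => (p.2 : T)) hab
    exact this
  obtain ⟨c, hc⟩ : ∃ c : T, c = a⁻¹ * b := ⟨_, rfl⟩
  have hcz2 : c * z2 = z2 * c := by
    have h' : a * z2 * a⁻¹ = b * z2 * b⁻¹ := mul_right_cancel ha2
    have : c * z2 * c⁻¹ = z2 := by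
      rw [hc]
      have e : a⁻¹ * b * z2 * (a⁻¹ * b)⁻¹ = a⁻¹ * (b * z2 * b⁻¹) * a := by group
      rw [e, ← h']
      group
    calc c * z2 = c * z2 * c⁻¹ * c := by group
      _ = z2 * c := by rw [this]
  have hcz3 : c * z3 = z3 * c := by
    have h' : a * z3 * a⁻¹ = b * z3 * b⁻¹ := mul_right_cancel ha3
    have : c * z3 * c⁻¹ = z3 := by
      rw [hc]
      have e : a⁻¹ * b * z3 * (a⁻¹ * b)⁻¹ = a⁻¹ * (b * z3 * b⁻¹) * a := by group
      rw [e, ← h']
      group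
    calc c * z3 = c * z3 * c⁻¹ * c := by group
      _ = z3 * c := by rw [this]
  have hcZ2 : ∀ z ∈ Z2, c * z = z * c := by
    intro z hz
    rcases hgen2 z hz with h | h
    · exact hcen z h c
    · have e : z = (z * z2⁻¹) * z2 := by group
      rw [e]
      calc c * (z * z2⁻¹ * z2) = (c * (z * z2⁻¹)) * z2 := (mul_assoc _ _ _).symm
        _ = ((z * z2⁻¹) * c) * z2 := by rw [hcen _ h c]
        _ = (z * z2⁻¹) * (c * z2) := mul_assoc _ _ _
        _ = (z * z2⁻¹) * (z2 * c) := by rw [hcz2]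
        _ = z * z2⁻¹ * z2 * c := (mul_assoc _ _ _).symm
  have hcZ3 : ∀ z ∈ Z3, c * z = z * c := by
    intro z hz
    rcases hgen3 z hz with h | h
    · exact hcZ2 z h
    · have e : z = (z * z3⁻¹) * z3 := by group
      rw [e]
      calc c * (z * z3⁻¹ * z3) = (c * (z * z3⁻¹)) * z3 := (mul_assoc _ _ _).symm
        _ = ((z * z3⁻¹) * c) * z3 := by rw [hcZ2 _ h]
        _ = (z * z3⁻¹) * (c * z3) := mul_assoc _ _ _
        _ = (z * z3⁻¹) * (z3 * c) := by rw [hcz3]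
        _ = z * z3⁻¹ * z3 * c := (mul_assoc _ _ _).symm
  rw [← hc, Subgroup.mem_centralizer_iff]
  intro z hz
  exact (hcZ3 z hz).symm

end Cfsg.Agent.Lib.helper4.S3174
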