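import Mathlib
import Cfsg.Agent.Lib.helper39.S3174FP
import Cfsg.Agent.Lib.helper4.S3174EL

/-!
# S3174 piece CEN (helper4)
-/

set_option autoImplicit false

namespace Cfsg.Agent.Lib.helper4.S3174

/-- CEN -/
theorem z4_le_of_lt {T : Type*} [Group T] [Finite T] (hT : IsPGroup 2 T) (Z3 Z4 M : Subgroup T) [Z3.Normal] [M.Normal]
    (hlt : Z3 < M) (hZ4 : Nat.card ↥Z4 = 2 * Nat.card ↥Z3) (hZ34 : Z3 ≤ Z4)
    (hfix : ∀ v : T, (∀ τ : T, v * τ * v⁻¹ * τ⁻¹ ∈ Z3) → v ∈ Z4) : Z4 ≤ M := by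
  obtain ⟨v, hvM, hvZ3, hv⟩ := Cfsg.Agent.Lib.helper39.S3174.exists_fixed_mod hT Z3 M hlt
  have hvZ4 : v ∈ Z4 := hfix v hv
  have hgen := mem_or_mul_inv_mem Z3 Z4 hZ34 hZ4 v hvZ4 hvZ3
  intro z hz
  rcases hgen z hz with h | h
  · exact hlt.le h
  · have e : z = (z * v⁻¹) * v := by group
    rw [e]
    exact M.mul_mem (hlt.le h) hvM

end Cfsg.Agent.Lib.helper4.S3174
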