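import Mathlib

/-!
# S3174 piece DIH (helper4): a group of order 8 generated by two involutions whose product is
not an involution is dihedral
-/

set_option autoImplicit false

namespace Cfsg.Agent.Lib.helper4.S3174

/-- DIH -/
theorem dihedral_of_card_eight {P : Type*} [Group P] [Finite P] (hP : Nat.card P = 8) (x y : P)
    (hx : x ^ 2 = 1) (hy : y ^ 2 = 1) (hxy : (x * y) ^ 2 ≠ 1) : Nonempty (P ≃* DihedralGroup 4) := by
  classical
  set ρ : P := x * y with hρ
  have hxinv : x⁻¹ = x := by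
    rw [inv_eq_iff_mul_eq_one, ← pow_two, hx]
  have hyinv : y⁻¹ = y := by
    rw [inv_eq_iff_mul_eq_one, ← pow_two, hy]
  have hxx : x * x = 1 := by rw [← pow_two, hx]
  -- `x` inverts `ρ`
  have hconj : x * ρ * x⁻¹ = ρ⁻¹ := by
    rw [hρ, mul_inv_rev, hxinv, hyinv, ← mul_assoc, hxx, one_mul]
  have hconjpow : ∀ k : ℕ, x * ρ ^ k * x⁻¹ = (ρ ^ k)⁻¹ := by
    intro k
    rw [← conj_pow, hconj, inv_pow]
  -- `ρ ^ k * x = x * (ρ ^ k)⁻¹`
  have hswap : ∀ k : ℕ, ρ ^ k * x = x * (ρ ^ k)⁻¹ := by
    intro k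
    have h := hconjpow k
    rw [hxinv] at h
    -- x * ρ^k * x = (ρ^k)⁻¹
    have h2 : ρ ^ k * x = x * (x * ρ ^ k * x) := by
      rw [← mul_assoc, ← mul_assoc, hxx, one_mul]
    rw [h2, h]
  -- `x` does not commute with `ρ`
  have hncomm : x * ρ ≠ ρ * x := by
    intro hcomm
    have : ρ⁻¹ = ρ := by
      rw [← hconj, hcomm, mul_assoc, mul_inv_cancel, mul_one]
    apply hxy
    rw [pow_two]
    nth_rewrite 1 [← this]
    exact inv_mul_cancel ρ
  have hxnot : ∀ k : ℕ, x ≠ ρ ^ k := by
    intro k hk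
    apply hncomm
    rw [hk, ← pow_succ, ← pow_succ']
  -- order of `ρ`
  have hord8 : orderOf ρ ∣ 8 := hP ▸ orderOf_dvd_natCard ρ
  have hne8 : orderOf ρ ≠ 8 := by
    intro h8
    have htop : Subgroup.zpowers ρ = ⊤ := by
      apply Subgroup.eq_top_of_card_eq
      rw [Nat.card_zpowers, h8, hP]
    have hxmem : x ∈ Subgroup.zpowers ρ := by rw [htop]; exact Subgroup.mem_top x
    obtain ⟨k, hk⟩ := Subgroup.mem_zpowers_iff.mp hxmem
    apply hncomm
    rw [← hk]
    exact ((Commute.refl ρ).zpow_left k).eq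
  have hord : orderOf ρ = 4 := by
    have h2 : ¬ orderOf ρ ∣ 2 := fun h => hxy (orderOf_dvd_iff_pow_eq_one.mp h)
    have hle : orderOf ρ ≤ 8 := Nat.le_of_dvd (by norm_num) hord8
    have hpos : 0 < orderOf ρ := orderOf_pos ρ
    interval_cases h : orderOf ρ <;> simp_all
  have hρ4 : ρ ^ 4 = 1 := by rw [← hord, pow_orderOf_eq_one]
  -- the map
  let g : ZMod 4 → P := fun i => ρ ^ i.val
  have hgadd : ∀ i j : ZMod 4, g (i + j) = g i * g j := by
    intro i j
    show ρ ^ (i + j).val = ρ ^ i.val * ρ ^ j.val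
    rw [ZMod.val_add, ← pow_add]
    have := pow_mod_orderOf ρ (i.val + j.val)
    rw [hord] at this
    exact this
  have hg0 : g 0 = 1 := by
    show ρ ^ (0 : ZMod 4).val = 1
    rw [ZMod.val_zero, pow_zero]
  have hgsub : ∀ i j : ZMod 4, g (j - i) = (g i)⁻¹ * g j := by
    intro i j
    have h := hgadd i (j - i)
    rw [add_sub_cancel] at h
    rw [h, ← mul_assoc, inv_mul_cancel, one_mul]
  have hgcomm : ∀ i j : ZMod 4, g i * g j = g j * g i := by
    intro i j
    rw [← hgadd, ← hgadd, add_comm]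
  have hgx : ∀ i : ZMod 4, g i * x = x * (g i)⁻¹ := fun i => hswap i.val
  let f : DihedralGroup 4 → P := fun a =>
    match a with
    | DihedralGroup.r i => g i
    | DihedralGroup.sr i => x * g i
  have hmul : ∀ a b : DihedralGroup 4, f (a * b) = f a * f b := by
    intro a b
    rcases a with i | i <;> rcases b with j | j
    · show g (i + j) = g i * g j
      exact hgadd i j
    · show x * g (j - i) = g i * (x * g j)
      rw [hgsub, ← mul_assoc (g i), hgx, mul_assoc]
    · show x * g (i + j) = x * g i * g j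
      rw [hgadd, mul_assoc]
    · show g (j - i) = x * g i * (x * g j)
      have e : x * g i * (x * g j) = x * (g i * x) * g j := by group
      rw [hgsub, e, hgx, ← mul_assoc x x, hxx, one_mul]
  let F : DihedralGroup 4 →* P := MonoidHom.mk' f hmul
  have hinj : Function.Injective F := by
    rw [injective_iff_map_eq_one]
    intro a ha
    rcases a with i | i
    · have h1 : ρ ^ i.val = 1 := ha
      have h2 : 4 ∣ i.val := by
        have := orderOf_dvd_of_pow_eq_one h1
        rwa [hord] at this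
      have h3 : i.val < 4 := ZMod.val_lt i
      have h4 : i.val = 0 := by omega
      have h5 : i = 0 := (ZMod.val_eq_zero i).mp h4
      rw [h5]
      rfl
    · exfalso
      have h1 : x * ρ ^ i.val = 1 := ha
      have h2 : x = (ρ ^ i.val)⁻¹ := eq_inv_of_mul_eq_one_left h1
      -- `(ρ^k)⁻¹ = ρ^(4 - k)`-ish: use `ρ ^ (3 * k)`
      have h3 : (ρ ^ i.val)⁻¹ = ρ ^ (3 * i.val) := by
        rw [inv_eq_iff_mul_eq_one, ← pow_add]
        have : i.val + 3 * i.val = 4 * i.val := by ring
        rw [this, pow_mul, hρ4, one_pow]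
      exact hxnot _ (h2.trans h3)
  have hbij : Function.Bijective F := by
    apply hinj.bijective_of_nat_card_le
    rw [hP, DihedralGroup.nat_card]
  exact ⟨(MulEquiv.ofBijective F hbij).symm⟩

end Cfsg.Agent.Lib.helper4.S3174
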