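import Mathlib

/-!
# S3626 piece C1 (helper4): powers of affine maps `f X = L X + B` on an additive group
-/

set_option autoImplicit false

namespace Cfsg.Agent.Lib.helper4.Cube

/-- Powers of an affine map are affine with linear part the iterate of the linear part. -/
theorem aff_pow_apply {V : Type*} [AddCommGroup V]
    (f : Equiv.Perm V) (L : V → V) (hL : ∀ X Y, L (X + Y) = L X + L Y) (B : V)
    (hf : ∀ X, f X = L X + B) (j : ℕ) (X : V) : (f ^ j) X = L^[j] X + (f ^ j) 0 := by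
  induction j with
  | zero => simp
  | succ j ih =>
    rw [pow_succ', Equiv.Perm.mul_apply, Equiv.Perm.mul_apply, hf, ih, hL, hf ((f ^ j) 0),
      Function.iterate_succ_apply', add_assoc]

theorem aff_pow_three_mul {V : Type*} [AddCommGroup V] (h3 : ∀ X : V, X + X + X = 0)
    (f : Equiv.Perm V) (L : V → V) (hL : ∀ X Y, L (X + Y) = L X + L Y) (B : V)
    (hf : ∀ X, f X = L X + B) (n : ℕ) (hn : ∀ X, L^[n] X = X) : f ^ (3 * n) = 1 := by
  have h1 : ∀ X, (f ^ n) X = X + (f ^ n) 0 := by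
    intro X
    rw [aff_pow_apply f L hL B hf n X, hn]
  rw [mul_comm, pow_mul]
  ext X
  rw [pow_succ, pow_succ, pow_one, Equiv.Perm.mul_apply, Equiv.Perm.mul_apply, h1 X,
    h1 (X + (f ^ n) 0), h1 (X + (f ^ n) 0 + (f ^ n) 0), Equiv.Perm.one_apply]
  have := h3 ((f ^ n) 0)
  rw [add_assoc, add_assoc, ← add_assoc ((f ^ n) 0), this, add_zero]

theorem aff_pow_of_no_fix {V : Type*} [AddCommGroup V]
    (f : Equiv.Perm V) (L : V → V) (hL : ∀ X Y, L (X + Y) = L X + L Y) (B : V)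
    (hf : ∀ X, f X = L X + B) (n : ℕ) (hn : ∀ X, L^[n] X = X) (hfix : ∀ X, L X = X → X = 0) :
    f ^ n = 1 := by
  have h1 : ∀ X, (f ^ n) X = X + (f ^ n) 0 := by
    intro X
    rw [aff_pow_apply f L hL B hf n X, hn]
  have hcomm : f ((f ^ n) 0) = (f ^ n) (f 0) := by
    rw [← Equiv.Perm.mul_apply, ← Equiv.Perm.mul_apply, ← pow_succ', ← pow_succ]
  have hC : L ((f ^ n) 0) = (f ^ n) 0 := by
    rw [hf, h1 (f 0), hf 0] at hcomm
    have hL0 : L 0 = 0 := by
      have := hL 0 0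
      rw [add_zero] at this
      exact left_eq_add.mp this
    rw [hL0, zero_add] at hcomm
    rw [add_comm B] at hcomm
    exact add_right_cancel hcomm
  have hC0 : (f ^ n) 0 = 0 := hfix _ hC
  ext X
  rw [h1 X, hC0, add_zero, Equiv.Perm.one_apply]

theorem aff_pow_six {V : Type*} [AddCommGroup V]
    (f : Equiv.Perm V) (L : V → V) (hL : ∀ X Y, L (X + Y) = L X + L Y) (B : V)
    (hf : ∀ X, f X = L X + B) (hn : ∀ X, L^[3] X = -X) : f ^ 6 = 1 := by
  have h1 : ∀ X, (f ^ 3) X = -X + (f ^ 3) 0 := by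
    intro X
    rw [aff_pow_apply f L hL B hf 3 X, hn]
  have h6 : f ^ 6 = f ^ 3 * f ^ 3 := by rw [← pow_add]
  rw [h6]
  ext X
  rw [Equiv.Perm.mul_apply, h1 ((f ^ 3) X), h1 X, Equiv.Perm.one_apply]
  abel

end Cfsg.Agent.Lib.helper4.Cube
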