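import Mathlib

/-!
# S3626 piece C2 (helper4): elements of `SL₂(3^j)` whose trace is not `±1`
-/

set_option autoImplicit false

namespace Cfsg.Agent.Lib.helper4.Cube

theorem charP_three_of_expChar {K : Type*} [Field K] [ExpChar K 3] : CharP K 3 := by
  rcases ‹ExpChar K 3› with _ | ⟨hprime⟩
  assumption

theorem sl2_pow_card {K : Type*} [Field K] [Fintype K] [ExpChar K 3] {j : ℕ}
    (hK : Fintype.card K = 3 ^ j) (g : Matrix.SpecialLinearGroup (Fin 2) K)
    (ht : (Matrix.trace (g : Matrix (Fin 2) (Fin 2) K)) ^ 2 ≠ 1) :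
    g ^ (3 ^ j - 1) = 1 ∨ g ^ (3 ^ j + 1) = 1 := by
  classical
  haveI : CharP K 3 := charP_three_of_expChar
  have h3 : (3 : K) = 0 := by
    have := CharP.cast_eq_zero K 3
    exact_mod_cast this
  set A : Matrix (Fin 2) (Fin 2) K := (g : Matrix (Fin 2) (Fin 2) K) with hA
  set t : K := Matrix.trace A with htdef
  have htr : t = A 0 0 + A 1 1 := by rw [htdef, Matrix.trace_fin_two]
  have hdet : A 0 0 * A 1 1 - A 0 1 * A 1 0 = 1 := by
    have := g.det_coe
    rw [Matrix.det_fin_two] at this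
    exact this
  -- `δ = A + t`, `δ² = (t² - 1)`
  set δ : Matrix (Fin 2) (Fin 2) K := A + t • (1 : Matrix (Fin 2) (Fin 2) K) with hδ
  set Δ : K := t ^ 2 - 1 with hΔ
  have hΔ0 : Δ ≠ 0 := fun h => ht (sub_eq_zero.mp h)
  have hδ2 : δ * δ = Δ • (1 : Matrix (Fin 2) (Fin 2) K) := by
    ext i j
    fin_cases i <;> fin_cases j
    · simp only [hδ, hΔ, Matrix.mul_apply, Fin.sum_univ_two, Matrix.add_apply, Matrix.smul_apply,
        Matrix.one_apply_eq, smul_eq_mul, htr, Fin.zero_eta, Fin.mk_one, ne_eq, one_ne_zero,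
        not_false_eq_true, zero_ne_one, Matrix.one_apply_ne, mul_zero, mul_one, add_zero]
      linear_combination (A 0 0 ^ 2 + A 0 0 * A 1 1) * h3 - hdet
    · simp only [hδ, hΔ, Matrix.mul_apply, Fin.sum_univ_two, Matrix.add_apply, Matrix.smul_apply,
        Matrix.one_apply_eq, smul_eq_mul, htr, Fin.zero_eta, Fin.mk_one, ne_eq, one_ne_zero,
        not_false_eq_true, zero_ne_one, Matrix.one_apply_ne, mul_zero, mul_one, add_zero]
      linear_combination (A 0 1 * (A 0 0 + A 1 1)) * h3
    · simp only [hδ, hΔ, Matrix.mul_apply, Fin.sum_univ_two, Matrix.add_apply, Matrix.smul_apply,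
        Matrix.one_apply_eq, smul_eq_mul, htr, Fin.zero_eta, Fin.mk_one, ne_eq, one_ne_zero,
        not_false_eq_true, zero_ne_one, Matrix.one_apply_ne, mul_zero, mul_one, add_zero]
      linear_combination (A 1 0 * (A 0 0 + A 1 1)) * h3
    · simp only [hδ, hΔ, Matrix.mul_apply, Fin.sum_univ_two, Matrix.add_apply, Matrix.smul_apply,
        Matrix.one_apply_eq, smul_eq_mul, htr, Fin.zero_eta, Fin.mk_one, ne_eq, one_ne_zero,
        not_false_eq_true, zero_ne_one, Matrix.one_apply_ne, mul_zero, mul_one, add_zero]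
      linear_combination (A 1 1 ^ 2 + A 0 0 * A 1 1) * h3 - hdet
  -- `A * (t - A) = 1`
  have hinv : A * (t • (1 : Matrix (Fin 2) (Fin 2) K) - A) = 1 := by
    ext i j
    fin_cases i <;> fin_cases j
    · simp only [Matrix.mul_apply, Fin.sum_univ_two, Matrix.sub_apply, Matrix.smul_apply,
        Matrix.one_apply_eq, smul_eq_mul, htr, Fin.zero_eta, Fin.mk_one, ne_eq, one_ne_zero,
        not_false_eq_true, zero_ne_one, Matrix.one_apply_ne, mul_zero, mul_one, add_zero]
      linear_combination hdet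
    · simp only [Matrix.mul_apply, Fin.sum_univ_two, Matrix.sub_apply, Matrix.smul_apply,
        Matrix.one_apply_eq, smul_eq_mul, htr, Fin.zero_eta, Fin.mk_one, ne_eq, one_ne_zero,
        not_false_eq_true, zero_ne_one, Matrix.one_apply_ne, mul_zero, mul_one, add_zero]
      ring
    · simp only [Matrix.mul_apply, Fin.sum_univ_two, Matrix.sub_apply, Matrix.smul_apply,
        Matrix.one_apply_eq, smul_eq_mul, htr, Fin.zero_eta, Fin.mk_one, ne_eq, one_ne_zero,
        not_false_eq_true, zero_ne_one, Matrix.one_apply_ne, mul_zero, mul_one, add_zero]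
      ring
    · simp only [Matrix.mul_apply, Fin.sum_univ_two, Matrix.sub_apply, Matrix.smul_apply,
        Matrix.one_apply_eq, smul_eq_mul, htr, Fin.zero_eta, Fin.mk_one, ne_eq, one_ne_zero,
        not_false_eq_true, zero_ne_one, Matrix.one_apply_ne, mul_zero, mul_one, add_zero]
      linear_combination hdet
  -- `q = 2 m + 1`
  set q : ℕ := 3 ^ j with hq
  set m : ℕ := q / 2 with hm
  have hqodd : q = 2 * m + 1 := by
    have h1 : q % 2 = 1 := Nat.odd_iff.mp (Odd.pow (by decide))
    omega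
  -- `δ ^ q = ± δ`
  have hδq : δ ^ q = δ ∨ δ ^ q = -δ := by
    have hpow : δ ^ q = (Δ ^ m) • δ := by
      rw [hqodd, pow_succ, pow_mul, pow_two, hδ2, smul_pow, one_pow, smul_mul_assoc, one_mul]
    have hdich := FiniteField.pow_dichotomy (F := K) (by rw [ringChar.eq K 3]; decide) hΔ0
    rw [hK, ← hm] at hdich
    rcases hdich with h | h
    · left; rw [hpow, h, one_smul]
    · right; rw [hpow, h, neg_smul, one_smul]
  -- Frobenius: `δ ^ q = A ^ q + t`
  have hfrob : δ ^ q = A ^ q + t • (1 : Matrix (Fin 2) (Fin 2) K) := by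
    haveI : ExpChar (Matrix (Fin 2) (Fin 2) K) 3 := ExpChar.prime (by norm_num)
    have hc : Commute A (t • (1 : Matrix (Fin 2) (Fin 2) K)) := by
      rw [Commute, SemiconjBy, Matrix.mul_smul, Matrix.smul_mul, Matrix.mul_one, Matrix.one_mul]
    rw [hδ, hq, add_pow_expChar_pow_of_commute 3 j hc, smul_pow, one_pow]
    congr 2
    rw [← hq, ← hK, FiniteField.pow_card]
  -- conclusion
  have hAq : A ^ q = (↑(g ^ q) : Matrix (Fin 2) (Fin 2) K) := by
    rw [Matrix.SpecialLinearGroup.coe_pow]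
  have hq1 : 1 ≤ q := by omega
  rcases hδq with h | h
  · left
    have h1 : A ^ q = A := by
      rw [hfrob] at h
      exact add_right_cancel h
    have h2 : g ^ q = g := by
      apply Subtype.ext
      rw [← hAq, h1]
    have h3' : g ^ (q - 1) * g = g := by
      rw [← pow_succ, Nat.sub_add_cancel hq1, h2]
    exact mul_eq_right.mp h3'
  · right
    have h1 : A ^ q = t • (1 : Matrix (Fin 2) (Fin 2) K) - A := by
      rw [hfrob] at h
      have h2 : A ^ q = -δ - t • (1 : Matrix (Fin 2) (Fin 2) K) := eq_sub_of_add_eq h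
      rw [h2, hδ]
      have h3t : (3 : K) • (t • (1 : Matrix (Fin 2) (Fin 2) K)) = 0 := by rw [h3, zero_smul]
      have : t • (1 : Matrix (Fin 2) (Fin 2) K) - A -
          (-(A + t • (1 : Matrix (Fin 2) (Fin 2) K)) - t • (1 : Matrix (Fin 2) (Fin 2) K)) =
          (3 : K) • (t • (1 : Matrix (Fin 2) (Fin 2) K)) := by
        rw [show (3 : K) = 1 + 1 + 1 by norm_num, add_smul, add_smul, one_smul]
        abel
      rw [h3t] at this
      exact (sub_eq_zero.mp this).symm
    have h2 : (↑(g ^ (q + 1)) : Matrix (Fin 2) (Fin 2) K) = 1 := by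
      rw [Matrix.SpecialLinearGroup.coe_pow, pow_succ', h1]
      exact hinv
    apply Subtype.ext
    rw [h2]
    rfl

end Cfsg.Agent.Lib.helper4.Cube
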