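import Mathlib

/-!
# S4706 piece BURN (helper4): Burnside count of injective `k`-tuples of fixed points
-/

set_option autoImplicit false

namespace Cfsg.Agent.Lib.helper4.S4706

/-- The embeddings fixed by `g` are the embeddings into the fixed points of `g`. -/
theorem card_fixedBy_emb {G α : Type*} [Group G] [Fintype α] [DecidableEq α]
    [MulAction G α] (k : ℕ) (g : G) [Fintype (MulAction.fixedBy (Fin k ↪ α) g)] :
    Fintype.card (MulAction.fixedBy (Fin k ↪ α) g) =
      (Finset.univ.filter (fun a : α => g • a = a)).card.descFactorial k := by
  classical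
  have e : MulAction.fixedBy (Fin k ↪ α) g ≃ (Fin k ↪ {a : α // g • a = a}) :=
    { toFun := fun f => ⟨fun i => ⟨f.1 i, by
          have := congrArg (fun e : Fin k ↪ α => e i) f.2
          simpa using this⟩, fun i j h => f.1.injective (congrArg Subtype.val h)⟩
      invFun := fun f => ⟨f.trans (Function.Embedding.subtype _), by
          ext i
          simpa using (f i).2⟩
      left_inv := fun f => by
        ext i
        rfl
      right_inv := fun f => by
        ext i
        rfl }
  rw [Fintype.card_congr e, Fintype.card_embedding_eq, Fintype.card_fin, Fintype.card_subtype]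

/-- (BURN) Burnside count for a `k`-transitive action: the sum over `g` of the number of
injective `k`-tuples of fixed points of `g` is `|G|`. -/
theorem burnside_desc {G α : Type*} [Group G] [Fintype G] [Fintype α] [DecidableEq α]
    [MulAction G α] (k : ℕ) (hk : MulAction.IsMultiplyPretransitive G α k)
    (hkα : k ≤ Fintype.card α) :
    ∑ g : G, (Finset.univ.filter (fun a : α => g • a = a)).card.descFactorial k =
      Fintype.card G := by
  classical
  have hB := MulAction.sum_card_fixedBy_eq_card_orbits_mul_card_group G (Fin k ↪ α)
  have hne : Nonempty (Fin k ↪ α) :=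
    Function.Embedding.nonempty_of_card_le (by simpa using hkα)
  have hpre : MulAction.IsPretransitive G (Fin k ↪ α) := hk
  haveI : Subsingleton (MulAction.orbitRel.Quotient G (Fin k ↪ α)) :=
    (MulAction.pretransitive_iff_subsingleton_quotient G _).mp hpre
  haveI : Nonempty (MulAction.orbitRel.Quotient G (Fin k ↪ α)) :=
    hne.map (Quotient.mk'')
  have h1 : Fintype.card (MulAction.orbitRel.Quotient G (Fin k ↪ α)) = 1 :=
    Fintype.card_eq_one_iff_nonempty_unique.mpr ⟨(nonempty_unique _).some⟩
  rw [h1, one_mul] at hB
  rw [← hB]
  exact Finset.sum_congr rfl (fun g _ => (card_fixedBy_emb k g).symm)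

end Cfsg.Agent.Lib.helper4.S4706
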