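import Mathlib

/-!
# S4706 piece ORD (helper4): counting the elements of order `p` when the Sylow `p`-subgroups
have order `p`
-/

set_option autoImplicit false

namespace Cfsg.Agent.Lib.helper4.S4706

/-- (ORD) In a finite group whose Sylow `p`-subgroups have order `p`, the elements of order `p`
number `(p - 1) * |G| / |N_G(P)|`. -/
theorem card_order_p {G : Type*} [Group G] [Finite G] {p : ℕ} [Fact p.Prime] (P : Sylow p G)
    (hP : Nat.card (P : Subgroup G) = p) :
    (p - 1) * Nat.card G =
      Nat.card (Subgroup.normalizer ((P : Subgroup G) : Set G)) *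
        Nat.card {g : G // orderOf g = p} := by
  classical
  have hp : p.Prime := Fact.out
  haveI : Fintype (Sylow p G) := Fintype.ofFinite _
  -- all Sylow subgroups have order `p`
  have hQ : ∀ Q : Sylow p G, Nat.card (Q : Subgroup G) = p := by
    intro Q
    rw [Sylow.card_eq_multiplicity, ← Sylow.card_eq_multiplicity P, hP]
  -- a subgroup of order `p` inside a Sylow subgroup is that Sylow subgroup
  have hzp : ∀ (Q : Sylow p G) (g : G), g ∈ (Q : Subgroup G) → g ≠ 1 →
      Subgroup.zpowers g = (Q : Subgroup G) := by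
    intro Q g hg hne
    have hle : Subgroup.zpowers g ≤ (Q : Subgroup G) := by
      rw [Subgroup.zpowers_le]; exact hg
    have hord : orderOf g = p := by
      have hdvd : orderOf g ∣ p := by
        rw [← hQ Q]
        have := Subgroup.card_dvd_of_le hle
        rwa [Nat.card_zpowers] at this
      rcases (Nat.dvd_prime hp).mp hdvd with h1 | h1
      · exact absurd (orderOf_eq_one_iff.mp h1) hne
      · exact h1
    apply Subgroup.eq_of_le_of_card_ge hle
    rw [Nat.card_zpowers, hord, hQ Q]
  have hordQ : ∀ (Q : Sylow p G) (g : G), g ∈ (Q : Subgroup G) → g ≠ 1 → orderOf g = p := by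
    intro Q g hg hne
    have := hzp Q g hg hne
    rw [← Nat.card_zpowers, this, hQ Q]
  -- the Sylow subgroup containing an element of order `p`
  have hex : ∀ g : {g : G // orderOf g = p}, ∃ Q : Sylow p G, g.1 ∈ (Q : Subgroup G) := by
    intro g
    have hpg : IsPGroup p (Subgroup.zpowers g.1) := by
      apply IsPGroup.of_card (n := 1)
      rw [Nat.card_zpowers, g.2, pow_one]
    obtain ⟨Q, hQ'⟩ := hpg.exists_le_sylow
    exact ⟨Q, hQ' (Subgroup.mem_zpowers g.1)⟩
  choose Qf hQf using hex
  have hne1 : ∀ g : {g : G // orderOf g = p}, g.1 ≠ 1 := by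
    intro g h
    have := g.2
    rw [h, orderOf_one] at this
    exact hp.one_lt.ne this
  let e : {g : G // orderOf g = p} ≃ Σ Q : Sylow p G, ↥(((Q : Subgroup G) : Set G) \ {1}) :=
    { toFun := fun g => ⟨Qf g, ⟨g.1, hQf g, hne1 g⟩⟩
      invFun := fun x => ⟨x.2.1, hordQ x.1 x.2.1 x.2.2.1 x.2.2.2⟩
      left_inv := fun g => rfl
      right_inv := fun x => by
        obtain ⟨Q, g, hg, hne⟩ := x
        have hne' : g ≠ 1 := hne
        have hQeq : Qf ⟨g, hordQ Q g hg hne'⟩ = Q := by
          apply Sylow.ext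
          rw [← hzp Q g hg hne', ← hzp (Qf ⟨g, hordQ Q g hg hne'⟩) g (hQf _) hne']
        have hgen : ∀ (Q' : Sylow p G) (h' : g ∈ ((Q' : Subgroup G) : Set G) \ {1}), Q' = Q →
            (⟨Q', ⟨g, h'⟩⟩ : Σ Q : Sylow p G, ↥(((Q : Subgroup G) : Set G) \ {1})) =
              ⟨Q, ⟨g, ⟨hg, hne⟩⟩⟩ := by
          intro Q' h' hq
          subst hq
          rfl
        exact hgen _ _ hQeq }
  have hfib : ∀ Q : Sylow p G, Nat.card ↥(((Q : Subgroup G) : Set G) \ {1}) = p - 1 := by
    intro Q
    rw [Nat.card_coe_set_eq, Set.ncard_sdiff_singleton_of_mem (one_mem _),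
      ← Nat.card_coe_set_eq]
    exact congrArg (fun n => n - 1) (hQ Q)
  have hcount : Nat.card {g : G // orderOf g = p} = Nat.card (Sylow p G) * (p - 1) := by
    rw [Nat.card_congr e, Nat.card_sigma]
    simp only [hfib, Finset.sum_const, Finset.card_univ, smul_eq_mul, Nat.card_eq_fintype_card]
  have hidx : Nat.card (Sylow p G) =
      (Subgroup.normalizer ((P : Subgroup G) : Set G)).index := Sylow.card_eq_index_normalizer P
  have hmul := Subgroup.index_mul_card (Subgroup.normalizer ((P : Subgroup G) : Set G))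
  rw [hcount, hidx, ← hmul]
  ring

end Cfsg.Agent.Lib.helper4.S4706
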