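import Mathlib
import Cfsg.Agent.Lib.helper24.S6eDefs

/-!
helper4: S6002 pieces N3, N5 (cores): the elements of order 3 and 5 of `SL_2` on a hyperbolic plane
are derangements for the normalizer of `R`.  The pieces X3 / X5, BFC, BTF enter as hypotheses.
-/

set_option autoImplicit false

namespace Cfsg.Agent.Lib.helper24

open Matrix Cfsg Cfsg.Geo

/-- if the centraliser of `y` in `R` has 32 elements then `y` is scalar -/
theorem helper4_s6_centr_full {F : Type*} [Field F] [Fintype F] (R : Subgroup (GL S6I F))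
    (hG : S6Good R) (y : GL S6I F)
    (hc : Nat.card {s : GL S6I F // s ∈ R ∧ y * s = s * y} = 32) :
    ∃ c : F, (y : Matrix S6I S6I F) = c • (1 : Matrix S6I S6I F) := by
  have hinj : Function.Injective
      (fun s : {s : GL S6I F // s ∈ R ∧ y * s = s * y} => (⟨s.1, s.2.1⟩ : R)) := by
    intro a b hab
    exact Subtype.ext (congrArg (fun t : R => (t : GL S6I F)) hab)
  have hbij := (Nat.bijective_iff_injective_and_card _).2 ⟨hinj, by rw [hc, hG.card]⟩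
  have hall : ∀ s ∈ R, y * s = s * y := by
    intro s hs
    obtain ⟨⟨s', hs'⟩, hss⟩ := hbij.2 ⟨s, hs⟩
    have h2 : s' = s := congrArg (fun t : R => (t : GL S6I F)) hss
    rw [← h2]
    exact hs'.2
  apply hG.schur
  intro s hs
  have h2 := congrArg (fun g : GL S6I F => (g : Matrix S6I S6I F)) (hall s hs)
  simpa using h2

/-- powers of a conjugate -/
theorem helper4_s6_conj_pow {G : Type*} [Group G] (g x : G) (n : ℕ) :
    (g⁻¹ * x * g) ^ n = g⁻¹ * x ^ n * g := by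
  have h := conj_pow (i := n) (a := g⁻¹) (b := x)
  rwa [inv_inv] at h

/-- the trace of a conjugate -/
theorem helper4_s6_trace_conj {F : Type*} [Field F] (g x : GL S6I F) :
    Matrix.trace ((g⁻¹ * x * g : GL S6I F) : Matrix S6I S6I F)
      = Matrix.trace (x : Matrix S6I S6I F) := by
  rw [Units.val_mul, Units.val_mul, Matrix.trace_mul_comm, ← Matrix.mul_assoc, ← Units.val_mul,
    mul_inv_cancel, Units.val_one, Matrix.one_mul]

/-- a conjugate of a non-scalar element is not scalar -/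
theorem helper4_s6_conj_scalar {F : Type*} [Field F] (g x : GL S6I F) (c : F)
    (h : ((g⁻¹ * x * g : GL S6I F) : Matrix S6I S6I F) = c • (1 : Matrix S6I S6I F)) :
    (x : Matrix S6I S6I F) = c • (1 : Matrix S6I S6I F) := by
  have e : x = g * (g⁻¹ * x * g) * g⁻¹ := by group
  rw [e, Units.val_mul, Units.val_mul, h, Matrix.mul_smul, Matrix.mul_one, Matrix.smul_mul,
    ← Units.val_mul, mul_inv_cancel, Units.val_one]

/-- N3, core -/
theorem helper4_s6_nec_three_core {F : Type*} [Field F] [Fintype F] (h2 : (2 : F) ≠ 0)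
    (R : Subgroup (GL S6I F)) (hG : S6Good R) (h3 : (3 : F) ≠ 0)
    (hX3 : ∃ x : GL S6I F, x ∈ spGL 2 F ∧ x ^ 3 = 1 ∧
      (∀ z : F, (x : Matrix S6I S6I F) ≠ z • (1 : Matrix S6I S6I F)) ∧
      Matrix.trace (x : Matrix S6I S6I F) = 1 ∧
      Matrix.trace ((x⁻¹ : GL S6I F) : Matrix S6I S6I F) = 1)
    (hBFC : ∀ y : GL S6I F, y ∈ subgroupNormalizer R → y ^ 3 = 1 →
      Nat.card {s : GL S6I F // s ∈ R ∧ y * s = s * y} ∣ 32 ∧
      Nat.card {s : GL S6I F // s ∈ R ∧ y * s = s * y} % 3 = 32 % 3 ∧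
      ∃ i : ℕ, i % 3 = 10 % 3 ∧ i + 2 ≤ Nat.card {s : GL S6I F // s ∈ R ∧ y * s = s * y})
    (hBTF : ∀ y : GL S6I F, y ∈ subgroupNormalizer R → ∀ k : ℕ, Odd k → y ^ k = 1 →
      Matrix.trace (y : Matrix S6I S6I F) * Matrix.trace ((y⁻¹ : GL S6I F) : Matrix S6I S6I F) =
        ((Nat.card {s : GL S6I F // s ∈ R ∧ y * s = s * y} : ℕ) : F) / 2) :
    S6Derang R 3 := by
  obtain ⟨x, hx, hx3, hxs, htx, htxi⟩ := hX3
  refine ⟨x, hx, hx3, hxs, ?_⟩
  intro g hy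
  have hy3 : (g⁻¹ * x * g) ^ 3 = 1 := by
    rw [helper4_s6_conj_pow, hx3]
    group
  have hty : Matrix.trace ((g⁻¹ * x * g : GL S6I F) : Matrix S6I S6I F) = 1 := by
    rw [helper4_s6_trace_conj, htx]
  have htyi : Matrix.trace (((g⁻¹ * x * g)⁻¹ : GL S6I F) : Matrix S6I S6I F) = 1 := by
    have e : (g⁻¹ * x * g)⁻¹ = g⁻¹ * x⁻¹ * g := by group
    rw [e, helper4_s6_trace_conj, htxi]
  obtain ⟨hdvd, hmod, i, hi, hic⟩ := hBFC _ hy hy3
  have hF := hBTF _ hy 3 (by decide) hy3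
  rw [hty, htyi] at hF
  obtain ⟨c, hc⟩ : ∃ c : ℕ, c = Nat.card {s : GL S6I F // s ∈ R ∧ g⁻¹ * x * g * s = s * (g⁻¹ * x * g)} :=
    ⟨_, rfl⟩
  rw [← hc] at hdvd hmod hic hF
  have hcle : c ≤ 32 := Nat.le_of_dvd (by norm_num) hdvd
  have hc2 : c = 8 ∨ c = 32 := by
    interval_cases c <;> omega
  rcases hc2 with h8 | h32
  · rw [h8] at hF
    apply h3
    have h4 : ((8 : ℕ) : F) / 2 = 4 := by
      rw [div_eq_iff h2]
      norm_num
    rw [h4] at hF
    linear_combination -hF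
  · obtain ⟨z, hz⟩ := helper4_s6_centr_full R hG (g⁻¹ * x * g) (by rw [← hc, h32])
    exact hxs z (helper4_s6_conj_scalar g x z hz)

/-- N5, core -/
theorem helper4_s6_nec_five_core {F : Type*} [Field F] [Fintype F] (h2 : (2 : F) ≠ 0)
    (R : Subgroup (GL S6I F)) (hG : S6Good R) (h5 : (5 : F) ≠ 0)
    (hX5 : ∃ x : GL S6I F, x ∈ spGL 2 F ∧ x ^ 5 = 1 ∧
      (∀ z : F, (x : Matrix S6I S6I F) ≠ z • (1 : Matrix S6I S6I F)) ∧
      ∃ τ : F, τ ^ 2 + τ - 1 = 0 ∧ Matrix.trace (x : Matrix S6I S6I F) = 2 + τ ∧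
        Matrix.trace ((x⁻¹ : GL S6I F) : Matrix S6I S6I F) = 2 + τ)
    (hBFC : ∀ y : GL S6I F, y ∈ subgroupNormalizer R → y ^ 5 = 1 →
      Nat.card {s : GL S6I F // s ∈ R ∧ y * s = s * y} ∣ 32 ∧
      Nat.card {s : GL S6I F // s ∈ R ∧ y * s = s * y} % 5 = 32 % 5 ∧
      ∃ i : ℕ, i % 5 = 10 % 5 ∧ i + 2 ≤ Nat.card {s : GL S6I F // s ∈ R ∧ y * s = s * y})
    (hBTF : ∀ y : GL S6I F, y ∈ subgroupNormalizer R → ∀ k : ℕ, Odd k → y ^ k = 1 →
      Matrix.trace (y : Matrix S6I S6I F) * Matrix.trace ((y⁻¹ : GL S6I F) : Matrix S6I S6I F) =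
        ((Nat.card {s : GL S6I F // s ∈ R ∧ y * s = s * y} : ℕ) : F) / 2) :
    S6Derang R 5 := by
  obtain ⟨x, hx, hx5, hxs, τ, hτ, htx, htxi⟩ := hX5
  refine ⟨x, hx, hx5, hxs, ?_⟩
  intro g hy
  have hy5 : (g⁻¹ * x * g) ^ 5 = 1 := by
    rw [helper4_s6_conj_pow, hx5]
    group
  have hty : Matrix.trace ((g⁻¹ * x * g : GL S6I F) : Matrix S6I S6I F) = 2 + τ := by
    rw [helper4_s6_trace_conj, htx]
  have htyi : Matrix.trace (((g⁻¹ * x * g)⁻¹ : GL S6I F) : Matrix S6I S6I F) = 2 + τ := by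
    have e : (g⁻¹ * x * g)⁻¹ = g⁻¹ * x⁻¹ * g := by group
    rw [e, helper4_s6_trace_conj, htxi]
  obtain ⟨hdvd, hmod, i, hi, hic⟩ := hBFC _ hy hy5
  have hF := hBTF _ hy 5 (by decide) hy5
  rw [hty, htyi] at hF
  obtain ⟨c, hc⟩ : ∃ c : ℕ, c = Nat.card {s : GL S6I F // s ∈ R ∧ g⁻¹ * x * g * s = s * (g⁻¹ * x * g)} :=
    ⟨_, rfl⟩
  rw [← hc] at hdvd hmod hic hF
  have hcle : c ≤ 32 := Nat.le_of_dvd (by norm_num) hdvd
  have hc2 : c = 2 ∨ c = 32 := by
    interval_cases c <;> omega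
  rcases hc2 with h2c | h32
  · rw [h2c] at hF
    apply h5
    have h4 : ((2 : ℕ) : F) / 2 = 1 := by
      rw [div_eq_iff h2]
      norm_num
    rw [h4] at hF
    linear_combination (3 * τ - 1) * hF - (3 * τ + 8) * hτ
  · obtain ⟨z, hz⟩ := helper4_s6_centr_full R hG (g⁻¹ * x * g) (by rw [← hc, h32])
    exact hxs z (helper4_s6_conj_scalar g x z hz)

end Cfsg.Agent.Lib.helper24
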