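import Mathlib
import Cfsg.Agent.Lib.helper24.S6eDefs
import Cfsg.Agent.Lib.helper4.S6eN35core
import Cfsg.Agent.Lib.helper32.S6eX35
import Cfsg.Agent.Lib.helper72.S6eBFC
import Cfsg.Agent.Lib.helper72.S6eBTF

/-!
helper4: S6002 pieces N3 (`s6_nec_three`) and N5 (`s6_nec_five`): wrappers of the cores with the
landed pieces X3 / X5 (helper32), BFC and BTF (helper72).
-/

set_option autoImplicit false
set_option linter.style.haveILetI false

namespace Cfsg.Agent.Lib.helper24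

open Matrix Cfsg Cfsg.Geo

/-- N3 (M; uses X3 BFC BTF). -/
theorem s6_nec_three {F : Type*} [Field F] [Fintype F] (h2 : (2 : F) ≠ 0) (R : Subgroup (GL S6I F)) (hG : S6Good R)
    (h3 : (3 : F) ≠ 0) : S6Derang R 3 := by
  haveI : Fact (Nat.Prime 3) := ⟨by norm_num⟩
  exact helper4_s6_nec_three_core h2 R hG h3 (s6_exists_three h2 h3)
    (fun y hy hyr => s6_fix_count h2 R hG 3 y hy hyr)
    (fun y hy k hk hyk => s6_trace_formula h2 R hG y hy k hk hyk)

/-- N5 (M; uses X5 BFC BTF). -/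
theorem s6_nec_five {F : Type*} [Field F] [Fintype F] (h2 : (2 : F) ≠ 0) (R : Subgroup (GL S6I F)) (hG : S6Good R)
    (h5 : (5 : F) ≠ 0) (hdiv : 5 ∣ Fintype.card F ^ 2 - 1) : S6Derang R 5 := by
  haveI : Fact (Nat.Prime 5) := ⟨by norm_num⟩
  exact helper4_s6_nec_five_core h2 R hG h5 (s6_exists_five h2 hdiv)
    (fun y hy hyr => s6_fix_count h2 R hG 5 y hy hyr)
    (fun y hy k hk hyk => s6_trace_formula h2 R hG y hy k hk hyk)

end Cfsg.Agent.Lib.helper24
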