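import Mathlib
import Cfsg.Agent.Lib.helper44.SUODefs

/-!
helper4: S2334 piece OUZERO (`uoMat_zero`).
-/

set_option autoImplicit false

namespace Cfsg.Agent.Lib.helper44.SUW

open Matrix

/-- OUZERO (S) -/
theorem uoMat_zero {K : Type*} [Field K] (σ : K →+* K) (ε : K) {m : ℕ} :
    uoMat σ ε (0 : Matrix (Fin m) (Fin m) K) = 1 := by
  unfold uoMat
  rw [add_zero, sub_zero, smul_zero, smul_zero, Matrix.fromBlocks_one, Matrix.fromBlocks_one,
    Matrix.submatrix_one_equiv]

end Cfsg.Agent.Lib.helper44.SUW
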