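import Mathlib
import Cfsg.Prelude.Def_Classical
import Cfsg.Agent.Lib.helper44.SUODefs
import Cfsg.Agent.Lib.helper9.SUWUMEM

/-!
helper4: S2334 piece OXMEM (`xtMat_mem`): the matrix `x(t)` has determinant one and preserves the
Hermitian form.  `x(t) = 1 - η a a† + a dᵀ - d a†` with `a = F t` isotropic, `d` the last basis
vector (orthogonal to `a`).
-/

set_option autoImplicit false
set_option linter.unusedSimpArgs false

namespace Cfsg.Agent.Lib.helper44.SUW

open Matrix Cfsg

/-- the product of two rank-one matrices -/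
theorem helper4_vmv_mul {K : Type*} [Field K] {I : Type*} [Fintype I] (x y z w : I → K) :
    vecMulVec x y * vecMulVec z w = (∑ i, y i * z i) • vecMulVec x w := by
  ext i j
  simp only [Matrix.mul_apply, Matrix.vecMulVec_apply, Matrix.smul_apply, smul_eq_mul,
    Finset.sum_mul]
  apply Finset.sum_congr rfl
  intro k _
  ring

/-- the transpose of a rank-one matrix -/
theorem helper4_vmv_transpose {K : Type*} [Field K] {I : Type*} (x y : I → K) :
    (vecMulVec x y)ᵀ = vecMulVec y x := by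
  ext i j
  simp only [Matrix.transpose_apply, Matrix.vecMulVec_apply, mul_comm]

/-- abstract unitarity of `1 - η a a† + a dᵀ - d a†` -/
theorem helper4_xt_unitary {K : Type*} [Field K] {I : Type*} [Fintype I] [DecidableEq I]
    (σ : K →+* K) (η : K) (hη : η + σ η = 1) (a a' d : I → K)
    (hσa : ∀ i, σ (a i) = a' i) (hσa' : ∀ i, σ (a' i) = a i) (hσd : ∀ i, σ (d i) = d i)
    (h1 : ∑ i, a i * a' i = 0) (h2 : ∑ i, a i * d i = 0) (h3 : ∑ i, d i * a' i = 0)
    (h4 : ∑ i, d i * d i = 1) :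
    (1 - η • vecMulVec a a' + vecMulVec a d - vecMulVec d a')ᵀ *
      (1 - η • vecMulVec a a' + vecMulVec a d - vecMulVec d a').map σ = 1 := by
  have hT : (1 - η • vecMulVec a a' + vecMulVec a d - vecMulVec d a')ᵀ
      = 1 - η • vecMulVec a' a + vecMulVec d a - vecMulVec a' d := by
    rw [Matrix.transpose_sub, Matrix.transpose_add, Matrix.transpose_sub, Matrix.transpose_one,
      Matrix.transpose_smul, helper4_vmv_transpose, helper4_vmv_transpose, helper4_vmv_transpose]
  have hS : (1 - η • vecMulVec a a' + vecMulVec a d - vecMulVec d a').map σ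
      = 1 - σ η • vecMulVec a' a + vecMulVec a' d - vecMulVec d a := by
    ext i j
    simp only [Matrix.map_apply, Matrix.sub_apply, Matrix.add_apply, Matrix.smul_apply,
      Matrix.vecMulVec_apply, smul_eq_mul, map_sub, map_add, map_mul, hσa, hσa', hσd,
      Matrix.one_apply]
    split_ifs <;> simp
  obtain ⟨P, hP⟩ : ∃ P : Matrix I I K, P = vecMulVec a' a := ⟨_, rfl⟩
  obtain ⟨Q, hQ⟩ : ∃ Q : Matrix I I K, Q = vecMulVec d a := ⟨_, rfl⟩
  obtain ⟨R, hR⟩ : ∃ R : Matrix I I K, R = vecMulVec a' d := ⟨_, rfl⟩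
  have hPP : P * P = 0 := by rw [hP, helper4_vmv_mul, h1, zero_smul]
  have hPQ : P * Q = 0 := by rw [hP, hQ, helper4_vmv_mul, h2, zero_smul]
  have hPR : P * R = 0 := by rw [hP, hR, helper4_vmv_mul, h1, zero_smul]
  have hQP : Q * P = 0 := by rw [hP, hQ, helper4_vmv_mul, h1, zero_smul]
  have hQQ : Q * Q = 0 := by rw [hQ, helper4_vmv_mul, h2, zero_smul]
  have hQR : Q * R = 0 := by rw [hQ, hR, helper4_vmv_mul, h1, zero_smul]
  have hRP : R * P = 0 := by rw [hP, hR, helper4_vmv_mul, h3, zero_smul]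
  have hRQ : R * Q = P := by rw [hP, hQ, hR, helper4_vmv_mul, h4, one_smul]
  have hRR : R * R = 0 := by rw [hR, helper4_vmv_mul, h3, zero_smul]
  have hη' : σ η = 1 - η := by rw [← hη]; ring
  rw [hT, hS, ← hP, ← hQ, ← hR, hη']
  simp only [mul_add, add_mul, mul_sub, sub_mul, mul_one, one_mul, smul_mul_assoc,
    mul_smul_comm, hPP, hPQ, hPR, hQP, hQQ, hQR, hRP, hRQ, hRR, smul_zero, sub_zero, add_zero,
    zero_add, zero_sub]
  module

/-- abstract determinant of `1 - η a a† + a dᵀ - d a†` -/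
theorem helper4_xt_det {K : Type*} [Field K] {I : Type*} [Fintype I] [DecidableEq I]
    (η : K) (a a' d : I → K)
    (h1 : ∑ i, a i * a' i = 0) (h2 : ∑ i, a i * d i = 0) (h3 : ∑ i, d i * a' i = 0)
    (h4 : ∑ i, d i * d i = 1) :
    (1 - η • vecMulVec a a' + vecMulVec a d - vecMulVec d a').det = 1 := by
  have hfac : (1 - η • vecMulVec a a' + vecMulVec a d - vecMulVec d a' : Matrix I I K)
      = 1 + (Matrix.of ![a, d])ᵀ *
          Matrix.of ![fun j => -η * a' j + d j, fun j => -a' j] := by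
    ext i j
    simp only [Matrix.sub_apply, Matrix.add_apply, Matrix.smul_apply, Matrix.vecMulVec_apply,
      smul_eq_mul, Matrix.mul_apply, Fin.sum_univ_two, Matrix.of_apply, Matrix.transpose_apply,
      Matrix.cons_val_zero, Matrix.cons_val_one]
    ring
  have hs00 : ∑ i, (-η * a' i + d i) * a i = 0 := by
    have e : ∀ i, (-η * a' i + d i) * a i = -η * (a i * a' i) + a i * d i := fun i => by ring
    simp only [e, Finset.sum_add_distrib, ← Finset.mul_sum, h1, h2, mul_zero, add_zero]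
  have hs01 : ∑ i, (-η * a' i + d i) * d i = 1 := by
    have e : ∀ i, (-η * a' i + d i) * d i = -η * (d i * a' i) + d i * d i := fun i => by ring
    simp only [e, Finset.sum_add_distrib, ← Finset.mul_sum, h3, h4, mul_zero, zero_add]
  have hs10 : ∑ i, -a' i * a i = 0 := by
    have e : ∀ i, -a' i * a i = -(a i * a' i) := fun i => by ring
    simp only [e, Finset.sum_neg_distrib, h1, neg_zero]
  have hs11 : ∑ i, -a' i * d i = 0 := by
    have e : ∀ i, -a' i * d i = -(d i * a' i) := fun i => by ring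
    simp only [e, Finset.sum_neg_distrib, h3, neg_zero]
  rw [hfac, Matrix.det_one_add_mul_comm, Matrix.det_fin_two]
  simp only [Matrix.add_apply, Matrix.one_apply, Matrix.mul_apply, Matrix.of_apply,
    Matrix.transpose_apply, Matrix.cons_val_zero, Matrix.cons_val_one, hs00, hs01, hs10, hs11]
  simp

/-- the block form of `x(t)` as a rank-two perturbation of the identity -/
theorem helper4_xt_block {K : Type*} [Field K] (σ : K →+* K) (ε η : K) (hε : ε * σ ε = -1)
    {m : ℕ} (t : Fin m → K) :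
    (Matrix.fromBlocks
      (Matrix.fromBlocks (1 + (-η) • Matrix.vecMulVec t (fun j => σ (t j)))
        (σ ε • ((-η) • Matrix.vecMulVec t (fun j => σ (t j))))
        (ε • ((-η) • Matrix.vecMulVec t (fun j => σ (t j))))
        (1 - (-η) • Matrix.vecMulVec t (fun j => σ (t j))))
      (Matrix.of (fun i (_ : Fin 1) => Sum.elim t (fun j => ε * t j) i))
      (Matrix.of (fun (_ : Fin 1) j => Sum.elim (fun j => - σ (t j)) (fun j => - (σ ε * σ (t j))) j))
      (1 : Matrix (Fin 1) (Fin 1) K))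
    = 1 - η • vecMulVec (Sum.elim (Sum.elim t (fun j => ε * t j)) (fun _ : Fin 1 => (0 : K)))
          (Sum.elim (Sum.elim (fun j => σ (t j)) (fun j => σ ε * σ (t j))) (fun _ : Fin 1 => (0 : K)))
      + vecMulVec (Sum.elim (Sum.elim t (fun j => ε * t j)) (fun _ : Fin 1 => (0 : K)))
          (Sum.elim (fun _ : Fin m ⊕ Fin m => (0 : K)) (fun _ : Fin 1 => (1 : K)))
      - vecMulVec (Sum.elim (fun _ : Fin m ⊕ Fin m => (0 : K)) (fun _ : Fin 1 => (1 : K)))
          (Sum.elim (Sum.elim (fun j => σ (t j)) (fun j => σ ε * σ (t j))) (fun _ : Fin 1 => (0 : K))) := by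
  ext i j
  rcases i with (i | i) | i <;> rcases j with (j | j) | j
  · simp [Matrix.vecMulVec_apply, Matrix.one_apply]
    ring
  · simp [Matrix.vecMulVec_apply, Matrix.one_apply]
    ring
  · simp [Matrix.vecMulVec_apply, Matrix.one_apply]
  · simp [Matrix.vecMulVec_apply, Matrix.one_apply]
    ring
  · simp [Matrix.vecMulVec_apply, Matrix.one_apply]
    linear_combination (η * t i * σ (t j)) * hε
  · simp [Matrix.vecMulVec_apply, Matrix.one_apply]
  · simp [Matrix.vecMulVec_apply, Matrix.one_apply]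
  · simp [Matrix.vecMulVec_apply, Matrix.one_apply]
  · simp [Matrix.vecMulVec_apply, Matrix.one_apply]

/-- OXMEM (L) -/
theorem xtMat_mem {K : Type*} [Field K] [Fintype K] {q m : ℕ} (hK : Fintype.card K = q ^ 2)
    (σ : K →+* K) (hσ : ∀ x, σ x = x ^ q) (ε η : K) (hε : ε * σ ε = -1) (hη : η + σ η = 1)
    (t : Fin m → K) :
    (xtMat σ ε η t).det = 1 ∧ ∀ u v : Fin (m + m + 1) → K,
      Cfsg.hermForm (m + m + 1) K q (xtMat σ ε η t *ᵥ u) (xtMat σ ε η t *ᵥ v) =
        Cfsg.hermForm (m + m + 1) K q u v := by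
  have hσσ : ∀ x, σ (σ x) = x := by
    intro x
    rw [hσ, hσ, ← pow_mul, ← sq, ← hK, FiniteField.pow_card]
  obtain ⟨a, ha⟩ : ∃ a : (Fin m ⊕ Fin m) ⊕ Fin 1 → K,
      a = Sum.elim (Sum.elim t (fun j => ε * t j)) (fun _ : Fin 1 => (0 : K)) := ⟨_, rfl⟩
  obtain ⟨a', ha'⟩ : ∃ a' : (Fin m ⊕ Fin m) ⊕ Fin 1 → K,
      a' = Sum.elim (Sum.elim (fun j => σ (t j)) (fun j => σ ε * σ (t j)))
        (fun _ : Fin 1 => (0 : K)) := ⟨_, rfl⟩
  obtain ⟨d, hd⟩ : ∃ d : (Fin m ⊕ Fin m) ⊕ Fin 1 → K,
      d = Sum.elim (fun _ : Fin m ⊕ Fin m => (0 : K)) (fun _ : Fin 1 => (1 : K)) := ⟨_, rfl⟩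
  have hblock : xtMat σ ε η t
      = (1 - η • vecMulVec a a' + vecMulVec a d - vecMulVec d a').submatrix (e3 m) (e3 m) := by
    rw [ha, ha', hd]
    exact congrArg (fun M => M.submatrix (e3 m) (e3 m)) (helper4_xt_block σ ε η hε t)
  have hσa : ∀ i, σ (a i) = a' i := by
    intro i
    rw [ha, ha']
    rcases i with (i | i) | i <;> simp
  have hσa' : ∀ i, σ (a' i) = a i := by
    intro i
    rw [ha, ha']
    rcases i with (i | i) | i <;> simp [hσσ]
  have hσd : ∀ i, σ (d i) = d i := by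
    intro i
    rw [hd]
    rcases i with i | i <;> simp
  have h1 : ∑ i, a i * a' i = 0 := by
    rw [ha, ha']
    simp only [Fintype.sum_sum_type, Sum.elim_inl, Sum.elim_inr, mul_zero, Finset.sum_const_zero,
      add_zero]
    rw [← Finset.sum_add_distrib]
    apply Finset.sum_eq_zero
    intro j _
    linear_combination (t j * σ (t j)) * hε
  have h2 : ∑ i, a i * d i = 0 := by
    rw [ha, hd]
    simp [Fintype.sum_sum_type]
  have h3 : ∑ i, d i * a' i = 0 := by
    rw [ha', hd]
    simp [Fintype.sum_sum_type]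
  have h4 : ∑ i, d i * d i = 1 := by
    rw [hd]
    simp [Fintype.sum_sum_type]
  constructor
  · rw [hblock, Matrix.det_submatrix_equiv_self]
    exact helper4_xt_det η a a' d h1 h2 h3 h4
  · have hM : (xtMat σ ε η t)ᵀ * (xtMat σ ε η t).map σ = 1 := by
      rw [hblock, Matrix.transpose_submatrix, ← Matrix.submatrix_map, Matrix.submatrix_mul_equiv,
        helper4_xt_unitary σ η hη a a' d hσa hσa' hσd h1 h2 h3 h4, Matrix.submatrix_one_equiv]
    intro u v
    exact helper9_form_of_unitary σ hσ _ hM u v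

end Cfsg.Agent.Lib.helper44.SUW
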