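import Mathlib
import Cfsg.Agent.Lib.helper45.SVDefs

/-!
helper4: S2425 piece CNT (`card_invt_compl`): the invariant complements of `A` correspond to the
intertwining maps `B → A` (graphs).
-/

set_option autoImplicit false

namespace Cfsg.Agent.Lib.helper45.SV

/-- membership in the graph submodule of `φ : B → A` -/
theorem helper4_mem_graph {F : Type*} [Field F] {V : Type*} [AddCommGroup V] [Module F V]
    (A B : Submodule F V) (φ : B →ₗ[F] A) (v : V) :
    v ∈ LinearMap.range (B.subtype + A.subtype ∘ₗ φ) ↔ ∃ b : B, v = (b : V) + (φ b : V) := by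
  rw [LinearMap.mem_range]
  constructor
  · rintro ⟨b, rfl⟩
    exact ⟨b, rfl⟩
  · rintro ⟨b, rfl⟩
    exact ⟨b, rfl⟩

/-- CNT (M). -/
theorem card_invt_compl {F : Type*} [Field F] {V : Type*} [AddCommGroup V] [Module F V]
    [Finite V] (T : Module.End F V) (A B : Submodule F V) (hA : ∀ v ∈ A, T v ∈ A)
    (hB : ∀ v ∈ B, T v ∈ B) (h : IsCompl A B) :
    Nat.card {X : Submodule F V // (∀ v ∈ X, T v ∈ X) ∧ IsCompl A X} =
      Nat.card {φ : B →ₗ[F] A // ∀ b : B, φ (T.restrict hB b) = T.restrict hA (φ b)} := by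
  symm
  have hAB0 : ∀ v : V, v ∈ A → v ∈ B → v = 0 := Submodule.disjoint_def.1 h.disjoint
  refine Nat.card_congr (Equiv.ofBijective
    (fun φ => ⟨LinearMap.range (B.subtype + A.subtype ∘ₗ φ.1), ?_, ?_⟩) ⟨?_, ?_⟩)
  · -- invariance
    intro v hv
    obtain ⟨b, rfl⟩ := (helper4_mem_graph A B φ.1 v).1 hv
    refine (helper4_mem_graph A B φ.1 _).2 ⟨T.restrict hB b, ?_⟩
    rw [φ.2 b, map_add]
    rfl
  · -- complement
    refine ⟨?_, ?_⟩
    · rw [Submodule.disjoint_def]
      intro v hvA hv
      obtain ⟨b, rfl⟩ := (helper4_mem_graph A B φ.1 v).1 hv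
      have hbA : (b : V) ∈ A := by
        have h3 := A.sub_mem hvA (φ.1 b).2
        rwa [add_sub_cancel_right] at h3
      have hb0 : b = 0 := Subtype.ext (hAB0 _ hbA b.2)
      rw [hb0, map_zero]
      simp
    · rw [codisjoint_iff, eq_top_iff]
      intro v _
      have hv : v ∈ A ⊔ B := by
        rw [h.sup_eq_top]
        trivial
      obtain ⟨a, ha, b, hb, rfl⟩ := Submodule.mem_sup.1 hv
      have e : a + b = (a - (φ.1 ⟨b, hb⟩ : V)) + (b + (φ.1 ⟨b, hb⟩ : V)) := by abel
      rw [e]
      exact Submodule.add_mem_sup (A.sub_mem ha (φ.1 ⟨b, hb⟩).2)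
        ((helper4_mem_graph A B φ.1 _).2 ⟨⟨b, hb⟩, rfl⟩)
  · -- injectivity
    intro φ φ' hφ
    have hX : LinearMap.range (B.subtype + A.subtype ∘ₗ φ.1)
        = LinearMap.range (B.subtype + A.subtype ∘ₗ φ'.1) := congrArg Subtype.val hφ
    apply Subtype.ext
    apply LinearMap.ext
    intro b
    have h1 : (b : V) + (φ.1 b : V) ∈ LinearMap.range (B.subtype + A.subtype ∘ₗ φ'.1) := by
      rw [← hX]
      exact (helper4_mem_graph A B φ.1 _).2 ⟨b, rfl⟩
    obtain ⟨b', hb'⟩ := (helper4_mem_graph A B φ'.1 _).1 h1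
    have h2 : (b : V) - (b' : V) = (φ'.1 b' : V) - (φ.1 b : V) := by
      rw [sub_eq_sub_iff_add_eq_add, hb', add_comm]
    have h3 : (b : V) - (b' : V) = 0 := by
      apply hAB0
      · rw [h2]
        exact A.sub_mem (φ'.1 b').2 (φ.1 b).2
      · exact B.sub_mem b.2 b'.2
    have h4 : b = b' := Subtype.ext (sub_eq_zero.1 h3)
    rw [← h4] at hb'
    exact Subtype.ext (add_left_cancel hb')
  · -- surjectivity
    rintro ⟨X, hXinv, hXc⟩
    have hP0 : ∀ v : V, A.projectionOnto X hXc v = 0 ↔ v ∈ X :=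
      fun v => Submodule.projectionOnto_apply_eq_zero_iff hXc
    have hPl : ∀ a : A, A.projectionOnto X hXc (a : V) = a :=
      fun a => Submodule.projectionOnto_apply_left hXc a
    have hP1 : ∀ v : V, v - (A.projectionOnto X hXc v : V) ∈ X := by
      intro v
      rw [← hP0, map_sub, hPl, sub_self]
    have hP2 : ∀ v : V, A.projectionOnto X hXc (T v)
        = T.restrict hA (A.projectionOnto X hXc v) := by
      intro v
      have e : T v = ((T.restrict hA (A.projectionOnto X hXc v) : A) : V)
          + T (v - (A.projectionOnto X hXc v : V)) := by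
        rw [map_sub]
        show T v = T (A.projectionOnto X hXc v : V) + (T v - T (A.projectionOnto X hXc v : V))
        abel
      rw [e, map_add, hPl, (hP0 _).2 (hXinv _ (hP1 v)), add_zero]
    refine ⟨⟨-(A.projectionOnto X hXc ∘ₗ B.subtype), ?_⟩, ?_⟩
    · intro b
      show -(A.projectionOnto X hXc (T (b : V))) = T.restrict hA (-(A.projectionOnto X hXc (b : V)))
      rw [hP2, map_neg]
    · apply Subtype.ext
      show LinearMap.range (B.subtype + A.subtype ∘ₗ (-(A.projectionOnto X hXc ∘ₗ B.subtype))) = X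
      apply le_antisymm
      · intro v hv
        obtain ⟨b, rfl⟩ := (helper4_mem_graph A B _ v).1 hv
        have h3 := hP1 (b : V)
        have e : (b : V) + ((-(A.projectionOnto X hXc ∘ₗ B.subtype)) b : V)
            = (b : V) - (A.projectionOnto X hXc (b : V) : V) := by
          show (b : V) + ((-(A.projectionOnto X hXc (b : V)) : A) : V) = _
          rw [Submodule.coe_neg, sub_eq_add_neg]
        rw [e]
        exact h3
      · intro x hx
        have hv : x ∈ A ⊔ B := by
          rw [h.sup_eq_top]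
          trivial
        obtain ⟨a, ha, b, hb, hab⟩ := Submodule.mem_sup.1 hv
        refine (helper4_mem_graph A B _ x).2 ⟨⟨b, hb⟩, ?_⟩
        have h5 : A.projectionOnto X hXc b = -⟨a, ha⟩ := by
          have e : b = x - a := by rw [← hab]; abel
          rw [e, map_sub, (hP0 x).2 hx, zero_sub]
          congr 1
          exact hPl ⟨a, ha⟩
        show x = b + ((-(A.projectionOnto X hXc b) : A) : V)
        rw [h5, neg_neg, ← hab]
        abel

end Cfsg.Agent.Lib.helper45.SV
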