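import Mathlib
import Cfsg.Agent.Lib.helper45.SVDefs
import Cfsg.Agent.Lib.helper53.SV_CSUM

/-!
helper4: S2425 piece SUMN (race copy): the composition `compOf D` sums to `n`.
-/

set_option autoImplicit false

namespace Cfsg.Agent.Lib.helper45.SV

/-- SUMN (S), helper4 race copy. -/
theorem helper4_sum_compOf {n : ℕ} (D : Finset (Fin n)) (hD : D ∈ endSets n) :
    ∑ i, compOf D i = n := by
  rcases n with _ | m
  · simp
  · have hlast : Fin.last m ∈ D := by
      unfold endSets at hD
      rw [Finset.mem_filter] at hD
      exact hD.2 (Fin.last m) (by simp)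
    have h1 : ∑ i, compOf D i = csum (compOf D) (Fin.last m) := by
      unfold csum
      congr 1
      ext k
      simp [Fin.le_last]
    rw [h1, csum_compOf]
    apply le_antisymm
    · apply Finset.sup_le
      intro b hb
      rw [Finset.mem_image] at hb
      obtain ⟨d, _, rfl⟩ := hb
      show d.val + 1 ≤ m + 1
      have := d.2
      omega
    · have hmem : m + 1 ∈ (D.filter (fun d => d ≤ Fin.last m)).image (fun d : Fin (m + 1) => d.val + 1) := by
        rw [Finset.mem_image]
        exact ⟨Fin.last m, Finset.mem_filter.2 ⟨hlast, le_refl _⟩, by simp⟩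
      exact Finset.le_sup (f := id) hmem

end Cfsg.Agent.Lib.helper45.SV
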