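import Mathlib
import Cfsg.Prelude.Def_Classical
import Cfsg.Prelude.Def_GeometricClasses
import Cfsg.Agent.Lib.helper49.WittIso

/-!
S5977 / S5978 block [A], leaf JBASIS (racer copy, helper4): for an isometry `x` with `x * x = -1`
there are `e_1 .. e_m` such that `e_1, .., e_m, x e_1, .., x e_m` is an orthogonal basis.
-/

set_option autoImplicit false

namespace Cfsg.Agent.Lib.helper59.Sfk

open Matrix Cfsg.Geo

/-- the family `e, X e` is orthogonal with non-zero norms -/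
theorem h4_jb_w {F : Type*} [Field F] {ι : Type} [Fintype ι] [DecidableEq ι]
    (h2 : (2 : F) ≠ 0) (Q : QuadraticForm F (ι → F)) (X : Matrix ι ι F)
    (hiso : ∀ u, Q (X *ᵥ u) = Q u)
    (k : ℕ) (e : Fin k → (ι → F))
    (ho1 : ∀ i j, i ≠ j → QuadraticMap.polar (⇑Q) (e i) (e j) = 0)
    (ho2 : ∀ i j, QuadraticMap.polar (⇑Q) (e i) (X *ᵥ e j) = 0)
    (hne : ∀ i, Q (e i) ≠ 0) :
    (∀ s t, s ≠ t → QuadraticMap.polar (⇑Q) (Sum.elim e (fun i => X *ᵥ e i) s)
        (Sum.elim e (fun i => X *ᵥ e i) t) = 0) ∧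
    (∀ s, QuadraticMap.polar (⇑Q) (Sum.elim e (fun i => X *ᵥ e i) s)
        (Sum.elim e (fun i => X *ᵥ e i) s) ≠ 0) := by
  have hpol : ∀ u v, QuadraticMap.polar (⇑Q) (X *ᵥ u) (X *ᵥ v) = QuadraticMap.polar (⇑Q) u v := by
    intro u v
    unfold QuadraticMap.polar
    rw [← Matrix.mulVec_add, hiso, hiso, hiso]
  have hself : ∀ u, QuadraticMap.polar (⇑Q) u u = 2 * Q u := by
    intro u
    rw [QuadraticMap.polar_self, two_smul, two_mul]
  constructor
  · rintro (i | i) (j | j) hst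
    · exact ho1 i j (fun h => hst (by rw [h]))
    · exact ho2 i j
    · simp only [Sum.elim_inr, Sum.elim_inl]
      rw [QuadraticMap.polar_comm]
      exact ho2 j i
    · simp only [Sum.elim_inr]
      rw [hpol]
      exact ho1 i j (fun h => hst (by rw [h]))
  · rintro (i | i)
    · simp only [Sum.elim_inl]
      rw [hself]
      exact mul_ne_zero h2 (hne i)
    · simp only [Sum.elim_inr]
      rw [hpol, hself]
      exact mul_ne_zero h2 (hne i)

/-- a non-singular vector orthogonal to an orthogonal family `w` with non-zero norms which is not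
spanning -/
theorem h4_jb_ext {F : Type*} [Field F] {ι : Type} [Fintype ι] [DecidableEq ι]
    (Q : QuadraticForm F (ι → F)) (hQ : (QuadraticMap.polarBilin Q).Nondegenerate)
    {σ : Type} [Fintype σ] [DecidableEq σ] (w : σ → (ι → F))
    (hw : ∀ s t, s ≠ t → QuadraticMap.polar (⇑Q) (w s) (w t) = 0)
    (hwn : ∀ s, QuadraticMap.polar (⇑Q) (w s) (w s) ≠ 0)
    (hlt : Fintype.card σ < Fintype.card ι) :
    ∃ u : ι → F, Q u ≠ 0 ∧ ∀ s, QuadraticMap.polar (⇑Q) (w s) u = 0 := by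
  classical
  -- a non-zero vector in the orthogonal complement
  let L : (ι → F) →ₗ[F] (σ → F) :=
    LinearMap.pi (fun s => QuadraticMap.polarBilin Q (w s))
  have hker : LinearMap.ker L ≠ ⊥ := by
    apply LinearMap.ker_ne_bot_of_finrank_lt
    rw [Module.finrank_fintype_fun_eq_card, Module.finrank_fintype_fun_eq_card]
    exact hlt
  obtain ⟨u0, hu0, hu0ne⟩ := (Submodule.ne_bot_iff _).mp hker
  have hu0' : ∀ s, QuadraticMap.polar (⇑Q) (w s) u0 = 0 := by
    intro s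
    have h1 : L u0 = 0 := hu0
    have h2 := congrFun h1 s
    simpa [L] using h2
  -- a vector not orthogonal to `u0`
  obtain ⟨v, hv⟩ : ∃ v, QuadraticMap.polar (⇑Q) u0 v ≠ 0 := by
    by_contra hcon
    exact hu0ne (hQ.1 u0 (fun y => by
      rw [QuadraticMap.polarBilin_apply_apply]
      by_contra hy
      exact hcon ⟨y, hy⟩))
  -- project `v` off the family
  obtain ⟨v', hv'def⟩ : ∃ v' : ι → F, v' = v - ∑ s, (QuadraticMap.polar (⇑Q) (w s) v /
      QuadraticMap.polar (⇑Q) (w s) (w s)) • w s := ⟨_, rfl⟩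
  have hpsum : ∀ (a : ι → F) (c : σ → F),
      QuadraticMap.polar (⇑Q) a (∑ s, c s • w s) = ∑ s, c s * QuadraticMap.polar (⇑Q) a (w s) := by
    intro a c
    have h1 : QuadraticMap.polar (⇑Q) a (∑ s, c s • w s)
        = QuadraticMap.polarBilin Q a (∑ s, c s • w s) := by
      rw [QuadraticMap.polarBilin_apply_apply]
    rw [h1, map_sum]
    refine Finset.sum_congr rfl (fun s _ => ?_)
    rw [map_smul, QuadraticMap.polarBilin_apply_apply, smul_eq_mul]
  have hv'1 : ∀ t, QuadraticMap.polar (⇑Q) (w t) v' = 0 := by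
    intro t
    rw [hv'def, QuadraticMap.polar_sub_right, hpsum, Finset.sum_eq_single t]
    · rw [div_mul_cancel₀ _ (hwn t), sub_self]
    · intro s _ hst
      rw [hw t s (fun h => hst h.symm), mul_zero]
    · intro h
      exact absurd (Finset.mem_univ t) h
  have hv'2 : QuadraticMap.polar (⇑Q) u0 v' ≠ 0 := by
    rw [hv'def, QuadraticMap.polar_sub_right, hpsum, Finset.sum_eq_zero, sub_zero]
    · exact hv
    · intro s _
      rw [QuadraticMap.polar_comm (⇑Q) u0 (w s), hu0' s, mul_zero]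
  -- one of `u0`, `v'`, `u0 + v'` is non-singular
  by_cases h1 : Q u0 = 0
  · by_cases h2 : Q v' = 0
    · refine ⟨u0 + v', ?_, fun s => ?_⟩
      · intro h3
        apply hv'2
        unfold QuadraticMap.polar
        rw [h3, h1, h2]
        ring
      · rw [QuadraticMap.polar_add_right, hu0' s, hv'1 s, add_zero]
    · exact ⟨v', h2, hv'1⟩
  · exact ⟨u0, h1, hu0'⟩

theorem h4_jb_fam {F : Type*} [Field F] {ι : Type} [Fintype ι] [DecidableEq ι]
    (h2 : (2 : F) ≠ 0) (Q : QuadraticForm F (ι → F))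
    (hQ : (QuadraticMap.polarBilin Q).Nondegenerate) (X : Matrix ι ι F)
    (hiso : ∀ u, Q (X *ᵥ u) = Q u) (hxx : ∀ u, X *ᵥ (X *ᵥ u) = -u)
    (k : ℕ) (e : Fin k → (ι → F))
    (ho1 : ∀ i j, i ≠ j → QuadraticMap.polar (⇑Q) (e i) (e j) = 0)
    (ho2 : ∀ i j, QuadraticMap.polar (⇑Q) (e i) (X *ᵥ e j) = 0)
    (hne : ∀ i, Q (e i) ≠ 0) (hlt : 2 * k < Fintype.card ι) :
    ∃ e' : Fin (k + 1) → (ι → F),
      (∀ i j, i ≠ j → QuadraticMap.polar (⇑Q) (e' i) (e' j) = 0) ∧
      (∀ i j, QuadraticMap.polar (⇑Q) (e' i) (X *ᵥ e' j) = 0) ∧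
      (∀ i, Q (e' i) ≠ 0) := by
  classical
  have hpol : ∀ u v, QuadraticMap.polar (⇑Q) (X *ᵥ u) (X *ᵥ v) = QuadraticMap.polar (⇑Q) u v := by
    intro u v
    unfold QuadraticMap.polar
    rw [← Matrix.mulVec_add, hiso, hiso, hiso]
  have hselfX : ∀ u, QuadraticMap.polar (⇑Q) u (X *ᵥ u) = 0 := by
    intro u
    have h1 : QuadraticMap.polar (⇑Q) u (X *ᵥ u) = -QuadraticMap.polar (⇑Q) u (X *ᵥ u) := by
      conv_lhs => rw [← hpol u (X *ᵥ u), hxx, QuadraticMap.polar_neg_right,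
        QuadraticMap.polar_comm]
    have h3 : (2 : F) * QuadraticMap.polar (⇑Q) u (X *ᵥ u) = 0 := by linear_combination h1
    rcases mul_eq_zero.mp h3 with h | h
    · exact absurd h h2
    · exact h
  obtain ⟨hw, hwn⟩ := h4_jb_w h2 Q X hiso k e ho1 ho2 hne
  obtain ⟨u, hu, huw⟩ := h4_jb_ext Q hQ (Sum.elim e (fun i => X *ᵥ e i)) hw hwn
    (by rw [Fintype.card_sum, Fintype.card_fin]; omega)
  have hu1 : ∀ i, QuadraticMap.polar (⇑Q) (e i) u = 0 := fun i => huw (Sum.inl i)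
  have hu2 : ∀ i, QuadraticMap.polar (⇑Q) (X *ᵥ e i) u = 0 := fun i => huw (Sum.inr i)
  have hu3 : ∀ i, QuadraticMap.polar (⇑Q) (e i) (X *ᵥ u) = 0 := by
    intro i
    rw [← hpol (e i) (X *ᵥ u), hxx, QuadraticMap.polar_neg_right, hu2 i, neg_zero]
  refine ⟨Fin.cons u e, ?_, ?_, ?_⟩
  · intro i j
    refine Fin.cases ?_ (fun i' => ?_) i <;> refine Fin.cases ?_ (fun j' => ?_) j
    · intro h; exact absurd rfl h
    · intro _
      rw [Fin.cons_zero, Fin.cons_succ, QuadraticMap.polar_comm]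
      exact hu1 j'
    · intro _
      rw [Fin.cons_zero, Fin.cons_succ]
      exact hu1 i'
    · intro h
      rw [Fin.cons_succ, Fin.cons_succ]
      exact ho1 i' j' (fun h' => h (by rw [h']))
  · intro i j
    refine Fin.cases ?_ (fun i' => ?_) i <;> refine Fin.cases ?_ (fun j' => ?_) j
    · rw [Fin.cons_zero]
      exact hselfX u
    · rw [Fin.cons_zero, Fin.cons_succ, QuadraticMap.polar_comm]
      exact hu2 j'
    · rw [Fin.cons_zero, Fin.cons_succ]
      exact hu3 i'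
    · rw [Fin.cons_succ, Fin.cons_succ]
      exact ho2 i' j'
  · intro i
    refine Fin.cases ?_ (fun i' => ?_) i
    · rw [Fin.cons_zero]; exact hu
    · rw [Fin.cons_succ]; exact hne i'

/-- JBASIS (L+), racer copy. -/
theorem h4_sfk_j_basis {F : Type*} [Field F] {ι : Type} [Fintype ι] [DecidableEq ι]
    (h2 : (2 : F) ≠ 0) (Q : QuadraticForm F (ι → F))
    (hQ : (QuadraticMap.polarBilin Q).Nondegenerate)
    (x : GL ι F) (hx : x ∈ Cfsg.isometryGroup F (⇑Q))
    (hxx : (x : Matrix ι ι F) * (x : Matrix ι ι F) = -1) :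
    ∃ (m : ℕ) (e : Fin m → (ι → F)),
      LinearIndependent F (Sum.elim e (fun i => (x : Matrix ι ι F) *ᵥ e i)) ∧
      Fintype.card ι = 2 * m ∧
      (∀ i j, i ≠ j → QuadraticMap.polar (⇑Q) (e i) (e j) = 0) ∧
      (∀ i j, QuadraticMap.polar (⇑Q) (e i) ((x : Matrix ι ι F) *ᵥ e j) = 0) ∧
      ∀ i, Q (e i) ≠ 0 := by
  classical
  have hiso : ∀ u, Q ((x : Matrix ι ι F) *ᵥ u) = Q u := fun u => hx u u
  have hxx' : ∀ u, (x : Matrix ι ι F) *ᵥ ((x : Matrix ι ι F) *ᵥ u) = -u := by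
    intro u
    rw [Matrix.mulVec_mulVec, hxx, Matrix.neg_mulVec, Matrix.one_mulVec]
  have hli : ∀ (k : ℕ) (e : Fin k → (ι → F)),
      (∀ i j, i ≠ j → QuadraticMap.polar (⇑Q) (e i) (e j) = 0) →
      (∀ i j, QuadraticMap.polar (⇑Q) (e i) ((x : Matrix ι ι F) *ᵥ e j) = 0) →
      (∀ i, Q (e i) ≠ 0) →
      LinearIndependent F (Sum.elim e (fun i => (x : Matrix ι ι F) *ᵥ e i)) := by
    intro k e ho1 ho2 hne
    obtain ⟨hw, hwn⟩ := h4_jb_w h2 Q (x : Matrix ι ι F) hiso k e ho1 ho2 hne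
    refine LinearMap.BilinForm.linearIndependent_of_iIsOrtho (B := QuadraticMap.polarBilin Q) ?_ ?_
    · intro s t hst
      show QuadraticMap.polarBilin Q _ _ = 0
      rw [QuadraticMap.polarBilin_apply_apply]
      exact hw s t hst
    · intro s
      rw [QuadraticMap.polarBilin_apply_apply]
      exact hwn s
  have hcard : ∀ (k : ℕ) (e : Fin k → (ι → F)),
      (∀ i j, i ≠ j → QuadraticMap.polar (⇑Q) (e i) (e j) = 0) →
      (∀ i j, QuadraticMap.polar (⇑Q) (e i) ((x : Matrix ι ι F) *ᵥ e j) = 0) →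
      (∀ i, Q (e i) ≠ 0) → 2 * k ≤ Fintype.card ι := by
    intro k e ho1 ho2 hne
    have h := (hli k e ho1 ho2 hne).fintype_card_le_finrank
    rw [Module.finrank_fintype_fun_eq_card, Fintype.card_sum, Fintype.card_fin] at h
    omega
  have hfam : ∀ k : ℕ, 2 * k ≤ Fintype.card ι → ∃ e : Fin k → (ι → F),
      (∀ i j, i ≠ j → QuadraticMap.polar (⇑Q) (e i) (e j) = 0) ∧
      (∀ i j, QuadraticMap.polar (⇑Q) (e i) ((x : Matrix ι ι F) *ᵥ e j) = 0) ∧
      (∀ i, Q (e i) ≠ 0) := by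
    intro k
    induction k with
    | zero =>
      intro _
      exact ⟨fun i => i.elim0, fun i => i.elim0, fun i => i.elim0, fun i => i.elim0⟩
    | succ k ih =>
      intro hk
      obtain ⟨e, ho1, ho2, hne⟩ := ih (by omega)
      exact h4_jb_fam h2 Q hQ (x : Matrix ι ι F) hiso hxx' k e ho1 ho2 hne (by omega)
  obtain ⟨e, ho1, ho2, hne⟩ := hfam (Fintype.card ι / 2) (by omega)
  have heven : Fintype.card ι = 2 * (Fintype.card ι / 2) := by
    by_contra hcon
    obtain ⟨e', ho1', ho2', hne'⟩ := h4_jb_fam h2 Q hQ (x : Matrix ι ι F) hiso hxx'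
      (Fintype.card ι / 2) e ho1 ho2 hne (by omega)
    have := hcard _ e' ho1' ho2' hne'
    omega
  exact ⟨Fintype.card ι / 2, e, hli _ e ho1 ho2 hne, heven, ho1, ho2, hne⟩

end Cfsg.Agent.Lib.helper59.Sfk
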