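import Mathlib

/-!
S5977 / S5978 block [A], leaf PAIR (racer copy, helper4): a fixed-point-free involution of `Fin n`
preserving a sign vector with an even number of `-1`s (`n` even).
-/

set_option autoImplicit false

namespace Cfsg.Agent.Lib.helper59.Sfk

/-- a fixed-point-free involution on a finite type of even cardinality -/
theorem h4_fpf_invol (α : Type*) [Fintype α] (h : Even (Fintype.card α)) :
    ∃ σ : Equiv.Perm α, (∀ a, σ (σ a) = a) ∧ ∀ a, σ a ≠ a := by
  classical
  obtain ⟨k, hk⟩ := h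
  have hc : Fintype.card α = Fintype.card (Fin k ⊕ Fin k) := by
    rw [Fintype.card_sum, Fintype.card_fin, hk]
  obtain ⟨e⟩ : Nonempty (α ≃ Fin k ⊕ Fin k) := Fintype.card_eq.mp hc
  refine ⟨e.trans ((Equiv.sumComm (Fin k) (Fin k)).trans e.symm), ?_, ?_⟩
  · intro a
    simp
  · intro a ha
    have h1 : (Equiv.sumComm (Fin k) (Fin k)) (e a) = e a := by
      have := congrArg e ha
      simpa using this
    rcases h2 : e a with i | i <;> rw [h2] at h1 <;> simp at h1

/-- PAIR (M; pure combinatorics), racer copy. -/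
theorem h4_sfk_pairing {F : Type*} [Field F] [DecidableEq F] (h2 : (2 : F) ≠ 0) (n : ℕ) (hn : Even n)
    (ε : Fin n → F) (hε : ∀ i, ε i = 1 ∨ ε i = -1)
    (hneg : Even (Finset.univ.filter (fun i => ε i = -1)).card) :
    ∃ π : Fin n → Fin n, (∀ i, π (π i) = i) ∧ (∀ i, π i ≠ i) ∧ ∀ i, ε (π i) = ε i := by
  classical
  have hcA : Fintype.card {i : Fin n // ε i = -1} = (Finset.univ.filter (fun i => ε i = -1)).card :=
    Fintype.card_subtype _
  have hA : Even (Fintype.card {i : Fin n // ε i = -1}) := by rw [hcA]; exact hneg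
  have hB : Even (Fintype.card {i : Fin n // ¬ ε i = -1}) := by
    rw [Fintype.card_subtype_compl, Fintype.card_fin]
    have hle : Fintype.card {i : Fin n // ε i = -1} ≤ n := by
      have := Fintype.card_subtype_le (fun i : Fin n => ε i = -1)
      rwa [Fintype.card_fin] at this
    obtain ⟨a, ha⟩ := hA
    obtain ⟨b, hb⟩ := hn
    exact ⟨b - a, by omega⟩
  obtain ⟨σA, hA1, hA2⟩ := h4_fpf_invol _ hA
  obtain ⟨σB, hB1, hB2⟩ := h4_fpf_invol _ hB
  refine ⟨fun i => σA.subtypeCongr σB i, ?_, ?_, ?_⟩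
  · intro i
    by_cases hi : ε i = -1
    · have h1 : σA.subtypeCongr σB i = (σA ⟨i, hi⟩ : Fin n) := Equiv.Perm.subtypeCongr.left_apply (p := fun i : Fin n => ε i = -1) σA σB hi
      have h3 : σA.subtypeCongr σB (σA ⟨i, hi⟩ : Fin n) = (σA (σA ⟨i, hi⟩) : Fin n) :=
        Equiv.Perm.subtypeCongr.left_apply_subtype (p := fun i : Fin n => ε i = -1) σA σB _
      show σA.subtypeCongr σB (σA.subtypeCongr σB i) = i
      rw [h1, h3, hA1]
    · have h1 : σA.subtypeCongr σB i = (σB ⟨i, hi⟩ : Fin n) := Equiv.Perm.subtypeCongr.right_apply (p := fun i : Fin n => ε i = -1) σA σB hi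
      have h3 : σA.subtypeCongr σB (σB ⟨i, hi⟩ : Fin n) = (σB (σB ⟨i, hi⟩) : Fin n) :=
        Equiv.Perm.subtypeCongr.right_apply_subtype (p := fun i : Fin n => ε i = -1) σA σB _
      show σA.subtypeCongr σB (σA.subtypeCongr σB i) = i
      rw [h1, h3, hB1]
  · intro i hfix
    by_cases hi : ε i = -1
    · have h1 : σA.subtypeCongr σB i = (σA ⟨i, hi⟩ : Fin n) := Equiv.Perm.subtypeCongr.left_apply (p := fun i : Fin n => ε i = -1) σA σB hi
      apply hA2 ⟨i, hi⟩
      apply Subtype.ext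
      show (σA ⟨i, hi⟩ : Fin n) = i
      rw [← h1]; exact hfix
    · have h1 : σA.subtypeCongr σB i = (σB ⟨i, hi⟩ : Fin n) := Equiv.Perm.subtypeCongr.right_apply (p := fun i : Fin n => ε i = -1) σA σB hi
      apply hB2 ⟨i, hi⟩
      apply Subtype.ext
      show (σB ⟨i, hi⟩ : Fin n) = i
      rw [← h1]; exact hfix
  · intro i
    by_cases hi : ε i = -1
    · have h1 : σA.subtypeCongr σB i = (σA ⟨i, hi⟩ : Fin n) := Equiv.Perm.subtypeCongr.left_apply (p := fun i : Fin n => ε i = -1) σA σB hi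
      show ε (σA.subtypeCongr σB i) = ε i
      rw [h1, hi]
      exact (σA ⟨i, hi⟩).2
    · have h1 : σA.subtypeCongr σB i = (σB ⟨i, hi⟩ : Fin n) := Equiv.Perm.subtypeCongr.right_apply (p := fun i : Fin n => ε i = -1) σA σB hi
      show ε (σA.subtypeCongr σB i) = ε i
      rw [h1]
      have h3 : ¬ ε (σB ⟨i, hi⟩ : Fin n) = -1 := (σB ⟨i, hi⟩).2
      rcases hε (σB ⟨i, hi⟩ : Fin n) with h4 | h4
      · rcases hε i with h5 | h5
        · rw [h4, h5]
        · exact absurd h5 hi
      · exact absurd h4 h3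

end Cfsg.Agent.Lib.helper59.Sfk
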