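import Mathlib
import Cfsg.Agent.Lib.helper24.SroReal
import Cfsg.Agent.Lib.helper63.SuTI10

/-!
helper4: S5988 piece UGEN (`sre_unip_generic`), written as parallel insurance for the UNIP
wrapper: invariant even-dimensional subspaces of a "transvection-like" isometry are of plus type.
-/

set_option autoImplicit false

namespace Cfsg.Agent.Lib.helper4

open Module Cfsg.Agent.Lib.helper24 Cfsg.Agent.Lib.helper45 Cfsg.Agent.Lib.helper49

universe u

variable {F : Type u} [Field F] [Fintype F]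

omit [Fintype F] in
/-- UGEN -/
theorem sre_unip_generic {V : Type u} [AddCommGroup V] [Module F V] [FiniteDimensional F V]
    (Q : QuadraticForm F V) (T : Module.End F V) (hT : ∀ v, Q (T v) = Q v)
    (hN : ∀ v, Q (T v - v) = 0) (S : Submodule F V) (hS : ∀ s ∈ S, Q s = 0)
    (hSK : S ≤ LinearMap.ker (T - 1))
    (hdim : finrank F (LinearMap.ker (T - 1)) ≤ finrank F S + 1)
    (W : Submodule F V) (hWinv : ∀ w ∈ W, T w ∈ W) (hev : Even (finrank F W)) :
    SrPlus Q W := by
  have hNap : ∀ v, (T - 1) v = T v - v := fun v => by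
    rw [LinearMap.sub_apply, Module.End.one_apply]
  have hfix : ∀ s ∈ S, T s = s := by
    intro s hs
    have h1 := hSK hs
    rw [LinearMap.mem_ker, hNap, sub_eq_zero] at h1
    exact h1
  have hpol : ∀ x y, QuadraticMap.polar Q (T x) (T y) = QuadraticMap.polar Q x y := by
    intro x y
    unfold QuadraticMap.polar
    rw [← map_add, hT, hT, hT]
  -- the totally singular subspace
  have hU0W : W.map (T - 1) ⊔ (W ⊓ S) ≤ W := by
    apply sup_le
    · rintro _ ⟨w, hw, rfl⟩
      rw [hNap]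
      exact W.sub_mem (hWinv w hw) hw
    · exact inf_le_left
  have hU0s : ∀ u ∈ W.map (T - 1) ⊔ (W ⊓ S), Q u = 0 := by
    intro u hu
    obtain ⟨y, hy, s, hs, rfl⟩ := Submodule.mem_sup.1 hu
    obtain ⟨w, hw, rfl⟩ := hy
    rw [QuadraticMap.map_add (⇑Q), hNap, hN w, hS s hs.2, QuadraticMap.polar_sub_left]
    have h1 : QuadraticMap.polar Q (T w) s = QuadraticMap.polar Q w s := by
      conv_lhs => rw [← hfix s hs.2]
      exact hpol w s
    rw [h1]; simp
  -- dimensions
  have hrn : finrank F (W.map (T - 1)) + finrank F ↥(W ⊓ LinearMap.ker (T - 1)) = finrank F W := by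
    have h1 := LinearMap.finrank_range_add_finrank_ker ((T - 1).comp W.subtype)
    have h2 : LinearMap.range ((T - 1).comp W.subtype) = W.map (T - 1) := by
      rw [LinearMap.range_comp, Submodule.range_subtype]
    have h3 : finrank F (LinearMap.ker ((T - 1).comp W.subtype)) =
        finrank F ↥(W ⊓ LinearMap.ker (T - 1)) := by
      rw [LinearMap.ker_comp, ← Submodule.map_comap_subtype]
      exact (Submodule.finrank_map_subtype_eq _ _).symm
    rw [h2, h3] at h1
    exact h1
  have hA : finrank F ↥(W ⊓ LinearMap.ker (T - 1)) ≤ finrank F ↥(W ⊓ S) + 1 := by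
    have h1 := Submodule.finrank_sup_add_finrank_inf_eq (W ⊓ LinearMap.ker (T - 1)) S
    have h2 : (W ⊓ LinearMap.ker (T - 1)) ⊓ S = W ⊓ S := by
      rw [inf_assoc, inf_eq_right.2 hSK]
    have h3 : finrank F ↥((W ⊓ LinearMap.ker (T - 1)) ⊔ S) ≤ finrank F (LinearMap.ker (T - 1)) :=
      Submodule.finrank_mono (sup_le inf_le_right hSK)
    rw [h2] at h1
    omega
  have h1 : finrank F (W.map (T - 1)) ≤ finrank F ↥(W.map (T - 1) ⊔ (W ⊓ S)) :=
    Submodule.finrank_mono le_sup_left
  have h2 : finrank F ↥(W ⊓ S) ≤ finrank F ↥(W.map (T - 1) ⊔ (W ⊓ S)) :=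
    Submodule.finrank_mono le_sup_right
  obtain ⟨k, hk⟩ := hev
  have h3 : k ≤ finrank F ↥(W.map (T - 1) ⊔ (W ⊓ S)) := by omega
  obtain ⟨U, hU, hUdim⟩ := Cfsg.Agent.Lib.helper63.SuTI.exists_sub_finrank _ k h3
  exact ⟨U, hU.trans hU0W, fun u hu => hU0s u (hU hu), by omega⟩

end Cfsg.Agent.Lib.helper4
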