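import Mathlib
import Cfsg.Agent.Lib.helper24.SroReal
import Cfsg.Agent.Lib.helper49.Levi
import Cfsg.Agent.Lib.helper49.Forms

/-!
helper4: core of S5988 piece UNIP (`sre_unip_plus`): the unipotent element
`levi (1 + M)` of `Ω⁺_{2d}(q)`, with piece UGEN as a hypothesis.
-/

set_option autoImplicit false

namespace Cfsg.Agent.Lib.helper4

open Module Matrix Cfsg.Agent.Lib.helper24 Cfsg.Agent.Lib.helper45 Cfsg.Agent.Lib.helper49

universe u

section

variable {F : Type u} [Field F]

/-- the nilpotent shift matrix `M a b = [b = a + h]` -/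
def sreM (d h : ℕ) (F : Type u) [Field F] : Matrix (Fin d) (Fin d) F :=
  Matrix.of fun a b => if (b : ℕ) = (a : ℕ) + h then (1 : F) else 0

theorem sreM_mulVec (d h : ℕ) (x : Fin d → F) (a : Fin d) :
    (sreM d h F *ᵥ x) a = if h' : (a : ℕ) + h < d then x ⟨(a : ℕ) + h, h'⟩ else 0 := by
  unfold sreM
  simp only [Matrix.mulVec, dotProduct, Matrix.of_apply]
  split_ifs with h'
  · rw [Finset.sum_eq_single (⟨(a : ℕ) + h, h'⟩ : Fin d)]
    · simp
    · intro b _ hb
      have : (b : ℕ) ≠ (a : ℕ) + h := fun hh => hb (Fin.ext hh)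
      simp [this]
    · intro hh; exact absurd (Finset.mem_univ _) hh
  · apply Finset.sum_eq_zero
    intro b _
    have : (b : ℕ) ≠ (a : ℕ) + h := fun hh => h' (hh ▸ b.2)
    simp [this]

theorem sreMt_mulVec (d h : ℕ) (y : Fin d → F) (a : Fin d) :
    ((sreM d h F)ᵀ *ᵥ y) a =
      if h' : h ≤ (a : ℕ) then y ⟨(a : ℕ) - h, lt_of_le_of_lt (Nat.sub_le _ _) a.2⟩ else 0 := by
  unfold sreM
  simp only [Matrix.mulVec, dotProduct, Matrix.transpose_apply, Matrix.of_apply]
  split_ifs with h'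
  · rw [Finset.sum_eq_single (⟨(a : ℕ) - h, lt_of_le_of_lt (Nat.sub_le _ _) a.2⟩ : Fin d)]
    · have : (a : ℕ) = (a : ℕ) - h + h := (Nat.sub_add_cancel h').symm
      simp [← this]
    · intro b _ hb
      have : (a : ℕ) ≠ (b : ℕ) + h := fun hh => hb (Fin.ext (by simp; omega))
      simp [this]
    · intro hh; exact absurd (Finset.mem_univ _) hh
  · apply Finset.sum_eq_zero
    intro b _
    have : (a : ℕ) ≠ (b : ℕ) + h := fun hh => h' (by omega)
    simp [this]

theorem sreM_sq (d h : ℕ) (hh : d ≤ 2 * h) : sreM d h F * sreM d h F = 0 := by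
  ext a c
  rw [Matrix.mul_apply]
  apply Finset.sum_eq_zero
  intro b _
  unfold sreM
  simp only [Matrix.of_apply]
  by_cases h1 : (b : ℕ) = (a : ℕ) + h
  · have h2 : (c : ℕ) ≠ (b : ℕ) + h := by have := c.2; omega
    simp [h2]
  · simp [h1]

theorem sre_det (d h : ℕ) (hh : 1 ≤ h) : (1 + sreM d h F).det = 1 := by
  rw [Matrix.det_of_isUpperTriangular]
  · apply Finset.prod_eq_one
    intro a _
    have : h ≠ 0 := by omega
    simp [sreM, this]
  · intro a b hab
    have hab' : (b : ℕ) < (a : ℕ) := hab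
    have h1 : (b : ℕ) ≠ (a : ℕ) + h := by omega
    have h2 : a ≠ b := fun hh => by rw [hh] at hab'; exact lt_irrefl _ hab'
    simp [sreM, h1, Matrix.one_apply_ne h2]

theorem sre_inv (d h : ℕ) (hh : d ≤ 2 * h) : (1 + sreM d h F)⁻¹ = 1 - sreM d h F := by
  apply Matrix.inv_eq_right_inv
  have := sreM_sq (F := F) d h hh
  calc (1 + sreM d h F) * (1 - sreM d h F) = 1 - sreM d h F * sreM d h F := by noncomm_ring
    _ = 1 := by rw [this, sub_zero]

theorem sre_pow (d h : ℕ) (hh : d ≤ 2 * h) (k : ℕ) :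
    (1 + sreM d h F) ^ k = 1 + (k : F) • sreM d h F := by
  have hsq := sreM_sq (F := F) d h hh
  induction k with
  | zero => simp
  | succ k ih =>
    rw [pow_succ, ih]
    have : (1 + (k : F) • sreM d h F) * (1 + sreM d h F) =
        1 + (k : F) • sreM d h F + sreM d h F + (k : F) • (sreM d h F * sreM d h F) := by
      rw [mul_add, add_mul, one_mul, mul_one, add_mul, one_mul, Matrix.smul_mul]
      abel
    rw [this, hsq, smul_zero, add_zero, add_assoc]
    congr 1
    rw [Nat.cast_succ, add_smul, one_smul]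

end

section plus

variable {F : Type u} [Field F]

/-- the matrix of the unipotent element -/
theorem sre_levi_val (d h : ℕ) (hh : d ≤ 2 * h) (As : Matrix.SpecialLinearGroup (Fin d) F)
    (hAs : (As : Matrix (Fin d) (Fin d) F) = 1 + sreM d h F) :
    ((levi (Matrix.SpecialLinearGroup.toGL As) : GL (Fin d ⊕ Fin d) F) :
        Matrix (Fin d ⊕ Fin d) (Fin d ⊕ Fin d) F) =
      Matrix.fromBlocks (1 + sreM d h F) 0 0 (1 - (sreM d h F)ᵀ) := by
  rw [levi_val, Matrix.SpecialLinearGroup.coe_GL_coe_matrix, hAs, sre_inv d h hh,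
    Matrix.transpose_sub, Matrix.transpose_one]

/-- `g v - v`, first half of the coordinates -/
theorem sre_sub_inl (d h : ℕ) (v : Fin d ⊕ Fin d → F) (a : Fin d) :
    ((Matrix.fromBlocks (1 + sreM d h F) (0 : Matrix (Fin d) (Fin d) F)
        (0 : Matrix (Fin d) (Fin d) F) (1 - (sreM d h F)ᵀ) *ᵥ v - v : Fin d ⊕ Fin d → F))
        (Sum.inl a) =
      if h' : (a : ℕ) + h < d then v (Sum.inl ⟨(a : ℕ) + h, h'⟩) else 0 := by
  rw [Pi.sub_apply, Matrix.fromBlocks_mulVec, Sum.elim_inl, Pi.add_apply, Matrix.zero_mulVec,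
    Pi.zero_apply, add_zero, Matrix.add_mulVec, Matrix.one_mulVec, Pi.add_apply, sreM_mulVec]
  simp

/-- `g v - v`, second half of the coordinates -/
theorem sre_sub_inr (d h : ℕ) (v : Fin d ⊕ Fin d → F) (a : Fin d) :
    ((Matrix.fromBlocks (1 + sreM d h F) (0 : Matrix (Fin d) (Fin d) F)
        (0 : Matrix (Fin d) (Fin d) F) (1 - (sreM d h F)ᵀ) *ᵥ v - v : Fin d ⊕ Fin d → F))
        (Sum.inr a) =
      if h' : h ≤ (a : ℕ) then
        - v (Sum.inr ⟨(a : ℕ) - h, lt_of_le_of_lt (Nat.sub_le _ _) a.2⟩) else 0 := by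
  rw [Pi.sub_apply, Matrix.fromBlocks_mulVec, Sum.elim_inr, Pi.add_apply, Matrix.zero_mulVec,
    Pi.zero_apply, zero_add, Matrix.sub_mulVec, Matrix.one_mulVec, Pi.sub_apply, sreMt_mulVec]
  split_ifs <;> simp

/-- the totally singular subspace `S` inside `ker (g - 1)` -/
def sreS (d h : ℕ) (F : Type u) [Field F] : Submodule F (Fin d ⊕ Fin d → F) where
  carrier := {v | (∀ b : Fin d, h ≤ (b : ℕ) → v (Sum.inl b) = 0) ∧
    (∀ b : Fin d, (b : ℕ) < h → v (Sum.inr b) = 0)}
  add_mem' := by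
    rintro x y ⟨hx1, hx2⟩ ⟨hy1, hy2⟩
    exact ⟨fun b hb => by rw [Pi.add_apply, hx1 b hb, hy1 b hb, add_zero],
      fun b hb => by rw [Pi.add_apply, hx2 b hb, hy2 b hb, add_zero]⟩
  zero_mem' := ⟨fun _ _ => rfl, fun _ _ => rfl⟩
  smul_mem' := by
    rintro c x ⟨hx1, hx2⟩
    exact ⟨fun b hb => by rw [Pi.smul_apply, hx1 b hb, smul_zero],
      fun b hb => by rw [Pi.smul_apply, hx2 b hb, smul_zero]⟩

variable [Fintype F]

/-- core of UNIP, with UGEN (for the standard plus form) as a hypothesis -/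
theorem sre_unip_plus_of (p : ℕ) [Fact p.Prime] [CharP F p] (d : ℕ) (hd : 3 ≤ d)
    (hU : ∀ (T : Module.End F (Fin d ⊕ Fin d → F)),
      (∀ v, plusForm d F (T v) = plusForm d F v) → (∀ v, plusForm d F (T v - v) = 0) →
      ∀ S : Submodule F (Fin d ⊕ Fin d → F), (∀ s ∈ S, plusForm d F s = 0) →
      S ≤ LinearMap.ker (T - 1) → finrank F (LinearMap.ker (T - 1)) ≤ finrank F S + 1 →
      ∀ W : Submodule F (Fin d ⊕ Fin d → F), (∀ w ∈ W, T w ∈ W) → Even (finrank F W) →
      SrPlus (plusForm d F) W) :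
    ∃ g : GL (Fin d ⊕ Fin d) F, g ∈ Cfsg.Geo.omegaGL (Cfsg.quadFormPlus d F) ∧ g ^ p = 1 ∧
      (∀ z : F, (g : Matrix (Fin d ⊕ Fin d) (Fin d ⊕ Fin d) F) ≠
        z • (1 : Matrix (Fin d ⊕ Fin d) (Fin d ⊕ Fin d) F)) ∧
      ∀ W : Submodule F (Fin d ⊕ Fin d → F), Even (finrank F W) →
        W.map (Matrix.toLin' (g : Matrix (Fin d ⊕ Fin d) (Fin d ⊕ Fin d) F)) ≤ W →
        Cfsg.Geo.IsPlusTypeOn (Cfsg.quadFormPlus d F) W := by
  classical
  set h : ℕ := (d + 1) / 2 with hh
  have hh1 : d ≤ 2 * h := by omega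
  have hh2 : 2 * h ≤ d + 1 := by omega
  have hh3 : 2 ≤ h := by omega
  have hh4 : h < d := by omega
  let As : Matrix.SpecialLinearGroup (Fin d) F := ⟨1 + sreM d h F, sre_det d h (by omega)⟩
  have hAs : (As : Matrix (Fin d) (Fin d) F) = 1 + sreM d h F := rfl
  let gi : ↥(Cfsg.isometryGroup F (Cfsg.quadFormPlus d F)) :=
    levi (Matrix.SpecialLinearGroup.toGL As)
  have hgval : ((gi : GL (Fin d ⊕ Fin d) F) : Matrix (Fin d ⊕ Fin d) (Fin d ⊕ Fin d) F) =
      Matrix.fromBlocks (1 + sreM d h F) 0 0 (1 - (sreM d h F)ᵀ) := sre_levi_val d h hh1 As hAs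
  refine ⟨(gi : GL (Fin d ⊕ Fin d) F), ?_, ?_, ?_, ?_⟩
  · -- membership in Ω
    exact Subgroup.mem_map_of_mem _ (levi_toGL_mem_Omega (Or.inr (by omega)) As)
  · -- order p
    have hAp : As ^ p = 1 := by
      apply Subtype.ext
      rw [Matrix.SpecialLinearGroup.coe_pow, hAs, sre_pow d h hh1, CharP.cast_eq_zero F p,
        zero_smul, add_zero]
      rfl
    have h1 : gi ^ p = 1 := by
      show (levi (Matrix.SpecialLinearGroup.toGL As)) ^ p = 1
      rw [← map_pow, ← map_pow, hAp, map_one, map_one]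
    have h2 : ((gi ^ p : ↥(Cfsg.isometryGroup F (Cfsg.quadFormPlus d F))) :
        GL (Fin d ⊕ Fin d) F) = (gi : GL (Fin d ⊕ Fin d) F) ^ p := Subgroup.coe_pow _ _ _
    rw [← h2, h1]; rfl
  · -- not scalar
    intro z hz
    rw [hgval] at hz
    have h1 := congrFun (congrFun hz (Sum.inl ⟨0, by omega⟩)) (Sum.inl ⟨h, hh4⟩)
    have hne : (⟨0, by omega⟩ : Fin d) ≠ ⟨h, hh4⟩ := by
      intro hc
      have := congrArg Fin.val hc
      simp at this
      omega
    rw [Matrix.fromBlocks_apply₁₁, Matrix.add_apply, Matrix.one_apply_ne hne, Matrix.smul_apply,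
      Matrix.one_apply_ne (by simpa using hne), smul_zero, zero_add] at h1
    simp [sreM] at h1
  · -- invariant even-dimensional subspaces are of plus type
    intro W hev hW
    have hT : ∀ v, plusForm d F (Matrix.toLin' ((gi : GL (Fin d ⊕ Fin d) F) :
        Matrix (Fin d ⊕ Fin d) (Fin d ⊕ Fin d) F) v) = plusForm d F v := by
      intro v
      rw [Matrix.toLin'_apply]
      exact (mem_isometryGroup_iff _ _).1 gi.2 v
    have hsub : ∀ v, Matrix.toLin' ((gi : GL (Fin d ⊕ Fin d) F) :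
        Matrix (Fin d ⊕ Fin d) (Fin d ⊕ Fin d) F) v - v =
        Matrix.fromBlocks (1 + sreM d h F) (0 : Matrix (Fin d) (Fin d) F)
          (0 : Matrix (Fin d) (Fin d) F) (1 - (sreM d h F)ᵀ) *ᵥ v - v := by
      intro v
      rw [Matrix.toLin'_apply, hgval]
    have hN : ∀ v, plusForm d F (Matrix.toLin' ((gi : GL (Fin d ⊕ Fin d) F) :
        Matrix (Fin d ⊕ Fin d) (Fin d ⊕ Fin d) F) v - v) = 0 := by
      intro v
      rw [hsub]
      show Cfsg.quadFormPlus d F _ = 0
      unfold Cfsg.quadFormPlus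
      apply Finset.sum_eq_zero
      intro a _
      rw [sre_sub_inl, sre_sub_inr]
      by_cases h1 : (a : ℕ) + h < d
      · have h2 : ¬ h ≤ (a : ℕ) := by omega
        rw [dif_neg h2, mul_zero]
      · rw [dif_neg h1, zero_mul]
    have hS : ∀ s ∈ sreS d h F, plusForm d F s = 0 := by
      rintro s ⟨hs1, hs2⟩
      show Cfsg.quadFormPlus d F s = 0
      unfold Cfsg.quadFormPlus
      apply Finset.sum_eq_zero
      intro a _
      by_cases h1 : h ≤ (a : ℕ)
      · rw [hs1 a h1, zero_mul]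
      · rw [hs2 a (by omega), mul_zero]
    have hSK : sreS d h F ≤ LinearMap.ker (Matrix.toLin' ((gi : GL (Fin d ⊕ Fin d) F) :
        Matrix (Fin d ⊕ Fin d) (Fin d ⊕ Fin d) F) - 1) := by
      rintro s ⟨hs1, hs2⟩
      rw [LinearMap.mem_ker, LinearMap.sub_apply, Module.End.one_apply, hsub]
      funext k
      rcases k with a | a
      · rw [sre_sub_inl]
        by_cases h1 : (a : ℕ) + h < d
        · rw [dif_pos h1]; exact hs1 _ (by simp)
        · rw [dif_neg h1]; rfl
      · rw [sre_sub_inr]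
        by_cases h1 : h ≤ (a : ℕ)
        · rw [dif_pos h1, hs2 _ (by have := a.2; simp; omega), neg_zero]; rfl
        · rw [dif_neg h1]; rfl
    have hdim : finrank F (LinearMap.ker (Matrix.toLin' ((gi : GL (Fin d ⊕ Fin d) F) :
        Matrix (Fin d ⊕ Fin d) (Fin d ⊕ Fin d) F) - 1)) ≤ finrank F (sreS d h F) + 1 := by
      let c : Fin d := ⟨h - 1, by omega⟩
      let e : Fin d ⊕ Fin d → F := Pi.single (Sum.inr c) 1
      have hle : LinearMap.ker (Matrix.toLin' ((gi : GL (Fin d ⊕ Fin d) F) :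
          Matrix (Fin d ⊕ Fin d) (Fin d ⊕ Fin d) F) - 1) ≤ sreS d h F ⊔ Submodule.span F {e} := by
        intro v hv
        rw [LinearMap.mem_ker, LinearMap.sub_apply, Module.End.one_apply, hsub] at hv
        have hv1 : ∀ b : Fin d, h ≤ (b : ℕ) → v (Sum.inl b) = 0 := by
          intro b hb
          have h1 := congrFun hv (Sum.inl ⟨(b : ℕ) - h, by have := b.2; omega⟩)
          rw [sre_sub_inl, dif_pos (by have := b.2; simp; omega)] at h1
          have h2 : (⟨(b : ℕ) - h + h, by have := b.2; omega⟩ : Fin d) = b :=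
            Fin.ext (by simp; omega)
          simp only at h1
          rw [h2] at h1
          exact h1
        have hv2 : ∀ b : Fin d, (b : ℕ) + h < d → v (Sum.inr b) = 0 := by
          intro b hb
          have h1 := congrFun hv (Sum.inr ⟨(b : ℕ) + h, hb⟩)
          rw [sre_sub_inr, dif_pos (by simp)] at h1
          have h2 : (⟨(b : ℕ) + h - h, by have := b.2; omega⟩ : Fin d) = b :=
            Fin.ext (by simp)
          simp only at h1
          rw [h2] at h1
          exact neg_eq_zero.1 h1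
        have hdec : v = (v - v (Sum.inr c) • e) + v (Sum.inr c) • e := by abel
        rw [hdec]
        refine Submodule.add_mem_sup ?_ (Submodule.smul_mem _ _ (Submodule.subset_span rfl))
        refine ⟨fun b hb => ?_, fun b hb => ?_⟩
        · rw [Pi.sub_apply, Pi.smul_apply, hv1 b hb]
          simp [e]
        · rw [Pi.sub_apply, Pi.smul_apply]
          by_cases hbc : b = c
          · subst hbc; simp [e]
          · have h3 : (b : ℕ) ≠ h - 1 := fun hh' => hbc (Fin.ext hh')
            rw [hv2 b (by omega)]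
            have : e (Sum.inr b) = 0 := by
              simp only [e]
              rw [Pi.single_apply, if_neg (by simpa using hbc)]
            rw [this, smul_zero, sub_zero]
      calc finrank F (LinearMap.ker (Matrix.toLin' ((gi : GL (Fin d ⊕ Fin d) F) :
            Matrix (Fin d ⊕ Fin d) (Fin d ⊕ Fin d) F) - 1))
          ≤ finrank F ↥(sreS d h F ⊔ Submodule.span F {e}) := Submodule.finrank_mono hle
        _ ≤ finrank F (sreS d h F) + finrank F (Submodule.span F {e}) :=
            Submodule.finrank_add_le_finrank_add_finrank _ _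
        _ ≤ finrank F (sreS d h F) + 1 := by
            have := finrank_span_le_card (R := F) ({e} : Set (Fin d ⊕ Fin d → F))
            simp at this
            omega
    have hWinv : ∀ w ∈ W, Matrix.toLin' ((gi : GL (Fin d ⊕ Fin d) F) :
        Matrix (Fin d ⊕ Fin d) (Fin d ⊕ Fin d) F) w ∈ W :=
      fun w hw => hW (Submodule.mem_map_of_mem hw)
    exact hU _ hT hN (sreS d h F) hS hSK hdim W hWinv hev

end plus

end Cfsg.Agent.Lib.helper4
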