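import Mathlib
import Cfsg.Agent.Lib.helper24.SroReal
import Cfsg.Agent.Lib.helper4.SreUGEN
import Cfsg.Agent.Lib.helper4.SreUNIPa

/-!
helper4: S5988 piece UNIP (`sre_unip_plus`): an element of order `p` of `Ω⁺_{2d}(q)` all of
whose invariant subspaces of even dimension are of plus type.
-/

set_option autoImplicit false

namespace Cfsg.Agent.Lib.helper4

open Module Cfsg.Agent.Lib.helper24 Cfsg.Agent.Lib.helper45 Cfsg.Agent.Lib.helper49

universe u

variable {F : Type u} [Field F] [Fintype F]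

/-- UNIP -/
theorem sre_unip_plus (p : ℕ) [Fact p.Prime] [CharP F p] (d : ℕ) (hd : 3 ≤ d) :
    ∃ g : GL (Fin d ⊕ Fin d) F, g ∈ Cfsg.Geo.omegaGL (Cfsg.quadFormPlus d F) ∧ g ^ p = 1 ∧
      (∀ z : F, (g : Matrix (Fin d ⊕ Fin d) (Fin d ⊕ Fin d) F) ≠
        z • (1 : Matrix (Fin d ⊕ Fin d) (Fin d ⊕ Fin d) F)) ∧
      ∀ W : Submodule F (Fin d ⊕ Fin d → F), Even (finrank F W) →
        W.map (Matrix.toLin' (g : Matrix (Fin d ⊕ Fin d) (Fin d ⊕ Fin d) F)) ≤ W →
        Cfsg.Geo.IsPlusTypeOn (Cfsg.quadFormPlus d F) W :=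
  sre_unip_plus_of p d hd (fun T hT hN S hS hSK hdim W hWinv hev =>
    sre_unip_generic (plusForm d F) T hT hN S hS hSK hdim W hWinv hev)

end Cfsg.Agent.Lib.helper4
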