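import Cfsg.Agent.Lib.helper74.TBGroup
import Cfsg.Agent.Lib.helper4.D1Y1

/-!
# TB piece B2a (S4441 / S0960, sub-project SP-B): rank-one maps on `W0 = L^C / σ(L^K)`

`F v = (φ(Tr_C v) / p) • w` is `C`-linear and acts on `L^C` as `v ↦ (|K| φ v) • w`.
-/

set_option autoImplicit false

namespace Cfsg.Agent.Lib.helper74.TB

open Cfsg.Agent.Lib.helper84 Cfsg.Agent.Lib.helper4

/-- Division by `p` of a `ℤ`-valued linear map all of whose values are divisible by `p`. -/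
noncomputable def tbB2h4Div {L : Type*} [AddCommGroup L] (p : ℤ) (ψ : L →ₗ[ℤ] ℤ)
    (hψ : ∀ v, p ∣ ψ v) : L →ₗ[ℤ] ℤ :=
  (AddMonoidHom.mk' (fun v => ψ v / p)
    (fun a b => by rw [map_add, Int.add_ediv_of_dvd_left (hψ a)])).toIntLinearMap

theorem tbB2h4Div_apply {L : Type*} [AddCommGroup L] (p : ℤ) (ψ : L →ₗ[ℤ] ℤ)
    (hψ : ∀ v, p ∣ ψ v) (v : L) : tbB2h4Div p ψ hψ v = ψ v / p := rfl

section setting

variable {G : Type*} [Group G] [Fintype G] {p : ℕ} [Fact p.Prime] {P : Sylow p G}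
  {K : Subgroup G} {x : G} {L : Type*} [AddCommGroup L]

open Classical

/-- The trace over `C_G(P)`. -/
noncomputable def tbB2h4TrC (P : Subgroup G) (ρ : Representation ℤ G L) : L →ₗ[ℤ] L :=
  ∑ c : Subgroup.centralizer (P : Set G), ρ (c : G)

theorem tbB2h4TrC_apply (Q : Subgroup G) (ρ : Representation ℤ G L) (v : L) :
    tbB2h4TrC Q ρ v = ∑ c : Subgroup.centralizer (Q : Set G), ρ (c : G) v := by
  unfold tbB2h4TrC
  rw [LinearMap.sum_apply]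

theorem tbB2h4TrC_fixC (Q : Subgroup G) (ρ : Representation ℤ G L) (v : L) :
    tbB2h4TrC Q ρ v ∈ d1FixC ρ Q := by
  intro c hc
  rw [tbB2h4TrC_apply, map_sum]
  refine Fintype.sum_equiv (Equiv.mulLeft (⟨c, hc⟩ : Subgroup.centralizer (Q : Set G))) _ _ ?_
  intro c'
  change ρ c (ρ (c' : G) v) = ρ (c * (c' : G)) v
  rw [map_mul]
  rfl

theorem tbB2h4TrC_comp (Q : Subgroup G) (ρ : Representation ℤ G L) (c : G)
    (hc : c ∈ Subgroup.centralizer (Q : Set G)) (v : L) :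
    tbB2h4TrC Q ρ (ρ c v) = tbB2h4TrC Q ρ v := by
  rw [tbB2h4TrC_apply, tbB2h4TrC_apply]
  refine Fintype.sum_equiv (Equiv.mulRight (⟨c, hc⟩ : Subgroup.centralizer (Q : Set G))) _ _ ?_
  intro c'
  change ρ (c' : G) (ρ c v) = ρ ((c' : G) * c) v
  rw [map_mul]
  rfl

theorem tbB2h4TrC_SA (h : Y1Ctx p P K x) (ρ : Representation ℤ G L) (v : L) :
    tbB2h4TrC (P : Subgroup G) ρ v ∈ tbSA p ρ (P : Subgroup G) := by
  rw [mem_tbSA]
  refine ⟨∑ k : K, ρ (k : G) v, y1_trK_mem h ρ v, ?_⟩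
  rw [y1_d1Tr_apply, tbB2h4TrC_apply, y1_sum_C h (fun c => ρ c v)]
  refine Finset.sum_congr rfl ?_
  intro y _
  rw [map_sum]
  refine Finset.sum_congr rfl ?_
  intro k _
  rw [map_mul]
  rfl

theorem tbB2h4_card_C (h : Y1Ctx p P K x) :
    Fintype.card (Subgroup.centralizer ((P : Subgroup G) : Set G)) = p * Fintype.card K := by
  have h1 := y1_sum_C h (fun _ : G => (1 : ℕ))
  simp only [Finset.sum_const, Finset.card_univ, smul_eq_mul, mul_one] at h1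
  rw [h1, ← Nat.card_eq_fintype_card (α := ↥(P : Subgroup G))]
  congr 1
  exact h.hP

theorem tbB2h4TrC_of_fix (h : Y1Ctx p P K x) (ρ : Representation ℤ G L) (v : L)
    (hv : v ∈ d1FixC ρ (P : Subgroup G)) :
    tbB2h4TrC (P : Subgroup G) ρ v = ((p : ℤ) * (Fintype.card K : ℤ)) • v := by
  rw [tbB2h4TrC_apply]
  rw [Finset.sum_congr rfl
    (fun (c : Subgroup.centralizer ((P : Subgroup G) : Set G)) _ => hv (c : G) c.2),
    Finset.sum_const, Finset.card_univ, tbB2h4_card_C h, ← natCast_zsmul]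
  push_cast
  rfl

end setting

section main

variable {G : Type*} [Group G] [Fintype G] (p : ℕ) [Fact p.Prime] (P : Sylow p G)
  (hP : Nat.card P = p) {L : Type*} [AddCommGroup L] (ρ : Representation ℤ G L)

include hP

/-- PIECE B2a (rank-one maps on `W0`).  `F v = (φ(Tr_C v) / p) • w`, `m = |K|`. -/
theorem tb_rank_one_W0 :
    ∃ m : ℤ, ¬ (p : ℤ) ∣ m ∧ ∀ (w : L) (φ : d1FixC ρ (P : Subgroup G) →ₗ[ℤ] ℤ),
      w ∈ d1FixC ρ (P : Subgroup G) →
      (∀ v : d1FixC ρ (P : Subgroup G), (v : L) ∈ tbSA p ρ (P : Subgroup G) → (p : ℤ) ∣ φ v) →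
      ∃ F : L →ₗ[ℤ] L,
        (∀ c ∈ Subgroup.centralizer ((P : Subgroup G) : Set G), F ∘ₗ ρ c = ρ c ∘ₗ F) ∧
        ∀ v : d1FixC ρ (P : Subgroup G), F (v : L) = (m * φ v) • w := by
  classical
  have hp := (Fact.out : p.Prime)
  obtain ⟨K, hK, hpK, -, hdec⟩ := tb_centralizer_structure p P hP
  obtain ⟨x, hx, hx1, -, -⟩ := Cfsg.Agent.Lib.helper46.d1_sylow_gen p P hP
  have ctx : Y1Ctx p P K x := ⟨hP, hK, hdec, hx, hx1⟩
  refine ⟨(Fintype.card K : ℤ), ?_, ?_⟩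
  · rw [Int.natCast_dvd_natCast, ← Nat.card_eq_fintype_card]
    exact hpK
  intro w φ hw hφ
  set ψ : L →ₗ[ℤ] ℤ := φ ∘ₗ ((tbB2h4TrC (P : Subgroup G) ρ).codRestrict
    (d1FixC ρ (P : Subgroup G)) (tbB2h4TrC_fixC (P : Subgroup G) ρ)) with hψdef
  have hψ : ∀ v, (p : ℤ) ∣ ψ v := fun v => hφ _ (tbB2h4TrC_SA ctx ρ v)
  refine ⟨(tbB2h4Div (p : ℤ) ψ hψ).smulRight w, ?_, ?_⟩
  · intro c hc
    ext v
    have h1 : ψ (ρ c v) = ψ v := by
      rw [hψdef]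
      change φ ⟨tbB2h4TrC (P : Subgroup G) ρ (ρ c v), _⟩
        = φ ⟨tbB2h4TrC (P : Subgroup G) ρ v, _⟩
      congr 1
      exact Subtype.ext (tbB2h4TrC_comp (P : Subgroup G) ρ c hc v)
    change (tbB2h4Div (p : ℤ) ψ hψ (ρ c v)) • w = ρ c ((tbB2h4Div (p : ℤ) ψ hψ v) • w)
    rw [tbB2h4Div_apply, tbB2h4Div_apply, h1, map_smul, hw c hc]
  · intro v
    have h1 : ψ (v : L) = (p : ℤ) * ((Fintype.card K : ℤ) * φ v) := by
      rw [hψdef]
      change φ ⟨tbB2h4TrC (P : Subgroup G) ρ (v : L), _⟩ = _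
      have h2 : (⟨tbB2h4TrC (P : Subgroup G) ρ (v : L),
          tbB2h4TrC_fixC (P : Subgroup G) ρ (v : L)⟩ : d1FixC ρ (P : Subgroup G))
          = ((p : ℤ) * (Fintype.card K : ℤ)) • v :=
        Subtype.ext (tbB2h4TrC_of_fix ctx ρ (v : L) v.2)
      rw [h2, map_smul, smul_eq_mul, mul_assoc]
    change (tbB2h4Div (p : ℤ) ψ hψ (v : L)) • w = _
    rw [tbB2h4Div_apply, h1, Int.mul_ediv_cancel_left _ (by exact_mod_cast hp.ne_zero)]

end main

end Cfsg.Agent.Lib.helper74.TB
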