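import Cfsg.Agent.Lib.helper74.TBGroup
import Cfsg.Agent.Lib.helper4.TB_B2a

/-!
# TB piece B2b (S4441 / S0960, sub-project SP-B): rank-one maps on `W1 = B / aug`

`F v = Σ_{y ∈ P} (l((y⁻¹ - 1) Tr_K v) / p) • y w` is `C`-linear and acts on `B` modulo the
augmentation submodule as `v ↦ (-|K| l v) • w`.
-/

set_option autoImplicit false

namespace Cfsg.Agent.Lib.helper74.TB

open Cfsg.Agent.Lib.helper84 Cfsg.Agent.Lib.helper4

section setting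

variable {G : Type*} [Group G] [Fintype G] {p : ℕ} [Fact p.Prime] {P : Sylow p G}
  {K : Subgroup G} {x : G} {L : Type*} [AddCommGroup L]

open Classical

/-- The trace over `K`. -/
noncomputable def tbB2h4TrK (K : Subgroup G) (ρ : Representation ℤ G L) : L →ₗ[ℤ] L :=
  ∑ k : K, ρ (k : G)

theorem tbB2h4TrK_apply (K : Subgroup G) (ρ : Representation ℤ G L) (v : L) :
    tbB2h4TrK K ρ v = ∑ k : K, ρ (k : G) v := by
  unfold tbB2h4TrK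
  rw [LinearMap.sum_apply]

theorem tbB2h4TrK_mem (h : Y1Ctx p P K x) (ρ : Representation ℤ G L) (v : L) :
    tbB2h4TrK K ρ v ∈ d1FixK p ρ (P : Subgroup G) := by
  rw [tbB2h4TrK_apply]
  exact y1_trK_mem h ρ v

theorem tbB2h4TrK_comp_K (ρ : Representation ℤ G L) (k : G) (hk : k ∈ K) (v : L) :
    tbB2h4TrK K ρ (ρ k v) = tbB2h4TrK K ρ v := by
  rw [tbB2h4TrK_apply, tbB2h4TrK_apply]
  refine Fintype.sum_equiv (Equiv.mulRight (⟨k, hk⟩ : K)) _ _ ?_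
  intro k'
  change ρ (k' : G) (ρ k v) = ρ ((k' : G) * k) v
  rw [map_mul]
  rfl

theorem tbB2h4TrK_comp_P (h : Y1Ctx p P K x) (ρ : Representation ℤ G L) (z : G)
    (hz : z ∈ (P : Subgroup G)) (v : L) :
    tbB2h4TrK K ρ (ρ z v) = ρ z (tbB2h4TrK K ρ v) := by
  rw [tbB2h4TrK_apply, tbB2h4TrK_apply, map_sum]
  refine Finset.sum_congr rfl ?_
  intro k _
  have hcomm : (k : G) * z = z * (k : G) :=
    ((Subgroup.mem_centralizer_iff.mp (y1_K_le h k.2)) z hz).symm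
  have h1 : ρ ((k : G) * z) v = ρ (z * (k : G)) v := by rw [hcomm]
  rw [map_mul, map_mul] at h1
  exact h1

theorem tbB2h4TrK_of_fix (h : Y1Ctx p P K x) (ρ : Representation ℤ G L) (v : L)
    (hv : v ∈ d1FixK p ρ (P : Subgroup G)) :
    tbB2h4TrK K ρ v = (Fintype.card K : ℤ) • v := by
  rw [tbB2h4TrK_apply]
  rw [Finset.sum_congr rfl
    (fun (k : K) _ => hv (k : G) ((h.hK k).mp k.2).1 ((h.hK k).mp k.2).2),
    Finset.sum_const, Finset.card_univ, ← natCast_zsmul]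

theorem tbB2h4_fixK_P (ρ : Representation ℤ G L) (Q : Subgroup G) (z : G) (hz : z ∈ Q) (u : L)
    (hu : u ∈ d1FixK p ρ Q) : ρ z u ∈ d1FixK p ρ Q := by
  intro c hc hreg
  have hcomm : c * z = z * c := ((Subgroup.mem_centralizer_iff.mp hc) z hz).symm
  have h1 : ρ (c * z) u = ρ (z * c) u := by rw [hcomm]
  rw [map_mul, map_mul] at h1
  calc ρ c (ρ z u) = ρ z (ρ c u) := h1
    _ = ρ z u := by rw [hu c hc hreg]

theorem tbB2h4_tr_P (ρ : Representation ℤ G L) (Q : Subgroup G) (z : G) (hz : z ∈ Q) (u : L) :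
    d1Tr ρ Q (ρ z u) = d1Tr ρ Q u := by
  rw [y1_d1Tr_apply, y1_d1Tr_apply]
  refine Fintype.sum_equiv (Equiv.mulRight (⟨z, hz⟩ : Q)) _ _ ?_
  intro y
  change ρ (y : G) (ρ z u) = ρ ((y : G) * z) u
  rw [map_mul]
  rfl

theorem tbB2h4_diff_mem_B (ρ : Representation ℤ G L) (Q : Subgroup G) (z : G) (hz : z ∈ Q)
    (u : L) (hu : u ∈ d1FixK p ρ Q) : ρ z u - u ∈ tbB p ρ Q := by
  rw [mem_tbB]
  refine ⟨Submodule.sub_mem _ (tbB2h4_fixK_P ρ Q z hz u hu) hu, ?_⟩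
  rw [map_sub, tbB2h4_tr_P ρ Q z hz u, sub_self]

theorem tbB2h4_diff_mem_aug (ρ : Representation ℤ G L) (Q : Subgroup G) (z : G) (hz : z ∈ Q)
    (u : L) (hu : u ∈ d1FixK p ρ Q) : ρ z u - u ∈ d1Aug p ρ Q :=
  Submodule.subset_span ⟨z, hz, u, hu, rfl⟩

/-- `v ↦ (ρ y⁻¹ - 1) (Tr_K v)` as a map into `B`. -/
noncomputable def tbB2h4D (h : Y1Ctx p P K x) (ρ : Representation ℤ G L)
    (y : (P : Subgroup G)) : L →ₗ[ℤ] tbB p ρ (P : Subgroup G) :=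
  (ρ (y : G)⁻¹ ∘ₗ tbB2h4TrK K ρ - tbB2h4TrK K ρ).codRestrict (tbB p ρ (P : Subgroup G))
    (fun v => tbB2h4_diff_mem_B ρ (P : Subgroup G) (y : G)⁻¹ (inv_mem y.2) _
      (tbB2h4TrK_mem h ρ v))

theorem tbB2h4D_coe (h : Y1Ctx p P K x) (ρ : Representation ℤ G L) (y : (P : Subgroup G))
    (v : L) : ((tbB2h4D h ρ y v : tbB p ρ (P : Subgroup G)) : L)
      = ρ (y : G)⁻¹ (tbB2h4TrK K ρ v) - tbB2h4TrK K ρ v := rfl

/-- `ψ_y = l ∘ D_y`. -/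
noncomputable def tbB2h4Psi (h : Y1Ctx p P K x) (ρ : Representation ℤ G L)
    (l : tbB p ρ (P : Subgroup G) →ₗ[ℤ] ℤ) (y : (P : Subgroup G)) : L →ₗ[ℤ] ℤ :=
  l ∘ₗ tbB2h4D h ρ y

theorem tbB2h4Psi_apply (h : Y1Ctx p P K x) (ρ : Representation ℤ G L)
    (l : tbB p ρ (P : Subgroup G) →ₗ[ℤ] ℤ) (y : (P : Subgroup G)) (v : L) :
    tbB2h4Psi h ρ l y v = l (tbB2h4D h ρ y v) := rfl

theorem tbB2h4Psi_dvd (h : Y1Ctx p P K x) (ρ : Representation ℤ G L)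
    (l : tbB p ρ (P : Subgroup G) →ₗ[ℤ] ℤ)
    (hl : ∀ v : tbB p ρ (P : Subgroup G), (v : L) ∈ d1Aug p ρ (P : Subgroup G) → (p : ℤ) ∣ l v)
    (y : (P : Subgroup G)) (v : L) : (p : ℤ) ∣ tbB2h4Psi h ρ l y v := by
  rw [tbB2h4Psi_apply]
  refine hl _ ?_
  rw [tbB2h4D_coe]
  exact tbB2h4_diff_mem_aug ρ _ (y : G)⁻¹ (inv_mem y.2) _ (tbB2h4TrK_mem h ρ v)

theorem tbB2h4Psi_K (h : Y1Ctx p P K x) (ρ : Representation ℤ G L)
    (l : tbB p ρ (P : Subgroup G) →ₗ[ℤ] ℤ) (y : (P : Subgroup G)) (k : G) (hk : k ∈ K) (v : L) :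
    tbB2h4Psi h ρ l y (ρ k v) = tbB2h4Psi h ρ l y v := by
  rw [tbB2h4Psi_apply, tbB2h4Psi_apply]
  congr 1
  apply Subtype.ext
  rw [tbB2h4D_coe, tbB2h4D_coe, tbB2h4TrK_comp_K ρ k hk v]

theorem tbB2h4Psi_P (h : Y1Ctx p P K x) (ρ : Representation ℤ G L)
    (l : tbB p ρ (P : Subgroup G) →ₗ[ℤ] ℤ) (y z : (P : Subgroup G)) (v : L) :
    tbB2h4Psi h ρ l y (ρ (z : G) v)
      = tbB2h4Psi h ρ l (z⁻¹ * y) v - tbB2h4Psi h ρ l z⁻¹ v := by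
  rw [tbB2h4Psi_apply, tbB2h4Psi_apply, tbB2h4Psi_apply, ← map_sub]
  congr 1
  apply Subtype.ext
  rw [AddSubgroupClass.coe_sub, tbB2h4D_coe, tbB2h4D_coe, tbB2h4D_coe,
    tbB2h4TrK_comp_P h ρ (z : G) z.2 v]
  have h1 : ((z⁻¹ * y : (P : Subgroup G)) : G)⁻¹ = (y : G)⁻¹ * (z : G) := by
    simp only [Subgroup.coe_mul, Subgroup.coe_inv, mul_inv_rev, inv_inv]
  have h2 : ((z⁻¹ : (P : Subgroup G)) : G)⁻¹ = (z : G) := by
    simp only [Subgroup.coe_inv, inv_inv]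
  rw [h1, h2, map_mul]
  change ρ (y : G)⁻¹ (ρ (z : G) (tbB2h4TrK K ρ v)) - ρ (z : G) (tbB2h4TrK K ρ v)
    = (ρ (y : G)⁻¹ (ρ (z : G) (tbB2h4TrK K ρ v)) - tbB2h4TrK K ρ v)
      - (ρ (z : G) (tbB2h4TrK K ρ v) - tbB2h4TrK K ρ v)
  abel

/-- The rank-one-like map `F v = Σ_y (ψ_y v / p) • ρ y w`. -/
noncomputable def tbB2h4F (h : Y1Ctx p P K x) (ρ : Representation ℤ G L)
    (l : tbB p ρ (P : Subgroup G) →ₗ[ℤ] ℤ)
    (hl : ∀ v : tbB p ρ (P : Subgroup G), (v : L) ∈ d1Aug p ρ (P : Subgroup G) → (p : ℤ) ∣ l v)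
    (w : L) : L →ₗ[ℤ] L :=
  ∑ y : (P : Subgroup G),
    (tbB2h4Div (p : ℤ) (tbB2h4Psi h ρ l y) (tbB2h4Psi_dvd h ρ l hl y)).smulRight (ρ (y : G) w)

theorem tbB2h4F_apply (h : Y1Ctx p P K x) (ρ : Representation ℤ G L)
    (l : tbB p ρ (P : Subgroup G) →ₗ[ℤ] ℤ)
    (hl : ∀ v : tbB p ρ (P : Subgroup G), (v : L) ∈ d1Aug p ρ (P : Subgroup G) → (p : ℤ) ∣ l v)
    (w v : L) :
    tbB2h4F h ρ l hl w v
      = ∑ y : (P : Subgroup G), (tbB2h4Psi h ρ l y v / (p : ℤ)) • ρ (y : G) w := by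
  unfold tbB2h4F
  rw [LinearMap.sum_apply]
  rfl

theorem tbB2h4F_K (h : Y1Ctx p P K x) (ρ : Representation ℤ G L)
    (l : tbB p ρ (P : Subgroup G) →ₗ[ℤ] ℤ)
    (hl : ∀ v : tbB p ρ (P : Subgroup G), (v : L) ∈ d1Aug p ρ (P : Subgroup G) → (p : ℤ) ∣ l v)
    (w : L) (hw : w ∈ tbB p ρ (P : Subgroup G)) (k : G) (hk : k ∈ K) (v : L) :
    tbB2h4F h ρ l hl w (ρ k v) = ρ k (tbB2h4F h ρ l hl w v) := by
  rw [tbB2h4F_apply, tbB2h4F_apply, map_sum]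
  refine Finset.sum_congr rfl ?_
  intro y _
  rw [tbB2h4Psi_K h ρ l y k hk v, map_smul]
  congr 1
  have hkC := y1_K_le h hk
  have hcomm : k * (y : G) = (y : G) * k :=
    ((Subgroup.mem_centralizer_iff.mp hkC) (y : G) y.2).symm
  have h1 : ρ (k * (y : G)) w = ρ ((y : G) * k) w := by rw [hcomm]
  rw [map_mul, map_mul] at h1
  have hwk : ρ k w = w := ((mem_tbB p ρ _ w).mp hw).1 k hkC ((h.hK k).mp hk).2
  calc ρ (y : G) w = ρ (y : G) (ρ k w) := by rw [hwk]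
    _ = ρ k (ρ (y : G) w) := h1.symm

theorem tbB2h4F_P (h : Y1Ctx p P K x) (ρ : Representation ℤ G L)
    (l : tbB p ρ (P : Subgroup G) →ₗ[ℤ] ℤ)
    (hl : ∀ v : tbB p ρ (P : Subgroup G), (v : L) ∈ d1Aug p ρ (P : Subgroup G) → (p : ℤ) ∣ l v)
    (w : L) (hw : w ∈ tbB p ρ (P : Subgroup G)) (z : (P : Subgroup G)) (v : L) :
    tbB2h4F h ρ l hl w (ρ (z : G) v) = ρ (z : G) (tbB2h4F h ρ l hl w v) := by
  rw [tbB2h4F_apply, tbB2h4F_apply, map_sum]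
  have hstep : ∀ y : (P : Subgroup G),
      (tbB2h4Psi h ρ l y (ρ (z : G) v) / (p : ℤ)) • ρ (y : G) w
      = (tbB2h4Psi h ρ l (z⁻¹ * y) v / (p : ℤ)) • ρ (y : G) w
        - (tbB2h4Psi h ρ l z⁻¹ v / (p : ℤ)) • ρ (y : G) w := by
    intro y
    rw [tbB2h4Psi_P h ρ l y z v, Int.sub_ediv_of_dvd _ (tbB2h4Psi_dvd h ρ l hl _ v), sub_smul]
  rw [Finset.sum_congr rfl (fun y _ => hstep y), Finset.sum_sub_distrib, ← Finset.smul_sum]
  have hTr : ∑ y : (P : Subgroup G), ρ (y : G) w = 0 := by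
    rw [← y1_d1Tr_apply]
    exact ((mem_tbB p ρ _ w).mp hw).2
  rw [hTr, smul_zero, sub_zero]
  refine Fintype.sum_equiv (Equiv.mulLeft z⁻¹) _ _ ?_
  intro y
  rw [map_smul]
  change (tbB2h4Psi h ρ l (z⁻¹ * y) v / (p : ℤ)) • ρ (y : G) w
    = (tbB2h4Psi h ρ l (z⁻¹ * y) v / (p : ℤ)) • ρ (z : G) (ρ ((z⁻¹ * y : (P : Subgroup G)) : G) w)
  congr 1
  have h1 : (z : G) * ((z⁻¹ * y : (P : Subgroup G)) : G) = (y : G) := by
    simp only [Subgroup.coe_mul, Subgroup.coe_inv, mul_inv_cancel_left]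
  have h2 : ρ ((z : G) * ((z⁻¹ * y : (P : Subgroup G)) : G)) w = ρ (y : G) w := by rw [h1]
  rw [map_mul] at h2
  exact h2.symm

theorem tbB2h4F_C (h : Y1Ctx p P K x) (ρ : Representation ℤ G L)
    (l : tbB p ρ (P : Subgroup G) →ₗ[ℤ] ℤ)
    (hl : ∀ v : tbB p ρ (P : Subgroup G), (v : L) ∈ d1Aug p ρ (P : Subgroup G) → (p : ℤ) ∣ l v)
    (w : L) (hw : w ∈ tbB p ρ (P : Subgroup G)) (c : G)
    (hc : c ∈ Subgroup.centralizer ((P : Subgroup G) : Set G)) :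
    tbB2h4F h ρ l hl w ∘ₗ ρ c = ρ c ∘ₗ tbB2h4F h ρ l hl w := by
  obtain ⟨z, hz, k, hk, rfl⟩ := h.hPK c hc
  ext v
  rw [LinearMap.comp_apply, LinearMap.comp_apply]
  have h1 : ρ (z * k) v = ρ z (ρ k v) := by
    rw [map_mul]
    rfl
  have h2 : ρ (z * k) (tbB2h4F h ρ l hl w v) = ρ z (ρ k (tbB2h4F h ρ l hl w v)) := by
    rw [map_mul]
    rfl
  rw [h1, h2, tbB2h4F_P h ρ l hl w hw ⟨z, hz⟩, tbB2h4F_K h ρ l hl w hw k hk]

theorem tbB2h4F_val (h : Y1Ctx p P K x) (ρ : Representation ℤ G L)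
    (l : tbB p ρ (P : Subgroup G) →ₗ[ℤ] ℤ)
    (hl : ∀ v : tbB p ρ (P : Subgroup G), (v : L) ∈ d1Aug p ρ (P : Subgroup G) → (p : ℤ) ∣ l v)
    (w : L) (hw : w ∈ tbB p ρ (P : Subgroup G)) (v : tbB p ρ (P : Subgroup G)) :
    tbB2h4F h ρ l hl w (v : L) - (-(Fintype.card K : ℤ) * l v) • w
      ∈ d1Aug p ρ (P : Subgroup G) := by
  have hp := (Fact.out : p.Prime)
  have hp0 : (p : ℤ) ≠ 0 := by exact_mod_cast hp.ne_zero
  have hvK : (v : L) ∈ d1FixK p ρ (P : Subgroup G) := ((mem_tbB p ρ _ _).mp v.2).1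
  have hvT : d1Tr ρ (P : Subgroup G) (v : L) = 0 := ((mem_tbB p ρ _ _).mp v.2).2
  have hwK : w ∈ d1FixK p ρ (P : Subgroup G) := ((mem_tbB p ρ _ _).mp hw).1
  let e : ↥(P : Subgroup G) → tbB p ρ (P : Subgroup G) := fun y =>
    ⟨ρ (y : G)⁻¹ (v : L) - (v : L),
      tbB2h4_diff_mem_B ρ (P : Subgroup G) (y : G)⁻¹ (inv_mem y.2) _ hvK⟩
  have hea : ∀ y, (p : ℤ) ∣ l (e y) := fun y =>
    hl (e y) (tbB2h4_diff_mem_aug ρ _ (y : G)⁻¹ (inv_mem y.2) _ hvK)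
  have hD : ∀ y : (P : Subgroup G), tbB2h4D h ρ y (v : L) = (Fintype.card K : ℤ) • e y := by
    intro y
    apply Subtype.ext
    rw [tbB2h4D_coe, tbB2h4TrK_of_fix h ρ _ hvK, map_smul, ← smul_sub]
    rfl
  have hψ : ∀ y : (P : Subgroup G), tbB2h4Psi h ρ l y (v : L) / (p : ℤ)
      = (Fintype.card K : ℤ) * (l (e y) / (p : ℤ)) := by
    intro y
    rw [tbB2h4Psi_apply, hD y, map_smul, smul_eq_mul, Int.mul_ediv_assoc _ (hea y)]
  have hcardP : Fintype.card (P : Subgroup G) = p := by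
    rw [← Nat.card_eq_fintype_card]
    exact h.hP
  have hsum : ∑ y : (P : Subgroup G), l (e y) / (p : ℤ) = - l v := by
    have h1 : (p : ℤ) * ∑ y : (P : Subgroup G), l (e y) / (p : ℤ) = (p : ℤ) * (- l v) := by
      rw [Finset.mul_sum, Finset.sum_congr rfl (fun y _ => Int.mul_ediv_cancel' (hea y)),
        ← map_sum]
      have h2 : ∑ y : (P : Subgroup G), e y = (-(p : ℤ)) • v := by
        apply Subtype.ext
        rw [AddSubmonoidClass.coe_finsetSum]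
        change ∑ y : (P : Subgroup G), (ρ (y : G)⁻¹ (v : L) - (v : L)) = (-(p : ℤ)) • (v : L)
        rw [Finset.sum_sub_distrib, Finset.sum_const, Finset.card_univ]
        have h3 : ∑ y : (P : Subgroup G), ρ (y : G)⁻¹ (v : L) = 0 := by
          rw [← hvT, y1_d1Tr_apply]
          exact Fintype.sum_equiv (Equiv.inv _) _ _ (fun y => rfl)
        rw [h3, zero_sub, neg_smul, hcardP, natCast_zsmul]
      rw [h2, map_smul, smul_eq_mul]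
      ring
    exact mul_left_cancel₀ hp0 h1
  rw [tbB2h4F_apply]
  have hfin : ∑ y : (P : Subgroup G), (tbB2h4Psi h ρ l y (v : L) / (p : ℤ)) • ρ (y : G) w
        - (-(Fintype.card K : ℤ) * l v) • w
      = ∑ y : (P : Subgroup G),
          ((Fintype.card K : ℤ) * (l (e y) / (p : ℤ))) • (ρ (y : G) w - w) := by
    rw [Finset.sum_congr rfl (fun (y : (P : Subgroup G)) _ =>
      congrArg (fun t : ℤ => t • ρ (y : G) w) (hψ y))]
    simp only [smul_sub]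
    rw [Finset.sum_sub_distrib, ← Finset.sum_smul, ← Finset.mul_sum, hsum]
    congr 2
    ring
  rw [hfin]
  refine Submodule.sum_mem _ ?_
  intro y _
  exact Submodule.smul_mem _ _ (tbB2h4_diff_mem_aug ρ _ (y : G) y.2 w hwK)

end setting

section main

variable {G : Type*} [Group G] [Fintype G] (p : ℕ) [Fact p.Prime] (P : Sylow p G)
  (hP : Nat.card P = p) {L : Type*} [AddCommGroup L] (ρ : Representation ℤ G L)

include hP

/-- PIECE B2b (rank-one maps on `W1`).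
`F v = Σ_{y ∈ P} (l((y⁻¹ - 1) Tr_K v) / p) • y w`, `m = -|K|`. -/
theorem tb_rank_one_W1 :
    ∃ m : ℤ, ¬ (p : ℤ) ∣ m ∧ ∀ (w : L) (l : tbB p ρ (P : Subgroup G) →ₗ[ℤ] ℤ),
      w ∈ tbB p ρ (P : Subgroup G) →
      (∀ v : tbB p ρ (P : Subgroup G), (v : L) ∈ d1Aug p ρ (P : Subgroup G) → (p : ℤ) ∣ l v) →
      ∃ F : L →ₗ[ℤ] L,
        (∀ c ∈ Subgroup.centralizer ((P : Subgroup G) : Set G), F ∘ₗ ρ c = ρ c ∘ₗ F) ∧
        ∀ v : tbB p ρ (P : Subgroup G),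
          F (v : L) - (m * l v) • w ∈ d1Aug p ρ (P : Subgroup G) := by
  classical
  obtain ⟨K, hK, hpK, -, hdec⟩ := tb_centralizer_structure p P hP
  obtain ⟨x, hx, hx1, -, -⟩ := Cfsg.Agent.Lib.helper46.d1_sylow_gen p P hP
  have ctx : Y1Ctx p P K x := ⟨hP, hK, hdec, hx, hx1⟩
  refine ⟨-(Fintype.card K : ℤ), ?_, ?_⟩
  · rw [dvd_neg, Int.natCast_dvd_natCast, ← Nat.card_eq_fintype_card]
    exact hpK
  intro w l hw hl
  exact ⟨tbB2h4F ctx ρ l hl w, fun c hc => tbB2h4F_C ctx ρ l hl w hw c hc,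
    fun v => tbB2h4F_val ctx ρ l hl w hw v⟩

end main

end Cfsg.Agent.Lib.helper74.TB
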