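import Mathlib
import Cfsg.Prelude.Def_OddOrderLocal
import Cfsg.Agent.Lib.helper29.Basic
import Cfsg.Agent.Lib.helper29.Rank2
import Cfsg.Agent.Lib.helper80.BGFit
import Cfsg.Agent.S1350
import Cfsg.Agent.S1405
import Cfsg.Agent.S1418
import Cfsg.Agent.S1420

/-!
helper4: S1383 piece B2 (`cent_noncyclic`): a `p`-subgroup centralizing a noncyclic abelian
subgroup of a complement of `N_σ` is abelian.
-/

set_option autoImplicit false

namespace Cfsg.Agent.Lib.helper4.TV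

open Cfsg Subgroup

variable {G : Type*} [Group G]

/-- no prime of `σ(N)` divides the order of a complement of `N_σ` in `N` -/
theorem h4_not_sigma_of_dvd_compl [Finite G] (hG : IsMinSimpleOddOrder G) (N : Subgroup G)
    (hN : IsCoatom N) (E : Subgroup G) (hE : IsComplIn E (sigmaCore N) N) (q : ℕ) (hq : q.Prime)
    (hqE : q ∣ Nat.card E) : q ∉ sigma N := by
  intro hqσ
  obtain ⟨-, -, hidx⟩ := (Cfsg.Agent.S1350.result hG N hN).1
  apply hidx q hq hqσ
  rw [← Cfsg.Agent.Lib.helper29.IsComplIn.card_left hE]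
  exact hqE

/-- an elementary abelian subgroup of order exactly `r ^ 2` inside a noncyclic abelian subgroup -/
theorem h4_exists_sq [Finite G] (Q : Subgroup G) (hQa : IsMulCommutative ↥Q) (hQc : ¬ IsCyclic ↥Q) :
    ∃ (r : ℕ) (A : Subgroup G), r.Prime ∧ A ≤ Q ∧ IsElementaryAbelian r A ∧ Nat.card A = r ^ 2 := by
  obtain ⟨r, E', hr, hE'Q, hE'el, hE'card⟩ :=
    Cfsg.Agent.Lib.helper29.exists_elementaryAbelian_of_not_isCyclic Q hQc
  have : Fact r.Prime := ⟨hr⟩
  have hE'p : IsPGroup r ↥E' := by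
    intro a
    refine ⟨1, ?_⟩
    rw [pow_one]
    exact Subtype.ext (by simpa using hE'el.2 a.1 a.2)
  obtain ⟨n, hn⟩ := IsPGroup.iff_card.1 hE'p
  have hn2 : 2 ≤ n := by
    rw [hn] at hE'card
    exact (Nat.pow_le_pow_iff_right hr.one_lt).1 hE'card
  have hdvd : r ^ 2 ∣ Nat.card ↥E' := by rw [hn]; exact pow_dvd_pow r hn2
  obtain ⟨A0, hA0⟩ := Sylow.exists_subgroup_card_pow_prime r hdvd
  refine ⟨r, A0.map E'.subtype, hr, ?_, ?_, ?_⟩
  · exact (Subgroup.map_subtype_le A0).trans hE'Q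
  · have hle : A0.map E'.subtype ≤ E' := Subgroup.map_subtype_le A0
    refine ⟨?_, fun a ha => hE'el.2 a (hle ha)⟩
    have hc := hE'el.1
    rw [isMulCommutative_iff] at hc ⊢
    rintro ⟨a, ha⟩ ⟨b, hb⟩
    have h3 : a * b = b * a := congrArg Subtype.val (hc ⟨a, hle ha⟩ ⟨b, hle hb⟩)
    exact Subtype.ext h3
  · rw [Nat.card_congr (Subgroup.equivMapOfInjective A0 E'.subtype
      (Subgroup.subtype_injective E')).symm.toEquiv]
    exact hA0

/-- **B2** -/
theorem cent_noncyclic [Finite G] (hG : IsMinSimpleOddOrder G) (N : Subgroup G) (hN : IsCoatom N)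
    (E : Subgroup G) (hE : IsComplIn E (sigmaCore N) N) (Q : Subgroup G) (hQE : Q ≤ E)
    (hQa : IsMulCommutative ↥Q) (hQc : ¬ IsCyclic ↥Q) (p : ℕ) [Fact p.Prime] (P : Subgroup G)
    (hP : IsPGroup p ↥P) (hPQ : ∀ a ∈ P, ∀ b ∈ Q, a * b = b * a) : IsMulCommutative ↥P := by
  have hp : p.Prime := Fact.out
  obtain ⟨r, A, hr, hAQ, hAel, hAcard⟩ := h4_exists_sq Q hQa hQc
  have : Fact r.Prime := ⟨hr⟩
  have hAE : A ≤ E := hAQ.trans hQE
  have hrE : r ∣ Nat.card E := by
    have h1 : Nat.card A ∣ Nat.card E := Subgroup.card_dvd_of_le hAE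
    rw [hAcard] at h1
    exact (dvd_pow_self r (by norm_num)).trans h1
  have hrσ : r ∉ sigma N := h4_not_sigma_of_dvd_compl hG N hN E hE r hr hrE
  have h5 := Cfsg.Agent.S1405.result hG N hN
  have hr2 : PRankLE r 2 ↥N :=
    Cfsg.Agent.Lib.helper80.BGFit.prankLE_two_of_not_sigma N ⟨h5.1, h5.2.2.1⟩ r hr hrσ
  have hAN : A ≤ N := hAE.trans hE.1
  have hr1 : ¬ PRankLE r 1 ↥N := by
    intro h1
    have hc : Nat.card (A.subgroupOf N) = r ^ 2 := by
      rw [Nat.card_congr (Subgroup.subgroupOfEquivOfLe hAN).toEquiv, hAcard]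
    have hcomm : IsMulCommutative ↥(A.subgroupOf N) := by
      have hc' := hAel.1
      rw [isMulCommutative_iff] at hc' ⊢
      rintro ⟨a, ha⟩ ⟨b, hb⟩
      have h3 : (a : G) * (b : G) = (b : G) * (a : G) := congrArg Subtype.val
        (hc' ⟨(a : G), Subgroup.mem_subgroupOf.1 ha⟩ ⟨(b : G), Subgroup.mem_subgroupOf.1 hb⟩)
      exact Subtype.ext (Subtype.ext h3)
    have hexp : ∀ a ∈ A.subgroupOf N, a ^ r = 1 := by
      intro a ha
      apply Subtype.ext
      rw [Subgroup.coe_pow]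
      exact hAel.2 (a : G) (Subgroup.mem_subgroupOf.1 ha)
    have h2 := h1 (A.subgroupOf N) hcomm hexp
    rw [hc, pow_one] at h2
    have : r < r ^ 2 := by
      have := hr.one_lt
      nlinarith
    omega
  have hτ : r ∈ tau2 N := ⟨hr, hrσ, hr2, hr1⟩
  have h18 := Cfsg.Agent.S1418.result hG N hN E hE r hτ A ⟨hAE, hAel, hAcard⟩
  have hCA : centralizer (A : Set G) ≤ E := h18.2.1.1.trans (le_of_eq h18.2.1.2.1)
  have hPE : P ≤ E := by
    intro a ha
    apply hCA
    rw [Subgroup.mem_centralizer_iff]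
    intro b hb
    exact (hPQ a ha b (hAQ hb)).symm
  have : Group.IsNilpotent ↥P := hP.isNilpotent
  refine (Cfsg.Agent.S1420.result hG N hN E hE).1 P (hPE.trans hE.1) inferInstance ?_
  intro q hq hqd
  apply h4_not_sigma_of_dvd_compl hG N hN E hE q hq
  exact hqd.trans (Subgroup.card_dvd_of_le hPE)

end Cfsg.Agent.Lib.helper4.TV
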