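import Mathlib
import Cfsg.Prelude.Def_OddOrderLocal
import Cfsg.Agent.Lib.helper29.Basic
import Cfsg.Agent.Lib.helper4.TV_B2
import Cfsg.Agent.S1350
import Cfsg.Agent.S1375
import Cfsg.Agent.S1420
import Cfsg.Agent.S1426

/-!
helper4: S1383 piece B1 (`bad_struct`).
-/

set_option autoImplicit false

namespace Cfsg.Agent.Lib.helper4.TV

open Cfsg Subgroup

variable {G : Type*} [Group G]

/-- commutativity of a subgroup as a statement about elements -/
theorem h4_comm_iff (H : Subgroup G) :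
    IsMulCommutative ↥H ↔ ∀ a ∈ H, ∀ b ∈ H, a * b = b * a := by
  rw [isMulCommutative_iff]
  constructor
  · intro h a ha b hb
    exact congrArg Subtype.val (h ⟨a, ha⟩ ⟨b, hb⟩)
  · rintro h ⟨a, ha⟩ ⟨b, hb⟩
    exact Subtype.ext (h a ha b hb)

/-- **B1** -/
theorem bad_struct [Finite G] (hG : IsMinSimpleOddOrder G) (M : Subgroup G) (hM : IsCoatom M)
    (p : ℕ) [Fact p.Prime] (P Q : Subgroup G) (hPp : IsPGroup p ↥P)
    (hQp : (Nat.card ↥Q).Coprime p) (hQn : Group.IsNilpotent ↥Q) (hPQ : P ⊔ Q = sigmaCore M)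
    (hcomm : ∀ a ∈ P, ∀ b ∈ Q, a * b = b * a)
    (x : G) (hxP : x ∈ P) (hx1 : x ≠ 1) (hxM : ¬ centralizer ({x} : Set G) ≤ M)
    (E₀ : Subgroup G) (hE₀ : IsComplIn E₀ (sigmaCore M) M)
    (hKs : sigmaCore M ⊓ centralizer (E₀ : Set G) ≠ ⊥) :
    ∃ N : Subgroup G, IsCoatom N ∧ IsComplIn (M ⊓ N) (sigmaCore N) N ∧ Q ≤ M ⊓ N ∧
      IsMulCommutative ↥Q ∧ ¬ IsMulCommutative ↥P := by
  have hxσ : x ∈ sigmaCore M := by
    rw [← hPQ]; exact (le_sup_left : P ≤ P ⊔ Q) hxP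
  obtain ⟨N, ⟨hN, hCN⟩, -, -, -, -, hcompl, -⟩ :=
    Cfsg.Agent.S1375.result hG M hM x hxσ hx1 hxM
  have hQM : Q ≤ M := by
    have h1 : Q ≤ sigmaCore M := by rw [← hPQ]; exact le_sup_right
    exact h1.trans hE₀.2.1
  have hQN : Q ≤ N := by
    intro b hb
    apply hCN
    rw [Subgroup.mem_centralizer_singleton_iff]
    exact (hcomm x hxP b hb).symm
  have hQE : Q ≤ M ⊓ N := le_inf hQM hQN
  have hQab : IsMulCommutative ↥Q := by
    refine (Cfsg.Agent.S1420.result hG N hN (M ⊓ N) hcompl).1 Q hQN hQn ?_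
    intro q hq hqd
    exact h4_not_sigma_of_dvd_compl hG N hN (M ⊓ N) hcompl q hq
      (hqd.trans (Subgroup.card_dvd_of_le hQE))
  refine ⟨N, hN, hcompl, hQE, hQab, ?_⟩
  intro hPab
  have hPc := (h4_comm_iff P).1 hPab
  have hQc := (h4_comm_iff Q).1 hQab
  have key : ∀ a : G, (∀ y ∈ P, y * a = a * y) → (∀ y ∈ Q, y * a = a * y) →
      ∀ y ∈ P ⊔ Q, y * a = a * y := by
    intro a h1 h2 y hy
    have hle : P ⊔ Q ≤ centralizer ({a} : Set G) :=
      sup_le (fun y hy => Subgroup.mem_centralizer_singleton_iff.2 (h1 y hy))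
        (fun y hy => Subgroup.mem_centralizer_singleton_iff.2 (h2 y hy))
    exact Subgroup.mem_centralizer_singleton_iff.1 (hle hy)
  have hbot : ⁅sigmaCore M, sigmaCore M⁆ = ⊥ := by
    rw [← hPQ, Subgroup.commutator_eq_bot_iff_le_centralizer]
    apply sup_le
    · intro a ha
      rw [Subgroup.mem_centralizer_iff]
      exact key a (fun y hy => hPc y hy a ha) (fun y hy => (hcomm a ha y hy).symm)
    · intro a ha
      rw [Subgroup.mem_centralizer_iff]
      exact key a (fun y hy => hcomm y hy a ha) (fun y hy => hQc y hy a ha)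
  have h26 := (Cfsg.Agent.S1426.result hG M hM E₀ hE₀).1
  rw [hbot] at h26
  exact hKs (le_bot_iff.1 h26)

end Cfsg.Agent.Lib.helper4.TV
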