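import Mathlib
import Cfsg.Agent.Lib.helper4.PSection
import Cfsg.Agent.Lib.helper4.CharTheory
import Cfsg.Agent.Lib.helper78.OddCount
import Cfsg.Agent.Lib.helper19.Gallagher
import Cfsg.Agent.Lib.helper82.CharQuot
import Cfsg.Agent.Lib.helper84.LinTwist

/-!
# Twisting by linear characters of `p`-power order and blocks (helper4 library)

* `sameBlock_twist_of_pow`: multiplying an irreducible character by a linear character of
  `p`-power order does not change its `p`-block.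
* `exists_extension_principal`: a real-valued irreducible character of odd degree of a normal
  subgroup which extends to the group has an extension in the principal `2`-block.
-/

set_option autoImplicit false

namespace Cfsg.Agent.Lib.helper4

open Cfsg
open scoped ComplexConjugate

universe u

/-- Multiplying an irreducible character by a linear character whose values are `p`-power roots
of unity does not change the `p`-block. -/
theorem sameBlock_twist_of_pow {G : Type u} [Group G] [Finite G] {p : ℕ} {M : Ideal AlgInt}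
    (hM : IsPModular p M) (ν : G →* ℂˣ) (k : ℕ) (hν : ∀ g, ((ν g : ℂˣ) : ℂ) ^ (p ^ k) = 1)
    (χ : IrrCharacter G) (χ' : G → ℂ) (h : ∀ g, χ' g = ((ν g : ℂˣ) : ℂ) * (χ : G → ℂ) g) :
    SameBlock M (χ : G → ℂ) χ' := by
  classical
  have := Fintype.ofFinite G
  have hMp := Cfsg.Agent.Lib.helper20.isPrime_of_isPModular hM
  intro g
  have hint : IsIntegral ℤ (((ν g : ℂˣ) : ℂ)) := by
    apply IsIntegral.of_pow (n := p ^ k) (pow_pos hM.1.pos k)
    rw [hν g]
    exact isIntegral_one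
  have h1 : χ' 1 = (χ : G → ℂ) 1 := by rw [h, map_one, Units.val_one, one_mul]
  have hcc : centralChar χ' g = ((ν g : ℂˣ) : ℂ) * centralChar (χ : G → ℂ) g := by
    unfold centralChar
    rw [h1, h g]
    ring
  rw [hcc]
  have hmem : (⟨((ν g : ℂˣ) : ℂ), hint⟩ : AlgInt) - 1 ∈ M := by
    apply sub_one_mem_of_pow_prime_pow_eq_one hM.1 hMp hM.2.2 (k := k)
    apply Subtype.ext
    push_cast
    exact hν g
  have h2 : MemLocalIdeal M (1 - ((ν g : ℂˣ) : ℂ)) := by
    have h3 := memLocalIdeal_of_mem hMp.ne_top (M.neg_mem hmem)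
    convert h3 using 1
    push_cast
    ring
  have h3 := memLocalIdeal_mul_left (M := M)
    (Cfsg.Agent.Lib.helper81.irr_centralChar_isIntegral χ g) h2
  convert h3 using 1
  ring

/-- A real-valued irreducible character `θ` of odd degree of a normal subgroup `N` of `G` which
has an extension `χ` to `G` has an extension lying in the principal `2`-block. -/
theorem exists_extension_principal {G : Type u} [Group G] [Finite G] (N : Subgroup G) [N.Normal]
    (M : Ideal AlgInt) (hM : IsPModular 2 M) (θ : IrrCharacter N)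
    (hreal : ∀ n : N, ((θ : N → ℂ) n).im = 0) (hodd : Odd (charDegree (θ : N → ℂ)))
    (χ : IrrCharacter G) (hχ : ∀ n : N, (χ : G → ℂ) n = (θ : N → ℂ) n) :
    ∃ η : IrrCharacter G, (∀ n : N, (η : G → ℂ) n = (θ : N → ℂ) n) ∧
      η ∈ principalBlock M G := by
  classical
  have := Fintype.ofFinite G
  have : Fintype N := Fintype.ofFinite N
  have hMp := Cfsg.Agent.Lib.helper20.isPrime_of_isPModular hM
  have hres : (fun n : N => (χ : G → ℂ) n) = (θ : N → ℂ) := funext hχ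
  have hψres : (fun n : N => (Cfsg.Agent.Lib.helper78.conjIrr χ : G → ℂ) n) = (θ : N → ℂ) := by
    funext n
    rw [Cfsg.Agent.Lib.helper78.conjIrr_apply, hχ n]
    exact Complex.conj_eq_iff_im.mpr (hreal n)
  obtain ⟨β, hβ, hβN, hβeq⟩ := Cfsg.Agent.Lib.helper19.gallagher N (χ : G → ℂ) χ.2
    (by rw [hres]; exact θ.2)
    (Cfsg.Agent.Lib.helper78.conjIrr χ : G → ℂ) (Cfsg.Agent.Lib.helper78.conjIrr χ).2
    (by rw [hres, hψres, classInner_irr_self θ.2]; exact one_ne_zero)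
  -- β is linear
  have hχ1 : (χ : G → ℂ) 1 = (charDegree (χ : G → ℂ) : ℂ) :=
    Cfsg.Agent.Lib.helper81.irr_one_eq_charDegree χ
  have hχ1ne : (χ : G → ℂ) 1 ≠ 0 := by
    rw [hχ1]
    exact_mod_cast (Cfsg.Agent.Lib.helper81.irr_charDegree_pos χ).ne'
  have hβ1 : β 1 = 1 := by
    have h1 := congrFun hβeq 1
    rw [Cfsg.Agent.Lib.helper78.conjIrr_apply, Pi.mul_apply, hχ1, Complex.conj_natCast] at h1
    rw [hχ1] at hχ1ne
    have h2 : (charDegree (χ : G → ℂ) : ℂ) * (β 1 - 1) = 0 := by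
      rw [mul_sub, ← h1]; ring
    rcases mul_eq_zero.mp h2 with h3 | h3
    · exact absurd h3 hχ1ne
    · exact sub_eq_zero.mp h3
  obtain ⟨f, hf⟩ := Cfsg.Agent.Lib.helper82.exists_hom_of_linear
    (Cfsg.Agent.Lib.helper83.isCharacter_of_irr hβ) hβ1
  have hfN : ∀ n : N, f (n : G) = 1 := by
    intro n
    apply Units.ext
    rw [← hf, hβN n n.2, hβ1, Units.val_one]
  have hconj : ∀ g : G, conj ((χ : G → ℂ) g) = (χ : G → ℂ) g * ((f g : ℂˣ) : ℂ) := by
    intro g
    have h1 := congrFun hβeq g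
    rw [Cfsg.Agent.Lib.helper78.conjIrr_apply, Pi.mul_apply, hf] at h1
    exact h1
  -- the odd part of the group order
  obtain ⟨a, b, hb, hcard⟩ := Nat.exists_eq_two_pow_mul_odd
    (Nat.card_pos (α := G)).ne'
  obtain ⟨j, hj⟩ : ∃ j, b + 1 = j + j := by
    obtain ⟨c, hc⟩ := hb
    exact ⟨c + 1, by omega⟩
  set lam : G →* ℂˣ := f ^ j with hlam
  set ν : G →* ℂˣ := (f ^ b)⁻¹ with hνdef
  let χ' : IrrCharacter G := ⟨fun g => ((lam g : ℂˣ) : ℂ) * (χ : G → ℂ) g,
    Cfsg.Agent.Lib.helper84.irr_twist lam χ⟩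
  have hχ'app : ∀ g, (χ' : G → ℂ) g = ((lam g : ℂˣ) : ℂ) * (χ : G → ℂ) g := fun g => rfl
  have hνpow : ∀ g, ((ν g : ℂˣ) : ℂ) ^ (2 ^ a) = 1 := by
    intro g
    rw [← Units.val_pow_eq_pow_val]
    have h1 : ν g ^ (2 ^ a) = 1 := by
      rw [hνdef, MonoidHom.inv_apply, MonoidHom.pow_apply, inv_pow, ← pow_mul, ← map_pow,
        mul_comm b, ← hcard, pow_card_eq_one', map_one, inv_one]
    rw [h1, Units.val_one]
  have htw : ∀ g, (Cfsg.Agent.Lib.helper78.conjIrr χ' : G → ℂ) g =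
      ((ν g : ℂˣ) : ℂ) * (χ' : G → ℂ) g := by
    intro g
    rw [Cfsg.Agent.Lib.helper78.conjIrr_apply, hχ'app, map_mul, hconj]
    have hl := Cfsg.Agent.Lib.helper84.linChar_mul_conj lam g
    have hz0 : ((f g : ℂˣ) : ℂ) ≠ 0 := (f g).ne_zero
    have hlv : ((lam g : ℂˣ) : ℂ) = ((f g : ℂˣ) : ℂ) ^ j := by
      rw [hlam, MonoidHom.pow_apply, Units.val_pow_eq_pow_val]
    have hνv : ((ν g : ℂˣ) : ℂ) = (((f g : ℂˣ) : ℂ) ^ b)⁻¹ := by
      rw [hνdef, MonoidHom.inv_apply, MonoidHom.pow_apply, Units.val_inv_eq_inv_val,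
        Units.val_pow_eq_pow_val]
    have hzz : ((f g : ℂˣ) : ℂ) ^ b * ((f g : ℂˣ) : ℂ) =
        ((f g : ℂˣ) : ℂ) ^ j * ((f g : ℂˣ) : ℂ) ^ j := by
      rw [← pow_succ, ← pow_add, hj]
    have hcl : conj (((lam g : ℂˣ) : ℂ)) = (((f g : ℂˣ) : ℂ) ^ j)⁻¹ := by
      rw [← hlv]
      exact eq_inv_of_mul_eq_one_right hl
    rw [hcl, hνv, hlv]
    have hzj : ((f g : ℂˣ) : ℂ) ^ j ≠ 0 := pow_ne_zero _ hz0
    have hzb : ((f g : ℂˣ) : ℂ) ^ b ≠ 0 := pow_ne_zero _ hz0
    field_simp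
    linear_combination ((χ : G → ℂ) g) * hzz
  have hsame : SameBlock M (χ' : G → ℂ) (Cfsg.Agent.Lib.helper78.conjIrr χ' : G → ℂ) :=
    sameBlock_twist_of_pow hM ν a hνpow χ' _ htw
  have hχ'N : ∀ n : N, (χ' : G → ℂ) n = (θ : N → ℂ) n := by
    intro n
    rw [hχ'app, hlam, MonoidHom.pow_apply, hfN n, one_pow, Units.val_one, one_mul, hχ n]
  have hdeg : charDegree (χ' : G → ℂ) = charDegree (θ : N → ℂ) := by
    unfold charDegree
    have h1 := hχ'N 1
    rw [show ((1 : N) : G) = 1 from rfl] at h1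
    rw [h1]
  have hχB : χ' ∈ blockOf M (χ' : G → ℂ) := Cfsg.Agent.Lib.helper81.mem_blockOf_self hMp χ'
  have hdef : blockDefect 2 (blockOf M (χ' : G → ℂ)) = (Nat.card G).factorization 2 := by
    unfold blockDefect
    have h0 : sInf ((fun ψ : IrrCharacter G => (charDegree (ψ : G → ℂ)).factorization 2) ''
        blockOf M (χ' : G → ℂ)) = 0 := by
      apply Nat.sInf_eq_zero.mpr
      left
      refine ⟨χ', hχB, ?_⟩
      apply Nat.factorization_eq_zero_of_not_dvd
      intro h2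
      rw [hdeg] at h2
      exact (Nat.not_even_iff_odd.mpr hodd) (even_iff_two_dvd.mpr h2)
    rw [h0, Nat.sub_zero]
  have hB := Cfsg.Agent.Lib.helper78.block_principal_of_full_defect hM (Nat.card G - 1)
    (Cfsg.Agent.Lib.helper78.card_sub_one_coprime G)
    (fun g _ => Cfsg.Agent.Lib.helper78.pow_card_sub_one g) (blockOf M (χ' : G → ℂ)) ⟨χ', rfl⟩ hdef
    (fun ψ hψ => ⟨Cfsg.Agent.Lib.helper78.conjIrr ψ,
      Cfsg.Agent.Lib.helper81.sameBlock_trans hMp hsame
        (Cfsg.Agent.Lib.helper78.sameBlock_conjIrr (M := M) (χ := χ') (ψ := ψ) hψ),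
      fun g => Cfsg.Agent.Lib.helper78.conjIrr_eq_pow ψ g⟩)
  refine ⟨χ', hχ'N, ?_⟩
  rw [← hB]
  exact hχB

end Cfsg.Agent.Lib.helper4
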