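import Mathlib
import Cfsg.Agent.Lib.helper16.U34CDefs
import Cfsg.Agent.Lib.helper4.U34C_A2

/-!
helper4: S1903 piece A3 (`d3_of_d12`): `G'/Z` is elementary abelian and `x` acts on it without
fixed points.
-/

set_option autoImplicit false
set_option linter.unusedSectionVars false
set_option linter.unusedVariables false
set_option linter.style.haveILetI false

namespace Cfsg.Agent.Lib.helper16.U34C

open Cfsg
open scoped commutatorElement

section Abstract

variable {G : Type*} [Group G]

/-- the square of a product when the commutator is central -/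
theorem helper4_mul_sq (g h c : G) (hc : ∀ y : G, c * y = y * c) (hgh : h * g = g * h * c) :
    (g * h) ^ 2 = g ^ 2 * h ^ 2 * c := by
  calc (g * h) ^ 2 = g * (h * g) * h := by rw [pow_two]; group
    _ = g * (g * h * c) * h := by rw [hgh]
    _ = g * g * h * (c * h) := by group
    _ = g * g * h * (h * c) := by rw [hc h]
    _ = g ^ 2 * h ^ 2 * c := by rw [pow_two, pow_two]; group

/-- iterated conjugation when `x g x⁻¹ = g z` with `z` central -/
theorem helper4_conj_pow (x g z : G) (hz : ∀ y : G, z * y = y * z) (h : x * g * x⁻¹ = g * z)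
    (n : ℕ) : x ^ n * g * (x ^ n)⁻¹ = g * z ^ n := by
  induction n with
  | zero => group
  | succ n ih =>
    have hzn : ∀ y : G, z ^ n * y = y * z ^ n :=
      fun y => ((show Commute z y from hz y).pow_left n).eq
    calc x ^ (n + 1) * g * (x ^ (n + 1))⁻¹ = x * (x ^ n * g * (x ^ n)⁻¹) * x⁻¹ := by group
      _ = x * (g * z ^ n) * x⁻¹ := by rw [ih]
      _ = x * g * (z ^ n * x⁻¹) := by group
      _ = x * g * (x⁻¹ * z ^ n) := by rw [hzn x⁻¹]
      _ = (x * g * x⁻¹) * z ^ n := by group
      _ = g * z * z ^ n := by rw [h]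
      _ = g * z ^ (n + 1) := by rw [pow_succ', mul_assoc]

/-- PIECE A3 -/
theorem d3_of_d12 [Finite G] (hD : Nat.card (commutator G) = 64) {x : G} {Z : Subgroup G}
    (h1 : D1 x Z) (h2 : D2 x Z) : D3 x Z := by
  classical
  have hP2 : IsPGroup 2 (commutator G) := IsPGroup.of_card (n := 6) (by rw [hD]; norm_num)
  have hPn : ∀ (y : G), ∀ k ∈ commutator G, y * k * y⁻¹ ∈ commutator G :=
    fun y k hk => (inferInstance : (commutator G).Normal).conj_mem k hk y
  have hZconj : ∀ z ∈ Z, ∀ y : G, y * z * y⁻¹ = z := by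
    intro z hz y
    rw [← h1.Zc z hz y]
    group
  -- `G'/Z` is abelian
  have hcomm : ∀ g ∈ commutator G, ∀ h ∈ commutator G, ⁅g, h⁆ ∈ Z := by
    obtain ⟨D, hDdef⟩ : ∃ D : Subgroup G, D = ⁅commutator G, commutator G⁆ := ⟨_, rfl⟩
    haveI hDn : D.Normal := by
      rw [hDdef]
      infer_instance
    have hDP : D ≤ commutator G := by
      rw [hDdef]
      exact Subgroup.commutator_le_left _ _
    haveI hZn : Z.Normal := ⟨fun z hz y => by rw [hZconj z hz y]; exact hz⟩
    have hK := h2.inv (Z ⊔ D) le_sup_left (sup_le h1.ZP hDP)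
      (fun k hk => (inferInstance : (Z ⊔ D).Normal).conj_mem k hk x)
    intro g hg h hh
    have hghD : ⁅g, h⁆ ∈ D := by
      rw [hDdef]
      exact Subgroup.commutator_mem_commutator hg hh
    rcases hK with hK | hK
    · rw [← hK]
      exact (le_sup_right : D ≤ Z ⊔ D) hghD
    · have hdec : ∀ p ∈ commutator G, ∃ z ∈ Z, ∃ d ∈ D, p = d * z := by
        intro p hp
        rw [← hK] at hp
        have hp' : p ∈ ((Z ⊔ D : Subgroup G) : Set G) := hp
        rw [Subgroup.mul_normal] at hp'
        obtain ⟨z, hz, d, hd, rfl⟩ := Set.mem_mul.1 hp'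
        exact ⟨z, hz, d, hd, h1.Zc z hz d⟩
      have hle : ⁅commutator G, commutator G⁆ ≤ ⁅D, D⁆ := by
        rw [Subgroup.commutator_le]
        intro p hp p' hp'
        obtain ⟨z, hz, d, hd, rfl⟩ := hdec p hp
        obtain ⟨z', hz', d', hd', rfl⟩ := hdec p' hp'
        rw [helper4_comm_central d d' z z' (h1.Zc z hz) (h1.Zc z' hz')]
        exact Subgroup.commutator_mem_commutator hd hd'
      rw [← hDdef] at hle
      have hbot := helper4_eq_bot_of_le_comm D (hP2.to_le hDP) hle
      rw [hbot, Subgroup.mem_bot] at hghD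
      rw [hghD]
      exact Z.one_mem
  -- `G'/Z` has exponent two
  have hsq : ∀ g ∈ commutator G, g ^ 2 ∈ Z := by
    obtain ⟨K, hKdef⟩ : ∃ K : Subgroup G, ∀ g : G, g ∈ K ↔ g ∈ commutator G ∧ g ^ 2 ∈ Z := by
      refine ⟨{ carrier := {g | g ∈ commutator G ∧ g ^ 2 ∈ Z}
                mul_mem' := ?_
                one_mem' := ?_
                inv_mem' := ?_ }, fun g => Iff.rfl⟩
      · rintro a b ⟨ha, ha2⟩ ⟨hb, hb2⟩
        refine ⟨mul_mem ha hb, ?_⟩
        have hc : ⁅b⁻¹, a⁻¹⁆ ∈ Z := hcomm _ (inv_mem hb) _ (inv_mem ha)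
        rw [helper4_mul_sq a b ⁅b⁻¹, a⁻¹⁆ (h1.Zc _ hc) (by rw [commutatorElement_def]; group)]
        exact mul_mem (mul_mem ha2 hb2) hc
      · exact ⟨one_mem _, by rw [one_pow]; exact one_mem _⟩
      · rintro a ⟨ha, ha2⟩
        refine ⟨inv_mem ha, ?_⟩
        rw [inv_pow]
        exact inv_mem ha2
    have hZK : Z ≤ K := fun z hz => (hKdef z).2 ⟨h1.ZP hz, pow_mem hz 2⟩
    have hKP : K ≤ commutator G := fun k hk => ((hKdef k).1 hk).1
    have hKinv : ∀ k ∈ K, x * k * x⁻¹ ∈ K := by
      intro k hk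
      obtain ⟨hkP, hk2⟩ := (hKdef k).1 hk
      refine (hKdef _).2 ⟨hPn x k hkP, ?_⟩
      have e : (x * k * x⁻¹) ^ 2 = x * k ^ 2 * x⁻¹ := by rw [pow_two, pow_two]; group
      rw [e, hZconj _ hk2 x]
      exact hk2
    rcases h2.inv K hZK hKP hKinv with hK | hK
    · have hclaim : ∀ (j : ℕ), ∀ g ∈ commutator G, g ^ (2 ^ j) ∈ Z → g ∈ Z := by
        intro j
        induction j with
        | zero =>
          intro g hg h
          simpa using h
        | succ j ih =>
          intro g hg h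
          have e : g ^ (2 ^ (j + 1)) = (g ^ 2) ^ (2 ^ j) := by rw [← pow_mul, pow_succ']
          rw [e] at h
          have h3 := ih (g ^ 2) (pow_mem hg 2) h
          rw [← hK]
          exact (hKdef g).2 ⟨hg, h3⟩
      intro g hg
      have h64 : g ^ (2 ^ 6) = 1 := by
        have h3 : (⟨g, hg⟩ : commutator G) ^ Nat.card (commutator G) = 1 := pow_card_eq_one'
        rw [hD] at h3
        have h4 := congrArg (fun y : commutator G => (y : G)) h3
        simpa using h4
      exact pow_mem (hclaim 6 g hg (by rw [h64]; exact one_mem _)) 2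
    · intro g hg
      rw [← hK] at hg
      exact ((hKdef g).1 hg).2
  -- `x` acts without fixed points on `G'/Z`
  refine ⟨hcomm, hsq, ?_⟩
  intro g hg hz
  obtain ⟨z, hzdef⟩ : ∃ z : G, z = g⁻¹ * (x * g * x⁻¹) := ⟨_, rfl⟩
  rw [← hzdef] at hz
  have hzc := h1.Zc z hz
  have hconj : x * g * x⁻¹ = g * z := by
    rw [hzdef]
    group
  have h5 := helper4_conj_pow x g z hzc hconj 5
  rw [h1.x5] at h5
  have hz5 : z ^ 5 = 1 := by
    have h6 : g * z ^ 5 = g * 1 := by
      rw [← h5]
      group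
    exact mul_left_cancel h6
  have hz2 := h1.Z2 z hz
  have hz1 : z = 1 := by
    calc z = z ^ 5 * ((z ^ 2)⁻¹) ^ 2 := by group
      _ = 1 := by rw [hz5, hz2]; group
  apply h2.fix g hg
  rw [hconj, hz1, mul_one]

end Abstract

end Cfsg.Agent.Lib.helper16.U34C
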