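import Mathlib
import Cfsg.Prelude.Def_Transfer
import Cfsg.Prelude.Def_Local
import Cfsg.Prelude.Def_Blocks
import Cfsg.Agent.Lib.helper81.Kernel
import Cfsg.Agent.Lib.helper40.Cores

/-!
# S3312 piece P3 (helper4): odd elements inverted by an element of `O_{2',2}` lie in the core
-/

set_option autoImplicit false

namespace Cfsg.Agent.Lib.helper4.W12

/-- P3a. -/
theorem inv_abs {C : Type*} [Group C] [Finite C] (a ρ : C) (ha : a ∈ Cfsg.pPrimePCore 2 C)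
    (hodd : Odd (orderOf ρ)) (hinv : a * ρ * a⁻¹ = ρ⁻¹) : ρ ∈ Cfsg.pPrimeCore 2 C := by
  classical
  haveI : Fact (Nat.Prime 2) := ⟨Nat.prime_two⟩
  haveI hOn : (Cfsg.pPrimeCore 2 C).Normal := Cfsg.Agent.Lib.helper40.pPrimeCore_normal' 2 C
  set π := QuotientGroup.mk' (Cfsg.pPrimeCore 2 C) with hπ
  have haN : π a ∈ Cfsg.pCore 2 (C ⧸ Cfsg.pPrimeCore 2 C) := ha
  have hNn : (Cfsg.pCore 2 (C ⧸ Cfsg.pPrimeCore 2 C)).Normal :=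
    Cfsg.Agent.Lib.helper40.pCore_normal' 2 _
  have hNp : IsPGroup 2 (Cfsg.pCore 2 (C ⧸ Cfsg.pPrimeCore 2 C)) :=
    Cfsg.Agent.Lib.helper40.pCore_isPGroup 2 _
  -- `(π ρ)⁻¹ * (π ρ)⁻¹ ∈ O_2`
  have h1 : π a * π ρ * (π a)⁻¹ = (π ρ)⁻¹ := by
    rw [← map_inv, ← map_mul, ← map_mul, hinv, map_inv]
  have h2 : (π ρ)⁻¹ * (π ρ)⁻¹ ∈ Cfsg.pCore 2 (C ⧸ Cfsg.pPrimeCore 2 C) := by
    have h3 : π ρ * (π a)⁻¹ * (π ρ)⁻¹ ∈ Cfsg.pCore 2 (C ⧸ Cfsg.pPrimeCore 2 C) :=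
      hNn.conj_mem _ (inv_mem haN) _
    have h4 := mul_mem haN h3
    have h5 : π a * (π ρ * (π a)⁻¹ * (π ρ)⁻¹) = (π ρ)⁻¹ * (π ρ)⁻¹ := by
      rw [← h1]
      group
    rwa [h5] at h4
  have h6 : π ρ ^ 2 ∈ Cfsg.pCore 2 (C ⧸ Cfsg.pPrimeCore 2 C) := by
    have := inv_mem h2
    have e : ((π ρ)⁻¹ * (π ρ)⁻¹)⁻¹ = π ρ ^ 2 := by group
    rwa [e] at this
  obtain ⟨k, hk⟩ := hNp ⟨π ρ ^ 2, h6⟩
  have hk' : (π ρ ^ 2) ^ 2 ^ k = 1 := by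
    have := congrArg Subtype.val hk
    simpa using this
  have hpow : π ρ ^ 2 ^ (k + 1) = 1 := by
    rw [pow_succ', pow_mul]
    exact hk'
  have hord : π ρ ^ orderOf ρ = 1 := by
    rw [← map_pow, pow_orderOf_eq_one, map_one]
  have hd1 : orderOf (π ρ) ∣ 2 ^ (k + 1) := orderOf_dvd_of_pow_eq_one hpow
  have hd2 : orderOf (π ρ) ∣ orderOf ρ := orderOf_dvd_of_pow_eq_one hord
  have hcop : Nat.Coprime (2 ^ (k + 1)) (orderOf ρ) :=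
    Nat.Coprime.pow_left _ (Nat.coprime_two_left.mpr hodd)
  have hone : orderOf (π ρ) = 1 := Nat.eq_one_of_dvd_coprimes hcop hd1 hd2
  have : π ρ = 1 := orderOf_eq_one_iff.mp hone
  exact (QuotientGroup.eq_one_iff ρ).mp this

/-- P3b. -/
theorem wc_inv {G : Type*} [Group G] [Finite G] (W : Subgroup G) (x : G)
    (hx : W.subgroupOf (Subgroup.centralizer ({x} : Set G)) ≤
      Cfsg.pPrimePCore 2 ↥(Subgroup.centralizer ({x} : Set G)))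
    (e ρ : G) (he : e ∈ W) (hex : e * x = x * e) (hρx : ρ * x = x * ρ) (hodd : Odd (orderOf ρ))
    (hinv : e * ρ * e⁻¹ = ρ⁻¹) : ρ ∈ Cfsg.centralizerPPrimeCore 2 x := by
  have heC : e ∈ Subgroup.centralizer ({x} : Set G) := by
    rw [Subgroup.mem_centralizer_iff]
    intro h hh
    rw [Set.mem_singleton_iff.mp hh]
    exact hex.symm
  have hρC : ρ ∈ Subgroup.centralizer ({x} : Set G) := by
    rw [Subgroup.mem_centralizer_iff]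
    intro h hh
    rw [Set.mem_singleton_iff.mp hh]
    exact hρx.symm
  have h1 : (⟨e, heC⟩ : ↥(Subgroup.centralizer ({x} : Set G))) ∈
      Cfsg.pPrimePCore 2 ↥(Subgroup.centralizer ({x} : Set G)) :=
    hx (Subgroup.mem_subgroupOf.mpr he)
  have h2 : Odd (orderOf (⟨ρ, hρC⟩ : ↥(Subgroup.centralizer ({x} : Set G)))) := by
    rw [Subgroup.orderOf_mk]
    exact hodd
  have h3 : (⟨e, heC⟩ : ↥(Subgroup.centralizer ({x} : Set G))) * ⟨ρ, hρC⟩ * (⟨e, heC⟩)⁻¹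
      = (⟨ρ, hρC⟩)⁻¹ := Subtype.ext hinv
  have h4 := inv_abs _ _ h1 h2 h3
  exact ⟨⟨ρ, hρC⟩, h4, rfl⟩

end Cfsg.Agent.Lib.helper4.W12
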